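import Cfsg.Prelude.Def_Amalgam
import Cfsg.Prelude.Def_PLocal
import Cfsg.Agent.Lib.Core.Cores
import Cfsg.Agent.Lib.Coprime.Action
import Cfsg.Agent.Lib.Fusion.Basic
import Cfsg.Agent.Lib.Coprime.PGroupAction

/-!
Basic facts of local group theory: `O_p` of a subgroup seen in the ambient group, elements of order
prime to `p` stabilising a chain, groups of characteristic `p`, normal `p`-subgroups.
-/

set_option autoImplicit false

namespace Cfsg.Lib.Local

open Subgroup

variable {G : Type*} [Group G] {p : ℕ}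

/-! ### Elements of order prime to `p` -/

/-- A finite group is a `p`-group as soon as its only element of order prime to `p` is trivial. -/
theorem isPGroup_of_forall_coprime [Finite G] [hp : Fact p.Prime] {H : Subgroup G}
    (h : ∀ x ∈ H, (orderOf x).Coprime p → x = 1) : IsPGroup p H := by
  intro g
  have hpos : 0 < orderOf (g : G) := orderOf_pos _
  obtain ⟨k, m, hm, hkm⟩ := Nat.exists_eq_pow_mul_and_not_dvd hpos.ne' p hp.out.ne_one
  refine ⟨k, Subtype.ext ?_⟩
  have hgm : orderOf ((g : G) ^ p ^ k) = m := by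
    rw [orderOf_pow, hkm, Nat.gcd_eq_right (dvd_mul_right _ _),
      Nat.mul_div_cancel_left _ (pow_pos hp.out.pos k)]
  rw [SubmonoidClass.coe_pow, OneMemClass.coe_one]
  refine h _ (H.pow_mem g.2 _) ?_
  rw [hgm]
  exact ((hp.out.coprime_iff_not_dvd).mpr hm).symm

theorem coprime_card_zpowers {x : G} [Finite G] [hp : Fact p.Prime] {V : Subgroup G} (hV : IsPGroup p V)
    (hx : (orderOf x).Coprime p) : (Nat.card (zpowers x)).Coprime (Nat.card V) := by
  obtain ⟨k, hk⟩ := hV.exists_card_eq
  rw [Nat.card_zpowers, hk]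
  exact hx.pow_right k

theorem isSolvable_zpowers (x : G) : Group.IsSolvable (zpowers x) :=
  Group.isSolvable_of_comm fun a b => mul_comm' a b

theorem iterCommutator_succ_eq [Finite G] {V A : Subgroup G} (hAV : A ≤ normalizer (V : Set G))
    (hcop : (Nat.card A).Coprime (Nat.card V)) (hsol : Group.IsSolvable A) (n : ℕ) :
    iterCommutator V A (n + 1) = ⁅V, A⁆ := by
  induction n with
  | zero => rfl
  | succ n ih =>
    show ⁅iterCommutator V A (n + 1), A⁆ = _
    rw [ih, Cfsg.Lib.Coprime.commutator_commutator_eq hAV hcop (Or.inl hsol)]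

/-- An element of order prime to `p` acting nilpotently on a `p`-group centralizes it. -/
theorem mem_centralizer_of_iterCommutator [Finite G] [Fact p.Prime] {V : Subgroup G} (hV : IsPGroup p V)
    {x : G} (hxV : x ∈ normalizer (V : Set G)) (hx : (orderOf x).Coprime p) {n : ℕ}
    (hn : iterCommutator V (zpowers x) n = ⊥) : x ∈ centralizer (V : Set G) := by
  cases n with
  | zero => rw [show V = ⊥ from hn]; simp [mem_centralizer_iff]
  | succ n =>
    have hz : zpowers x ≤ normalizer (V : Set G) := by rwa [zpowers_le]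
    rw [iterCommutator_succ_eq hz (coprime_card_zpowers hV hx) (isSolvable_zpowers x) n,
      commutator_comm, commutator_eq_bot_iff_le_centralizer] at hn
    exact hn (mem_zpowers x)

theorem iterCommutator_mono {V V' A A' : Subgroup G} (hV : V ≤ V') (hA : A ≤ A') (n : ℕ) :
    iterCommutator V A n ≤ iterCommutator V' A' n := by
  induction n with
  | zero => exact hV
  | succ n ih => exact commutator_mono ih hA

/-- A group acting nilpotently on a self-centralizing `p`-subgroup is a `p`-group. -/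
theorem isPGroup_of_iterCommutator [Finite G] [Fact p.Prime] {R L : Subgroup G} (hR : IsPGroup p R)
    (hC : L ⊓ centralizer (R : Set G) ≤ R) (hL : L ≤ normalizer (R : Set G)) {n : ℕ}
    (hn : iterCommutator R L n = ⊥) : IsPGroup p L := by
  refine isPGroup_of_forall_coprime fun x hx hxc => ?_
  have hxR : x ∈ R := hC ⟨hx, mem_centralizer_of_iterCommutator hR (hL hx) hxc
    (eq_bot_iff.mpr ((iterCommutator_mono le_rfl (zpowers_le.mpr hx) n).trans hn.le))⟩
  obtain ⟨k, hk⟩ := hR ⟨x, hxR⟩
  have hk' : orderOf x ∣ p ^ k := orderOf_dvd_of_pow_eq_one (congrArg Subtype.val hk :)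
  exact orderOf_eq_one_iff.mp ((hxc.pow_right k).eq_one_of_dvd hk')

theorem iterCommutator_two (V A : Subgroup G) : iterCommutator V A 2 = ⁅⁅V, A⁆, A⁆ := rfl

/-! ### Normalizers -/

theorem mem_normalizer_inf {A B : Subgroup G} {x : G} (hA : x ∈ normalizer (A : Set G))
    (hB : x ∈ normalizer (B : Set G)) : x ∈ normalizer ((A ⊓ B : Subgroup G) : Set G) := by
  rw [Core.mem_normalizer_iff_map_conj, map_inf_eq _ _ _ (MulEquiv.injective _),
    Core.mem_normalizer_iff_map_conj.mp hA, Core.mem_normalizer_iff_map_conj.mp hB]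

theorem le_normalizer_inf {A B K : Subgroup G} (hA : K ≤ normalizer (A : Set G))
    (hB : K ≤ normalizer (B : Set G)) : K ≤ normalizer ((A ⊓ B : Subgroup G) : Set G) :=
  fun _ hx => mem_normalizer_inf (hA hx) (hB hx)

theorem normalizer_le_normalizer_centralizer (A : Subgroup G) :
    normalizer (A : Set G) ≤ normalizer (centralizer (A : Set G) : Set G) := by
  have key : ∀ x ∈ normalizer (A : Set G), ∀ y ∈ centralizer (A : Set G),
      x * y * x⁻¹ ∈ centralizer (A : Set G) := by
    intro x hx y hy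
    rw [mem_centralizer_iff] at hy ⊢
    intro a ha
    have h := hy _ ((mem_normalizer_iff''.mp hx a).mp ha)
    calc a * (x * y * x⁻¹) = x * ((x⁻¹ * a * x) * y) * x⁻¹ := by group
      _ = x * (y * (x⁻¹ * a * x)) * x⁻¹ := by rw [h]
      _ = x * y * x⁻¹ * a := by group
  exact fun x hx => Core.le_normalizer_iff_conj_mem.mpr key hx

/-! ### `O_p(H)` in the ambient group -/

theorem pCoreOf_le (H : Subgroup G) : pCoreOf p H ≤ H := map_subtype_le _

theorem mem_pCoreOf {H : Subgroup G} {x : G} :
    x ∈ pCoreOf p H ↔ ∃ h : x ∈ H, (⟨x, h⟩ : H) ∈ pCore p H := by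
  constructor
  · rintro ⟨y, hy, rfl⟩
    exact ⟨y.2, hy⟩
  · rintro ⟨h, hx⟩
    exact ⟨⟨x, h⟩, hx, rfl⟩

theorem pCoreOf_subgroupOf (H : Subgroup G) : (pCoreOf p H).subgroupOf H = pCore p H :=
  comap_map_eq_self_of_injective H.subtype_injective _

theorem pCoreOf_isPGroup [Finite G] (H : Subgroup G) : IsPGroup p (pCoreOf p H) :=
  (Core.pCore_isPGroup p H).map _

theorem normalizer_le_normalizer_pCoreOf [Finite G] (H : Subgroup G) :
    normalizer (H : Set G) ≤ normalizer (pCoreOf p H : Set G) :=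
  Core.normalizer_le_normalizer_map_char _

theorem le_normalizer_pCoreOf [Finite G] (H : Subgroup G) : H ≤ normalizer (pCoreOf p H : Set G) :=
  le_normalizer.trans (normalizer_le_normalizer_pCoreOf H)

theorem le_pCoreOf {H N : Subgroup G} (hle : N ≤ H) (hN : H ≤ normalizer (N : Set G))
    (hp : IsPGroup p N) : N ≤ pCoreOf p H := by
  rw [← map_subgroupOf_eq_of_le hle]
  exact map_mono (Core.le_pCore' (normal_subgroupOf_of_le_normalizer hN) hp.comap_subtype)

theorem pCoreOf_top [Finite G] : pCoreOf p (⊤ : Subgroup G) = pCore p G :=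
  Core.map_pCore_equiv topEquiv

/-! ### Groups of characteristic `p` -/

/-- `C_L(O_p(L)) ≤ O_p(L)` for the subgroup `L`, written in the ambient group. -/
def IsCharP (p : ℕ) (L : Subgroup G) : Prop :=
  L ⊓ centralizer (pCoreOf p L : Set G) ≤ pCoreOf p L

theorem isCharP_iff (L : Subgroup G) :
    IsCharP p L ↔ centralizer (pCore p L : Set L) ≤ pCore p L := by
  constructor
  · intro h x hx
    have : (x : G) ∈ pCoreOf p L := h ⟨x.2, mem_centralizer_iff.mpr fun y hy => by
      obtain ⟨z, hz, rfl⟩ := hy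
      exact congrArg Subtype.val (mem_centralizer_iff.mp hx z hz)⟩
    obtain ⟨h', hx'⟩ := mem_pCoreOf.mp this
    exact hx'
  · intro h x hx
    refine mem_pCoreOf.mpr ⟨hx.1, h (mem_centralizer_iff.mpr fun y hy => Subtype.ext ?_)⟩
    exact mem_centralizer_iff.mp hx.2 y ⟨y, hy, rfl⟩

/-- A subgroup normalized by a self-centralizing normal `p`-subgroup has characteristic `p`. -/
theorem isCharP_of_normalized [Finite G] [Fact p.Prime] {Q L : Subgroup G} (hQ : IsPGroup p Q)
    (hLQ : L ≤ normalizer (Q : Set G)) (hQL : Q ≤ normalizer (L : Set G))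
    (hC : L ⊓ centralizer (Q : Set G) ≤ Q) : IsCharP p L := by
  set P := pCoreOf p L with hP
  set C := L ⊓ centralizer (P : Set G) with hCdef
  have hCL : C ≤ L := inf_le_left
  have h1 : ⁅Q, C⁆ ≤ P := by
    have hQLp : ⁅Q, C⁆ ≤ Q ⊓ L :=
      le_inf (Coprime.commutator_le_of_le_normalizer (hCL.trans hLQ))
        ((commutator_mono le_rfl hCL).trans ((commutator_comm Q L).trans_le
          (Coprime.commutator_le_of_le_normalizer hQL)))
    exact hQLp.trans (le_pCoreOf inf_le_right (le_normalizer_inf hLQ le_normalizer)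
      (hQ.to_le inf_le_left))
  have h2 : iterCommutator Q C 2 = ⊥ := by
    rw [iterCommutator_two, eq_bot_iff]
    refine (commutator_mono h1 le_rfl).trans (le_of_eq ?_)
    rw [commutator_eq_bot_iff_le_centralizer, le_centralizer_iff]
    exact inf_le_right
  have hCp : IsPGroup p C :=
    isPGroup_of_iterCommutator hQ ((inf_le_inf_right _ hCL).trans hC) (hCL.trans hLQ) h2
  exact le_pCoreOf hCL (le_normalizer_inf le_normalizer
    ((le_normalizer_pCoreOf L).trans (normalizer_le_normalizer_centralizer _))) hCp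

end Cfsg.Lib.Local

namespace Cfsg.Lib.Local

open Subgroup

variable {G : Type*} [Group G] {p : ℕ}

/-- An element of order prime to `p` centralizing `V / N` and `N` centralizes the `p`-group `V`. -/
theorem mem_centralizer_of_two_step [Finite G] [Fact p.Prime] {V : Subgroup G} (hV : IsPGroup p V)
    {x : G} (hxV : x ∈ normalizer (V : Set G)) (hx : (orderOf x).Coprime p) {N : Subgroup G}
    (h1 : ⁅V, zpowers x⁆ ≤ N) (h2 : N ≤ centralizer ({x} : Set G)) : x ∈ centralizer (V : Set G) := by
  refine mem_centralizer_of_iterCommutator hV hxV hx (n := 2) ?_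
  rw [iterCommutator_two, eq_bot_iff]
  refine (commutator_mono h1 le_rfl).trans (le_of_eq ?_)
  rwa [commutator_eq_bot_iff_le_centralizer, zpowers_eq_closure, centralizer_closure]

theorem commutator_le_iff_conj {A B N : Subgroup G} :
    ⁅A, B⁆ ≤ N ↔ ∀ a ∈ A, ∀ b ∈ B, a * b * a⁻¹ * b⁻¹ ∈ N := by
  rw [Subgroup.commutator_le]
  simp only [commutatorElement_def]

theorem le_normalizer_normal {H : Subgroup G} [H.Normal] (K : Subgroup G) :
    K ≤ normalizer (H : Set G) := (normalizer_eq_top H).ge.trans' le_top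

theorem isPGroup_sup_of_le_normalizer {H K : Subgroup G} (hH : IsPGroup p H) (hK : IsPGroup p K)
    (hle : H ≤ normalizer (K : Set G)) : IsPGroup p ↥(H ⊔ K) :=
  IsPGroup.to_sup_of_normal_right' hH hK hle

theorem orderOf_eq_one_of_coprime_mem {R : Subgroup G} [Fact p.Prime] (hR : IsPGroup p R) {x : G}
    (hx : x ∈ R) (hxc : (orderOf x).Coprime p) : x = 1 := by
  obtain ⟨k, hk⟩ := hR ⟨x, hx⟩
  have hk' : orderOf x ∣ p ^ k := orderOf_dvd_of_pow_eq_one (congrArg Subtype.val hk :)
  exact orderOf_eq_one_iff.mp ((hxc.pow_right k).eq_one_of_dvd hk')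

theorem sylow_eq_of_le [Finite G] (T : Sylow p G) {S : Subgroup G} (hS : IsPGroup p S)
    (hTS : (T : Subgroup G) ≤ S) : S = T := T.3 hS hTS

/-- `C_G(Q)` is a `p`-group contained in `Q` when `G` has characteristic `p` and `C_T(Q) ≤ Q`. -/
theorem centralizer_le_of_charP [Finite G] [hp : Fact p.Prime]
    (hG : centralizer (pCore p G : Set G) ≤ pCore p G) (T : Sylow p G) {Q : Subgroup G}
    (hQT : Q ≤ T) (hn : (T : Subgroup G) ≤ normalizer (Q : Set G))
    (hC : (T : Subgroup G) ⊓ centralizer (Q : Set G) ≤ Q) : centralizer (Q : Set G) ≤ Q := by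
  have hQp : IsPGroup p Q := T.2.to_le hQT
  have hWT : pCore p G ≤ T := Core.pCore_le_sylow T
  have hp' : IsPGroup p (centralizer (Q : Set G)) := by
    refine isPGroup_of_forall_coprime fun x hx hxc => ?_
    have hxQ : zpowers x ≤ centralizer (Q : Set G) := zpowers_le.mpr hx
    have key : ⁅pCore p G, zpowers x⁆ = ⊥ := by
      refine Cfsg.Lib.Coprime.commutator_eq_bot_of_AxB (p := p) (pCore p G) Q (zpowers x)
        (Core.pCore_isPGroup p G) hQp (by rwa [Nat.card_zpowers]) (le_normalizer_normal _)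
        (le_normalizer_normal _) hxQ ?_
      refine le_trans ?_ (le_centralizer_iff.mp hxQ)
      exact (inf_le_inf_right _ hWT).trans hC
    rw [commutator_comm, commutator_eq_bot_iff_le_centralizer] at key
    exact orderOf_eq_one_of_coprime_mem (Core.pCore_isPGroup p G) (hG (key (mem_zpowers x))) hxc
  have hTC : (T : Subgroup G) ≤ normalizer (centralizer (Q : Set G) : Set G) :=
    hn.trans (normalizer_le_normalizer_centralizer Q)
  have := sylow_eq_of_le T (isPGroup_sup_of_le_normalizer T.2 hp' hTC) le_sup_left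
  exact (le_inf (le_sup_right.trans this.le) le_rfl).trans hC

/-- The elements normalizing `D` and centralizing `W` modulo `D`. -/
def chainStab (W D : Subgroup G) : Subgroup G where
  carrier := {y | y ∈ normalizer (D : Set G) ∧ ∀ w ∈ W, w * y * w⁻¹ * y⁻¹ ∈ D}
  one_mem' := ⟨one_mem _, fun w _ => by simp⟩
  mul_mem' := by
    rintro a b ⟨ha, ha'⟩ ⟨hb, hb'⟩
    refine ⟨mul_mem ha hb, fun w hw => ?_⟩
    have e : w * (a * b) * w⁻¹ * (a * b)⁻¹ =
        (w * a * w⁻¹ * a⁻¹) * (a * (w * b * w⁻¹ * b⁻¹) * a⁻¹) := by group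
    rw [e]
    exact mul_mem (ha' w hw) ((mem_normalizer_iff.mp ha _).mp (hb' w hw))
  inv_mem' := by
    rintro a ⟨ha, ha'⟩
    refine ⟨inv_mem ha, fun w hw => ?_⟩
    have e : w * a⁻¹ * w⁻¹ * a⁻¹⁻¹ = a⁻¹ * (w * a * w⁻¹ * a⁻¹)⁻¹ * a := by group
    rw [e]
    exact (mem_normalizer_iff''.mp ha _).mp (inv_mem (ha' w hw))

theorem mem_chainStab {W D : Subgroup G} {y : G} :
    y ∈ chainStab W D ↔ y ∈ normalizer (D : Set G) ∧ ∀ w ∈ W, w * y * w⁻¹ * y⁻¹ ∈ D := Iff.rfl

theorem le_chainStab_iff {W D A : Subgroup G} :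
    A ≤ chainStab W D ↔ A ≤ normalizer (D : Set G) ∧ ⁅W, A⁆ ≤ D := by
  rw [commutator_le_iff_conj]
  exact ⟨fun h => ⟨fun a ha => (h ha).1, fun w hw a ha => (h ha).2 w hw⟩,
    fun h a ha => ⟨h.1 ha, fun w hw => h.2 w hw a ha⟩⟩

theorem normalizer_inf_le_normalizer_chainStab (W D : Subgroup G) :
    normalizer (W : Set G) ⊓ normalizer (D : Set G) ≤ normalizer (chainStab W D : Set G) := by
  refine Core.le_normalizer_iff_conj_mem.mpr ?_
  rintro g ⟨hgW, hgD⟩ y ⟨hy, hy'⟩
  refine ⟨mul_mem (mul_mem hgD hy) (inv_mem hgD), fun w hw => ?_⟩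
  have e : w * (g * y * g⁻¹) * w⁻¹ * (g * y * g⁻¹)⁻¹ =
      g * ((g⁻¹ * w * g) * y * (g⁻¹ * w * g)⁻¹ * y⁻¹) * g⁻¹ := by group
  rw [e]
  exact (mem_normalizer_iff.mp hgD _).mp (hy' _ ((mem_normalizer_iff''.mp hgW w).mp hw))

theorem commutator_le_of_le_of_le_normalizer {Q C S : Subgroup G} (hQ : Q ≤ S)
    (hC : C ≤ normalizer (S : Set G)) : ⁅Q, C⁆ ≤ S :=
  (commutator_mono hQ le_rfl).trans (Coprime.commutator_le_of_le_normalizer hC)

/-- If `G` has characteristic `p`, `Q` is normal in `T` and `C_T(Q) ≤ Q`, every overgroup of `Q` has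
characteristic `p`. -/
theorem isCharP_of_le [Finite G] [hp : Fact p.Prime]
    (hG : centralizer (pCore p G : Set G) ≤ pCore p G) (T : Sylow p G) {Q : Subgroup G}
    (hQT : Q ≤ T) (hn : (T : Subgroup G) ≤ normalizer (Q : Set G))
    (hC : (T : Subgroup G) ⊓ centralizer (Q : Set G) ≤ Q) {L : Subgroup G} (hQL : Q ≤ L) :
    IsCharP p L := by
  have hCQ := centralizer_le_of_charP hG T hQT hn hC
  have hQp : IsPGroup p Q := T.2.to_le hQT
  set W := pCore p G
  have hWp : IsPGroup p W := Core.pCore_isPGroup p G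
  have hWQ : W ≤ normalizer (Q : Set G) := (Core.pCore_le_sylow T).trans hn
  set P := pCoreOf p L
  set C := L ⊓ centralizer (P : Set G) with hCdef
  have hLC : L ≤ normalizer (C : Set G) := le_normalizer_inf le_normalizer
    ((le_normalizer_pCoreOf L).trans (normalizer_le_normalizer_centralizer _))
  have hWL : W ⊓ L ≤ P := le_pCoreOf inf_le_right
    (le_normalizer_inf (le_normalizer_normal _) le_normalizer) (hWp.to_le inf_le_left)
  have hQC : ⁅Q, C⁆ ≤ C := (commutator_comm Q C).trans_le
    (Coprime.commutator_le_of_le_normalizer (hQL.trans hLC))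
  -- `[Q, C]` acts nilpotently on `W`
  set R := ⁅Q, C⁆ with hR
  have hRC : R ≤ C := hQC
  have hCW : ∀ K : Subgroup G, K ≤ normalizer (W : Set G) := fun K => le_normalizer_normal K
  have hLD : L ≤ normalizer ((W ⊓ L : Subgroup G) : Set G) :=
    le_normalizer_inf (hCW L) le_normalizer
  have hRS : R ≤ chainStab W (W ⊓ L) := by
    refine commutator_le_of_le_of_le_normalizer ?_
      ((le_inf (hCW C) (inf_le_left.trans hLD)).trans (normalizer_inf_le_normalizer_chainStab _ _))
    refine le_chainStab_iff.mpr ⟨hQL.trans hLD, le_inf ?_ ?_⟩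
    · exact Coprime.commutator_le_of_le_normalizer (hCW Q)
    · rw [commutator_comm]
      exact (Coprime.commutator_le_of_le_normalizer hWQ).trans hQL
  have hRp : IsPGroup p R := by
    refine isPGroup_of_iterCommutator hWp (inf_le_right.trans hG) (hCW R) (n := 2) ?_
    rw [iterCommutator_two, eq_bot_iff]
    refine (commutator_mono (le_chainStab_iff.mp hRS).2 le_rfl).trans (le_of_eq ?_)
    rw [commutator_eq_bot_iff_le_centralizer]
    exact hWL.trans (le_centralizer_iff.mp (hRC.trans inf_le_right))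
  have hCR : C ≤ normalizer (R : Set G) := normalizer_commutator_ge_right Q C
  have hQR : Q ≤ normalizer (R : Set G) := normalizer_commutator_ge_left Q C
  have hQRp : IsPGroup p ↥(Q ⊔ R) := isPGroup_sup_of_le_normalizer hQp hRp hQR
  have hRP : R ≤ P := by
    have hRn : C ≤ normalizer (R : Set G) := hCR
    have h1 : R ≤ pCoreOf p C := le_pCoreOf hRC hRn hRp
    refine h1.trans (le_pCoreOf ((pCoreOf_le C).trans inf_le_left) ?_ (pCoreOf_isPGroup C))
    exact hLC.trans (normalizer_le_normalizer_pCoreOf C)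
  have hCp : IsPGroup p C := by
    refine isPGroup_of_forall_coprime fun x hx hxc => ?_
    have hxQR : x ∈ normalizer ((Q ⊔ R : Subgroup G) : Set G) := by
      have hgen : ∀ y ∈ C, ∀ z ∈ Q ⊔ R, y * z * y⁻¹ ∈ Q ⊔ R := by
        intro y hy z hz
        rcases (Core.mem_sup_of_le_normalizer hQR).mp hz with ⟨q, hq, r, hr, rfl⟩
        have e : y * (q * r) * y⁻¹ = q * (q⁻¹ * y * q * y⁻¹) *
            (y * r * y⁻¹) := by group
        rw [e]
        refine mul_mem (mul_mem (mem_sup_left hq) (mem_sup_right ?_))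
          (mem_sup_right ((mem_normalizer_iff.mp (hCR hy) r).mp hr))
        have := commutator_mem_commutator (inv_mem hq) hy
        simpa only [commutatorElement_def, inv_inv] using this
      exact Core.le_normalizer_iff_conj_mem.mpr hgen hx
    have h1 : ⁅Q ⊔ R, zpowers x⁆ ≤ P := by
      have hz : zpowers x ≤ chainStab (Q ⊔ R) R := zpowers_le.mpr ⟨hCR hx, fun w hw => by
        rcases (Core.mem_sup_of_le_normalizer hQR).mp hw with ⟨q, hq, r, hr, rfl⟩
        have e : q * r * x * (q * r)⁻¹ * x⁻¹ =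
            (q * (r * (x * r⁻¹ * x⁻¹)) * q⁻¹) * (q * x * q⁻¹ * x⁻¹) := by group
        rw [e]
        refine mul_mem ((mem_normalizer_iff.mp (hQR hq) _).mp (mul_mem hr
          ((mem_normalizer_iff.mp (hCR hx) _).mp (inv_mem hr)))) ?_
        have := commutator_mem_commutator hq hx
        simpa only [commutatorElement_def] using this⟩
      exact (le_chainStab_iff.mp hz).2.trans hRP
    have h2 := mem_centralizer_of_two_step hQRp hxQR hxc h1
      (fun y hy => mem_centralizer_singleton_iff.mpr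
        (mem_centralizer_iff.mp hx.2 y hy))
    exact orderOf_eq_one_of_coprime_mem hQp
      (hCQ (centralizer_le (fun y hy => mem_sup_left hy) h2)) hxc
  exact le_pCoreOf inf_le_left hLC hCp

end Cfsg.Lib.Local
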