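import Mathlib.FieldTheory.Finite.Basic
import Cfsg.Agent.Lib.Core.Basic
import Cfsg.Agent.Lib.Fusion.Alperin
import Cfsg.Agent.Lib.Thompson.Omega

/-!
# Normal `p`-complements from strongly closed subgroups of one fixed order

`p` is the smallest prime divisor of the group order.  If all subgroups of some fixed order
`p ^ d` of a Sylow `p`-subgroup (with `1 < p ^ d < |P|`, plus those of order `4` when `p ^ d = 2`)
are strongly closed, the group has a normal `p`-complement.
-/

set_option autoImplicit false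
set_option linter.style.haveILetI false

namespace Cfsg.Lib.Local.FixedOrder

open Subgroup
open scoped commutatorElement

universe u

variable {G : Type u} [Group G] {p : ℕ}

/-- `E` is strongly closed in `P`. -/
def SC (P E : Subgroup G) : Prop :=
  E ≤ P ∧ ∀ g : G, ∀ e ∈ E, g * e * g⁻¹ ∈ P → g * e * g⁻¹ ∈ E

theorem SC.inf {P E F : Subgroup G} (hE : SC P E) (hF : SC P F) : SC P (E ⊓ F) :=
  ⟨inf_le_left.trans hE.1, fun g e he h => ⟨hE.2 g e he.1 h, hF.2 g e he.2 h⟩⟩

theorem mem_normalizer_of_conj_le [Finite G] {K : Subgroup G} {n : G}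
    (h : ∀ k ∈ K, n * k * n⁻¹ ∈ K) : n ∈ normalizer (K : Set G) := by
  rw [Cfsg.Lib.Core.mem_normalizer_iff_map_conj]
  refine eq_of_le_of_card_ge ?_ (card_map_of_injective (MulAut.conj n).injective).ge
  rintro _ ⟨k, hk, rfl⟩
  exact h k hk

theorem SC.mem_normalizer [Finite G] {P E : Subgroup G} (hE : SC P E) {Q : Subgroup G} (hQ : Q ≤ P)
    {n : G} (hn : n ∈ normalizer (Q : Set G)) : n ∈ normalizer ((Q ⊓ E : Subgroup G) : Set G) :=
  mem_normalizer_of_conj_le fun k hk =>
    have h1 : n * k * n⁻¹ ∈ Q := (mem_normalizer_iff.mp hn k).mp hk.1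
    ⟨h1, hE.2 n k hk.2 (hQ h1)⟩

theorem SC.le_normalizer [Finite G] {P E : Subgroup G} (hE : SC P E) : P ≤ normalizer (E : Set G) :=
  fun x hx => mem_normalizer_of_conj_le fun k hk =>
    hE.2 x k hk (P.mul_mem (P.mul_mem hx (hE.1 hk)) (P.inv_mem hx))

/-- A subgroup `E ≤ P` with `E^g ∩ N(E) ≤ E` for all `g` is strongly closed in the `p`-group `P`. -/
theorem sc_of_hsubgroup [Finite G] [Fact p.Prime] {P E : Subgroup G} (hP : IsPGroup p P) (hEP : E ≤ P)
    (h : ∀ g : G, E.map (MulAut.conj g).toMonoidHom ⊓ normalizer (E : Set G) ≤ E) : SC P E := by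
  have hn : P ≤ normalizer (E : Set G) := by
    by_contra hne
    set N := P ⊓ normalizer (E : Set G) with hN
    have hlt : N < P := lt_of_le_of_ne inf_le_left fun he => hne (he ▸ inf_le_right)
    have hlt2 := Cfsg.Lib.Fusion.lt_inf_normalizer hP hlt
    obtain ⟨y, hy, hyN⟩ := SetLike.exists_of_lt hlt2
    refine hyN ⟨hy.1, mem_normalizer_of_conj_le fun e he => ?_⟩
    have heN : e ∈ N := ⟨hEP he, Subgroup.le_normalizer he⟩
    exact h y ⟨⟨e, he, rfl⟩, ((mem_normalizer_iff.mp hy.2 e).mp heN).2⟩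
  exact ⟨hEP, fun g e he hg => h g ⟨⟨e, he, rfl⟩, hn hg⟩⟩

/-- An exponent whose iteration returns after `m` steps, `m` prime to the totient, is trivial. -/
theorem pow_eq_self_of_pow_pow {H : Type*} [Group H] [Finite H] {z : H} {i m : ℕ} (hm : m ≠ 0)
    (hcop : m.Coprime (orderOf z).totient) (h : z ^ (i ^ m) = z) : z ^ i = z := by
  have h1 : i ^ m ≡ 1 [MOD orderOf z] := pow_eq_pow_iff_modEq.mp (h.trans (pow_one z).symm)
  have h2 : ((i : ZMod (orderOf z))) ^ m = 1 := by
    have := (ZMod.natCast_eq_natCast_iff _ _ _).mpr h1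
    push_cast at this
    exact this
  obtain ⟨v, hv⟩ := IsUnit.of_pow_eq_one h2 hm
  have h3 : v ^ m = 1 := Units.ext (by rw [Units.val_pow_eq_pow_val, hv, h2, Units.val_one])
  have h4 : v ^ (orderOf z).totient = 1 := ZMod.pow_totient v
  have h5 : v = 1 := by
    have := pow_gcd_eq_one.mpr ⟨h3, h4⟩
    rwa [hcop.gcd_eq_one, pow_one] at this
  have h6 : i ≡ 1 [MOD orderOf z] := by
    rw [← ZMod.natCast_eq_natCast_iff, ← hv, h5]
    simp
  calc z ^ i = z ^ 1 := pow_eq_pow_iff_modEq.mpr h6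
    _ = z := pow_one z

theorem coprime_pred {m : ℕ} (hp : p.Prime) (hm : ∀ r : ℕ, r.Prime → r ∣ m → p ≤ r) :
    m.Coprime (p - 1) := by
  refine Nat.coprime_of_dvd fun r hr hrm hrp => ?_
  have h1 := hm r hr hrm
  have h0 := hp.two_le
  have h2 := Nat.le_of_dvd (by omega) hrp
  omega

/-- An element of order with all prime divisors `≥ p` fixes each coset of a normalized subgroup of
index `p`. -/
theorem conj_mul_inv_mem [Finite G] [hp : Fact p.Prime] {n : G} {A B : Subgroup G} (hBA : B ≤ A)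
    (hAB : A ≤ normalizer (B : Set G)) (hidx : B.relIndex A = p)
    (hnA : n ∈ normalizer (A : Set G)) (hnB : n ∈ normalizer (B : Set G))
    (hord : ∀ r : ℕ, r.Prime → r ∣ orderOf n → p ≤ r) {a : G} (ha : a ∈ A) :
    n * a * n⁻¹ * a⁻¹ ∈ B := by
  by_cases haB : a ∈ B
  · exact mul_mem ((mem_normalizer_iff.mp hnB a).mp haB) (inv_mem haB)
  let B' : Subgroup A := B.subgroupOf A
  haveI : B'.Normal := normal_subgroupOf_of_le_normalizer hAB
  have hcard : Nat.card (A ⧸ B') = p := hidx
  let φ : A →* A := MonoidHom.mk' (fun x => ⟨n * x * n⁻¹, (mem_normalizer_iff.mp hnA x).mp x.2⟩)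
    fun x y => Subtype.ext (by simp [mul_assoc])
  let ψ : A ⧸ B' →* A ⧸ B' := QuotientGroup.map B' B' φ fun x hx =>
    (mem_normalizer_iff.mp hnB (x : G)).mp hx
  let q : A ⧸ B' := ((⟨a, ha⟩ : A) : A ⧸ B')
  have hq : q ≠ 1 := fun h => haB (mem_subgroupOf.mp ((QuotientGroup.eq_one_iff _).mp h) :)
  have hoq : orderOf q = p := by
    have hdvd : orderOf q ∣ p := hcard ▸ orderOf_dvd_natCard q
    exact ((Nat.dvd_prime hp.out).mp hdvd).resolve_left fun h => hq (orderOf_eq_one_iff.mp h)
  have hgen : ψ q ∈ Submonoid.powers q := by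
    rw [mem_powers_iff_mem_zpowers, zpowers_eq_top_of_prime_card hcard hq]
    exact mem_top _
  obtain ⟨i, hi⟩ := hgen
  have hit : ∀ m : ℕ, ψ^[m] q = q ^ (i ^ m) ∧ ((φ^[m] ⟨a, ha⟩ : A) : G) = n ^ m * a * (n ^ m)⁻¹ ∧
      ψ^[m] q = ((φ^[m] ⟨a, ha⟩ : A) : A ⧸ B') := by
    intro m
    induction m with
    | zero => simp [q]
    | succ m ih =>
      refine ⟨?_, ?_, ?_⟩
      · rw [Function.iterate_succ_apply', ih.1, map_pow, ← hi, ← pow_mul, pow_succ']
      · rw [Function.iterate_succ_apply']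
        show n * _ * n⁻¹ = _
        rw [ih.2.1, pow_succ']
        group
      · rw [Function.iterate_succ_apply', Function.iterate_succ_apply', ih.2.2]
        rfl
  obtain ⟨h1, h2, h3⟩ := hit (orderOf n)
  have h4 : φ^[orderOf n] ⟨a, ha⟩ = ⟨a, ha⟩ := Subtype.ext (by rw [h2, pow_orderOf_eq_one]; simp)
  rw [h1, h4] at h3
  have h5 : q ^ i = q := pow_eq_self_of_pow_pow (orderOf_pos n).ne'
    (by rw [hoq, Nat.totient_prime hp.out]; exact coprime_pred hp.out hord) h3
  have h6 : ((φ ⟨a, ha⟩ : A) : A ⧸ B') = q := (show ψ q = q from hi.symm.trans h5)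
  have h7 := QuotientGroup.eq.mp h6
  have h8 : (n * a * n⁻¹)⁻¹ * a ∈ B := mem_subgroupOf.mp h7
  have h9 := (mem_normalizer_iff.mp (hAB ha) _).mp (inv_mem h8)
  have h10 : a * ((n * a * n⁻¹)⁻¹ * a)⁻¹ * a⁻¹ = n * a * n⁻¹ * a⁻¹ := by group
  rwa [h10] at h9

/-- A `p'`-element with all prime divisors of its order `≥ p` centralizes the cyclic `p`-groups it
normalizes. -/
theorem commute_of_cyclic [Finite G] [hp : Fact p.Prime] {n : G} {C : Subgroup G} [IsCyclic C]
    (hC : IsPGroup p C) (hn : n ∈ normalizer (C : Set G))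
    (hord : ∀ r : ℕ, r.Prime → r ∣ orderOf n → p ≤ r) (hco : (orderOf n).Coprime p) :
    ∀ c ∈ C, n * c = c * n := by
  obtain ⟨⟨z, hz⟩, hgen⟩ := IsCyclic.exists_generator (α := C)
  have hgen' : ∀ c ∈ C, c ∈ Submonoid.powers z := fun c hc => by
    rw [mem_powers_iff_mem_zpowers]
    obtain ⟨k, hk⟩ := mem_zpowers_iff.mp (hgen ⟨c, hc⟩)
    exact mem_zpowers_iff.mpr ⟨k, congrArg Subtype.val hk⟩
  obtain ⟨i, hi⟩ := hgen' _ ((mem_normalizer_iff.mp hn z).mp hz)
  have hit : ∀ m : ℕ, n ^ m * z * (n ^ m)⁻¹ = z ^ (i ^ m) := by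
    intro m
    induction m with
    | zero => simp
    | succ m ih =>
      calc n ^ (m + 1) * z * (n ^ (m + 1))⁻¹ = n * (n ^ m * z * (n ^ m)⁻¹) * n⁻¹ := by
            rw [pow_succ']; group
        _ = (n * z * n⁻¹) ^ (i ^ m) := by rw [ih, conj_pow]
        _ = z ^ (i ^ (m + 1)) := by rw [← hi, ← pow_mul, pow_succ']
  obtain ⟨k, hk⟩ := IsPGroup.iff_orderOf.mp hC ⟨z, hz⟩
  rw [Subgroup.orderOf_mk] at hk
  have hcop : (orderOf n).Coprime (orderOf z).totient := by
    rw [hk]
    rcases Nat.eq_zero_or_pos k with rfl | hk0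
    · simp
    · rw [Nat.totient_prime_pow hp.out hk0]
      exact Nat.Coprime.mul_right (hco.pow_right _) (coprime_pred hp.out hord)
  have h5 : z ^ i = z := pow_eq_self_of_pow_pow (orderOf_pos n).ne' hcop
    (by rw [← hit, pow_orderOf_eq_one]; simp)
  have hi' : z ^ i = n * z * n⁻¹ := hi
  have hnz : Commute n z := mul_inv_eq_iff_eq_mul.mp (hi'.symm.trans h5)
  intro c hc
  obtain ⟨j, rfl⟩ := hgen' c hc
  exact (hnz.pow_right j).eq

/-- A `p'`-element centralizing a `p`-group `A` and every coset of `A` in `B` centralizes `B`. -/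
theorem commute_of_series [Finite G] [hp : Fact p.Prime] {n : G} {A B : Subgroup G}
    (hA : IsPGroup p A) (hco : (orderOf n).Coprime p) (hB : ∀ b ∈ B, n * b * n⁻¹ * b⁻¹ ∈ A)
    (hA' : ∀ a ∈ A, n * a = a * n) : ∀ b ∈ B, n * b = b * n := by
  intro b hb
  set c := n * b * n⁻¹ * b⁻¹ with hc
  have hcA : c ∈ A := hB b hb
  have hnc : ∀ m : ℕ, n * c ^ m = c ^ m * n := fun m => hA' _ (pow_mem hcA m)
  have hit : ∀ m : ℕ, n ^ m * b * (n ^ m)⁻¹ = c ^ m * b := by
    intro m
    induction m with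
    | zero => simp
    | succ m ih =>
      calc n ^ (m + 1) * b * (n ^ (m + 1))⁻¹ = n * (n ^ m * b * (n ^ m)⁻¹) * n⁻¹ := by
            rw [pow_succ']; group
        _ = n * c ^ m * b * n⁻¹ := by rw [ih]; group
        _ = c ^ m * (n * b * n⁻¹) := by rw [hnc]; group
        _ = c ^ m * (c * b) := by
            rw [show c * b = n * b * n⁻¹ by rw [hc]; group]
        _ = c ^ (m + 1) * b := by rw [pow_succ]; group
  have h1 : c ^ orderOf n = 1 := by
    have := hit (orderOf n)
    rw [pow_orderOf_eq_one] at this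
    simpa using this.symm
  obtain ⟨k, hk⟩ := IsPGroup.iff_orderOf.mp hA ⟨c, hcA⟩
  rw [Subgroup.orderOf_mk] at hk
  have h2 : orderOf c ∣ Nat.gcd (orderOf n) (p ^ k) :=
    Nat.dvd_gcd (orderOf_dvd_of_pow_eq_one h1) hk.dvd
  rw [(hco.pow_right k).gcd_eq_one, Nat.dvd_one, orderOf_eq_one_iff] at h2
  rw [h2] at hc
  exact mul_inv_eq_iff_eq_mul.mp (mul_inv_eq_one.mp hc.symm)

theorem exists_between [Finite G] [hp : Fact p.Prime] {S H : Subgroup G} (hS : IsPGroup p S) (hHS : H ≤ S)
    {a b : ℕ} (hH : Nat.card H = p ^ a) (hab : a ≤ b) (hb : p ^ b ≤ Nat.card S) :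
    ∃ K : Subgroup G, K ≤ S ∧ H ≤ K ∧ Nat.card K = p ^ b := by
  obtain ⟨c, hc⟩ := IsPGroup.iff_card.mp hS
  have hdvd : p ^ b ∣ Nat.card S := by
    rw [hc] at hb ⊢
    exact pow_dvd_pow p ((Nat.pow_le_pow_iff_right hp.out.one_lt).mp hb)
  obtain ⟨K, hK1, hK2⟩ := Sylow.exists_subgroup_card_pow_prime_le p hdvd (H.subgroupOf S)
    (by rw [Nat.card_congr (subgroupOfEquivOfLe hHS).toEquiv, hH]) hab
  refine ⟨K.map S.subtype, map_subtype_le _, ?_, by rw [card_map_of_injective S.subtype_injective, hK1]⟩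
  intro x hx
  exact ⟨⟨x, hHS hx⟩, hK2 (mem_subgroupOf.mpr hx), rfl⟩

theorem relIndex_eq_prime [hp : Fact p.Prime] {P H E : Subgroup G} (hHn : P ≤ normalizer (H : Set G))
    (hidx : H.relIndex P = p) (hEP : E ≤ P) (hne : ¬ E ≤ H) : H.relIndex E = p := by
  haveI : (H.subgroupOf P).Normal := normal_subgroupOf_of_le_normalizer hHn
  have h1 : (H.subgroupOf P).relIndex (E.subgroupOf P) = H.relIndex E := relIndex_subgroupOf hEP
  have h2 : H.relIndex E ∣ p := h1 ▸ hidx ▸ relIndex_dvd_index_of_normal _ _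
  exact ((Nat.dvd_prime hp.out).mp h2).resolve_left fun h => hne (relIndex_eq_one.mp h)

theorem card_inf_mul [hp : Fact p.Prime] {P H E : Subgroup G} (hHn : P ≤ normalizer (H : Set G))
    (hidx : H.relIndex P = p) (hEP : E ≤ P) (hne : ¬ E ≤ H) :
    Nat.card (E ⊓ H : Subgroup G) * p = Nat.card E := by
  rw [← Cfsg.Lib.Core.card_mul_relIndex (inf_le_left : E ⊓ H ≤ E), inf_relIndex_left,
    relIndex_eq_prime hHn hidx hEP hne]

theorem orderOf_coe_prime_le [Finite G] (hmin : ∀ q : ℕ, q.Prime → q ∣ Nat.card G → p ≤ q) (n : G) :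
    ∀ r : ℕ, r.Prime → r ∣ orderOf n → p ≤ r :=
  fun r hr hrn => hmin r hr (hrn.trans (orderOf_dvd_natCard n))

/-- The case of cyclic Sylow `p`-subgroups, `p` the smallest prime divisor. -/
theorem hasNormalPComplement_of_cyclic [Finite G] [hp : Fact p.Prime]
    (hmin : ∀ q : ℕ, q.Prime → q ∣ Nat.card G → p ≤ q) (P : Sylow p G)
    (hc : IsCyclic (P : Subgroup G)) : Cfsg.HasNormalPComplement p G := by
  refine (Cfsg.Lib.Fusion.frobenius P).mpr fun Q hQ g hg hco q hq => ?_
  haveI : IsCyclic Q := isCyclic_of_injective (inclusion hQ) (inclusion_injective hQ)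
  exact (commute_of_cyclic (P.2.to_le hQ) hg (orderOf_coe_prime_le hmin g) hco q hq).symm

/-- The case `d ≤ 2`. -/
theorem small [Finite G] [hp : Fact p.Prime] (hmin : ∀ q : ℕ, q.Prime → q ∣ Nat.card G → p ≤ q)
    (P : Sylow p G) {d : ℕ} (hd0 : 0 < d) (hd2 : d ≤ 2) (hd : p ^ d < Nat.card (P : Subgroup G))
    (hsc : ∀ E : Subgroup G, E ≤ (P : Subgroup G) → Nat.card E = p ^ d → SC (P : Subgroup G) E)
    (h4 : d = 1 → p = 2 → ∀ E : Subgroup G, E ≤ (P : Subgroup G) → Nat.card E = 4 →
      SC (P : Subgroup G) E) :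
    Cfsg.HasNormalPComplement p G := by
  -- centralizing a subgroup of order `p ^ d`
  have key : ∀ g : G, (orderOf g).Coprime p → ∀ E : Subgroup G, E ≤ (P : Subgroup G) →
      Nat.card E = p ^ d → g ∈ normalizer (E : Set G) → ∀ e ∈ E, g * e = e * g := by
    intro g hco E hEP hE hg
    have hord := orderOf_coe_prime_le hmin g
    by_cases hcy : IsCyclic E
    · exact commute_of_cyclic (P.2.to_le hEP) hg hord hco
    have hd2' : d = 2 := by
      by_contra hne
      exact hcy (isCyclic_of_prime_card (p := p) (by rw [hE, show d = 1 by omega, pow_one]))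
    subst hd2'
    obtain ⟨M, hMP, hEM, hM⟩ := exists_between P.2 hEP hE (Nat.le_succ 2)
      (by obtain ⟨c, hc⟩ := IsPGroup.iff_card.mp P.2
          rw [hc] at hd ⊢
          exact Nat.pow_le_pow_right hp.out.pos ((Nat.pow_lt_pow_iff_right hp.out.one_lt).mp hd))
    have hlt : E < M := lt_of_le_of_ne hEM fun he => by
      rw [he, hM] at hE
      exact absurd (Nat.pow_right_injective hp.out.two_le hE) (by omega)
    obtain ⟨y, hyM, hyE⟩ := SetLike.exists_of_lt hlt
    have hMp : IsPGroup p M := P.2.to_le hMP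
    obtain ⟨j, hj⟩ := IsPGroup.iff_orderOf.mp hMp ⟨y, hyM⟩
    rw [Subgroup.orderOf_mk] at hj
    have hj2 : j ≤ 2 := by
      by_contra hj3
      have hzM : zpowers y = M := by
        refine eq_of_le_of_card_ge (zpowers_le.mpr hyM) ?_
        rw [Nat.card_zpowers, hj, hM]
        exact Nat.pow_le_pow_right hp.out.pos (by omega)
      exact hcy (isCyclic_of_injective (inclusion (hzM ▸ hEM : E ≤ zpowers y)) (inclusion_injective _))
    obtain ⟨E', hE'M, hyE', hE'⟩ := exists_between hMp (zpowers_le.mpr hyM)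
      (by rw [Nat.card_zpowers, hj]) hj2 (by rw [hM]; exact Nat.pow_le_pow_right hp.out.pos (by omega))
    have hne : ¬ E' ≤ E := fun h => hyE (h (hyE' (mem_zpowers y)))
    have hscE' := hsc E' (hE'M.trans hMP) hE'
    have hE'n : M ≤ normalizer (E' : Set G) := hMP.trans hscE'.le_normalizer
    have hidx : E'.relIndex M = p := by
      have h1 := Cfsg.Lib.Core.card_mul_relIndex hE'M
      rw [hE', hM, pow_succ p 2] at h1
      exact Nat.eq_of_mul_eq_mul_left (pow_pos hp.out.pos 2) h1
    have hne' : ¬ E ≤ E' := fun h => hne (eq_of_le_of_card_ge h (by rw [hE, hE'])).ge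
    have hrel : (E ⊓ E').relIndex E = p := by
      rw [inf_relIndex_left]; exact relIndex_eq_prime hE'n hidx hEM hne'
    have hcardA : Nat.card (E ⊓ E' : Subgroup G) = p := by
      have h1 := card_inf_mul hE'n hidx hEM hne'
      rw [hE, pow_two] at h1
      exact Nat.eq_of_mul_eq_mul_right hp.out.pos h1
    haveI : IsCyclic (E ⊓ E' : Subgroup G) := isCyclic_of_prime_card hcardA
    have hgA := hscE'.mem_normalizer hEP hg
    have hAp : IsPGroup p (E ⊓ E' : Subgroup G) := P.2.to_le (inf_le_left.trans hEP)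
    refine commute_of_series hAp hco ?_ (commute_of_cyclic hAp hgA hord hco)
    intro b hb
    refine conj_mul_inv_mem inf_le_left ?_ hrel hg hgA hord hb
    intro x hx
    exact hscE'.mem_normalizer hEP (Subgroup.le_normalizer hx)
  refine (Cfsg.Lib.Fusion.frobenius P).mpr fun Q hQ g hg hco => ?_
  have hord := orderOf_coe_prime_le hmin g
  have hQp : IsPGroup p Q := P.2.to_le hQ
  have hfix : ∀ E : Subgroup G, SC (P : Subgroup G) E → E ≤ Q → g ∈ normalizer (E : Set G) :=
    fun E hE hEQ => by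
      have := hE.mem_normalizer hQ hg
      rwa [inf_eq_right.mpr hEQ] at this
  obtain ⟨c, hc⟩ := IsPGroup.iff_card.mp hQp
  have hall : ∀ a ∈ Q, (a ^ p = 1 ∨ (p = 2 ∧ a ^ 4 = 1)) → g * a = a * g := by
    intro a ha hsmall
    rcases lt_or_ge d c with hdc | hcd
    · obtain ⟨j, hj⟩ := IsPGroup.iff_orderOf.mp hQp ⟨a, ha⟩
      rw [Subgroup.orderOf_mk] at hj
      have hj2 : j ≤ 1 ∨ (p = 2 ∧ j ≤ 2) := by
        rcases hsmall with h | ⟨h2, h⟩
        · left
          have := orderOf_dvd_of_pow_eq_one h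
          rw [hj] at this
          nth_rewrite 2 [← pow_one p] at this
          exact (Nat.pow_dvd_pow_iff_le_right hp.out.one_lt).mp this
        · right
          refine ⟨h2, ?_⟩
          have := orderOf_dvd_of_pow_eq_one h
          subst h2
          rw [hj, show 4 = 2 ^ 2 by norm_num] at this
          exact (Nat.pow_dvd_pow_iff_le_right hp.out.one_lt).mp this
      by_cases hjd : j ≤ d
      · obtain ⟨E, hEQ, haE, hE⟩ := exists_between hQp (zpowers_le.mpr ha)
          (by rw [Nat.card_zpowers, hj]) hjd (by rw [hc]; exact Nat.pow_le_pow_right hp.out.pos hdc.le)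
        exact key g hco E (hEQ.trans hQ) hE (hfix E (hsc E (hEQ.trans hQ) hE) hEQ) a
          (haE (mem_zpowers a))
      · obtain ⟨h2, hj2⟩ := hj2.resolve_left (by omega)
        have hd1 : d = 1 := by omega
        have hza : zpowers a ≤ Q := zpowers_le.mpr ha
        have hcard : Nat.card (zpowers a) = 4 := by
          rw [Nat.card_zpowers, hj, h2, show j = 2 by omega]; norm_num
        exact commute_of_cyclic (hQp.to_le hza)
          (hfix _ (h4 hd1 h2 _ (hza.trans hQ) hcard) hza) hord hco a (mem_zpowers a)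
    · by_cases hcy : IsCyclic Q
      · exact commute_of_cyclic hQp hg hord hco a ha
      have hcd' : c = d := by
        by_contra hne
        have hc1 : c ≤ 1 := by omega
        refine hcy ?_
        rcases Nat.le_one_iff_eq_zero_or_eq_one.mp hc1 with h | h
        · haveI : Subsingleton Q := (Nat.card_eq_one_iff_unique.mp (by rw [hc, h, pow_zero])).1
          exact inferInstance
        · exact isCyclic_of_prime_card (p := p) (by rw [hc, h, pow_one])
      exact key g hco Q hQ (by rw [hc, hcd']) hg a ha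
  have hA : zpowers g ≤ centralizer (Q : Set G) :=
    Cfsg.Lib.Thompson.le_centralizer_of_centralizes_small (zpowers g) Q hQp (zpowers_le.mpr hg)
      (by rw [Nat.card_zpowers, hc]; exact hco.pow_right c)
      fun a ha hs b hb => by
        obtain ⟨k, rfl⟩ := mem_zpowers_iff.mp hb
        exact (Commute.zpow_left (hall a ha hs) k).eq
  exact hA (mem_zpowers g)

/-- The step where all elements have order dividing `p ^ d`. -/
theorem of_small_elements [Finite G] [hp : Fact p.Prime]
    (hmin : ∀ q : ℕ, q.Prime → q ∣ Nat.card G → p ≤ q)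
    (P : Sylow p G) {d : ℕ} (hd0 : 0 < d) (hd : p ^ d < Nat.card (P : Subgroup G))
    (hsc : ∀ E : Subgroup G, E ≤ (P : Subgroup G) → Nat.card E = p ^ d → SC (P : Subgroup G) E)
    (hexp : ∀ a ∈ (P : Subgroup G), a ^ p ^ d = 1) :
    Cfsg.HasNormalPComplement p G := by
  classical
  have hfoc : ∀ a ∈ (P : Subgroup G), ∀ g : G, g * a * g⁻¹ ∈ (P : Subgroup G) →
      ∀ K : Subgroup (P : Subgroup G), IsCoatom K → g * a * g⁻¹ * a⁻¹ ∈ K.map (P : Subgroup G).subtype := by
    intro a ha g hga K hK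
    haveI := (P.2 : IsPGroup p (P : Subgroup G)).isNilpotent
    haveI hKn : K.Normal := NormalizerCondition.normal_of_coatom K Group.normalizerCondition_of_isNilpotent hK
    set H : Subgroup G := K.map (P : Subgroup G).subtype with hH
    have hHP : H ≤ (P : Subgroup G) := map_subtype_le _
    have hHK : H.subgroupOf (P : Subgroup G) = K := comap_map_eq_self_of_injective
      (P : Subgroup G).subtype_injective K
    have hHn : (P : Subgroup G) ≤ normalizer (H : Set G) :=
      (normal_subgroupOf_iff_le_normalizer hHP).mp (hHK ▸ hKn)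
    obtain ⟨cK, hcK⟩ := IsPGroup.iff_card.mp ((P.2 : IsPGroup p (P : Subgroup G)).to_subgroup K)
    obtain ⟨cP, hcP⟩ := IsPGroup.iff_card.mp (P.2 : IsPGroup p (P : Subgroup G))
    have hidx : H.relIndex (P : Subgroup G) = p := by
      have hlt : cK < cP := by
        by_contra hge
        refine hK.1 (eq_top_of_le_card K ?_)
        rw [hcK, hcP]
        exact Nat.pow_le_pow_right hp.out.pos (not_lt.mp hge)
      obtain ⟨L, hL, hKL⟩ := Sylow.exists_subgroup_card_pow_succ (p := p) (n := cK)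
        (by rw [hcP]; exact pow_dvd_pow p hlt) hcK
      have hLtop : L = ⊤ := hK.2 L (lt_of_le_of_ne hKL fun he => by
        rw [← he, hcK] at hL
        exact absurd (Nat.pow_right_injective hp.out.two_le hL) (by omega))
      rw [hLtop, card_top] at hL
      have h1 := card_mul_index K
      rw [hcK, hL, pow_succ] at h1
      show (H.subgroupOf (P : Subgroup G)).index = p
      rw [hHK]
      exact Nat.eq_of_mul_eq_mul_left (pow_pos hp.out.pos _) h1
    have hF : ∀ E : Subgroup G, E ≤ (P : Subgroup G) → Nat.card E = p ^ d →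
        SC (P : Subgroup G) (E ⊓ H) := by
      intro E hEP hE
      by_cases hle : E ≤ H
      · rw [inf_eq_left.mpr hle]; exact hsc E hEP hE
      have h1 := card_inf_mul hHn hidx hEP hle
      rw [hE, show d = d - 1 + 1 by omega, pow_succ] at h1
      have h2 : Nat.card (E ⊓ H : Subgroup G) = p ^ (d - 1) := Nat.eq_of_mul_eq_mul_right hp.out.pos h1
      have hHcard : p ^ d ≤ Nat.card H := by
        have h3 := Cfsg.Lib.Core.card_mul_relIndex hHP
        rw [hidx, hcP] at h3
        obtain ⟨e, he⟩ : ∃ e, cP = e + 1 := ⟨cP - 1, by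
          have : d < cP := (Nat.pow_lt_pow_iff_right hp.out.one_lt).mp (hcP ▸ hd)
          omega⟩
        rw [he, pow_succ] at h3
        rw [Nat.eq_of_mul_eq_mul_right hp.out.pos h3]
        refine Nat.pow_le_pow_right hp.out.pos ?_
        have : d < cP := (Nat.pow_lt_pow_iff_right hp.out.one_lt).mp (hcP ▸ hd)
        omega
      obtain ⟨E', hE'H, hFE', hE'⟩ := exists_between (P.2.to_le hHP) (inf_le_right : E ⊓ H ≤ H) h2
        (by omega) hHcard
      have : E ⊓ H = E ⊓ E' := le_antisymm (le_inf inf_le_left hFE') (inf_le_inf_left _ hE'H)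
      rw [this]
      exact (hsc E hEP hE).inf (hsc E' (hE'H.trans hHP) hE')
    obtain ⟨j, hj⟩ := IsPGroup.iff_orderOf.mp (P.2 : IsPGroup p (P : Subgroup G)) ⟨a, ha⟩
    rw [Subgroup.orderOf_mk] at hj
    have hjd : j ≤ d := by
      have := orderOf_dvd_of_pow_eq_one (hexp a ha)
      rw [hj] at this
      exact (Nat.pow_dvd_pow_iff_le_right hp.out.one_lt).mp this
    obtain ⟨E, hEP, haE, hE⟩ := exists_between (P.2 : IsPGroup p (P : Subgroup G)) (zpowers_le.mpr ha)
      (by rw [Nat.card_zpowers, hj]) hjd hd.le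
    have hscE := hsc E hEP hE
    have hscF := hF E hEP hE
    -- along a chain of tame intersections
    have hchain : ∀ (l : List (Sylow p G × G)) (D : Subgroup G), Cfsg.Lib.Fusion.Chain P l D →
        ∀ x ∈ D, x ∈ E → x ∈ (P : Subgroup G) →
          (Cfsg.Lib.Fusion.chainProd l)⁻¹ * x * Cfsg.Lib.Fusion.chainProd l * x⁻¹ ∈ H := by
      intro l
      induction l with
      | nil =>
        intro D _ x _ _ _
        simp [Cfsg.Lib.Fusion.chainProd]
      | cons s l ih =>
        intro D hl x hxD hxE hxP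
        obtain ⟨-, hn, hle, hl'⟩ := hl
        set D0 := (P : Subgroup G) ⊓ (s.1 : Subgroup G) with hD0
        have hn' : s.2⁻¹ ∈ normalizer (D0 : Set G) := inv_mem hn
        set b := s.2⁻¹ * x * s.2 with hb
        have hbD0 : b ∈ D0 := by
          have := (mem_normalizer_iff.mp hn' x).mp (hle hxD)
          rwa [inv_inv] at this
        have hbE : b ∈ E := by
          have := hscE.2 s.2⁻¹ x hxE (by rw [inv_inv]; exact hbD0.1)
          rwa [inv_inv] at this
        have hstep : b * x⁻¹ ∈ H := by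
          by_cases hxH : x ∈ H
          · have h2 : b ∈ E ⊓ H := by
              have := hscF.2 s.2⁻¹ x ⟨hxE, hxH⟩ (by rw [inv_inv]; exact hbD0.1)
              rwa [inv_inv] at this
            exact mul_mem h2.2 (inv_mem hxH)
          · have hA := hscE.mem_normalizer (inf_le_left : D0 ≤ (P : Subgroup G)) hn'
            have hB := hscF.mem_normalizer (inf_le_left : D0 ≤ (P : Subgroup G)) hn'
            rw [← inf_assoc] at hB
            have hne : ¬ D0 ⊓ E ≤ H := fun h => hxH (h ⟨hle hxD, hxE⟩)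
            have hAP : D0 ⊓ E ≤ (P : Subgroup G) := inf_le_left.trans inf_le_left
            have hrel : (D0 ⊓ E ⊓ H).relIndex (D0 ⊓ E) = p := by
              rw [inf_relIndex_left]; exact relIndex_eq_prime hHn hidx hAP hne
            have hAB : D0 ⊓ E ≤ normalizer ((D0 ⊓ E ⊓ H : Subgroup G) : Set G) := by
              intro w hw
              refine mem_normalizer_of_conj_le fun k hk => ⟨?_, ?_⟩
              · exact (D0 ⊓ E).mul_mem ((D0 ⊓ E).mul_mem hw hk.1) ((D0 ⊓ E).inv_mem hw)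
              · exact (mem_normalizer_iff.mp (hHn (hAP hw)) k).mp hk.2
            have := conj_mul_inv_mem inf_le_left hAB hrel hA hB
              (orderOf_coe_prime_le hmin _) (a := x) ⟨hle hxD, hxE⟩
            rw [inv_inv] at this
            exact this.2
        have hrec := ih _ hl' b (Cfsg.Lib.Fusion.conj_mem_conjR hxD) hbE hbD0.1
        have hprod : Cfsg.Lib.Fusion.chainProd (s :: l) = s.2 * Cfsg.Lib.Fusion.chainProd l := by
          simp [Cfsg.Lib.Fusion.chainProd]
        have := mul_mem hrec hstep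
        rw [hprod, hb] at *
        convert this using 1
        group
    obtain ⟨l, hl1, hl2⟩ := Cfsg.Lib.Fusion.alperin P (zpowers a) g⁻¹ (zpowers_le.mpr ha)
      (Cfsg.Lib.Fusion.conjR_le_iff.mpr fun y hy => by
        obtain ⟨i, rfl⟩ := mem_zpowers_iff.mp hy
        rw [inv_inv, ← conj_zpow]
        exact zpow_mem hga i)
    have := hchain l _ hl1 a (mem_zpowers a) (haE (mem_zpowers a)) ha
    rwa [hl2, inv_inv] at this
  have hfr : (P : Subgroup G).focalSubgroup ≤ (frattini (P : Subgroup G)).map (P : Subgroup G).subtype := by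
    rw [focalSubgroup_def, closure_le]
    rintro z ⟨hz, x, hx, u, rfl⟩
    have hm : u * x⁻¹ * u⁻¹ ∈ (P : Subgroup G) := by
      have : u * x⁻¹ * u⁻¹ = x⁻¹ * ⁅x, u⁆ := by rw [commutatorElement_def]; group
      rw [this]; exact (P : Subgroup G).mul_mem ((P : Subgroup G).inv_mem hx) hz
    refine ⟨⟨_, hz⟩, ?_, rfl⟩
    simp only [frattini, Order.radical, SetLike.mem_coe, Subgroup.mem_iInf, Set.mem_setOf_eq]
    intro K hK
    obtain ⟨k, hk, hk'⟩ := hfoc x⁻¹ ((P : Subgroup G).inv_mem hx) u hm K hK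
    haveI := (P.2 : IsPGroup p (P : Subgroup G)).isNilpotent
    haveI hKn : K.Normal := NormalizerCondition.normal_of_coatom K Group.normalizerCondition_of_isNilpotent hK
    have h1 := hKn.conj_mem k hk ⟨x, hx⟩
    have h2 : (⟨x, hx⟩ : (P : Subgroup G)) * k * ⟨x, hx⟩⁻¹ = ⟨⁅x, u⁆, hz⟩ := by
      refine Subtype.ext ?_
      simp only [Subgroup.subtype_apply] at hk'
      rw [Subgroup.coe_mul, Subgroup.coe_mul, Subgroup.coe_inv, hk']
      show x * _ * x⁻¹ = ⁅x, u⁆
      rw [commutatorElement_def]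
      group
    rwa [h2] at h1
  rw [Cfsg.Lib.Fusion.hasNormalPComplement_iff_inf P,
    Cfsg.Lib.Fusion.tate P (P : Subgroup G) le_rfl
      (((Cfsg.Lib.Fusion.pResidual_inf_le_focal P).trans hfr).trans le_sup_left)]
  have : Cfsg.pResidual p (P : Subgroup G) = ⊥ := by
    rw [eq_bot_iff]
    exact (Cfsg.Lib.Fusion.pResidual_le_ker P.2 (MonoidHom.id _)).trans (by simp)
  rw [this, Subgroup.map_bot, bot_inf_eq]

/-- All subgroups of order `p ^ d` strongly closed: normal `p`-complement. -/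
theorem main [hp : Fact p.Prime] : ∀ {G : Type u} [Group G] [Finite G],
    (∀ q : ℕ, q.Prime → q ∣ Nat.card G → p ≤ q) → ∀ (P : Sylow p G) (d : ℕ), 0 < d →
    p ^ d < Nat.card (P : Subgroup G) →
    (∀ E : Subgroup G, E ≤ (P : Subgroup G) → Nat.card E = p ^ d → SC (P : Subgroup G) E) →
    (d = 1 → p = 2 → ∀ E : Subgroup G, E ≤ (P : Subgroup G) → Nat.card E = 4 →
      SC (P : Subgroup G) E) →
    Cfsg.HasNormalPComplement p G := by
  intro G _ _
  induction hn : Nat.card G using Nat.strong_induction_on generalizing G with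
  | _ N ih =>
  subst hn
  intro hmin P d hd0 hd hsc h4
  rcases le_or_gt d 2 with hd2 | hd3
  · exact small hmin P hd0 hd2 hd hsc h4
  by_cases hexp : ∀ a ∈ (P : Subgroup G), a ^ p ^ d = 1
  · exact of_small_elements hmin P hd0 hd hsc hexp
  push Not at hexp
  obtain ⟨a, ha, hane⟩ := hexp
  obtain ⟨k, hk⟩ := IsPGroup.iff_orderOf.mp (P.2 : IsPGroup p (P : Subgroup G)) ⟨a, ha⟩
  rw [Subgroup.orderOf_mk] at hk
  have hdk : d < k := by
    by_contra hle
    exact hane (orderOf_dvd_iff_pow_eq_one.mp (hk ▸ pow_dvd_pow p (not_lt.mp hle)))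
  set w := a ^ p ^ (k - d) with hw
  have how : orderOf w = p ^ d := by
    rw [hw, orderOf_pow_of_dvd (pow_pos hp.out.pos _).ne' (by rw [hk]; exact pow_dvd_pow p (Nat.sub_le _ _)),
      hk, Nat.pow_div (Nat.sub_le _ _) hp.out.pos]
    congr 1; omega
  set z := w ^ p ^ (d - 1) with hz
  have hoz : orderOf z = p := by
    rw [hz, orderOf_pow_of_dvd (pow_pos hp.out.pos _).ne' (by rw [how]; exact pow_dvd_pow p (Nat.sub_le _ _)),
      how, Nat.pow_div (Nat.sub_le _ _) hp.out.pos, show d - (d - 1) = 1 by omega, pow_one]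
  have hwP : w ∈ (P : Subgroup G) := pow_mem ha _
  have hzw : z ∈ zpowers w := pow_mem (mem_zpowers w) _
  have hzP : z ∈ (P : Subgroup G) := zpowers_le.mpr hwP hzw
  set Z := zpowers z with hZ
  have hscW := hsc (zpowers w) (zpowers_le.mpr hwP) (by rw [Nat.card_zpowers, how])
  have hwc : ∀ g : G, g * z * g⁻¹ ∈ (P : Subgroup G) → g * z * g⁻¹ ∈ Z := by
    intro g hg
    obtain ⟨i, hi⟩ := mem_zpowers_iff.mp (hscW.2 g z hzw hg)
    have h1 : w ^ (i * p) = 1 := by
      rw [zpow_mul, hi, zpow_natCast, conj_pow, ← hoz, pow_orderOf_eq_one]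
      simp
    have h2 : ((p ^ d : ℕ) : ℤ) ∣ i * p := how ▸ orderOf_dvd_iff_zpow_eq_one.mpr h1
    have h3 : ((p ^ (d - 1) : ℕ) : ℤ) ∣ i := by
      rw [show p ^ d = p ^ (d - 1) * p by rw [← pow_succ]; congr 1; omega, Nat.cast_mul] at h2
      exact (mul_dvd_mul_iff_right (by exact_mod_cast hp.out.ne_zero)).mp h2
    obtain ⟨m, rfl⟩ := h3
    rw [← hi, zpow_mul, zpow_natCast]
    exact zpow_mem (mem_zpowers z) m
  have hnormZ : ∀ g : G, g * z * g⁻¹ ∈ Z → g ∈ normalizer (Z : Set G) := by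
    intro g hg
    refine mem_normalizer_of_conj_le fun c hc => ?_
    obtain ⟨i, rfl⟩ := mem_zpowers_iff.mp hc
    rw [← conj_zpow]
    exact zpow_mem hg i
  have hPN : (P : Subgroup G) ≤ normalizer (Z : Set G) := fun x hx => hnormZ x
    (hwc x ((P : Subgroup G).mul_mem ((P : Subgroup G).mul_mem hx hzP) ((P : Subgroup G).inv_mem hx)))
  haveI hZcy : IsCyclic Z := inferInstance
  have hZp : IsPGroup p Z := P.2.to_le (zpowers_le.mpr hzP)
  have hzc : ∀ x ∈ (P : Subgroup G), x * z = z * x := by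
    intro x hx
    haveI : IsCyclic Z := hZcy
    obtain ⟨i, hi⟩ : x * z * x⁻¹ ∈ Submonoid.powers z := by
      rw [mem_powers_iff_mem_zpowers]
      exact (mem_normalizer_iff.mp (hPN hx) z).mp (mem_zpowers z)
    have hit : ∀ m : ℕ, x ^ m * z * (x ^ m)⁻¹ = z ^ (i ^ m) := by
      intro m
      induction m with
      | zero => simp
      | succ m ih' =>
        calc x ^ (m + 1) * z * (x ^ (m + 1))⁻¹ = x * (x ^ m * z * (x ^ m)⁻¹) * x⁻¹ := by
              rw [pow_succ']; group
          _ = (x * z * x⁻¹) ^ (i ^ m) := by rw [ih', conj_pow]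
          _ = z ^ (i ^ (m + 1)) := by rw [← hi, ← pow_mul, pow_succ']
    have h5 : z ^ i = z := pow_eq_self_of_pow_pow (orderOf_pos x).ne'
      (by rw [hoz, Nat.totient_prime hp.out]; exact coprime_pred hp.out (orderOf_coe_prime_le hmin x))
      (by rw [← hit, pow_orderOf_eq_one]; simp)
    have hi' : z ^ i = x * z * x⁻¹ := hi
    exact mul_inv_eq_iff_eq_mul.mp (hi'.symm.trans h5)
  -- `N(Z)` controls fusion in `P`
  have hctrl : ∀ x ∈ (P : Subgroup G), ∀ g : G, g * x * g⁻¹ ∈ (P : Subgroup G) →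
      ∃ h ∈ normalizer (Z : Set G), h * x * h⁻¹ = g * x * g⁻¹ := by
    intro x hx g hg
    set y := g * x * g⁻¹ with hy
    set C := centralizer ({y} : Set G) with hC
    have hzC : z ∈ C := mem_centralizer_singleton_iff.mpr (hzc y hg).symm
    have hgzC : g * z * g⁻¹ ∈ C := by
      rw [hC, mem_centralizer_singleton_iff, hy]
      calc g * z * g⁻¹ * (g * x * g⁻¹) = g * (z * x) * g⁻¹ := by group
        _ = g * (x * z) * g⁻¹ := by rw [hzc x hx]
        _ = g * x * g⁻¹ * (g * z * g⁻¹) := by group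
    have hpz : ∀ v : C, orderOf (v : G) = p → IsPGroup p (zpowers v) := fun v hv => by
      refine IsPGroup.of_card (n := 1) ?_
      rw [Nat.card_zpowers, ← Subgroup.orderOf_coe, hv, pow_one]
    obtain ⟨S, hS⟩ := (hpz ⟨z, hzC⟩ hoz).exists_le_sylow
    obtain ⟨T, hT⟩ := (hpz ⟨g * z * g⁻¹, hgzC⟩ (by
      show orderOf (g * z * g⁻¹) = p
      rw [← MulAut.conj_apply, MulEquiv.orderOf_eq, hoz])).exists_le_sylow
    obtain ⟨c, hcT⟩ := MulAction.exists_smul_eq C T S
    have hcz : c * ⟨g * z * g⁻¹, hgzC⟩ * c⁻¹ ∈ (S : Subgroup C) := by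
      rw [← hcT]
      show _ ∈ ((c • T : Sylow p C) : Subgroup C)
      rw [Sylow.coe_subgroup_smul]
      exact Subgroup.smul_mem_pointwise_smul _ (MulAut.conj c) _ (hT (mem_zpowers _))
    obtain ⟨P', hP'⟩ := ((S.2 : IsPGroup p (S : Subgroup C)).map C.subtype).exists_le_sylow
    obtain ⟨h, hh⟩ := MulAction.exists_smul_eq G P' P
    have hmove : ∀ v ∈ (S : Subgroup C), h * (v : G) * h⁻¹ ∈ (P : Subgroup G) := by
      intro v hv
      rw [← hh]
      show _ ∈ ((h • P' : Sylow p G) : Subgroup G)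
      rw [Sylow.coe_subgroup_smul]
      exact Subgroup.smul_mem_pointwise_smul _ (MulAut.conj h) _ (hP' ⟨v, hv, rfl⟩)
    have hhN : h ∈ normalizer (Z : Set G) := hnormZ h (hwc h (hmove _ (hS (mem_zpowers _))))
    have hcg : h * (c : G) * g ∈ normalizer (Z : Set G) := by
      refine hnormZ _ (hwc _ ?_)
      have := hmove _ hcz
      convert this using 1
      simp only [Subgroup.coe_mul, Subgroup.coe_inv]
      group
    refine ⟨(c : G) * g, ?_, ?_⟩
    · have := mul_mem (inv_mem hhN) hcg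
      convert this using 1
      group
    · have hcy : (c : G) * y = y * c := mem_centralizer_singleton_iff.mp c.2
      calc (c : G) * g * x * ((c : G) * g)⁻¹ = c * y * (c : G)⁻¹ := by rw [hy]; group
        _ = y := by rw [hcy, mul_inv_cancel_right]
  by_cases htop : normalizer (Z : Set G) = ⊤
  swap
  · set N := normalizer (Z : Set G) with hN
    have hNc : Cfsg.HasNormalPComplement p N := by
      let T : Sylow p N := P.subtype hPN
      have hTc : (T : Subgroup N) = (P : Subgroup G).subgroupOf N := rfl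
      have hcardT : Nat.card (T : Subgroup N) = Nat.card (P : Subgroup G) := by
        rw [hTc]; exact Nat.card_congr (subgroupOfEquivOfLe hPN).toEquiv
      have hconv : ∀ (E : Subgroup N), E ≤ (T : Subgroup N) →
          SC (P : Subgroup G) (E.map N.subtype) → SC (T : Subgroup N) E := by
        intro E hET hE
        refine ⟨hET, fun g e he hge => ?_⟩
        obtain ⟨v, hv, hv'⟩ := hE.2 (g : G) (e : G) ⟨e, he, rfl⟩
          (by rw [hTc] at hge; simpa [mem_subgroupOf] using hge)
        have : v = g * e * g⁻¹ := Subtype.ext (by simpa using hv')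
        exact this ▸ hv
      have hmap : ∀ E : Subgroup N, E ≤ (T : Subgroup N) → E.map N.subtype ≤ (P : Subgroup G) := by
        rintro E hE _ ⟨e, he, rfl⟩
        exact mem_subgroupOf.mp (hE he)
      exact ih (Nat.card N) (Cfsg.Lib.Core.lt_card_of_ne_top htop) rfl
        (fun q hq hqd => hmin q hq (hqd.trans (card_subgroup_dvd_card N))) T d hd0 (hcardT ▸ hd)
        (fun E hE hEc => hconv E hE (hsc _ (hmap E hE) (by rw [card_map_of_injective N.subtype_injective, hEc])))
        (fun h1 => absurd h1 (by omega))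
    refine Cfsg.Lib.Fusion.hasNormalPComplement_of_controls P fun x hx g hg => ?_
    obtain ⟨h, hh, he⟩ := hctrl x hx g hg
    obtain ⟨u, hu, m, hm, hum⟩ := Cfsg.Lib.Fusion.exists_mul_of_sylow (P.subtype hPN) (⟨h, hh⟩ : N)
    have huP : (u : G) ∈ (P : Subgroup G) := mem_subgroupOf.mp hu
    have hh' : h = (u : G) * m := congrArg Subtype.val hum
    have hmx : (m : G) * x * (m : G)⁻¹ ∈ (P : Subgroup G) := by
      have : (m : G) * x * (m : G)⁻¹ = (u : G)⁻¹ * (g * x * g⁻¹) * u := by
        rw [← he, hh']; group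
      rw [this]
      exact (P : Subgroup G).mul_mem ((P : Subgroup G).mul_mem ((P : Subgroup G).inv_mem huP) hg) huP
    have h1 : m * ⟨x, hPN hx⟩ * m⁻¹ * ⟨x, hPN hx⟩⁻¹ ∈
        Cfsg.pResidual p N ⊓ ((P.subtype hPN : Sylow p N) : Subgroup N) := by
      refine ⟨?_, mem_subgroupOf.mpr ?_⟩
      · have : m * ⟨x, hPN hx⟩ * m⁻¹ * ⟨x, hPN hx⟩⁻¹ = m * (⟨x, hPN hx⟩ * m⁻¹ * ⟨x, hPN hx⟩⁻¹) := by
          group
        rw [this]
        exact mul_mem hm ((Cfsg.Lib.Fusion.pResidual_normal p N).conj_mem _ (inv_mem hm) _)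
      · exact (P : Subgroup G).mul_mem hmx ((P : Subgroup G).inv_mem hx)
    rw [(Cfsg.Lib.Fusion.hasNormalPComplement_iff_inf (P.subtype hPN)).mp hNc, mem_bot] at h1
    refine ⟨u, huP, ?_⟩
    have h2 : (m : G) * x * (m : G)⁻¹ = x := mul_inv_eq_one.mp (congrArg Subtype.val h1)
    calc (u : G) * x * (u : G)⁻¹ = u * ((m : G) * x * (m : G)⁻¹) * (u : G)⁻¹ := by rw [h2]
      _ = h * x * h⁻¹ := by rw [hh']; group
      _ = g * x * g⁻¹ := he
  · haveI hZn : Z.Normal := normalizer_eq_top_iff.mp htop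
    let π : G →* G ⧸ Z := QuotientGroup.mk' Z
    have hπ : Function.Surjective π := QuotientGroup.mk'_surjective Z
    let T : Sylow p (G ⧸ Z) := P.mapSurjective hπ
    have hker : Z ≤ (P : Subgroup G) := zpowers_le.mpr hzP
    have hTc : (T : Subgroup (G ⧸ Z)) = (P : Subgroup G).map π := rfl
    have hcT : (T : Subgroup (G ⧸ Z)).comap π = (P : Subgroup G) := by
      rw [hTc, comap_map_eq_self (by rw [QuotientGroup.ker_mk']; exact hker)]
    have hcards : ∀ E : Subgroup (G ⧸ Z), Nat.card (E.comap π) = Nat.card E * p := by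
      intro E
      have h1 := card_mul_index (E.comap π)
      rw [index_comap_of_surjective E hπ] at h1
      have h2 := card_eq_card_quotient_mul_card_subgroup Z
      rw [← card_mul_index E, Nat.card_zpowers, hoz] at h2
      rw [h2] at h1
      refine Nat.eq_of_mul_eq_mul_right (Nat.pos_of_ne_zero E.index_ne_zero_of_finite) ?_
      rw [h1]; ring
    have hcZ : Cfsg.HasNormalPComplement p (G ⧸ Z) := by
      refine ih (Nat.card (G ⧸ Z)) (Cfsg.Lib.Core.card_quotient_lt fun hb => ?_) rfl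
        (fun q hq hqd => hmin q hq (hqd.trans (card_quotient_dvd_card Z))) T (d - 1) (by omega) ?_ ?_
        (fun h1 => absurd h1 (by omega))
      · rw [← Nat.card_zpowers, ← hZ, hb, card_bot] at hoz
        exact hp.out.ne_one hoz.symm
      · have h1 := hcards T
        rw [hcT] at h1
        rw [h1, show d = d - 1 + 1 by omega, pow_succ] at hd
        exact Nat.lt_of_mul_lt_mul_right hd
      · intro E hE hEc
        refine ⟨hE, fun g e he hge => ?_⟩
        obtain ⟨g, rfl⟩ := hπ g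
        obtain ⟨e, rfl⟩ := hπ e
        have hle : E.comap π ≤ (P : Subgroup G) := hcT ▸ comap_mono hE
        have := (hsc (E.comap π) hle (by
          rw [hcards, hEc, ← pow_succ]; congr 1; omega)).2 g e he
          (by rw [← hcT, mem_comap, map_mul, map_mul, map_inv]; exact hge)
        rwa [mem_comap, map_mul, map_mul, map_inv] at this
    refine (Cfsg.Lib.Fusion.frobenius P).mpr fun Q hQ g hg hco => ?_
    have hgN : π g ∈ normalizer ((Q.map π : Subgroup (G ⧸ Z)) : Set (G ⧸ Z)) := by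
      refine mem_normalizer_of_conj_le ?_
      rintro _ ⟨q, hq, rfl⟩
      exact ⟨g * q * g⁻¹, (mem_normalizer_iff.mp hg q).mp hq, by simp⟩
    have hgc := (Cfsg.Lib.Fusion.frobenius T).mp hcZ (Q.map π) (map_mono hQ) (π g) hgN
      (hco.coprime_dvd_left (orderOf_map_dvd π g))
    intro q hq
    refine (commute_of_series hZp hco ?_ ?_ q hq).symm
    · intro b hb
      have h1 : π b * π g = π g * π b := hgc (π b) ⟨b, hb, rfl⟩
      rw [← QuotientGroup.ker_mk' Z, MonoidHom.mem_ker]
      show π (g * b * g⁻¹ * b⁻¹) = 1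
      rw [map_mul, map_mul, map_mul, map_inv, map_inv, ← h1, mul_inv_cancel_right, mul_inv_cancel]
    · exact commute_of_cyclic hZp (by rw [htop]; exact mem_top g) (orderOf_coe_prime_le hmin g) hco

end Cfsg.Lib.Local.FixedOrder
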