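import Cfsg.Agent.Lib.Core.Basic
import Cfsg.Agent.Lib.Fusion.Basic
import Mathlib.GroupTheory.Sylow

/-!
Sylow subgroups of normal subgroups and of overgroups, in ambient form.
-/

set_option autoImplicit false

namespace Cfsg.Lib.Local

open Subgroup

variable {G : Type*} [Group G] {p : ℕ}

theorem not_dvd_relIndex_of_normal [Finite G] [Fact p.Prime] (T : Sylow p G) (N : Subgroup G) [N.Normal] :
    ¬ p ∣ (T : Subgroup G).relIndex N := by
  have h1 := Core.card_mul_relIndex (H := (T : Subgroup G) ⊓ N) (K := N) inf_le_right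
  have h2 := Core.card_mul_relIndex (H := (T : Subgroup G) ⊓ N) (K := (T : Subgroup G)) inf_le_left
  have h3 := Core.card_mul_relIndex (H := N) (K := (T : Subgroup G) ⊔ N) le_sup_right
  rw [inf_relIndex_right] at h1
  rw [inf_relIndex_left] at h2
  rw [relIndex_sup_right] at h3
  have h4 : Nat.card (T : Subgroup G) * (T : Subgroup G).relIndex N =
      Nat.card ↥((T : Subgroup G) ⊔ N) := by
    rw [← h2, ← h3, ← h1]; ring
  intro hd
  apply T.not_dvd_index
  refine hd.trans ((Nat.mul_dvd_mul_iff_left (Nat.card_pos (α := (T : Subgroup G)))).mp ?_)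
  rw [h4, card_mul_index]
  exact card_subgroup_dvd_card _

theorem exists_sylow_inf [Finite G] [Fact p.Prime] (T : Sylow p G) (N : Subgroup G) [N.Normal] :
    ∃ S : Sylow p N, (S : Subgroup N) = (T : Subgroup G).subgroupOf N := by
  have hp : IsPGroup p ((T : Subgroup G).subgroupOf N) := T.2.comap_subtype
  exact ⟨hp.toSylow (not_dvd_relIndex_of_normal T N), rfl⟩

/-- If `C` is normal and every element of the normal subgroup `N` has a `p`-power in `C`, then
`N ≤ (T ∩ N) C`. -/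
theorem le_inf_sup_of_pow_mem [Finite G] [Fact p.Prime] (T : Sylow p G) {N C : Subgroup G} [N.Normal]
    [C.Normal] (h : ∀ x ∈ N, ∃ k : ℕ, x ^ p ^ k ∈ C) : N ≤ ((T : Subgroup G) ⊓ N) ⊔ C := by
  obtain ⟨S, hS⟩ := exists_sylow_inf T N
  have hpq : IsPGroup p (↥N ⧸ C.subgroupOf N) := by
    intro q
    obtain ⟨x, rfl⟩ := QuotientGroup.mk_surjective q
    obtain ⟨k, hk⟩ := h x x.2
    refine ⟨k, ?_⟩
    rw [← QuotientGroup.mk_pow, QuotientGroup.eq_one_iff, mem_subgroupOf]
    simpa using hk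
  have hi : ∃ k, (C.subgroupOf N).index = p ^ k := IsPGroup.iff_card.mp hpq
  have htop := Fusion.sylow_sup_eq_top S _ hi
  intro x hx
  have hmem : (⟨x, hx⟩ : N) ∈ (S : Subgroup N) ⊔ C.subgroupOf N := by rw [htop]; trivial
  obtain ⟨a, ha, b, hb, hab⟩ := mem_sup_of_normal_right.mp hmem
  rw [hS, mem_subgroupOf] at ha
  rw [mem_subgroupOf] at hb
  have : x = (a : G) * b := (congrArg Subtype.val hab).symm
  rw [this]
  exact mul_mem_sup ⟨ha, a.2⟩ hb

/-- An element of `p`-power order of a normal subgroup is conjugate in it to an element of `T ∩ N`. -/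
theorem exists_conj_mem_inf [Finite G] [Fact p.Prime] (T : Sylow p G) {N : Subgroup G} [N.Normal]
    {Q : Subgroup G} (hQ : IsPGroup p Q) (hQN : Q ≤ N) :
    ∃ n ∈ N, ∀ x ∈ Q, n * x * n⁻¹ ∈ (T : Subgroup G) ⊓ N := by
  obtain ⟨S, hS⟩ := exists_sylow_inf T N
  obtain ⟨P, hP⟩ := (hQ.comap_subtype (K := N)).exists_le_sylow
  obtain ⟨n, hn⟩ := MulAction.exists_smul_eq N P S
  refine ⟨n, n.2, fun x hx => ?_⟩
  have : n * ⟨x, hQN hx⟩ * n⁻¹ ∈ (S : Subgroup N) := by
    rw [← hn, Sylow.coe_subgroup_smul]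
    exact ⟨⟨x, hQN hx⟩, hP hx, rfl⟩
  rw [hS, mem_subgroupOf] at this
  exact ⟨this, (n * ⟨x, hQN hx⟩ * n⁻¹).2⟩

end Cfsg.Lib.Local
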