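import Mathlib

/-!
Integer vectors with the inner products of induced exceptional virtual characters: the exceptional
family, disjointness of two families and the parity relation.
-/

set_option autoImplicit false

namespace Cfsg.Lib.Local.CNExc

variable {I Ω Ω' : Type*} [Fintype I] [DecidableEq I]

/-- Standard inner product. -/
def dot (f g : I → ℤ) : ℤ := ∑ i, f i * g i

theorem norm_two {v d : I → ℤ} (hv : dot v v = 2) (hd : ∀ i, 0 < d i)
    (hvd : ∑ i, v i * d i = 0) : ∃ p q, p ≠ q ∧ v = Pi.single p 1 - Pi.single q 1 := by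
  classical
  have hone : ∀ i, v i ≠ 0 → v i = 1 ∨ v i = -1 := by
    intro i hi
    have h1 : v i * v i ≤ 2 := hv ▸
      Finset.single_le_sum (f := fun j => v j * v j) (fun j _ => mul_self_nonneg (v j))
        (Finset.mem_univ i)
    have : -1 ≤ v i ∧ v i ≤ 1 := ⟨by nlinarith, by nlinarith⟩
    omega
  set s := Finset.univ.filter fun i => v i ≠ 0 with hs
  have hcard : s.card = 2 := by
    have : (s.card : ℤ) = dot v v := by
      rw [dot, ← Finset.sum_filter_of_ne (p := fun i => v i ≠ 0)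
        (fun i _ h hi => h (by simp [hi])), Finset.card_eq_sum_ones]
      push_cast
      refine Finset.sum_congr rfl fun i hi => ?_
      rcases hone i (Finset.mem_filter.mp hi).2 with h | h <;> simp [h]
    rw [hv] at this
    exact_mod_cast this
  obtain ⟨p, q, hpq, hpqs⟩ := Finset.card_eq_two.mp hcard
  have hsum : v p * d p + v q * d q = 0 := by
    rw [← hvd, ← Finset.sum_filter_of_ne (p := fun i => v i ≠ 0)
      (fun i _ h hi => h (by simp [hi])), ← hs, hpqs, Finset.sum_pair hpq]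
  have hp : v p ≠ 0 := (Finset.mem_filter.mp (hpqs ▸ Finset.mem_insert_self p {q} : p ∈ s)).2
  have hq : v q ≠ 0 := (Finset.mem_filter.mp
    (hpqs ▸ Finset.mem_insert_of_mem (Finset.mem_singleton_self q) : q ∈ s)).2
  have hrest : ∀ i, i ≠ p → i ≠ q → v i = 0 := fun i h1 h2 => by
    by_contra h
    have : i ∈ s := by simp [hs, h]
    rw [hpqs] at this
    simp [h1, h2] at this
  have key : ∀ a b, a ≠ b → v a = 1 → v b = -1 → (∀ i, i ≠ a → i ≠ b → v i = 0) →
      v = Pi.single a 1 - Pi.single b 1 := by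
    intro a b hab ha hb hr
    funext i
    simp only [Pi.sub_apply, Pi.single_apply]
    by_cases h1 : i = a
    · subst h1; simp [ha, hab]
    · by_cases h2 : i = b
      · subst h2; simp [hb, h1]
      · simp [hr i h1 h2, h1, h2]
  have := hd p
  have := hd q
  rcases hone p hp with h1 | h1 <;> rcases hone q hq with h2 | h2
  · rw [h1, h2] at hsum; omega
  · exact ⟨p, q, hpq, key p q hpq h1 h2 hrest⟩
  · exact ⟨q, p, hpq.symm, key q p hpq.symm h2 h1 fun i a b => hrest i b a⟩
  · rw [h1, h2] at hsum; omega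

theorem dot_single_sub (a b a' b' : I) :
    dot (Pi.single a 1 - Pi.single b 1) (Pi.single a' 1 - Pi.single b' 1) =
      (if a = a' then 1 else 0) - (if a = b' then 1 else 0) - (if b = a' then 1 else 0)
        + (if b = b' then 1 else 0) := by
  have h : ∀ f : I → ℤ, dot (Pi.single a 1 - Pi.single b 1) f = f a - f b := fun f => by
    simp [dot, Pi.sub_apply, Pi.single_apply, sub_mul, Finset.sum_sub_distrib]
  rw [h]
  simp only [Pi.sub_apply, Pi.single_apply]
  ring

/-- An exceptional family for the vectors `c`. -/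
structure Exc (c : Ω → I → ℤ) where
  X : Ω → I
  X_inj : Function.Injective X
  eps : ℤ
  eps_sq : eps * eps = 1
  base : I → ℤ
  u : ℤ
  hu : ∀ ω, base (X ω) = u
  hc : ∀ ω i, c ω i = base i - eps * (if i = X ω then 1 else 0)

theorem exists_exc [Fintype Ω] [DecidableEq Ω] {c : Ω → I → ℤ} {e : ℤ}
    (hm : 2 ≤ Fintype.card Ω)
    (hin : ∀ ω η, dot (c ω) (c η) = e + if ω = η then 1 else 0)
    {d : I → ℤ} (hd : ∀ i, 0 < d i) (hdc : ∀ ω, ∑ i, c ω i * d i = 0) : Nonempty (Exc c) := by
  classical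
  obtain ⟨ω₀, ω₁, h01⟩ := Fintype.exists_pair_of_one_lt_card (α := Ω) (by omega)
  have hsub : ∀ ω η ξ ζ, dot (c ω - c η) (c ξ - c ζ) =
      dot (c ω) (c ξ) - dot (c ω) (c ζ) - dot (c η) (c ξ) + dot (c η) (c ζ) := fun ω η ξ ζ => by
    simp only [dot, Pi.sub_apply, ← Finset.sum_sub_distrib, ← Finset.sum_add_distrib]
    exact Finset.sum_congr rfl fun i _ => by ring
  have hD : ∀ ω, ω ≠ ω₀ → ∃ p q, p ≠ q ∧ c ω - c ω₀ = Pi.single p 1 - Pi.single q 1 := by
    intro ω hω
    refine norm_two ?_ hd ?_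
    · rw [hsub, hin, hin, hin, hin]; simp [hω, Ne.symm hω]; ring
    · simp only [Pi.sub_apply, sub_mul, Finset.sum_sub_distrib, hdc, sub_zero]
  haveI : Nonempty I := ⟨(hD ω₁ h01.symm).choose⟩
  choose! P Q hPQ hDe using hD
  have hpair : ∀ ω η, ω ≠ ω₀ → η ≠ ω₀ → ω ≠ η →
      (P ω = P η ∧ Q ω ≠ Q η) ∨ (Q ω = Q η ∧ P ω ≠ P η) := by
    intro ω η hω hη hne
    have h := hsub ω ω₀ η ω₀
    rw [hin, hin, hin, hin, hDe ω hω, hDe η hη, dot_single_sub] at h
    simp [hne, hω, Ne.symm hη] at h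
    have := hPQ ω hω
    have := hPQ η hη
    split_ifs at h <;> simp_all
  have hinj : Function.Injective c := by
    intro ω η h
    by_contra hne
    have h1 := hin ω ω
    rw [if_pos rfl] at h1
    have h2 := hin ω η
    rw [if_neg hne, ← h] at h2
    omega
  obtain ⟨eps, X, base, heps, hc⟩ : ∃ (eps : ℤ) (X : Ω → I) (base : I → ℤ), eps * eps = 1 ∧
      ∀ ω i, c ω i = base i - eps * (if i = X ω then 1 else 0) := by
    by_cases hP : ∀ ω η, ω ≠ ω₀ → η ≠ ω₀ → P ω = P η
    · refine ⟨1, fun ω => if ω = ω₀ then P ω₁ else Q ω,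
        fun i => c ω₀ i + (if i = P ω₁ then 1 else 0), by norm_num, fun ω i => ?_⟩
      by_cases hω : ω = ω₀
      · subst hω; simp
      · have h := congrFun (hDe ω hω) i
        simp only [Pi.sub_apply, Pi.single_apply, hP ω ω₁ hω h01.symm] at h
        simp only [hω, if_false]
        linarith
    · push Not at hP
      obtain ⟨α, β, hα, hβ, hab⟩ := hP
      have hQ : ∀ ω, ω ≠ ω₀ → Q ω = Q α := by
        intro ω hω
        have hQab : Q α = Q β := by
          rcases hpair α β hα hβ (fun e => hab (e ▸ rfl)) with h | h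
          · exact absurd h.1 hab
          · exact h.1
        by_cases h1 : ω = α
        · rw [h1]
        by_cases h2 : ω = β
        · rw [h2, hQab]
        rcases hpair ω α hω hα h1 with h | h
        · rcases hpair ω β hω hβ h2 with h' | h'
          · exact absurd (h.1.symm.trans h'.1) hab
          · exact h'.1.trans hQab.symm
        · exact h.1
      refine ⟨-1, fun ω => if ω = ω₀ then Q α else P ω,
        fun i => c ω₀ i - (if i = Q α then 1 else 0), by norm_num, fun ω i => ?_⟩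
      by_cases hω : ω = ω₀
      · subst hω; simp; split_ifs <;> ring
      · have h := congrFun (hDe ω hω) i
        simp only [Pi.sub_apply, Pi.single_apply, hQ ω hω] at h
        simp only [hω, if_false]
        linarith
  have hXinj : Function.Injective X := fun ω η h => hinj (funext fun i => by rw [hc, hc, h])
  have hnorm : ∀ ω, dot (c ω) (c ω) = dot base base - 2 * eps * base (X ω) + 1 := by
    intro ω
    have : ∀ i, c ω i * c ω i =
        base i * base i + (if i = X ω then 1 - 2 * eps * base i else 0) := fun i => by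
      rw [hc]
      split_ifs
      · linear_combination heps
      · ring
    rw [dot, Finset.sum_congr rfl fun i _ => this i, Finset.sum_add_distrib,
      Finset.sum_ite_eq' Finset.univ (X ω), if_pos (Finset.mem_univ _), dot]
    ring
  refine ⟨⟨X, hXinj, eps, heps, base, base (X ω₀), fun ω => ?_, hc⟩⟩
  have h1 := hnorm ω
  have h2 := hnorm ω₀
  rw [hin, if_pos rfl] at h1 h2
  have h3 : eps * base (X ω) = eps * base (X ω₀) := by linarith
  calc base (X ω) = eps * eps * base (X ω) := by rw [heps, one_mul]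
    _ = eps * (eps * base (X ω₀)) := by rw [mul_assoc, h3]
    _ = base (X ω₀) := by rw [← mul_assoc, heps, one_mul]

namespace Exc

variable {c : Ω → I → ℤ} {c' : Ω' → I → ℤ} (E : Exc c) (E' : Exc c')

omit [Fintype I] in
theorem base_apply (ω : Ω) {i : I} (h : i ≠ E.X ω) : c ω i = E.base i := by
  rw [E.hc, if_neg h, mul_zero, sub_zero]

omit [Fintype I] in
theorem ne_of_const {i₀ : I} {n : ℤ} (hm : ∃ ω η : Ω, ω ≠ η) (h : ∀ ω, c ω i₀ = n) (ω : Ω) :
    E.X ω ≠ i₀ := by
  intro e
  subst e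
  obtain ⟨η, hη⟩ : ∃ η, η ≠ ω := by
    obtain ⟨a, b, hab⟩ := hm
    by_cases h : a = ω
    · exact ⟨b, fun e => hab (h.trans e.symm)⟩
    · exact ⟨a, h⟩
  have h1 := E.hc ω (E.X ω)
  have h2 := E.hc η (E.X ω)
  rw [if_pos rfl, h] at h1
  rw [if_neg (fun e => hη (E.X_inj e).symm), h] at h2
  have := E.eps_sq
  have h3 : E.eps = 0 := by linarith
  rw [h3] at this
  norm_num at this

omit [Fintype I] in
/-- The involution carries the exceptional family to itself. -/
theorem bar_X {bI : I → I} (hbI : Function.Involutive bI) {bΩ : Ω → Ω}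
    (hbΩ : Function.Involutive bΩ) (hfix : ∀ ω, bΩ ω ≠ ω)
    (hbar : ∀ ω i, c (bΩ ω) i = c ω (bI i)) (ω : Ω) : bI (E.X ω) = E.X (bΩ ω) := by
  have hne : E.X ω ≠ E.X (bΩ ω) := fun e => hfix ω (E.X_inj e).symm
  have key : ∀ i, c (bΩ ω) i - c ω i =
      E.eps * ((if i = E.X ω then 1 else 0) - (if i = E.X (bΩ ω) then 1 else 0)) := fun i => by
    rw [E.hc, E.hc]; ring
  have h1 := key (bI (E.X ω))
  have h2 := key (E.X ω)
  rw [hbar, hbI] at h1
  rw [hbar, if_pos rfl, if_neg hne] at h2
  have h3 : c ω (bI (E.X ω)) - c ω (E.X ω) = E.eps := by rw [h2]; ring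
  by_contra h
  rw [if_neg h] at h1
  have := E.eps_sq
  split_ifs at h1
  · have : 2 * E.eps = 0 := by linarith
    nlinarith
  · have : E.eps = 0 := by linarith
    nlinarith

omit [Fintype I] in
theorem base_bar {bI : I → I} (hbI : Function.Involutive bI) {bΩ : Ω → Ω}
    (hbΩ : Function.Involutive bΩ) (hfix : ∀ ω, bΩ ω ≠ ω)
    (hbar : ∀ ω i, c (bΩ ω) i = c ω (bI i)) [Nonempty Ω] {i : I} (hi : ∀ ω, i ≠ E.X ω) :
    (∀ ω, bI i ≠ E.X ω) ∧ E.base (bI i) = E.base i := by
  have h1 : ∀ ω, bI i ≠ E.X ω := by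
    intro ω h
    apply hi (bΩ ω)
    rw [← E.bar_X hbI hbΩ hfix hbar, ← h, hbI]
  obtain ⟨ω⟩ := ‹Nonempty Ω›
  refine ⟨h1, ?_⟩
  rw [← E.base_apply (bΩ ω) (hi _), hbar, E.base_apply ω (h1 ω)]

theorem dot_base_single (f : I → ℤ) (ω : Ω) : dot (c ω) f = dot E.base f - E.eps * f (E.X ω) := by
  have : ∀ i, c ω i * f i = E.base i * f i - (if i = E.X ω then E.eps * f i else 0) := fun i => by
    rw [E.hc]; split_ifs <;> ring
  rw [dot, Finset.sum_congr rfl fun i _ => this i, Finset.sum_sub_distrib,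
    Finset.sum_ite_eq' Finset.univ (E.X ω), if_pos (Finset.mem_univ _), dot]

/-- Orthogonal families are disjoint and each base is constant on the other family. -/
theorem cross (hm : ∃ ω η : Ω, ω ≠ η) (hm' : ∃ ω η : Ω', ω ≠ η)
    (horth : ∀ ω η, dot (c ω) (c' η) = 0) :
    (∀ ω η, E.X ω ≠ E'.X η) ∧ ∀ ω ω', E'.base (E.X ω) = E'.base (E.X ω') := by
  have hval : ∀ ω ω' η, c' η (E.X ω) = c' η (E.X ω') := by
    intro ω ω' η
    have h1 := E.dot_base_single (c' η) ω
    have h2 := E.dot_base_single (c' η) ω'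
    rw [horth] at h1 h2
    have h3 : E.eps * c' η (E.X ω) = E.eps * c' η (E.X ω') := by linarith
    calc c' η (E.X ω) = E.eps * E.eps * c' η (E.X ω) := by rw [E.eps_sq, one_mul]
      _ = E.eps * (E.eps * c' η (E.X ω')) := by rw [mul_assoc, h3]
      _ = c' η (E.X ω') := by rw [← mul_assoc, E.eps_sq, one_mul]
  have hdis : ∀ ω η, E.X ω ≠ E'.X η := by
    intro ω η he
    obtain ⟨η', hη'⟩ : ∃ η', η' ≠ η := by
      obtain ⟨a, b, hab⟩ := hm'
      by_cases h : a = η
      · exact ⟨b, fun e => hab (h.trans e.symm)⟩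
      · exact ⟨a, h⟩
    obtain ⟨ω', hω'⟩ : ∃ ω', ω' ≠ ω := by
      obtain ⟨a, b, hab⟩ := hm
      by_cases h : a = ω
      · exact ⟨b, fun e => hab (h.trans e.symm)⟩
      · exact ⟨a, h⟩
    have h1 := hval ω ω' η
    have h2 := hval ω ω' η'
    simp only [E'.hc, he, if_true, if_neg (fun e => hη' (E'.X_inj e).symm : ¬ E'.X η = E'.X η'),
      if_neg (fun e => hω' (E.X_inj (e.trans he.symm)) : ¬ E.X ω' = E'.X η)] at h1 h2
    have := E'.eps_sq
    split_ifs at h2 <;> nlinarith
  refine ⟨hdis, fun ω ω' => ?_⟩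
  obtain ⟨η, -⟩ := hm'
  rw [← E'.base_apply η (hdis ω η), ← E'.base_apply η (hdis ω' η)]
  exact hval ω ω' η

end Exc

end Cfsg.Lib.Local.CNExc
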