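import Mathlib
import Cfsg.Agent.Lib.Char.Linear
import Cfsg.Agent.Lib.Char.Induced
import Cfsg.Agent.Lib.Char.PermLemma
import Cfsg.Agent.Lib.Core.Basic
import Cfsg.Agent.Lib.Local.CNExceptional

/-!
Characters of `G` induced from the linear characters of a TI subgroup `H` on which the elements of
`N(H)` outside `H` act fixed point freely modulo `[H, H]`.
-/

set_option autoImplicit false
set_option linter.unusedSectionVars false

namespace Cfsg.Lib.Local.CNNode

open Cfsg Cfsg.Lib.Char Subgroup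
open scoped ComplexConjugate

universe u

variable {G : Type u} [Group G] [Fintype G] (H : Subgroup G)

/-- Hypotheses on a node. -/
structure NodeData : Prop where
  odd : Odd (Nat.card G)
  ti : ∀ x, x ∉ normalizer (H : Set G) → ∀ t ∈ H, t ≠ 1 → x * t * x⁻¹ ∉ H
  free : ∀ x ∈ normalizer (H : Set G), x ∉ H → ∀ h : H,
    ∀ k : H, (k : G) = x * h * x⁻¹ * (h : G)⁻¹ → k ∈ commutator H → h ∈ commutator H
  proper : commutator H ≠ ⊤

/-- Conjugate of a linear character. -/
def cj (x : normalizer (H : Set G)) (μ : H →* ℂˣ) : H →* ℂˣ :=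
  μ.comp (H.normalizerMonoidHom x).toMonoidHom

theorem cj_apply (x : normalizer (H : Set G)) (μ : H →* ℂˣ) (h : H) :
    cj H x μ h = μ ⟨(x : G) * h * (x : G)⁻¹, (mem_normalizer_iff.mp x.2 h).mp h.2⟩ := rfl

theorem cj_one (μ : H →* ℂˣ) : cj H 1 μ = μ := by
  refine MonoidHom.ext fun h => ?_
  show μ (H.normalizerMonoidHom 1 h) = μ h
  rw [map_one]; rfl

theorem cj_mul (x y : normalizer (H : Set G)) (μ : H →* ℂˣ) :
    cj H (x * y) μ = cj H y (cj H x μ) := by
  refine MonoidHom.ext fun h => ?_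
  show μ (H.normalizerMonoidHom (x * y) h) = μ (H.normalizerMonoidHom x (H.normalizerMonoidHom y h))
  rw [map_mul]; rfl

theorem cj_inv (x : normalizer (H : Set G)) (μ : H →* ℂˣ) : cj H x μ⁻¹ = (cj H x μ)⁻¹ :=
  MonoidHom.ext fun _ => rfl

theorem cj_one_right (x : normalizer (H : Set G)) : cj H x 1 = 1 := MonoidHom.ext fun _ => rfl

theorem cj_of_mem (x : normalizer (H : Set G)) (hx : (x : G) ∈ H) (μ : H →* ℂˣ) : cj H x μ = μ := by
  refine MonoidHom.ext fun h => ?_
  show μ (H.normalizerMonoidHom x h) = μ h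
  rw [show H.normalizerMonoidHom x h = ⟨(x : G), hx⟩ * h * ⟨(x : G), hx⟩⁻¹ from Subtype.ext rfl,
    map_mul, map_mul, map_inv, mul_comm (μ ⟨(x : G), hx⟩), mul_inv_cancel_right]

variable {H}

theorem finite_hom : Finite (H →* ℂˣ) :=
  Nat.finite_of_card_ne_zero (by rw [card_linear_eq_index]; exact index_ne_zero_of_finite)

theorem mem_of_cj_eq (hD : NodeData H) {x : normalizer (H : Set G)} {μ : H →* ℂˣ} (hμ : μ ≠ 1)
    (h : cj H x μ = μ) : (x : G) ∈ H := by
  by_contra hx
  apply hμ
  -- `h ↦ [x, h]` is injective on the abelianization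
  let ψ : H →* Abelianization H :=
    { toFun := fun k => Abelianization.of (H.normalizerMonoidHom x k) * (Abelianization.of k)⁻¹
      map_one' := by simp
      map_mul' := fun a b => by
        simp only [map_mul, mul_inv]; exact mul_mul_mul_comm _ _ _ _ }
  let ψb := Abelianization.lift ψ
  have hinj : Function.Injective ψb := by
    rw [injective_iff_map_eq_one]
    intro q hq
    obtain ⟨k, rfl⟩ := QuotientGroup.mk'_surjective (commutator H) q
    change Abelianization.of (H.normalizerMonoidHom x k) * (Abelianization.of k)⁻¹ = 1 at hq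
    rw [← map_inv, ← map_mul] at hq
    refine (QuotientGroup.eq_one_iff k).mpr (hD.free x x.2 hx k _ ?_ ((QuotientGroup.eq_one_iff _).mp hq))
    rfl
  haveI : Finite (Abelianization H) := Quotient.finite _
  have hsurj := Finite.surjective_of_injective hinj
  have hkill : ∀ q, Abelianization.lift μ (ψb q) = 1 := by
    intro q
    obtain ⟨k, rfl⟩ := QuotientGroup.mk'_surjective (commutator H) q
    show Abelianization.lift μ (Abelianization.of (H.normalizerMonoidHom x k) *
      (Abelianization.of k)⁻¹) = 1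
    rw [map_mul, map_inv, Abelianization.lift_apply_of, Abelianization.lift_apply_of,
      mul_inv_eq_one]
    exact DFunLike.congr_fun h k
  refine MonoidHom.ext fun k => ?_
  obtain ⟨q, hq⟩ := hsurj (Abelianization.of k)
  have := hkill q
  rwa [hq, Abelianization.lift_apply_of] at this

/-- Nontrivial linear characters. -/
abbrev NT (H : Subgroup G) := {μ : H →* ℂˣ // μ ≠ 1}

theorem cj_ne_one (x : normalizer (H : Set G)) {μ : H →* ℂˣ} (hμ : μ ≠ 1) : cj H x μ ≠ 1 := by
  intro e
  apply hμ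
  rw [← cj_one H μ, ← mul_inv_cancel x, cj_mul, e, cj_one_right]

/-- The orbit relation. -/
instance orbSetoid (H : Subgroup G) : Setoid (NT H) where
  r μ ν := ∃ x, cj H x μ.1 = ν.1
  iseqv := ⟨fun μ => ⟨1, cj_one H _⟩,
    fun {μ ν} ⟨x, hx⟩ => ⟨x⁻¹, by rw [← hx, ← cj_mul, mul_inv_cancel, cj_one]⟩,
    fun {μ ν τ} ⟨x, hx⟩ ⟨y, hy⟩ => ⟨x * y, by rw [cj_mul, hx, hy]⟩⟩

/-- Orbits of nontrivial linear characters. -/
abbrev Orb (H : Subgroup G) := Quotient (orbSetoid H)

noncomputable instance : Fintype (NT H) := by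
  haveI := finite_hom (H := H)
  exact Fintype.ofFinite _

noncomputable instance : Fintype (Orb H) := Fintype.ofFinite _

/-- The relative index `e`. -/
noncomputable def eNum (H : Subgroup G) : ℕ := H.relIndex (normalizer (H : Set G))

/-- The order `a` of the abelianization. -/
noncomputable def aNum (H : Subgroup G) : ℕ := (commutator H).index

theorem card_normalizer : Nat.card H * eNum H = Nat.card (normalizer (H : Set G)) :=
  Cfsg.Lib.Core.card_mul_relIndex le_normalizer

open Classical in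
/-- The orbit of a nontrivial linear character, as a finset. -/
noncomputable def members (ω : Orb H) : Finset (NT H) :=
  Finset.univ.filter fun ν => ⟦ν⟧ = ω

theorem mem_members {ω : Orb H} {ν : NT H} : ν ∈ members ω ↔ ⟦ν⟧ = ω := by
  simp [members]

theorem card_members (hD : NodeData H) (ω : Orb H) : (members ω).card = eNum H := by
  classical
  obtain ⟨μ, rfl⟩ := Quotient.exists_rep ω
  have hx : ∀ ν : {ν // ν ∈ members (⟦μ⟧ : Orb H)}, ∃ x, cj H x μ.1 = ν.1.1 := fun ν => by
    have := Quotient.exact (mem_members.mp ν.2)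
    exact Setoid.symm this
  choose x hx using hx
  have e : ({ν // ν ∈ members (⟦μ⟧ : Orb H)} × H) ≃ normalizer (H : Set G) := by
    refine Equiv.ofBijective (fun q => ⟨(q.2 : G), le_normalizer q.2.2⟩ * x q.1) ⟨?_, ?_⟩
    · rintro ⟨ν, k⟩ ⟨ν', k'⟩ h
      have h1 : ν = ν' := by
        have := congrArg (fun y => cj H y μ.1) h
        simp only [cj_mul] at this
        rw [cj_of_mem H ⟨(k : G), le_normalizer k.2⟩ k.2, cj_of_mem H ⟨(k' : G), le_normalizer k'.2⟩ k'.2,
          hx, hx] at this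
        exact Subtype.ext (Subtype.ext this)
      subst h1
      have := congrArg Subtype.val (mul_right_cancel h)
      exact Prod.ext rfl (Subtype.ext this)
    · intro y
      let ν : {ν // ν ∈ members (⟦μ⟧ : Orb H)} :=
        ⟨⟨cj H y μ.1, cj_ne_one y μ.2⟩, mem_members.mpr (Quotient.sound (Setoid.symm
          (⟨y, rfl⟩ : μ ≈ ⟨cj H y μ.1, cj_ne_one y μ.2⟩)))⟩
      have hm : ((y * (x ν)⁻¹ : normalizer (H : Set G)) : G) ∈ H := by
        refine mem_of_cj_eq hD μ.2 ?_
        have h2 : cj H (x ν) μ.1 = cj H y μ.1 := hx ν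
        rw [cj_mul, ← h2, ← cj_mul, mul_inv_cancel, cj_one]
      refine ⟨(ν, ⟨_, hm⟩), ?_⟩
      exact Subtype.ext (by simp)
  have h := Nat.card_congr e
  rw [Nat.card_prod, Nat.card_eq_finsetCard, ← card_normalizer, mul_comm] at h
  exact Nat.eq_of_mul_eq_mul_left Nat.card_pos h

theorem card_orb (hD : NodeData H) : Fintype.card (Orb H) * eNum H + 1 = aNum H := by
  classical
  haveI := finite_hom (H := H)
  haveI : Fintype (H →* ℂˣ) := Fintype.ofFinite _
  have h1 : Fintype.card (NT H) = Fintype.card (Orb H) * eNum H := by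
    rw [← Finset.card_univ, Finset.card_eq_sum_card_fiberwise
      (t := (Finset.univ : Finset (Orb H))) (f := fun ν => ⟦ν⟧) (fun _ _ => Finset.mem_univ _)]
    rw [Finset.sum_congr rfl fun ω _ => show _ = eNum H by
      rw [← card_members hD ω]; congr 1]
    simp
  rw [← h1, aNum, ← card_linear_eq_index, Nat.card_eq_fintype_card, Fintype.card_subtype_compl,
    Fintype.card_subtype_eq]
  have : 0 < Fintype.card (H →* ℂˣ) := Fintype.card_pos
  omega

theorem aNum_odd (hD : NodeData H) : Odd (aNum H) :=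
  hD.odd.of_dvd_nat ((index_dvd_card _).trans (card_subgroup_dvd_card H))

theorem eNum_odd (hD : NodeData H) : Odd (eNum H) :=
  hD.odd.of_dvd_nat ((Dvd.intro_left _ card_normalizer).trans (card_subgroup_dvd_card _))

theorem card_orb_even (hD : NodeData H) : Even (Fintype.card (Orb H)) := by
  have h1 := aNum_odd hD
  rw [← card_orb hD, Nat.odd_add_one, Nat.not_odd_iff_even, Nat.even_mul] at h1
  exact h1.resolve_right (Nat.not_even_iff_odd.mpr (eNum_odd hD))

theorem two_le_card_orb (hD : NodeData H) : 2 ≤ Fintype.card (Orb H) := by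
  have h1 : aNum H ≠ 1 := fun e => hD.proper (index_eq_one.mp e)
  have h2 := card_orb hD
  have h3 : Fintype.card (Orb H) ≠ 0 := fun e => h1 (by rw [← h2, e, zero_mul])
  obtain ⟨k, hk⟩ := card_orb_even hD
  omega

/-- `1 - μ`. -/
def fl (μ : H →* ℂˣ) : H → ℂ := fun h => 1 - (μ h : ℂ)

/-- The induced virtual character. -/
noncomputable def al (μ : H →* ℂˣ) : G → ℂ := indFun H (fl μ)

theorem al_isGeneralized (μ : H →* ℂˣ) : IsGeneralizedCharacter G (al μ) := by
  refine isGeneralizedCharacter_indFun H ?_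
  exact isCharacter_one.isGeneralized.sub (isIrrCharacter_linear μ).isGeneralized

theorem al_apply_one (μ : H →* ℂˣ) : al μ 1 = 0 := by
  rw [al, indFun_apply_one]; simp [fl]

theorem linear_inner [Fintype H] (μ ν : H →* ℂˣ) [Decidable (μ = ν)] :
    classInner (fun h => (μ h : ℂ)) (fun h => (ν h : ℂ)) = if μ = ν then 1 else 0 := by
  split_ifs with h
  · subst h; exact classInner_irr_self (isIrrCharacter_linear μ)
  · exact classInner_irr_ne (isIrrCharacter_linear μ) (isIrrCharacter_linear ν)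
      fun e => h (linearChar_injective e)

theorem fl_inner [Fintype H] (μ ν : H →* ℂˣ) (hμ : μ ≠ 1) (hν : ν ≠ 1) [Decidable (μ = ν)] :
    classInner (fl μ) (fl ν) = 1 + if μ = ν then 1 else 0 := by
  classical
  have e : ∀ ρ : H →* ℂˣ, fl ρ = (fun h => ((1 : H →* ℂˣ) h : ℂ)) - fun h => (ρ h : ℂ) := fun ρ => by
    funext h; simp [fl]
  rw [e, e, classInner_sub_left, classInner_sub_right, classInner_sub_right, linear_inner,
    linear_inner, linear_inner, linear_inner, if_pos rfl, if_neg (Ne.symm hν), if_neg hμ]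
  ring

theorem al_res (hD : NodeData H) [Fintype (normalizer (H : Set G))] (μ : H →* ℂˣ) (h : H) :
    al μ (h : G) = (Nat.card H : ℂ)⁻¹ * ∑ x : normalizer (H : Set G), fl (cj H x μ) h := by
  rw [al, indFun]
  congr 1
  have hN : ∀ x : G, extendByZero H (fl μ) (x⁻¹ * h * x) =
      extendByZero (normalizer (H : Set G)) (fun _ => (1 : ℂ)) x *
        extendByZero H (fl μ) (x⁻¹ * h * x) := by
    intro x
    by_cases hx : x ∈ normalizer (H : Set G)
    · rw [extendByZero_of_mem _ _ hx, one_mul]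
    · rw [extendByZero_of_notMem _ _ hx, zero_mul]
      by_cases h1 : (h : G) = 1
      · rw [h1, mul_one, inv_mul_cancel, extendByZero_of_mem _ _ (one_mem H)]
        show 1 - ((μ 1 : ℂˣ) : ℂ) = 0
        rw [map_one, Units.val_one, sub_self]
      · refine extendByZero_of_notMem _ _ ?_
        have := hD.ti x⁻¹ (fun h' => hx (inv_mem_iff.mp h')) h h.2 h1
        rwa [inv_inv] at this
  rw [Finset.sum_congr rfl fun x _ => hN x, sum_extendByZero]
  refine Fintype.sum_equiv (Equiv.inv _) _ _ fun x => ?_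
  have hm : ((x : G))⁻¹ * h * (x : G) ∈ H := by
    have := (mem_normalizer_iff.mp (inv_mem x.2) (h : G)).mp h.2
    rwa [inv_inv] at this
  rw [one_mul, extendByZero_of_mem _ _ hm]
  simp only [fl, cj_apply, Equiv.inv_apply, InvMemClass.coe_inv, inv_inv]

theorem al_inner (hD : NodeData H) (μ ν : NT H) [Decidable (μ ≈ ν)] :
    classInner (al μ.1) (al ν.1) = (eNum H : ℂ) + if μ ≈ ν then 1 else 0 := by
  classical
  haveI := Fintype.ofFinite H
  haveI := Fintype.ofFinite (normalizer (H : Set G))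
  rw [show al μ.1 = indFun H (fl μ.1) from rfl,
    classInner_indFun H _ (al_isGeneralized ν.1).isClassFunction]
  have e : (fun h : H => al ν.1 h) =
      (Nat.card H : ℂ)⁻¹ • ∑ x : normalizer (H : Set G), fl (cj H x ν.1) := by
    funext h
    rw [al_res hD]; simp
  show classInner (fl μ.1) (fun h : H => al ν.1 h) = _
  rw [e, classInner_smul_right, classInner_sum_right,
    Finset.sum_congr rfl fun x _ => fl_inner μ.1 (cj H x ν.1) μ.2 (cj_ne_one x ν.2),
    Finset.sum_add_distrib, Finset.sum_const, Finset.card_univ, nsmul_one,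
    ← Nat.card_eq_fintype_card, ← card_normalizer (H := H)]
  have h0 : (Nat.card H : ℂ) ≠ 0 := Nat.cast_ne_zero.mpr Nat.card_pos.ne'
  simp only [map_inv₀, map_natCast]
  rw [mul_add]
  congr 1
  · push_cast; field_simp
  rw [Finset.sum_boole]
  by_cases hr : μ ≈ ν
  · obtain ⟨x₀, hx₀⟩ := Setoid.symm hr
    rw [if_pos hr]
    have hc : (Finset.univ.filter fun x => μ.1 = cj H x ν.1).card = Nat.card H := by
      rw [Nat.card_eq_fintype_card, ← Finset.card_univ (α := H)]
      refine (Finset.card_bij (fun (k : H) _ => (⟨(k : G), le_normalizer k.2⟩ :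
          normalizer (H : Set G)) * x₀) ?_ ?_ ?_).symm
      · intro k _
        simp only [Finset.mem_filter, Finset.mem_univ, true_and]
        rw [cj_mul, cj_of_mem H ⟨(k : G), le_normalizer k.2⟩ k.2, hx₀]
      · intro k _ k' _ hk
        exact Subtype.ext (congrArg Subtype.val (mul_right_cancel hk) :)
      · intro y hy
        simp only [Finset.mem_filter, Finset.mem_univ, true_and] at hy
        have hm : ((y * x₀⁻¹ : normalizer (H : Set G)) : G) ∈ H := by
          refine mem_of_cj_eq hD ν.2 ?_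
          rw [cj_mul, ← hy, ← hx₀, ← cj_mul, mul_inv_cancel, cj_one]
        exact ⟨⟨_, hm⟩, Finset.mem_univ _, Subtype.ext (by simp)⟩
    rw [hc]; field_simp
  · rw [if_neg hr, Finset.filter_false_of_mem]
    · simp
    · intro x _ hx
      exact hr (Setoid.symm ⟨x, hx.symm⟩)

theorem al_eq_of_rel (hD : NodeData H) {μ ν : NT H} (h : μ ≈ ν) : al μ.1 = al ν.1 := by
  classical
  refine sub_eq_zero.mp (eq_zero_of_classInner_self ?_)
  rw [classInner_sub_left, classInner_sub_right, classInner_sub_right, al_inner hD, al_inner hD,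
    al_inner hD, al_inner hD, if_pos (Setoid.refl μ), if_pos h, if_pos (Setoid.symm h),
    if_pos (Setoid.refl ν)]
  ring

theorem al_conj (μ : H →* ℂˣ) (g : G) : al μ⁻¹ g = conj (al μ g) := by
  have h1 : ∀ k : H, fl μ⁻¹ k = conj (fl μ k) := by
    intro k
    have := (isIrrCharacter_linear μ).isCharacter.apply_inv k
    simp only [fl, map_sub, map_one, MonoidHom.inv_apply, ← map_inv, this]
  simp only [al, indFun, map_mul, map_sum, map_inv₀, map_natCast]
  congr 1
  refine Finset.sum_congr rfl fun x _ => ?_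
  by_cases hm : x⁻¹ * g * x ∈ H
  · rw [extendByZero_of_mem _ _ hm, extendByZero_of_mem _ _ hm, h1]
  · rw [extendByZero_of_notMem _ _ hm, extendByZero_of_notMem _ _ hm, map_zero]

/-- The coefficient vectors. -/
noncomputable def cvec (ω : Orb H) (χ : IrrCharacter G) : ℤ :=
  ((al_isGeneralized (ω.out.1)).exists_int_classInner χ.2.isGeneralized).choose

theorem cvec_spec (hD : NodeData H) (μ : NT H) (χ : IrrCharacter G) :
    classInner (al μ.1) (χ : G → ℂ) = (cvec (⟦μ⟧ : Orb H) χ : ℂ) := by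
  rw [al_eq_of_rel hD (Setoid.symm (Quotient.exact (Quotient.out_eq (⟦μ⟧ : Orb H))))]
  exact ((al_isGeneralized (⟦μ⟧ : Orb H).out.1).exists_int_classInner χ.2.isGeneralized).choose_spec

theorem classInner_al_al (hD : NodeData H) {K : Subgroup G} (hK : NodeData K) (μ : NT H)
    (ν : NT K) : classInner (al μ.1) (al ν.1) =
      ((CNExc.dot (cvec (⟦μ⟧ : Orb H)) (cvec (⟦ν⟧ : Orb K)) : ℤ) : ℂ) := by
  rw [classInner_eq_sum (al_isGeneralized μ.1).isClassFunction, CNExc.dot]
  push_cast
  refine Finset.sum_congr rfl fun χ _ => ?_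
  rw [cvec_spec hD, cvec_spec hK, map_intCast]

theorem cvec_dot (hD : NodeData H) [DecidableEq (Orb H)] (ω η : Orb H) :
    CNExc.dot (cvec ω) (cvec η) = (eNum H : ℤ) + if ω = η then 1 else 0 := by
  classical
  obtain ⟨μ, rfl⟩ := Quotient.exists_rep ω
  obtain ⟨ν, rfl⟩ := Quotient.exists_rep η
  have h := classInner_al_al hD hD μ ν
  rw [al_inner hD] at h
  by_cases hr : μ ≈ ν
  · rw [if_pos (Quotient.sound hr)]
    rw [if_pos hr] at h
    exact_mod_cast h.symm
  · rw [if_neg (fun e => hr (Quotient.exact e))]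
    rw [if_neg hr] at h
    exact_mod_cast h.symm

/-- The trivial character. -/
noncomputable def oneIrr : IrrCharacter G := ⟨fun _ => 1, isIrrCharacter_one⟩

theorem cvec_one (hD : NodeData H) (ω : Orb H) : cvec ω (oneIrr : IrrCharacter G) = 1 := by
  classical
  haveI := Fintype.ofFinite H
  obtain ⟨μ, rfl⟩ := Quotient.exists_rep ω
  have h := cvec_spec hD μ oneIrr
  rw [al, classInner_indFun H _ (oneIrr : IrrCharacter G).2.isClassFunction] at h
  have e : fl μ.1 = (fun k => ((1 : H →* ℂˣ) k : ℂ)) - fun k => (μ.1 k : ℂ) := by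
    funext k; simp [fl]
  have e1 : (fun k : H => (oneIrr : IrrCharacter G).1 (k : G)) = fun k => ((1 : H →* ℂˣ) k : ℂ) := by
    funext k; simp [oneIrr]
  rw [e, e1, classInner_sub_left, linear_inner, linear_inner, if_pos rfl, if_neg μ.2] at h
  exact_mod_cast (by simpa using h.symm : (cvec (⟦μ⟧ : Orb H) oneIrr : ℂ) = 1)

/-- The degree. -/
noncomputable def deg (χ : IrrCharacter G) : ℤ := (χ.2.exists_degree.choose : ℤ)

theorem inv_hom_ne {μ : H →* ℂˣ} (h : μ ≠ 1) : μ⁻¹ ≠ 1 := fun e =>
  h (MonoidHom.ext fun k => inv_eq_one.mp (DFunLike.congr_fun e k))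

/-- Inverse on orbits. -/
def orbInv (H : Subgroup G) : Orb H → Orb H :=
  Quotient.map (fun μ : NT H => ⟨μ.1⁻¹, inv_hom_ne μ.2⟩)
    fun μ ν ⟨x, hx⟩ => ⟨x, by rw [cj_inv, hx]⟩

theorem orbInv_involutive : Function.Involutive (orbInv H) := by
  intro ω
  obtain ⟨μ, rfl⟩ := Quotient.exists_rep ω
  exact congrArg (Quotient.mk _) (Subtype.ext (MonoidHom.ext fun k => inv_inv (μ.1 k)))

theorem orbInv_ne (hD : NodeData H) (ω : Orb H) : orbInv H ω ≠ ω := by
  obtain ⟨μ, rfl⟩ := Quotient.exists_rep ω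
  intro h
  obtain ⟨x, hx⟩ := Quotient.exact h
  replace hx : cj H x μ.1⁻¹ = μ.1 := hx
  have hx2 : cj H (x * x) μ.1 = μ.1 := by
    rw [cj_mul, show cj H x μ.1 = μ.1⁻¹ by
      rw [cj_inv] at hx; rw [← inv_inv (cj H x μ.1), hx], hx]
  have hm := mem_of_cj_eq hD μ.2 hx2
  obtain ⟨k, hk⟩ := hD.odd
  have hxH : (x : G) ∈ H := by
    have : (x : G) = ((x * x : normalizer (H : Set G)) : G) ^ (k + 1) := by
      rw [Subgroup.coe_mul, ← sq, ← pow_mul, show 2 * (k + 1) = Nat.card G + 1 by omega, pow_succ,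
        pow_card_eq_one', one_mul]
    rw [this]; exact pow_mem hm _
  rw [cj_of_mem H x hxH] at hx
  apply μ.2
  refine MonoidHom.ext fun h' => ?_
  have h2 : μ.1 h' * μ.1 h' = 1 := by
    conv_lhs => arg 1; rw [← hx]
    simp
  have hh : h' = (h' ^ 2) ^ ((Nat.card H + 1) / 2) := by
    obtain ⟨l, hl⟩ := hD.odd.of_dvd_nat (card_subgroup_dvd_card H)
    rw [← pow_mul, hl, show 2 * ((2 * l + 1 + 1) / 2) = (2 * l + 1) + 1 by omega, ← hl, pow_succ,
      pow_card_eq_one', one_mul]
  rw [hh, map_pow, map_pow, sq, h2, one_pow]; rfl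

/-- Complex conjugation on irreducible characters. -/
noncomputable def irrConj (χ : IrrCharacter G) : IrrCharacter G :=
  ⟨fun g => conj ((χ : G → ℂ) g), isIrrCharacter_conjFn χ.2⟩

theorem irrConj_involutive : Function.Involutive (irrConj (G := G)) := fun χ =>
  Subtype.ext (funext fun g => Complex.conj_conj _)

theorem irrConj_ne (hodd : Odd (Nat.card G)) {χ : IrrCharacter G} (h1 : χ ≠ oneIrr) :
    irrConj χ ≠ χ := fun h => h1 (Subtype.ext (real_irr_eq_one hodd χ fun g =>
      Complex.conj_eq_iff_im.mp (congrFun (congrArg Subtype.val h) g)))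

theorem cvec_bar (hD : NodeData H) (ω : Orb H) (χ : IrrCharacter G) :
    cvec (orbInv H ω) χ = cvec ω (irrConj χ) := by
  obtain ⟨μ, rfl⟩ := Quotient.exists_rep ω
  have h1 := cvec_spec hD ⟨μ.1⁻¹, inv_hom_ne μ.2⟩ χ
  have e1 : al μ.1⁻¹ = fun g => conj (al μ.1 g) := funext (al_conj μ.1)
  have e2 : (χ : G → ℂ) = fun g => conj ((irrConj χ : IrrCharacter G).1 g) :=
    funext fun g => (Complex.conj_conj _).symm
  rw [e1, e2, classInner_conjFn, ← classInner_conj_symm, cvec_spec hD μ, map_intCast] at h1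
  exact_mod_cast h1.symm

theorem sum_cvec_deg (hD : NodeData H) (ω : Orb H) : ∑ χ, cvec ω χ * deg (G := G) χ = 0 := by
  obtain ⟨μ, rfl⟩ := Quotient.exists_rep ω
  have h := congrFun (eq_sum_classInner (al_isGeneralized μ.1).isClassFunction) 1
  rw [al_apply_one, Finset.sum_apply] at h
  have h2 : ((∑ χ, cvec (⟦μ⟧ : Orb H) χ * deg χ : ℤ) : ℂ) = 0 := by
    rw [h]
    push_cast
    refine Finset.sum_congr rfl fun χ _ => ?_
    rw [Pi.smul_apply, smul_eq_mul, cvec_spec hD]
    congr 1
    simp only [deg, Int.cast_natCast]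
    exact (χ.2.exists_degree.choose_spec).2.symm
  exact_mod_cast h2

end Cfsg.Lib.Local.CNNode
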