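import Mathlib
import Cfsg.Agent.Lib.Local.CNNode

/-!
The squared absolute value of an irreducible character summed over the conjugates of a TI subgroup:
bounds from the coefficients of the induced virtual characters.
-/

set_option autoImplicit false
set_option linter.unusedSectionVars false
set_option linter.style.haveILetI false

namespace Cfsg.Lib.Local.CNNode

open Cfsg Cfsg.Lib.Char Subgroup
open scoped ComplexConjugate

universe u

variable {G : Type u} [Group G] [Fintype G] {H : Subgroup G}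

/-- `z` has a conjugate in `H`. -/
def InConj (H : Subgroup G) (z : G) : Prop := ∃ x : G, x⁻¹ * z * x ∈ H

open Classical in
/-- The nonidentity elements of `H`. -/
noncomputable def sharp (H : Subgroup G) : Finset G :=
  Finset.univ.filter fun y => y ∈ H ∧ y ≠ 1

open Classical in
/-- The nonidentity elements with a conjugate in `H`. -/
noncomputable def covered (H : Subgroup G) : Finset G :=
  Finset.univ.filter fun z => z ≠ 1 ∧ InConj H z

/-- The average of `f` over the conjugates of `H`, scaled. -/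
noncomputable def weight (H : Subgroup G) (f : G → ℝ) : ℝ :=
  (Nat.card (normalizer (H : Set G)) : ℝ)⁻¹ * ∑ y ∈ sharp H, f y

theorem card_sharp : (sharp H).card + 1 = Nat.card H := by
  classical
  have h1 : sharp H = (Finset.univ.filter fun y => y ∈ H).erase 1 := by
    ext y; simp [sharp, and_comm]
  rw [h1, Finset.card_erase_add_one (by simp), Nat.card_eq_fintype_card, Fintype.card_subtype]

theorem weight_eq (hD : NodeData H) (f : G → ℝ) (hf : ∀ g x, f (x * g * x⁻¹) = f g) :
    weight H f = (Nat.card G : ℝ)⁻¹ * ∑ z ∈ covered H, f z := by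
  classical
  have hcard : ∀ z, (Finset.univ.filter fun x : G => z ≠ 1 ∧ x⁻¹ * z * x ∈ H).card =
      if z ∈ covered H then Nat.card (normalizer (H : Set G)) else 0 := by
    intro z
    split_ifs with hz
    · obtain ⟨hz1, x₀, hx₀⟩ := (Finset.mem_filter.mp hz).2
      rw [Nat.card_eq_fintype_card, ← Finset.card_univ]
      refine (Finset.card_bij (fun (n : normalizer (H : Set G)) _ => x₀ * (n : G)) ?_ ?_ ?_).symm
      · intro n _
        simp only [Finset.mem_filter, Finset.mem_univ, true_and]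
        refine ⟨hz1, ?_⟩
        have := (mem_normalizer_iff.mp (inv_mem n.2) _).mp hx₀
        simpa [mul_assoc] using this
      · intro n _ n' _ h
        exact Subtype.ext (mul_left_cancel h)
      · intro x hx
        simp only [Finset.mem_filter, Finset.mem_univ, true_and] at hx
        refine ⟨⟨x₀⁻¹ * x, ?_⟩, Finset.mem_univ _, mul_inv_cancel_left _ _⟩
        by_contra hn
        refine hD.ti _ (fun h => hn (by simpa using inv_mem h) : (x₀⁻¹ * x)⁻¹ ∉ _) _ hx₀ ?_ ?_
        · intro e
          exact hz1 ((conj_eq_one_iff (a := x₀⁻¹) (b := z)).mp (by rwa [inv_inv]))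
        · simpa [mul_assoc] using hx.2
    · refine Finset.card_eq_zero.mpr (Finset.filter_false_of_mem ?_)
      rintro x - ⟨h1, h2⟩
      exact hz (Finset.mem_filter.mpr ⟨Finset.mem_univ _, h1, x, h2⟩)
  have hx : ∀ x : G, ∑ y ∈ sharp H, f y =
      ∑ z ∈ Finset.univ.filter (fun z : G => z ≠ 1 ∧ x⁻¹ * z * x ∈ H), f z := by
    intro x
    refine Finset.sum_bij (fun y _ => x * y * x⁻¹) ?_ ?_ ?_ ?_
    · intro y hy
      simp only [sharp, Finset.mem_filter, Finset.mem_univ, true_and] at hy ⊢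
      exact ⟨fun e => hy.2 (conj_eq_one_iff.mp e), by simpa [mul_assoc] using hy.1⟩
    · intro a _ b _ h
      exact mul_left_cancel (mul_right_cancel h)
    · intro z hz
      simp only [Finset.mem_filter, Finset.mem_univ, true_and] at hz
      refine ⟨x⁻¹ * z * x, ?_, by group⟩
      simp only [sharp, Finset.mem_filter, Finset.mem_univ, true_and]
      exact ⟨hz.2, fun e => hz.1 (by
        have := congrArg (fun w => x * w * x⁻¹) e
        simpa [mul_assoc] using this)⟩
    · intro y _; rw [hf]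
  have key : (Nat.card G : ℝ) * ∑ y ∈ sharp H, f y =
      (Nat.card (normalizer (H : Set G)) : ℝ) * ∑ z ∈ covered H, f z := by
    calc (Nat.card G : ℝ) * ∑ y ∈ sharp H, f y = ∑ _x : G, ∑ y ∈ sharp H, f y := by
          rw [Finset.sum_const, Finset.card_univ, nsmul_eq_mul, Nat.card_eq_fintype_card]
      _ = ∑ z : G, ∑ x ∈ Finset.univ.filter (fun x : G => z ≠ 1 ∧ x⁻¹ * z * x ∈ H), f z := by
          rw [Finset.sum_congr rfl fun x _ => hx x]
          simp only [Finset.sum_filter]
          exact Finset.sum_comm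
      _ = ∑ z : G, (if z ∈ covered H then (Nat.card (normalizer (H : Set G)) : ℝ) * f z else 0) := by
          refine Finset.sum_congr rfl fun z _ => ?_
          rw [Finset.sum_const, hcard, nsmul_eq_mul]
          split_ifs <;> simp
      _ = _ := by rw [Finset.sum_ite_mem, Finset.univ_inter, Finset.mul_sum]
  have h0 : (Nat.card G : ℝ) ≠ 0 := Nat.cast_ne_zero.mpr Nat.card_pos.ne'
  have h1 : (Nat.card (normalizer (H : Set G)) : ℝ) ≠ 0 := Nat.cast_ne_zero.mpr Nat.card_pos.ne'
  unfold weight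
  field_simp
  linarith

/-- The sum of the weights over nodes covering every nonidentity element exactly once. -/
theorem sum_weight {κ : Type*} [Fintype κ] (K : κ → Subgroup G) (hD : ∀ k, NodeData (K k))
    (hcov : ∀ z : G, z ≠ 1 → ∃! k, InConj (K k) z) (f : G → ℝ)
    (hf : ∀ g x, f (x * g * x⁻¹) = f g) :
    ∑ k, weight (K k) f = (Nat.card G : ℝ)⁻¹ * (∑ z, f z - f 1) := by
  classical
  rw [Finset.sum_congr rfl fun k _ => weight_eq (hD k) f hf, ← Finset.mul_sum]
  congr 1
  rw [← Finset.sum_erase_eq_sub (Finset.mem_univ (1 : G))]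
  have hd : (↑(Finset.univ : Finset κ) : Set κ).PairwiseDisjoint fun k => covered (K k) := by
    intro k _ l _ hkl
    rw [Function.onFun, Finset.disjoint_left]
    intro z h1 h2
    obtain ⟨hz, hk⟩ := (Finset.mem_filter.mp h1).2
    exact hkl ((hcov z hz).unique hk (Finset.mem_filter.mp h2).2.2)
  rw [← Finset.sum_biUnion hd]
  refine Finset.sum_congr ?_ fun _ _ => rfl
  ext z
  simp only [Finset.mem_biUnion, Finset.mem_univ, true_and, covered, Finset.mem_filter,
    Finset.mem_erase, and_true]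
  exact ⟨fun ⟨_, h, _⟩ => h, fun h => ⟨_, h, (hcov z h).exists.choose_spec⟩⟩

/-- The squared absolute value of a character. -/
noncomputable def absSq (χ : IrrCharacter G) : G → ℝ := fun g => Complex.normSq ((χ : G → ℂ) g)

theorem absSq_conj (χ : IrrCharacter G) (g x : G) : absSq χ (x * g * x⁻¹) = absSq χ g := by
  rw [absSq, χ.2.isClassFunction g x]; rfl

theorem sum_absSq (χ : IrrCharacter G) : ∑ g, absSq χ g = Nat.card G := by
  have h := classInner_irr_self χ.2
  rw [classInner, inv_mul_eq_iff_eq_mul₀ card_cast_ne_zero, mul_one] at h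
  simp only [Complex.mul_conj] at h
  exact_mod_cast h

theorem absSq_one_pos (χ : IrrCharacter G) : 0 < absSq χ 1 := by
  refine Complex.normSq_pos.mpr ?_
  rw [(χ.2.exists_degree.choose_spec).2]
  exact_mod_cast (χ.2.exists_degree.choose_spec).1.ne'

theorem sum_weight_absSq_lt {κ : Type*} [Fintype κ] (K : κ → Subgroup G)
    (hD : ∀ k, NodeData (K k)) (hcov : ∀ z : G, z ≠ 1 → ∃! k, InConj (K k) z)
    (χ : IrrCharacter G) : ∑ k, weight (K k) (absSq χ) < 1 := by
  rw [sum_weight K hD hcov _ (absSq_conj χ), sum_absSq]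
  have hg : (0 : ℝ) < Nat.card G := Nat.cast_pos.mpr Nat.card_pos
  rw [inv_mul_lt_iff₀ hg]
  linarith [absSq_one_pos χ]

theorem sum_weight_const {κ : Type*} [Fintype κ] (K : κ → Subgroup G)
    (hD : ∀ k, NodeData (K k)) (hcov : ∀ z : G, z ≠ 1 → ∃! k, InConj (K k) z) :
    ∑ k, (1 - 1 / (Nat.card (K k) : ℝ)) / (eNum (K k) : ℝ) = 1 - 1 / (Nat.card G : ℝ) := by
  have h := sum_weight K hD hcov (fun _ => 1) (fun _ _ => rfl)
  have hg : (Nat.card G : ℝ) ≠ 0 := Nat.cast_ne_zero.mpr Nat.card_pos.ne'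
  rw [Finset.sum_const, Finset.card_univ, nsmul_eq_mul, mul_one, ← Nat.card_eq_fintype_card,
    mul_sub, inv_mul_cancel₀ hg, mul_one, ← one_div] at h
  rw [← h]
  refine Finset.sum_congr rfl fun k _ => ?_
  have h1 : ((sharp (K k)).card : ℝ) = (Nat.card (K k) : ℝ) - 1 := by
    rw [← card_sharp]; push_cast; ring
  have h2 : (Nat.card (K k) : ℝ) ≠ 0 := Nat.cast_ne_zero.mpr Nat.card_pos.ne'
  rw [weight, Finset.sum_const, nsmul_eq_mul, mul_one, h1, ← card_normalizer (H := K k),
    Nat.cast_mul]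
  field_simp

section Linear

variable [Fintype H]

open Classical in
/-- The elements of `H` outside the commutator subgroup. -/
noncomputable def outSet (H : Subgroup G) [Fintype H] : Finset H :=
  Finset.univ.filter fun y => y ∉ commutator H

theorem sum_linear (y : H) [Fintype (H →* ℂˣ)] [Decidable (y ∈ commutator H)] :
    ∑ μ : H →* ℂˣ, (μ y : ℂ) = if y ∈ commutator H then (aNum H : ℂ) else 0 := by
  split_ifs with hy
  · rw [Finset.sum_congr rfl fun μ _ => show (μ y : ℂ) = 1 by
      rw [show μ y = 1 from Abelianization.commutator_subset_ker μ hy, Units.val_one]]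
    rw [Finset.sum_const, Finset.card_univ, nsmul_one, ← Nat.card_eq_fintype_card,
      card_linear_eq_index]
    rfl
  · haveI : Finite (Abelianization H) := Quotient.finite _
    haveI : NeZero (Monoid.exponent (Abelianization H) : ℂ) :=
      ⟨Nat.cast_ne_zero.mpr Monoid.exponent_ne_zero_of_finite⟩
    haveI : HasEnoughRootsOfUnity ℂ (Monoid.exponent (Abelianization H)) :=
      IsSepClosed.hasEnoughRootsOfUnity ℂ _
    obtain ⟨φ, hφ⟩ := CommGroup.exists_apply_ne_one_of_hasEnoughRootsOfUnity (Abelianization H) ℂ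
      (fun e => hy ((QuotientGroup.eq_one_iff y).mp e) : Abelianization.of y ≠ 1)
    set φ' : H →* ℂˣ := φ.comp Abelianization.of
    have h1 : (φ' y : ℂ) * ∑ l : H →* ℂˣ, (l y : ℂ) = ∑ l : H →* ℂˣ, (l y : ℂ) := by
      rw [Finset.mul_sum]
      exact Fintype.sum_equiv (Equiv.mulLeft φ') _ _ fun l => by simp
    by_contra hne
    exact hφ (Units.ext ((mul_eq_right₀ hne).mp h1))

theorem card_commutator : Nat.card (commutator H) * aNum H = Nat.card H :=
  card_mul_index _

theorem card_comm_filter [DecidablePred (· ∈ commutator H)] :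
    (Finset.univ.filter fun y : H => y ∈ commutator H).card = Nat.card (commutator H) := by
  rw [Nat.card_eq_fintype_card, Fintype.card_subtype]

theorem linear_eq_one_on_comm (μ : H →* ℂˣ) {y : H} (hy : y ∈ commutator H) : (μ y : ℂ) = 1 := by
  rw [show μ y = 1 from Abelianization.commutator_subset_ker μ hy, Units.val_one]

theorem out_inner (μ ν : H →* ℂˣ) [Decidable (μ = ν)] :
    ∑ y ∈ outSet H, (μ y : ℂ) * conj (ν y : ℂ) =
      (Nat.card H : ℂ) * (if μ = ν then 1 else 0) - (Nat.card (commutator H) : ℂ) := by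
  classical
  have h1 := linear_inner μ ν
  rw [classInner, inv_mul_eq_iff_eq_mul₀ card_cast_ne_zero] at h1
  rw [← h1, eq_sub_iff_add_eq, outSet, ← card_comm_filter,
    ← Finset.sum_filter_add_sum_filter_not Finset.univ (fun y : H => y ∈ commutator H), add_comm]
  congr 1
  rw [Finset.card_eq_sum_ones, Nat.cast_sum]
  refine Finset.sum_congr rfl fun y hy => ?_
  rw [linear_eq_one_on_comm μ (Finset.mem_filter.mp hy).2,
    linear_eq_one_on_comm ν (Finset.mem_filter.mp hy).2, map_one, mul_one, Nat.cast_one]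

theorem out_linear (μ : H →* ℂˣ) (hμ : μ ≠ 1) :
    ∑ y ∈ outSet H, (μ y : ℂ) = -(Nat.card (commutator H) : ℂ) := by
  classical
  have := out_inner μ (1 : H →* ℂˣ)
  rw [if_neg hμ, mul_zero, zero_sub] at this
  rw [← this]
  exact Finset.sum_congr rfl fun y _ => by simp

theorem card_outSet : ((outSet H).card : ℂ) =
    (Nat.card H : ℂ) - (Nat.card (commutator H) : ℂ) := by
  classical
  have := out_inner (1 : H →* ℂˣ) (1 : H →* ℂˣ)
  rw [if_pos rfl, mul_one] at this
  rw [← this, Finset.card_eq_sum_ones, Nat.cast_sum]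
  exact Finset.sum_congr rfl fun y _ => by simp

theorem sum_res_mul (hD : NodeData H) (μ : NT H) (χ : IrrCharacter G) :
    ∑ y : H, (χ : G → ℂ) y * conj (μ.1 y : ℂ) =
      ∑ y : H, (χ : G → ℂ) y - (Nat.card H : ℂ) * (cvec (⟦μ⟧ : Orb H) χ : ℂ) := by
  have h := cvec_spec hD μ χ
  rw [al, classInner_indFun H _ χ.2.isClassFunction] at h
  have h2 := congrArg conj h
  rw [classInner_conj_symm, map_intCast, classInner, inv_mul_eq_iff_eq_mul₀ card_cast_ne_zero] at h2
  rw [eq_sub_iff_add_eq, ← h2, ← Finset.sum_add_distrib]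
  refine Finset.sum_congr rfl fun y _ => ?_
  simp only [fl, map_sub, map_one]
  ring

theorem out_sum (hD : NodeData H) (χ : IrrCharacter G) :
    ∑ y ∈ outSet H, (χ : G → ℂ) y =
      (Nat.card (commutator H) : ℂ) * ((∑ ν : NT H, cvec (⟦ν⟧ : Orb H) χ : ℤ) : ℂ) := by
  classical
  haveI := finite_hom (H := H)
  haveI : Fintype (H →* ℂˣ) := Fintype.ofFinite _
  have h1 : ∑ μ : H →* ℂˣ, ∑ y : H, (χ : G → ℂ) y * conj (μ y : ℂ) =
      (aNum H : ℂ) * ∑ y ∈ Finset.univ.filter (fun y : H => y ∈ commutator H), (χ : G → ℂ) y := by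
    rw [Finset.sum_comm, Finset.sum_filter, Finset.mul_sum]
    refine Finset.sum_congr rfl fun y _ => ?_
    rw [← Finset.mul_sum, ← map_sum, sum_linear]
    split_ifs
    · rw [map_natCast, mul_comm]
    · rw [map_zero, mul_zero, mul_zero]
  rw [← Finset.add_sum_erase _ _ (Finset.mem_univ (1 : H →* ℂˣ))] at h1
  rw [Finset.sum_subtype (Finset.univ.erase (1 : H →* ℂˣ)) (p := fun μ => μ ≠ 1)
    (fun μ => by simp)] at h1
  rw [Finset.sum_congr rfl fun ν _ => sum_res_mul hD ν χ] at h1
  simp only [MonoidHom.one_apply, Units.val_one, map_one, mul_one, Finset.sum_sub_distrib,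
    Finset.sum_const, Finset.card_univ, nsmul_eq_mul, ← Finset.mul_sum] at h1
  have hcard : (Fintype.card (NT H) : ℂ) = (aNum H : ℂ) - 1 := by
    rw [aNum, ← card_linear_eq_index, Nat.card_eq_fintype_card, Fintype.card_subtype_compl,
      Fintype.card_subtype_eq, Nat.cast_sub Fintype.card_pos, Nat.cast_one]
  have hc : (Nat.card H : ℂ) = (Nat.card (commutator H) : ℂ) * (aNum H : ℂ) := by
    rw [← Nat.cast_mul, card_commutator]
  have ha : (aNum H : ℂ) ≠ 0 := Nat.cast_ne_zero.mpr index_ne_zero_of_finite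
  have hsplit : ∑ y ∈ Finset.univ.filter (fun y : H => y ∈ commutator H), (χ : G → ℂ) y +
      ∑ y ∈ outSet H, (χ : G → ℂ) y = ∑ y : H, (χ : G → ℂ) y :=
    Finset.sum_filter_add_sum_filter_not _ _ _
  refine mul_left_cancel₀ ha ?_
  push_cast
  rw [hcard, hc, ← hsplit] at h1
  linear_combination h1

theorem out_res_mul (hD : NodeData H) (μ : NT H) (χ : IrrCharacter G) :
    ∑ y ∈ outSet H, (χ : G → ℂ) y * conj (μ.1 y : ℂ) =
      ∑ y ∈ outSet H, (χ : G → ℂ) y - (Nat.card H : ℂ) * (cvec (⟦μ⟧ : Orb H) χ : ℂ) := by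
  classical
  have h := sum_res_mul hD μ χ
  rw [← Finset.sum_filter_add_sum_filter_not Finset.univ (fun y : H => y ∈ commutator H),
    ← Finset.sum_filter_add_sum_filter_not Finset.univ (fun y : H => y ∈ commutator H)
      (f := fun y : H => (χ : G → ℂ) y)] at h
  rw [Finset.sum_congr rfl fun (y : H) (hy : y ∈ Finset.univ.filter fun y : H => y ∈ commutator H) =>
    show (χ : G → ℂ) (y : G) * conj (μ.1 y : ℂ) = (χ : G → ℂ) (y : G) by
    rw [linear_eq_one_on_comm μ.1 (Finset.mem_filter.mp hy).2, map_one, mul_one]] at h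
  rw [outSet]
  linear_combination h

/-- The basic inequality. -/
theorem weight_ge (χ : IrrCharacter G) (T : H → ℂ) :
    (Nat.card (normalizer (H : Set G)) : ℝ)⁻¹ *
        (2 * (∑ y ∈ outSet H, (χ : G → ℂ) y * conj (T y)).re -
          (∑ y ∈ outSet H, T y * conj (T y)).re) ≤ weight H (absSq χ) := by
  classical
  unfold weight
  refine mul_le_mul_of_nonneg_left ?_ (inv_nonneg.mpr (Nat.cast_nonneg _))
  calc 2 * (∑ y ∈ outSet H, (χ : G → ℂ) y * conj (T y)).re -
        (∑ y ∈ outSet H, T y * conj (T y)).re ≤ ∑ y ∈ outSet H, absSq χ y := by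
        simp only [Complex.re_sum, Finset.mul_sum, ← Finset.sum_sub_distrib]
        refine Finset.sum_le_sum fun y _ => ?_
        have := Complex.normSq_nonneg ((χ : G → ℂ) y - T y)
        rw [Complex.normSq_sub] at this
        rw [Complex.mul_conj (T y), Complex.ofReal_re]
        simp only [absSq]
        linarith
    _ = ∑ z ∈ (outSet H).map ⟨Subtype.val, Subtype.val_injective⟩, absSq χ z := by
        rw [Finset.sum_map]; rfl
    _ ≤ _ := by
        refine Finset.sum_le_sum_of_subset_of_nonneg ?_ fun z _ _ => Complex.normSq_nonneg _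
        intro z hz
        simp only [Finset.mem_map, outSet, Finset.mem_filter, Finset.mem_univ, true_and,
          Function.Embedding.coeFn_mk] at hz
        obtain ⟨y, hy, rfl⟩ := hz
        simp only [sharp, Finset.mem_filter, Finset.mem_univ, true_and]
        exact ⟨y.2, fun e => hy (by rw [Subtype.ext e (a2 := (1 : H))]; exact one_mem _)⟩

end Linear

theorem card_nt (hD : NodeData H) :
    Fintype.card (NT H) = Fintype.card (Orb H) * eNum H := by
  classical
  rw [← Finset.card_univ, Finset.card_eq_sum_card_fiberwise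
    (t := (Finset.univ : Finset (Orb H))) (f := fun ν => ⟦ν⟧) (fun _ _ => Finset.mem_univ _)]
  rw [Finset.sum_congr rfl fun ω _ => show _ = eNum H by
    rw [← card_members hD ω]; congr 1]
  simp

theorem real_data (hD : NodeData H) :
    (0 : ℝ) < eNum H ∧ (0 : ℝ) < aNum H ∧ (0 : ℝ) < Nat.card (commutator H) ∧
    (Nat.card (normalizer (H : Set G)) : ℝ) =
      Nat.card (commutator H) * aNum H * eNum H := by
  haveI := Fintype.ofFinite H
  refine ⟨Nat.cast_pos.mpr (eNum_odd hD).pos, Nat.cast_pos.mpr (aNum_odd hD).pos,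
    Nat.cast_pos.mpr Nat.card_pos, ?_⟩
  rw [← Nat.cast_mul, ← Nat.cast_mul, card_commutator, card_normalizer]

/-- The bound when all coefficients are equal. -/
theorem weight_cross (hD : NodeData H) (χ : IrrCharacter G) (b : ℤ)
    (hb : ∀ ω : Orb H, cvec ω χ = b) :
    (b : ℝ) ^ 2 * (1 - 1 / (aNum H : ℝ)) / (eNum H : ℝ) ≤ weight H (absSq χ) := by
  classical
  haveI := Fintype.ofFinite H
  obtain ⟨he, ha, hc, hN⟩ := real_data hD
  set h' := Nat.card (commutator H)
  set a := aNum H
  have hC : (∑ ν : NT H, cvec (⟦ν⟧ : Orb H) χ) = b * ((a : ℤ) - 1) := by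
    rw [Finset.sum_congr rfl fun ν _ => hb _, Finset.sum_const, Finset.card_univ, card_nt hD,
      nsmul_eq_mul, show a = _ from (card_orb hD).symm]
    push_cast; ring
  have hh : (Nat.card H : ℂ) = (h' : ℂ) * (a : ℂ) := by
    rw [← Nat.cast_mul, card_commutator]
  have h1 : ∑ y ∈ outSet H, (χ : G → ℂ) y * conj (b : ℂ) =
      (((h' : ℝ) * (b : ℝ) ^ 2 * ((a : ℝ) - 1) : ℝ) : ℂ) := by
    rw [← Finset.sum_mul, out_sum hD, hC, map_intCast]
    push_cast; ring
  have h2 : ∑ _y ∈ outSet H, (b : ℂ) * conj (b : ℂ) =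
      (((h' : ℝ) * (b : ℝ) ^ 2 * ((a : ℝ) - 1) : ℝ) : ℂ) := by
    rw [Finset.sum_const, nsmul_eq_mul, card_outSet, hh, map_intCast]
    push_cast; ring
  have h := weight_ge χ (fun _ : H => (b : ℂ))
  rw [h1, h2, Complex.ofReal_re] at h
  rw [hN] at h
  refine le_trans (le_of_eq ?_) h
  field_simp
  ring

theorem conj_sum_members (ω : Orb H) (y : H) :
    conj (∑ ν ∈ members ω, (ν.1 y : ℂ)) = ∑ ν ∈ members ω, conj (ν.1 y : ℂ) := map_sum _ _ _

/-- The bound when the coefficients are those of an exceptional character. -/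
theorem weight_own (hD : NodeData H) (χ : IrrCharacter G) (u ε : ℤ) (hε : ε * ε = 1) (ω₀ : Orb H)
    [DecidableEq (Orb H)]
    (hc : ∀ ω : Orb H, cvec ω χ = u - ε * (if ω = ω₀ then 1 else 0)) :
    1 - (eNum H : ℝ) / (aNum H : ℝ) ≤ weight H (absSq χ) := by
  classical
  haveI := Fintype.ofFinite H
  obtain ⟨he, ha, hc', hN⟩ := real_data hD
  set h' := Nat.card (commutator H)
  set a := aNum H
  set e := eNum H
  have hm : (members ω₀).card = e := card_members hD ω₀
  have hC : (∑ ν : NT H, cvec (⟦ν⟧ : Orb H) χ) = u * ((a : ℤ) - 1) - ε * e := by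
    rw [Finset.sum_congr rfl fun ν _ => hc _, Finset.sum_sub_distrib, Finset.sum_const,
      Finset.card_univ, card_nt hD, nsmul_eq_mul, ← Finset.mul_sum, Finset.sum_boole,
      show (Finset.univ.filter fun ν : NT H => ⟦ν⟧ = ω₀) = members ω₀ by ext; simp [mem_members],
      hm, show a = _ from (card_orb hD).symm]
    push_cast; ring
  have hh : (Nat.card H : ℂ) = (h' : ℂ) * (a : ℂ) := by
    rw [← Nat.cast_mul, card_commutator]
  set θ : H → ℂ := fun y => ∑ ν ∈ members ω₀, (ν.1 y : ℂ) with hθ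
  have hs1 : ∑ y ∈ outSet H, θ y = -((e : ℂ) * h') := by
    rw [hθ, Finset.sum_comm, Finset.sum_congr rfl fun ν _ => out_linear ν.1 ν.2, Finset.sum_const,
      hm, nsmul_eq_mul]
    ring
  have hs1' : ∑ y ∈ outSet H, conj (θ y) = -((e : ℂ) * h') := by
    rw [← map_sum, hs1, map_neg, map_mul, map_natCast, map_natCast]
  have hs2 : ∑ y ∈ outSet H, θ y * conj (θ y) = (e : ℂ) * ((h' : ℂ) * a) - e * e * h' := by
    simp only [hθ, map_sum, Finset.sum_mul_sum]
    rw [Finset.sum_comm]
    rw [Finset.sum_congr rfl fun ν _ => Finset.sum_comm]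
    rw [Finset.sum_congr rfl fun ν hν => Finset.sum_congr rfl fun ν' _ => out_inner ν.1 ν'.1]
    simp only [Finset.sum_sub_distrib, Finset.sum_const, hm, nsmul_eq_mul, ← Finset.mul_sum,
      mul_ite, mul_one, mul_zero, Subtype.val_inj, Finset.sum_ite_eq]
    rw [Finset.sum_ite_mem, Finset.inter_self, Finset.sum_const, hm, nsmul_eq_mul, hh]
    ring
  have hq : ∑ y ∈ outSet H, (χ : G → ℂ) y * conj (θ y) =
      (e : ℂ) * ((h' : ℂ) * ((u : ℂ) * ((a : ℂ) - 1) - ε * e) - (h' : ℂ) * a * (u - ε)) := by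
    simp only [hθ, map_sum, Finset.mul_sum]
    rw [Finset.sum_comm, Finset.sum_congr rfl fun ν hν => out_res_mul hD ν χ, out_sum hD, hC]
    rw [Finset.sum_congr rfl fun ν hν => show _ =
        (h' : ℂ) * ((u : ℂ) * ((a : ℂ) - 1) - ε * e) - (h' : ℂ) * a * (u - ε) by
      rw [hc, if_pos (mem_members.mp hν), hh]; push_cast; ring]
    rw [Finset.sum_const, hm, nsmul_eq_mul]
  set T : H → ℂ := fun y => (u : ℂ) + (ε : ℂ) * θ y with hT
  have h1 : ∑ y ∈ outSet H, (χ : G → ℂ) y * conj (T y) =
      (((h' : ℝ) * ((u : ℝ) * ((u : ℝ) * ((a : ℝ) - 1) - ε * e) +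
        ε * e * (((u : ℝ) * ((a : ℝ) - 1) - ε * e) - a * (u - ε))) : ℝ) : ℂ) := by
    simp only [hT, map_add, map_mul, map_intCast, mul_add, Finset.sum_add_distrib,
      mul_left_comm _ (ε : ℂ), ← Finset.mul_sum, ← Finset.sum_mul, out_sum hD, hC, hq]
    push_cast; ring
  have h2 : ∑ y ∈ outSet H, T y * conj (T y) =
      (((h' : ℝ) * ((u : ℝ) ^ 2 * ((a : ℝ) - 1) - 2 * u * ε * e +
        (ε : ℝ) * ε * (e * a - e * e)) : ℝ) : ℂ) := by
    rw [Finset.sum_congr rfl fun y _ => show T y * conj (T y) =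
        (u : ℂ) * u + (u : ℂ) * ε * θ y + (u : ℂ) * ε * conj (θ y) +
          (ε : ℂ) * ε * (θ y * conj (θ y)) by
      simp only [hT, map_add, map_mul, map_intCast]; ring]
    simp only [Finset.sum_add_distrib, ← Finset.mul_sum, Finset.sum_const, nsmul_eq_mul,
      card_outSet, hs1, hs1', hs2, hh]
    push_cast; ring
  have h := weight_ge χ T
  rw [h1, h2, Complex.ofReal_re, Complex.ofReal_re] at h
  rw [hN] at h
  have hεR : (ε : ℝ) * ε = 1 := by exact_mod_cast hε
  have hm2 : (2 * (e : ℝ)) ≤ (a : ℝ) - 1 := by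
    have h3 : (a : ℝ) = Fintype.card (Orb H) * e + 1 := by exact_mod_cast (card_orb hD).symm
    have h4 : (2 : ℝ) ≤ Fintype.card (Orb H) := by exact_mod_cast two_le_card_orb hD
    rw [h3]; nlinarith
  have hu : 0 ≤ ((a : ℝ) - 1) * (u : ℝ) ^ 2 - 2 * ε * e * u := by
    have h5 : (0 : ℤ) ≤ u * u - ε * u := by
      rcases Int.eq_one_or_neg_one_of_mul_eq_one hε with h | h <;> rw [h] <;> nlinarith
    have h6 : (0 : ℝ) ≤ (u : ℝ) * u - ε * u := by exact_mod_cast h5
    nlinarith [sq_nonneg (u : ℝ)]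
  refine le_trans ?_ h
  rw [inv_mul_eq_div, le_div_iff₀ (by positivity)]
  have h7 : (1 - (e : ℝ) / a) * ((h' : ℝ) * a * e) = (h' : ℝ) * e * ((a : ℝ) - e) := by
    field_simp
  rw [h7]
  linear_combination mul_nonneg hc'.le hu - ((h' : ℝ) * e * ((a : ℝ) - e)) * hεR

/-- The induced virtual characters of nodes without common conjugates are orthogonal. -/
theorem cvec_dot_cross (hD : NodeData H) {K : Subgroup G} (hK : NodeData K)
    (hdisj : ∀ z : G, z ≠ 1 → InConj H z → ¬ InConj K z) (ω : Orb H) (η : Orb K) :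
    CNExc.dot (cvec ω) (cvec η) = 0 := by
  classical
  haveI := Fintype.ofFinite H
  obtain ⟨μ, rfl⟩ := Quotient.exists_rep ω
  obtain ⟨ν, rfl⟩ := Quotient.exists_rep η
  have h := classInner_al_al hD hK μ ν
  rw [show al μ.1 = indFun H (fl μ.1) from rfl,
    classInner_indFun H _ (al_isGeneralized ν.1).isClassFunction] at h
  have hz : (fun y : H => al ν.1 (y : G)) = 0 := by
    funext y
    show al ν.1 (y : G) = 0
    by_cases hy : (y : G) = 1
    · rw [hy, al_apply_one]
    rw [al, indFun, Finset.sum_eq_zero, mul_zero]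
    intro x _
    refine extendByZero_of_notMem _ _ fun hm => hdisj y hy ⟨1, ?_⟩ ⟨x, hm⟩
    simp
  rw [hz, classInner_zero_right] at h
  exact_mod_cast h.symm

end Cfsg.Lib.Local.CNNode
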