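import Mathlib

/-!
The final counting of the CN theorem: the arithmetic data of the nodes are contradictory.
-/

set_option autoImplicit false

namespace Cfsg.Lib.Local.CNCount

variable {κ : Type*} [Fintype κ] [DecidableEq κ]

/-- The bound obtained by splitting the nodes different from `l` by the relation `R`. -/
theorem split_bound (e a m : κ → ℕ) (R : κ → κ → Prop) [DecidableRel R] (he : ∀ k, 0 < e k)
    (l : κ) {D A T : ℝ} (hD : 0 < D) (hA : 1 ≤ A)
    (hDk : ∀ k ≠ l, 1 / (e k : ℝ) ≤ (m k : ℝ) / D) (hAk : ∀ k ≠ l, A ≤ a k)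
    (hpar : ∀ i k, i ≠ k → R i k ∨ R k i)
    (hin : ∑ k ∈ (Finset.univ.erase l).filter (fun k => R k l), m k + 1 ≤ e l)
    (hout : ∑ k ∈ (Finset.univ.erase l).filter (fun k => R l k),
      (1 - 1 / (a k : ℝ)) / (e k : ℝ) < (e l : ℝ) / a l)
    (hT : T ≤ ∑ k ∈ Finset.univ.erase l, 1 / (e k : ℝ)) :
    (1 - 1 / A) * (T - ((e l : ℝ) - 1) / D) < (e l : ℝ) / a l := by
  have hpos : ∀ k, (0 : ℝ) < e k := fun k => Nat.cast_pos.mpr (he k)
  have hIn : ∑ k ∈ (Finset.univ.erase l).filter (fun k => R k l), 1 / (e k : ℝ) ≤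
      ((e l : ℝ) - 1) / D := by
    calc _ ≤ ∑ k ∈ (Finset.univ.erase l).filter (fun k => R k l), (m k : ℝ) / D :=
          Finset.sum_le_sum fun k hk => hDk k (Finset.ne_of_mem_erase (Finset.mem_filter.mp hk).1)
      _ = ((∑ k ∈ (Finset.univ.erase l).filter (fun k => R k l), m k : ℕ) : ℝ) / D := by
          rw [Nat.cast_sum, Finset.sum_div]
      _ ≤ _ := by
          have h := (Nat.cast_le (α := ℝ)).mpr hin
          rw [Nat.cast_add, Nat.cast_one] at h
          exact div_le_div_of_nonneg_right (by linarith) hD.le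
  have hA1 : 0 ≤ 1 - 1 / A := by
    rw [sub_nonneg, div_le_one (by linarith)]; exact hA
  refine lt_of_le_of_lt ?_ hout
  calc (1 - 1 / A) * (T - ((e l : ℝ) - 1) / D) ≤ (1 - 1 / A) *
        ∑ k ∈ (Finset.univ.erase l).filter (fun k => ¬ R k l), 1 / (e k : ℝ) := by
        refine mul_le_mul_of_nonneg_left ?_ hA1
        rw [← Finset.sum_filter_add_sum_filter_not (Finset.univ.erase l) (fun k => R k l)] at hT
        linarith
    _ ≤ (1 - 1 / A) * ∑ k ∈ (Finset.univ.erase l).filter (fun k => R l k), 1 / (e k : ℝ) := by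
        refine mul_le_mul_of_nonneg_left (Finset.sum_le_sum_of_subset_of_nonneg ?_
          fun k _ _ => (one_div_pos.mpr (hpos k)).le) hA1
        intro k hk
        obtain ⟨h1, h2⟩ := Finset.mem_filter.mp hk
        exact Finset.mem_filter.mpr ⟨h1, (hpar k l (Finset.ne_of_mem_erase h1)).resolve_left h2⟩
    _ ≤ _ := by
        rw [Finset.mul_sum]
        refine Finset.sum_le_sum fun k hk => ?_
        rw [mul_one_div]
        refine div_le_div_of_nonneg_right ?_ (hpos k).le
        have := one_div_le_one_div_of_le (by linarith : (0 : ℝ) < A)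
          (hAk k (Finset.ne_of_mem_erase (Finset.mem_filter.mp hk).1))
        linarith

theorem contradiction [Nonempty κ] (e a m : κ → ℕ) (R : κ → κ → Prop) [DecidableRel R]
    (he3 : ∀ k, 3 ≤ e k) (heo : ∀ k, Odd (e k)) (ha : ∀ k, m k * e k + 1 = a k)
    (hm : ∀ k, Even (m k)) (hm2 : ∀ k, 2 ≤ m k)
    (hco : ∀ i k, i ≠ k → (a i).Coprime (a k))
    (hpar : ∀ i k, i ≠ k → R i k ∨ R k i)
    (hin : ∀ l, ∑ k ∈ (Finset.univ.erase l).filter (fun k => R k l), m k + 1 ≤ e l)
    (hout : ∀ l, ∑ k ∈ (Finset.univ.erase l).filter (fun k => R l k),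
      (1 - 1 / (a k : ℝ)) / (e k : ℝ) < (e l : ℝ) / a l)
    (hcount : ∀ l, 1 - 1 / (e l : ℝ) ≤ ∑ k ∈ Finset.univ.erase l, 1 / (e k : ℝ))
    (hcount7 : ∀ l, a l = 7 → e l = 3 → 5 / 7 ≤ ∑ k ∈ Finset.univ.erase l, 1 / (e k : ℝ)) :
    False := by
  obtain ⟨l, -, hl⟩ := Finset.exists_min_image Finset.univ e Finset.univ_nonempty
  have hl' : ∀ k, e l ≤ e k := fun k => hl k (Finset.mem_univ k)
  have he : ∀ k, 0 < e k := fun k => by have := he3 k; omega
  have hea : ∀ k, (a k : ℝ) = m k * e k + 1 := fun k => by exact_mod_cast (ha k).symm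
  have he' : (3 : ℝ) ≤ e l := by exact_mod_cast he3 l
  have hek : ∀ k, (e l : ℝ) ≤ e k := fun k => by exact_mod_cast hl' k
  have hmk : ∀ k, (2 : ℝ) ≤ m k := fun k => by exact_mod_cast hm2 k
  have hekpos : ∀ k, (0 : ℝ) < e k := fun k => by exact_mod_cast he k
  by_cases hm4 : 4 ≤ m l
  · have hml : (4 : ℝ) ≤ m l := by exact_mod_cast hm4
    have hDk : ∀ k ≠ l, 1 / (e k : ℝ) ≤ (m k : ℝ) / (2 * e l) := by
      intro k _
      rw [div_le_div_iff₀ (hekpos k) (by linarith)]
      nlinarith [hek k, hmk k]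
    have hAk : ∀ k ≠ l, (2 * e l + 1 : ℝ) ≤ a k := by
      intro k _
      rw [hea]; nlinarith [hek k, hmk k]
    have h := split_bound e a m R he l (by linarith) (by linarith) hDk hAk hpar (hin l) (hout l)
      (hcount l)
    have h2 : (e l : ℝ) / a l ≤ (e l : ℝ) / (4 * e l + 1) := by
      refine div_le_div_of_nonneg_left (by linarith) (by linarith) ?_
      rw [hea]; nlinarith
    have h3 : (e l : ℝ) / (4 * e l + 1) ≤
        (1 - 1 / (2 * (e l : ℝ) + 1)) * (1 - 1 / (e l : ℝ) - ((e l : ℝ) - 1) / (2 * e l)) := by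
      have e1 : (1 - 1 / (2 * (e l : ℝ) + 1)) * (1 - 1 / (e l : ℝ) - ((e l : ℝ) - 1) / (2 * e l)) =
          ((e l : ℝ) - 1) / (2 * e l + 1) := by
        field_simp
        ring
      rw [e1, div_le_div_iff₀ (by linarith) (by linarith)]
      nlinarith [sq_nonneg ((e l : ℝ) - 3)]
    linarith
  · have hml : m l = 2 := by
      obtain ⟨j, hj⟩ := hm l
      have := hm2 l
      omega
    have hal : a l = 2 * e l + 1 := by rw [← ha l, hml]
    have hbig : ∀ k ≠ l, (e k = e l ∧ 4 ≤ m k) ∨ e l + 2 ≤ e k := by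
      intro k hk
      by_cases hkl : e k = e l
      · left
        refine ⟨hkl, ?_⟩
        by_contra h4
        have hmk2 : m k = 2 := by
          obtain ⟨j, hj⟩ := hm k
          have := hm2 k
          omega
        have h1 := hco k l hk
        rw [hal, ← ha k, hmk2, hkl, Nat.coprime_self] at h1
        have := he l
        omega
      · right
        obtain ⟨i, hi⟩ := heo k
        obtain ⟨j, hj⟩ := heo l
        have := hl' k
        omega
    have hDk : ∀ k ≠ l, 1 / (e k : ℝ) ≤ (m k : ℝ) / (2 * (e l + 2)) := by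
      intro k hk
      rw [div_le_div_iff₀ (hekpos k) (by linarith)]
      rcases hbig k hk with ⟨h1, h2⟩ | h
      · have h2' : (4 : ℝ) ≤ m k := by exact_mod_cast h2
        rw [show (e k : ℝ) = e l by exact_mod_cast h1]
        nlinarith
      · have h' : (e l : ℝ) + 2 ≤ e k := by exact_mod_cast h
        nlinarith [hmk k]
    have hAk : ∀ k ≠ l, (2 * e l + 5 : ℝ) ≤ a k := by
      intro k hk
      rw [hea]
      rcases hbig k hk with ⟨h1, h2⟩ | h
      · have h2' : (4 : ℝ) ≤ m k := by exact_mod_cast h2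
        rw [show (e k : ℝ) = e l by exact_mod_cast h1]
        nlinarith
      · have h' : (e l : ℝ) + 2 ≤ e k := by exact_mod_cast h
        nlinarith [hmk k]
    have hal' : (a l : ℝ) = 2 * e l + 1 := by exact_mod_cast hal
    by_cases h3 : e l = 3
    · have h := split_bound e a m R he l (by linarith) (by linarith) hDk hAk hpar (hin l) (hout l)
        (hcount7 l (by rw [hal, h3]) h3)
      rw [hal', show (e l : ℝ) = 3 by exact_mod_cast h3] at h
      norm_num at h
    · have h := split_bound e a m R he l (by linarith) (by linarith) hDk hAk hpar (hin l) (hout l)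
        (hcount l)
      have h5 : (5 : ℝ) ≤ e l := by
        obtain ⟨j, hj⟩ := heo l
        have := he3 l
        exact_mod_cast (show 5 ≤ e l by omega)
      rw [hal'] at h
      set x := (e l : ℝ)
      have e1 : (1 - 1 / (2 * x + 5)) * (1 - 1 / x - (x - 1) / (2 * (x + 2))) =
          (x ^ 2 + 3 * x - 4) / (x * (2 * x + 5)) := by
        field_simp
        ring
      rw [e1, div_lt_div_iff₀ (by positivity) (by linarith)] at h
      nlinarith

end Cfsg.Lib.Local.CNCount
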