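import Mathlib
import Cfsg.Prelude.Def_LieExceptional
import Cfsg.Agent.Lib.Core.Fitting
import Cfsg.Agent.Lib.Core.PSolvable
import Cfsg.Agent.Lib.PGroup.Basic
import Cfsg.Agent.Lib.PGroup.Elements
import Cfsg.Agent.Lib.Solv.Nilpotent
import Cfsg.Agent.Lib.Local.Basic

/-!
CN groups: quotients by solvable normal subgroups, maximal nilpotent subgroups.
-/

set_option autoImplicit false

namespace Cfsg.Lib.Local.CN

open Cfsg Subgroup

universe u v

variable {G : Type u} [Group G]

theorem commute_in {L : Subgroup G} (hL : Group.IsNilpotent L) {a b : G} (ha : a ∈ L) (hb : b ∈ L)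
    (h : (orderOf a).Coprime (orderOf b)) : Commute a b := by
  have := hL
  exact (Cfsg.Lib.PGroup.commute_of_coprime_orderOf (⟨a, ha⟩ : L) ⟨b, hb⟩
    (by rwa [orderOf_mk, orderOf_mk])).map L.subtype

/-- A finite group in which elements of coprime prime power orders commute is nilpotent. -/
theorem isNilpotent_of_commute [Finite G]
    (h : ∀ (p q : ℕ) (a b : G) (i j : ℕ), p.Prime → q.Prime → p ≠ q → orderOf a = p ^ i →
      orderOf b = q ^ j → Commute a b) : Group.IsNilpotent G := by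
  refine ((Group.isNilpotent_of_finite_tfae (G := G)).out 0 3 rfl rfl).mpr ?_
  intro p hp P
  rw [← normalizer_eq_top_iff, ← index_eq_one]
  by_contra hne
  obtain ⟨q, hq, hqd⟩ := Nat.exists_prime_and_dvd hne
  have := Fact.mk hq
  obtain ⟨Q⟩ : Nonempty (Sylow q G) := inferInstance
  by_cases hpq : p = q
  · subst hpq
    exact P.not_dvd_index (hqd.trans (index_dvd_of_le le_normalizer))
  · refine Q.not_dvd_index (hqd.trans (index_dvd_of_le fun b hb => ?_))
    refine centralizer_le_normalizer _ (mem_centralizer_iff.mpr fun a ha => ?_)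
    obtain ⟨i, hi⟩ := IsPGroup.iff_orderOf.mp P.2 ⟨a, ha⟩
    obtain ⟨j, hj⟩ := IsPGroup.iff_orderOf.mp Q.2 ⟨b, hb⟩
    rw [orderOf_mk] at hi hj
    exact h p q a b i j hp.out hq hpq hi hj

theorem isCN_of_injective {L : Type v} [Group L] (hG : IsCNGroup G) (f : L →* G)
    (hf : Function.Injective f) : IsCNGroup L := by
  intro g hg
  have : Group.IsNilpotent ((centralizer ({g} : Set L)).map f) := by
    refine Cfsg.Lib.Core.isNilpotent_of_le ?_ (hG (f g) ((map_ne_one_iff f hf).mpr hg))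
    rintro - ⟨x, hx, rfl⟩
    exact mem_centralizer_singleton_iff.mpr
      (by rw [← map_mul, ← map_mul, mem_centralizer_singleton_iff.mp hx])
  exact Group.nilpotent_of_mulEquiv ((centralizer ({g} : Set L)).equivMapOfInjective f hf).symm

/-- An element commuting with `x` modulo an abelian normal subgroup of coprime order commutes
with it after multiplication by an element of that subgroup. -/
theorem exists_mul_commute [Finite G] {V : Subgroup G} [V.Normal] [IsMulCommutative V] {x c : G}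
    (hcop : (orderOf x).Coprime (Nat.card V)) (h : c * x * c⁻¹ * x⁻¹ ∈ V) :
    ∃ v ∈ V, Commute (v * c) x := by
  have hVc : ∀ a ∈ V, ∀ b ∈ V, a * b = b * a := fun a ha b hb =>
    congrArg Subtype.val (mul_comm' (⟨a, ha⟩ : V) ⟨b, hb⟩)
  set d := c * x * c⁻¹ * x⁻¹ with hd
  let φ : V →* V :=
    { toFun := fun e => ⟨x * e * x⁻¹ * (e : G)⁻¹,
        mul_mem (‹V.Normal›.conj_mem _ e.2 x) (inv_mem e.2)⟩
      map_one' := by simp
      map_mul' := fun a b => Subtype.ext (by
        show x * ((a : G) * b) * x⁻¹ * ((a : G) * b)⁻¹ =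
          x * a * x⁻¹ * (a : G)⁻¹ * (x * b * x⁻¹ * (b : G)⁻¹)
        calc x * ((a : G) * b) * x⁻¹ * ((a : G) * b)⁻¹
            = (x * a * x⁻¹) * (((x * b * x⁻¹) * (b : G)⁻¹) * (a : G)⁻¹) := by group
          _ = (x * a * x⁻¹) * ((a : G)⁻¹ * ((x * b * x⁻¹) * (b : G)⁻¹)) := by
            rw [hVc ((x * b * x⁻¹) * (b : G)⁻¹)
              (mul_mem (‹V.Normal›.conj_mem _ b.2 x) (inv_mem b.2)) _ (inv_mem a.2)]
          _ = _ := by group) }
  have hconj : ∀ n : ℕ, ∀ e ∈ V, ∃ f : V, x ^ n * e * (x ^ n)⁻¹ = e * (φ f : G) := by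
    intro n
    induction n with
    | zero => intro e he; exact ⟨1, by simp⟩
    | succ n ih =>
      intro e he
      obtain ⟨f, hf⟩ := ih e he
      have hm : x ^ n * e * (x ^ n)⁻¹ ∈ V := ‹V.Normal›.conj_mem _ he _
      refine ⟨⟨_, hm⟩ * f, ?_⟩
      rw [map_mul, Subgroup.coe_mul]
      rw [← mul_assoc e, hVc e he _ (φ _).2, mul_assoc ((φ _ : V) : G) e, ← hf]
      show x ^ (n + 1) * e * (x ^ (n + 1))⁻¹ = x * _ * x⁻¹ * _⁻¹ * _
      rw [pow_succ']; group
  have hpow : ∀ n : ℕ, ∃ f : V, (d * x) ^ n * (x ^ n)⁻¹ = d ^ n * (φ f : G) := by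
    intro n
    induction n with
    | zero => exact ⟨1, by simp⟩
    | succ n ih =>
      obtain ⟨f, hf⟩ := ih
      obtain ⟨f', hf'⟩ := hconj n d h
      refine ⟨f * f', ?_⟩
      calc (d * x) ^ (n + 1) * (x ^ (n + 1))⁻¹
          = (d * x) ^ n * (x ^ n)⁻¹ * (x ^ n * d * (x ^ n)⁻¹) := by rw [pow_succ, pow_succ]; group
        _ = d ^ n * (φ f : G) * (d * (φ f' : G)) := by rw [hf, hf']
        _ = d ^ n * ((φ f : G) * d) * (φ f' : G) := by group
        _ = d ^ n * (d * (φ f : G)) * (φ f' : G) := by rw [hVc _ (φ f).2 d h]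
        _ = _ := by rw [map_mul, Subgroup.coe_mul, pow_succ]; group
  obtain ⟨f, hf⟩ := hpow (orderOf x)
  have hdx : d * x = c * x * c⁻¹ := by rw [hd]; group
  rw [hdx, conj_pow, pow_orderOf_eq_one, mul_one, mul_inv_cancel, inv_one, mul_one] at hf
  have hd1 : (⟨d, h⟩ : V) ^ orderOf x = φ f⁻¹ := by
    rw [map_inv, eq_inv_iff_mul_eq_one]
    exact Subtype.ext hf.symm
  have hcop' : (orderOf x).Coprime (orderOf (⟨d, h⟩ : V)) :=
    hcop.coprime_dvd_right (orderOf_dvd_natCard _)
  obtain ⟨m, hm⟩ := exists_pow_eq_self_of_coprime hcop'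
  have hv : φ (f⁻¹ ^ m) = ⟨d, h⟩ := by rw [map_pow, ← hd1, hm]
  refine ⟨((f⁻¹ ^ m : V) : G), SetLike.coe_mem _, ?_⟩
  generalize f⁻¹ ^ m = v at hv
  have hv' : x * v * x⁻¹ * (v : G)⁻¹ = d := congrArg Subtype.val hv
  show (v : G) * c * x = x * ((v : G) * c)
  calc (v : G) * c * x = (v : G) * (c * x * c⁻¹ * x⁻¹) * x * c := by group
    _ = d * v * x * c := by rw [← hd, hVc _ v.2 _ h]
    _ = _ := by rw [← hv']; group

/-- A quotient of a CN group by an abelian normal `p`-subgroup is CN. -/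
theorem isCN_quotient_abelian [Finite G] (hG : IsCNGroup G) {p : ℕ} [hp : Fact p.Prime]
    (V : Subgroup G) [V.Normal] [IsMulCommutative V] (hV : IsPGroup p V) (hV1 : V ≠ ⊥) :
    IsCNGroup (G ⧸ V) := by
  intro xb hxb
  -- reduce to an element of prime order
  obtain ⟨s, hs, hsd⟩ := Nat.exists_prime_and_dvd
    (fun e => hxb (orderOf_eq_one_iff.mp e) : orderOf xb ≠ 1)
  set yb := xb ^ (orderOf xb / s) with hyb
  have hys : orderOf yb = s := orderOf_pow_orderOf_div (orderOf_pos xb).ne' hsd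
  have hle : centralizer ({xb} : Set (G ⧸ V)) ≤ centralizer {yb} := fun z hz =>
    mem_centralizer_singleton_iff.mpr
      (Commute.pow_right (mem_centralizer_singleton_iff.mp hz) _).eq
  refine Cfsg.Lib.Core.isNilpotent_of_le hle ?_
  clear hle hyb hxb hsd
  set π := QuotientGroup.mk' V with hπ
  obtain ⟨x₀, hx₀⟩ := QuotientGroup.mk'_surjective V yb
  rw [← hπ] at hx₀
  obtain ⟨m, hcard⟩ := IsPGroup.iff_card.mp hV
  have hxs : x₀ ^ s ∈ V := by
    rw [← QuotientGroup.eq_one_iff]
    show π (x₀ ^ s) = 1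
    rw [map_pow, hx₀, ← hys, pow_orderOf_eq_one]
  set C := (centralizer ({yb} : Set (G ⧸ V))).comap π with hC
  have hCmap : C.map π = centralizer ({yb} : Set (G ⧸ V)) :=
    map_comap_eq_self_of_surjective (QuotientGroup.mk'_surjective V) _
  rw [← hCmap]
  have hCmem : ∀ c ∈ C, ∀ x : G, π x = yb → c * x * c⁻¹ * x⁻¹ ∈ V := by
    intro c hc x hx
    rw [← QuotientGroup.eq_one_iff]
    show π (c * x * c⁻¹ * x⁻¹) = 1
    have := mem_centralizer_singleton_iff.mp (mem_comap.mp hc)
    simp only [map_mul, map_inv, hx]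
    rw [this]; group
  by_cases hsp : s = p
  · -- `x₀` is a `p`-element
    subst hsp
    refine Cfsg.Lib.Core.isNilpotent_map ?_ π
    have hx1 : x₀ ∉ V := fun h => by
      have : yb = 1 := by rw [← hx₀]; exact (QuotientGroup.eq_one_iff x₀).mpr h
      rw [this, orderOf_one] at hys
      exact hs.ne_one hys.symm
    have hX : IsPGroup s (zpowers x₀) := by
      refine IsPGroup.of_card_dvd_pow (p := s) (n := 1 + m) ?_
      rw [Nat.card_zpowers, orderOf_dvd_iff_pow_eq_one, pow_add, pow_one, pow_mul, ← hcard]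
      exact congrArg Subtype.val (pow_card_eq_one' (x := (⟨_, hxs⟩ : V)))
    have hW : IsPGroup s (zpowers x₀ ⊔ V : Subgroup G) := hX.to_sup_of_normal_right hV
    obtain ⟨w, hw, hwc, hwo⟩ := Cfsg.Lib.PGroup.exists_mem_center_orderOf_eq hW
      (N := V.subgroupOf (zpowers x₀ ⊔ V)) (by
        rw [Ne, subgroupOf_eq_bot, disjoint_iff, inf_of_le_left (le_sup_right : V ≤ zpowers x₀ ⊔ V)]
        exact hV1)
    have hw1 : (w : G) ≠ 1 := fun e => hs.ne_one (by
      rw [← hwo, orderOf_eq_one_iff]; exact Subtype.ext e)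
    have hwV : (w : G) ∈ V := hw
    have hwx : Commute (w : G) x₀ := by
      have := Subgroup.mem_center_iff.mp hwc ⟨x₀, mem_sup_left (mem_zpowers _)⟩
      exact (congrArg Subtype.val this).symm
    have hpw : ∀ a ∈ C, (orderOf a).Coprime s → Commute a (w : G) := by
      intro a ha hcop
      obtain ⟨v, hv, hva⟩ := exists_mul_commute (V := V) (x := a) (c := x₀)
        (hcard ▸ hcop.pow_right m) (by
          have := inv_mem (hCmem a ha x₀ hx₀)
          simpa [mul_assoc] using this)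
      have hy1 : v * x₀ ≠ 1 := fun e => hx1 (by
        rw [eq_inv_of_mul_eq_one_right e]; exact inv_mem hv)
      have hwy : Commute (w : G) (v * x₀) := by
        refine Commute.mul_right ?_ hwx
        exact congrArg Subtype.val (mul_comm' (⟨_, hwV⟩ : V) ⟨v, hv⟩)
      refine commute_in (hG _ hy1) (mem_centralizer_singleton_iff.mpr hva.symm.eq)
        (mem_centralizer_singleton_iff.mpr hwy.eq) ?_
      rw [orderOf_coe, hwo]; exact hcop
    have hpV : ∀ a ∈ C, (orderOf a).Coprime s → ∀ v ∈ V, Commute a v := by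
      intro a ha hcop v hv
      have hva : v * a * v⁻¹ ∈ C := by
        have hvC : v ∈ C := mem_comap.mpr (by
          rw [show π v = 1 from (QuotientGroup.eq_one_iff v).mpr hv]; exact one_mem _)
        exact mul_mem (mul_mem hvC ha) (inv_mem hvC)
      have hova : orderOf (v * a * v⁻¹) = orderOf a := MulEquiv.orderOf_eq (MulAut.conj v) a
      have h1 := hpw a ha hcop
      have h2 := hpw _ hva (hova.symm ▸ hcop)
      set u := v * a * v⁻¹ * a⁻¹ with hu
      have huV : u ∈ V := by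
        rw [hu, mul_assoc v a, mul_assoc]
        exact mul_mem hv (‹V.Normal›.conj_mem _ (inv_mem hv) a)
      have huw : u ∈ centralizer ({(w : G)} : Set G) :=
        mem_centralizer_singleton_iff.mpr (h2.mul_left h1.inv_left).eq
      obtain ⟨k, hk⟩ := IsPGroup.iff_orderOf.mp hV ⟨u, huV⟩
      rw [orderOf_mk] at hk
      have hua : Commute u a := commute_in (hG _ hw1) huw
        (mem_centralizer_singleton_iff.mpr h1.eq) (hk ▸ hcop.symm.pow_left k)
      have h3 := hua.orderOf_mul_eq_mul_orderOf_of_coprime (hk ▸ hcop.symm.pow_left k)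
      rw [hu, inv_mul_cancel_right, hova, ← hu] at h3
      have hu1 : orderOf u = 1 :=
        (Nat.eq_of_mul_eq_mul_right (orderOf_pos a) (by rw [one_mul]; exact h3)).symm
      rw [orderOf_eq_one_iff, hu, mul_inv_eq_one, mul_inv_eq_iff_eq_mul] at hu1
      exact hu1.symm
    apply isNilpotent_of_commute
    intro q r a b i j hq hr hqr ha hb
    have key : ∀ (a b : C) (i j : ℕ) (r : ℕ), r.Prime → s ≠ r → orderOf a = s ^ i →
        orderOf b = r ^ j → Commute a b := by
      intro a b i j r hr hsr ha hb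
      have hbc : (orderOf (b : G)).Coprime s := by
        rw [orderOf_coe, hb]; exact ((Nat.coprime_primes hr hs).mpr hsr.symm).pow_left j
      have hA : IsPGroup s (zpowers (a : G)) :=
        IsPGroup.of_card (n := i) (by rw [Nat.card_zpowers, orderOf_coe, ha])
      have hP := hA.to_sup_of_normal_right hV
      obtain ⟨z, hz, hzc, hzo⟩ := Cfsg.Lib.PGroup.exists_mem_center_orderOf_eq hP
        (N := V.subgroupOf (zpowers (a : G) ⊔ V)) (by
          rw [Ne, subgroupOf_eq_bot, disjoint_iff,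
            inf_of_le_left (le_sup_right : V ≤ zpowers (a : G) ⊔ V)]
          exact hV1)
      have hz1 : (z : G) ≠ 1 := fun e => hs.ne_one (by
        rw [← hzo, orderOf_eq_one_iff]; exact Subtype.ext e)
      refine Subtype.ext (commute_in (hG _ hz1) (mem_centralizer_singleton_iff.mpr ?_)
        (mem_centralizer_singleton_iff.mpr (hpV b b.2 hbc z hz).eq) ?_).eq
      · exact congrArg Subtype.val
          (Subgroup.mem_center_iff.mp hzc ⟨a, mem_sup_left (mem_zpowers _)⟩)
      · rw [orderOf_coe, ha]; exact hbc.symm.pow_left i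
    by_cases hqs : q = s
    · subst hqs; exact key a b i j r hr hqr ha hb
    by_cases hrs : r = s
    · subst hrs; exact (key b a j i q hq (Ne.symm hqs) hb ha).symm
    refine Subtype.ext (commute_in (hG _ hw1) (mem_centralizer_singleton_iff.mpr
      (hpw a a.2 ?_).eq) (mem_centralizer_singleton_iff.mpr (hpw b b.2 ?_).eq) ?_).eq
    · rw [orderOf_coe, ha]; exact ((Nat.coprime_primes hq hs).mpr hqs).pow_left i
    · rw [orderOf_coe, hb]; exact ((Nat.coprime_primes hr hs).mpr hrs).pow_left j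
    · rw [orderOf_coe, orderOf_coe, ha, hb]; exact Nat.Coprime.pow _ _ ((Nat.coprime_primes hq hr).mpr hqr)
  · -- a representative of order prime to `p`
    have hcp : (p ^ m).Coprime s := ((Nat.coprime_primes hp.out hs).mpr (Ne.symm hsp)).pow_left m
    set x := x₀ ^ p ^ m with hx
    have hxo : orderOf x ∣ s := by
      refine orderOf_dvd_of_pow_eq_one ?_
      rw [hx, ← pow_mul, mul_comm, pow_mul, ← hcard]
      exact congrArg Subtype.val (pow_card_eq_one' (x := (⟨_, hxs⟩ : V)))
    obtain ⟨k, hk⟩ := exists_pow_eq_self_of_coprime (x := yb) (hys.symm ▸ hcp)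
    have hxy : π (x ^ k) = yb := by rw [map_pow, hx, map_pow, hx₀, hk]
    have hxk1 : x ^ k ≠ 1 := fun e => hs.ne_one (by
      rw [← hys, ← hxy, e, map_one, orderOf_one])
    refine Cfsg.Lib.Core.isNilpotent_of_le ?_ (Cfsg.Lib.Core.isNilpotent_map (hG _ hxk1) π)
    rintro - ⟨c, hc, rfl⟩
    obtain ⟨v, hv, hvc⟩ := exists_mul_commute (V := V) (x := x ^ k) (c := c)
      (hcard ▸ ((((Nat.coprime_primes hs hp.out).mpr hsp).coprime_dvd_left
        ((orderOf_pow_dvd k).trans hxo)).pow_right m)) (hCmem c hc _ hxy)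
    refine ⟨v * c, mem_centralizer_singleton_iff.mpr hvc.eq, ?_⟩
    rw [map_mul]
    show π v * π c = π c
    rw [show π v = 1 from (QuotientGroup.eq_one_iff v).mpr hv, one_mul]

/-- A quotient of a CN group by a solvable normal subgroup is CN. -/
theorem isCN_quotient_solvable : ∀ (n : ℕ) (G : Type u) [Group G] [Finite G], Nat.card G = n →
    IsCNGroup G → ∀ (H : Subgroup G) [H.Normal], Group.IsSolvable H → IsCNGroup (G ⧸ H) := by
  intro n
  induction n using Nat.strong_induction_on with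
  | _ n ih =>
  intro G _ _ hn hG H _ hH
  by_cases hH1 : H = ⊥
  · subst hH1
    exact isCN_of_injective hG (QuotientGroup.quotientBot (G := G)).toMonoidHom
      (MulEquiv.injective _)
  obtain ⟨V, hV, hVH⟩ := Cfsg.Lib.Core.exists_isMinNormal ‹H.Normal› hH1
  obtain ⟨hVc, p, hp, -, hVp⟩ := Cfsg.Lib.Core.minimal_solvable_elementary hV
    (Cfsg.Lib.Core.isSolvable_of_le hVH hH)
  have := hV.1
  have := Fact.mk hp
  have hlt := Cfsg.Lib.Core.card_quotient_lt hV.2.1
  have := ih _ (hn ▸ hlt) (G ⧸ V) rfl (isCN_quotient_abelian hG V hVp hV.2.1)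
    (H.map (QuotientGroup.mk' V)) (Cfsg.Lib.Core.isSolvable_map hH _)
  exact isCN_of_injective this
    (QuotientGroup.quotientQuotientEquivQuotient V H hVH).symm.toMonoidHom (MulEquiv.injective _)

section Maximal

variable [Finite G] {H : Subgroup G}

/-- Central elements of a maximal nilpotent subgroup have it as centralizer. -/
theorem centralizer_eq (hG : IsCNGroup G)
    (hmax : ∀ L : Subgroup G, Group.IsNilpotent L → H ≤ L → L = H) {z : G}
    (hzc : ∀ h ∈ H, Commute h z) (hz1 : z ≠ 1) : centralizer ({z} : Set G) = H :=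
  hmax _ (hG z hz1) fun h hh => mem_centralizer_singleton_iff.mpr (hzc h hh).eq

theorem exists_central (hH : Group.IsNilpotent H) {p : ℕ} [hp : Fact p.Prime]
    (hd : p ∣ Nat.card H) : ∃ z ∈ H, (∀ h ∈ H, Commute h z) ∧ orderOf z = p := by
  have := hH
  obtain ⟨P⟩ : Nonempty (Sylow p H) := inferInstance
  haveI : (P : Subgroup H).Normal :=
    ((Group.isNilpotent_of_finite_tfae (G := H)).out 0 3 rfl rfl).mp hH p inferInstance P
  obtain ⟨y, hy, hy1⟩ := ((P : Subgroup H) ⊓ center H).bot_or_exists_ne_one.resolve_left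
    (Cfsg.Lib.Solv.inf_center_ne_bot_of_isNilpotent (P.ne_bot_of_dvd_card hd))
  obtain ⟨k, hk⟩ := IsPGroup.iff_orderOf.mp P.2 ⟨y, hy.1⟩
  rw [orderOf_mk] at hk
  have hk0 : k ≠ 0 := fun e => hy1 (orderOf_eq_one_iff.mp (by rw [hk, e, pow_zero]))
  set z := y ^ (orderOf y / p) with hz
  refine ⟨z, z.2, fun h hh => ?_, ?_⟩
  · exact ((show Commute (⟨h, hh⟩ : H) y from Subgroup.mem_center_iff.mp hy.2 _).pow_right _).map H.subtype
  · rw [orderOf_coe, hz, orderOf_pow_orderOf_div (orderOf_pos y).ne' (hk ▸ dvd_pow_self p hk0)]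

theorem coprime_index (hG : IsCNGroup G) (hH : Group.IsNilpotent H)
    (hmax : ∀ L : Subgroup G, Group.IsNilpotent L → H ≤ L → L = H) :
    (Nat.card H).Coprime H.index := by
  refine Nat.coprime_of_dvd' fun p hp h1 h2 => ?_
  exfalso
  have := Fact.mk hp
  obtain ⟨w, hwH, hwc, hwo⟩ := exists_central hH h1
  obtain ⟨P⟩ : Nonempty (Sylow p H) := inferInstance
  haveI : (P : Subgroup H).Normal :=
    ((Group.isNilpotent_of_finite_tfae (G := H)).out 0 3 rfl rfl).mp hH p inferInstance P
  obtain ⟨S, hS⟩ := (P.2.map H.subtype).exists_le_sylow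
  have hpel : ∀ {g : G}, g ∈ H → ∀ i : ℕ, orderOf g = p ^ i → g ∈ (S : Subgroup G) := by
    intro g hg i hi
    refine hS ⟨⟨g, hg⟩, ?_, rfl⟩
    have hq : IsPGroup p (zpowers (⟨g, hg⟩ : H)) :=
      IsPGroup.of_card (n := i) (by rw [Nat.card_zpowers, orderOf_mk, hi])
    exact (Cfsg.Lib.Local.sylow_eq_of_le P (hq.to_sup_of_normal_right P.2) le_sup_right).le
      (mem_sup_left (mem_zpowers _))
  have hwS : w ∈ (S : Subgroup G) := hpel hwH 1 (by rw [hwo, pow_one])
  have hSne : (S : Subgroup G) ≠ ⊥ := S.ne_bot_of_dvd_card (h1.trans (card_subgroup_dvd_card H))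
  haveI : Nontrivial ↥(S : Subgroup G) := (nontrivial_iff_ne_bot _).mpr hSne
  obtain ⟨z', -, hzc', hzo'⟩ :=
    Cfsg.Lib.PGroup.exists_mem_center_orderOf_eq S.2 (N := (⊤ : Subgroup ↥(S : Subgroup G))) top_ne_bot
  have hw1 : w ≠ 1 := fun e => hp.ne_one (by rw [← hwo, e, orderOf_one])
  have hzS : ∀ g ∈ (S : Subgroup G), Commute g (z' : G) := fun g hg =>
    congrArg Subtype.val (Subgroup.mem_center_iff.mp hzc' ⟨g, hg⟩)
  have hzH : (z' : G) ∈ H := by
    rw [← centralizer_eq hG hmax hwc hw1]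
    exact mem_centralizer_singleton_iff.mpr (hzS w hwS).symm.eq
  have hz1 : (z' : G) ≠ 1 := fun e => hp.ne_one (by
    rw [← hzo', orderOf_eq_one_iff]; exact Subtype.ext e)
  have hzc : ∀ g ∈ H, Commute g (z' : G) := by
    intro g hg
    refine mem_centralizer_singleton_iff.mp (Cfsg.Lib.PGroup.mem_of_ordCompl_pow_mem
      (H := centralizer ({(z' : G)} : Set G)) fun q hq _ => mem_centralizer_singleton_iff.mpr ?_)
    have ho := Cfsg.Lib.PGroup.orderOf_ordCompl_pow (g := g) hq
    by_cases hqp : q = p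
    · subst hqp
      exact (hzS _ (hpel (pow_mem hg _) _ ho)).eq
    · refine (commute_in hH (pow_mem hg _) hzH ?_).eq
      rw [ho, orderOf_coe, hzo']
      exact ((Nat.coprime_primes hq hp).mpr hqp).pow_left _
  refine S.not_dvd_index (h2.trans (index_dvd_of_le ?_))
  rw [← centralizer_eq hG hmax hzc hz1]
  exact fun g hg => mem_centralizer_singleton_iff.mpr (hzS g hg).eq

/-- Prime power elements centralizing a nontrivial element of `H`. -/
theorem mem_of_commute (hG : IsCNGroup G) (hH : Group.IsNilpotent H)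
    (hmax : ∀ L : Subgroup G, Group.IsNilpotent L → H ≤ L → L = H) {x t : G} (hx : x ∈ H)
    (hx1 : x ≠ 1) (htx : Commute t x) {r i s : ℕ} (hr : r.Prime) (hs : s.Prime) (hrs : r ≠ s)
    (hsH : s ∣ Nat.card H) (ht : orderOf t = r ^ i) : t ∈ H := by
  have := Fact.mk hs
  obtain ⟨z, -, hzc, hzo⟩ := exists_central hH hsH
  have hz1 : z ≠ 1 := fun e => hs.ne_one (by rw [← hzo, e, orderOf_one])
  rw [← centralizer_eq hG hmax hzc hz1]
  refine mem_centralizer_singleton_iff.mpr (commute_in (hG x hx1)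
    (mem_centralizer_singleton_iff.mpr htx.eq)
    (mem_centralizer_singleton_iff.mpr (hzc x hx).symm.eq) ?_).eq
  rw [ht, hzo]
  exact ((Nat.coprime_primes hr hs).mpr hrs).pow_left _

theorem centralizer_le_of_not_isPrimePow (hG : IsCNGroup G) (hH : Group.IsNilpotent H)
    (hmax : ∀ L : Subgroup G, Group.IsNilpotent L → H ≤ L → L = H)
    (hpp : ¬ IsPrimePow (Nat.card H)) {x : G} (hx : x ∈ H) (hx1 : x ≠ 1) :
    centralizer ({x} : Set G) ≤ H := by
  intro g hg
  refine Cfsg.Lib.PGroup.mem_of_ordCompl_pow_mem fun r hr _ => ?_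
  obtain ⟨s, hs, hrs, hsH⟩ : ∃ s, s.Prime ∧ r ≠ s ∧ s ∣ Nat.card H := by
    by_contra hcon
    push Not at hcon
    have hne : Nat.card H ≠ 1 := fun e => hx1 (Subgroup.mem_bot.mp
      ((Subgroup.eq_bot_of_card_eq H e) ▸ hx))
    obtain ⟨s, hs, hsd⟩ := Nat.exists_prime_and_dvd hne
    have hsr : r = s := by_contra fun h => hcon s hs h hsd
    subst hsr
    refine hpp ?_
    rw [isPrimePow_iff_unique_prime_dvd]
    exact ⟨r, ⟨hr, hsd⟩, fun t ht => (by_contra fun h => hcon t ht.1 (fun e => h e.symm) ht.2)⟩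
  exact mem_of_commute hG hH hmax hx hx1 ((show Commute g x from
    mem_centralizer_singleton_iff.mp hg).pow_left _) hr hs hrs hsH
    (Cfsg.Lib.PGroup.orderOf_ordCompl_pow hr)

theorem centralizer_le_of_TI (hG : IsCNGroup G) (hH : Group.IsNilpotent H)
    (hmax : ∀ L : Subgroup G, Group.IsNilpotent L → H ≤ L → L = H)
    (hTI : ∀ g : G, H.map (MulAut.conj g).toMonoidHom ≠ H →
      H ⊓ H.map (MulAut.conj g).toMonoidHom = ⊥) {x : G} (hx : x ∈ H) (hx1 : x ≠ 1) :
    centralizer ({x} : Set G) ≤ H := by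
  intro g hg
  refine Cfsg.Lib.PGroup.mem_of_ordCompl_pow_mem fun r hr _ => ?_
  have hgx : Commute g x := mem_centralizer_singleton_iff.mp hg
  set t := g ^ (orderOf g / r ^ (orderOf g).factorization r) with ht
  have htx : Commute t x := hgx.pow_left _
  have hto : orderOf t = r ^ (orderOf g).factorization r :=
    Cfsg.Lib.PGroup.orderOf_ordCompl_pow hr
  have htN : t ∈ normalizer (H : Set G) := by
    rw [Cfsg.Lib.Core.mem_normalizer_iff_map_conj]
    by_contra hne
    have hxmem : x ∈ H ⊓ H.map (MulAut.conj t).toMonoidHom :=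
      ⟨hx, x, hx, by simp [htx.eq]⟩
    rw [hTI t hne, mem_bot] at hxmem
    exact hx1 hxmem
  by_cases hrH : r ∣ Nat.card H
  · set N := normalizer (H : Set G)
    have hcop : (r ^ (orderOf g).factorization r).Coprime (H.subgroupOf N).index := by
      refine Nat.Coprime.pow_left _ ((coprime_index hG hH hmax).coprime_dvd_left hrH |>.coprime_dvd_right ?_)
      exact relIndex_dvd_index_of_le le_normalizer
    have h1 : (⟨t, htN⟩ : N) ^ (H.subgroupOf N).index ∈ H.subgroupOf N := pow_index_mem _ _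
    obtain ⟨m, hm⟩ := exists_pow_eq_self_of_coprime (x := (⟨t, htN⟩ : N)) (n := (H.subgroupOf N).index)
      (by rw [orderOf_mk, hto]; exact hcop.symm)
    have := pow_mem h1 m
    rw [hm] at this
    exact this
  · have hne : Nat.card H ≠ 1 := fun e => hx1 (Subgroup.mem_bot.mp
      ((Subgroup.eq_bot_of_card_eq H e) ▸ hx))
    obtain ⟨s, hs, hsd⟩ := Nat.exists_prime_and_dvd hne
    exact mem_of_commute hG hH hmax hx hx1 htx hr hs (fun e => hrH (e ▸ hsd)) hsd hto

theorem isTI_of_not_isPrimePow (hG : IsCNGroup G) (hH : Group.IsNilpotent H)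
    (hmax : ∀ L : Subgroup G, Group.IsNilpotent L → H ≤ L → L = H)
    (hpp : ¬ IsPrimePow (Nat.card H)) (g : G) (hne : H.map (MulAut.conj g).toMonoidHom ≠ H) :
    H ⊓ H.map (MulAut.conj g).toMonoidHom = ⊥ := by
  set f := (MulAut.conj g).toMonoidHom with hf
  have hfi : Function.Injective f := (MulAut.conj g).injective
  set K := H.map f with hK
  have hKH : Nat.card K = Nat.card H := Nat.card_congr (H.equivMapOfInjective f hfi).symm.toEquiv
  have hKn : Group.IsNilpotent K := Cfsg.Lib.Core.isNilpotent_map hH f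
  have hKmax : ∀ L : Subgroup G, Group.IsNilpotent L → K ≤ L → L = K := by
    intro L hL hKL
    have e : (L.comap f).map f = L := map_comap_eq_self_of_surjective (MulAut.conj g).surjective L
    have h1 : Group.IsNilpotent (L.comap f) := by
      have : Group.IsNilpotent ((L.comap f).map f) := by rw [e]; exact hL
      exact Group.nilpotent_of_mulEquiv ((L.comap f).equivMapOfInjective f hfi).symm
    rw [← e, hmax _ h1 (map_le_iff_le_comap.mp hKL)]
  by_contra hD
  obtain ⟨x, hxD, hx1⟩ := (H ⊓ K).bot_or_exists_ne_one.resolve_left hD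
  have hne1 : Nat.card H ≠ 1 := fun e => hx1 (Subgroup.mem_bot.mp
    ((Subgroup.eq_bot_of_card_eq H e) ▸ hxD.1))
  obtain ⟨s, hs, hsd⟩ := Nat.exists_prime_and_dvd hne1
  have := Fact.mk hs
  obtain ⟨z, hzH, hzc, hzo⟩ := exists_central hH hsd
  have hz1 : z ≠ 1 := fun e => hs.ne_one (by rw [← hzo, e, orderOf_one])
  have hzK : z ∈ K := centralizer_le_of_not_isPrimePow hG hKn hKmax (hKH.symm ▸ hpp) hxD.2 hx1
    (mem_centralizer_singleton_iff.mpr (hzc x hxD.1).symm.eq)
  have hle : H ≤ K := by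
    rw [← centralizer_eq hG hmax hzc hz1]
    exact centralizer_le_of_not_isPrimePow hG hKn hKmax (hKH.symm ▸ hpp) hzK hz1
  exact hne (hmax K hKn hle)

end Maximal

end Cfsg.Lib.Local.CN
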