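import Mathlib
import Cfsg.Agent.Lib.Local.CN
import Cfsg.Agent.Lib.Solv.FixedPointFree
import Cfsg.Agent.Lib.Solv.FrobeniusConj
import Cfsg.Agent.Lib.PGroup.FrobeniusType
import Cfsg.Agent.S0016

/-!
CN groups acting fixed point freely on a nontrivial nilpotent group are nilpotent.
-/

set_option autoImplicit false

namespace Cfsg.Lib.Local.CN

open Cfsg Subgroup

universe u

variable {G : Type u} [Group G] [Finite G]

theorem fpf_mono {B C V : Subgroup G} (hfpf : ∀ b ∈ B, b ≠ 1 → V ⊓ centralizer ({b} : Set G) = ⊥)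
    (hCB : C ≤ B) {W : Subgroup G} (hWV : W ≤ V) :
    ∀ b ∈ C, b ≠ 1 → W ⊓ centralizer ({b} : Set G) = ⊥ := fun b hb hb1 =>
  eq_bot_iff.mpr ((inf_le_inf_right _ hWV).trans (hfpf b (hCB hb) hb1).le)

/-- In a group acting fixed point freely, an element of prime order normalizing a subgroup of prime
order centralizes it. -/
theorem commute_of_fpf_prime {E K : Subgroup G} (hK : K ≠ ⊥)
    (hEK : E ≤ normalizer (K : Set G))
    (hfpf : ∀ e ∈ E, e ≠ 1 → K ⊓ centralizer ({e} : Set G) = ⊥)
    {a b : G} {r q : ℕ} (hr : r.Prime) (hq : q.Prime) (hrq : r ≠ q) (ha : a ∈ E) (hb : b ∈ E)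
    (hao : orderOf a = r) (hbo : orderOf b = q)
    (hab : b ∈ normalizer (zpowers a : Set G)) : Commute a b := by
  by_contra hnc
  set B := zpowers a ⊔ zpowers b with hB
  have haB : zpowers a ≤ B := le_sup_left
  have hbB : zpowers b ≤ B := le_sup_right
  have hBE : B ≤ E := sup_le (zpowers_le.mpr ha) (zpowers_le.mpr hb)
  have : ((zpowers a).subgroupOf B).Normal :=
    normal_subgroupOf_iff_le_normalizer haB |>.mpr
      (sup_le le_normalizer (zpowers_le.mpr hab))
  have hd : zpowers a ⊓ zpowers b = ⊥ := inf_eq_bot_of_coprime (by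
    rw [Nat.card_zpowers, Nat.card_zpowers, hao, hbo]; exact (Nat.coprime_primes hr hq).mpr hrq)
  have hd' : Disjoint ((zpowers a).subgroupOf B) ((zpowers b).subgroupOf B) := by
    rw [disjoint_iff, eq_bot_iff]
    rintro x ⟨h1, h2⟩
    have h3 : (x : G) ∈ zpowers a ⊓ zpowers b := ⟨h1, h2⟩
    rw [hd, mem_bot] at h3
    exact mem_bot.mpr (Subtype.ext h3)
  have hsup : (zpowers a).subgroupOf B ⊔ (zpowers b).subgroupOf B = ⊤ := by
    rw [← subgroupOf_sup haB hbB, ← hB, subgroupOf_self]
  have hc : ((zpowers a).subgroupOf B).IsComplement' ((zpowers b).subgroupOf B) := by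
    refine isComplement'_of_disjoint_and_mul_eq_univ hd' ?_
    rw [← normal_mul, hsup, coe_top]
  refine Cfsg.Lib.Solv.not_fpf_frobenius hK (hBE.trans hEK) (fpf_mono hfpf hBE le_rfl)
    ((zpowers b).subgroupOf B) (Cfsg.Lib.Solv.isFrobeniusComplement_of_fpf hc ?_ ?_ ?_)
  · rw [Ne, subgroupOf_eq_bot, disjoint_iff, inf_of_le_left haB, zpowers_eq_bot]
    intro e; rw [e, orderOf_one] at hao; exact hr.ne_one hao.symm
  · rw [Ne, subgroupOf_eq_bot, disjoint_iff, inf_of_le_left hbB, zpowers_eq_bot]
    intro e; rw [e, orderOf_one] at hbo; exact hq.ne_one hbo.symm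
  · intro h hh hh1
    rw [eq_bot_iff]
    rintro x ⟨hx, hxc⟩
    by_contra hx1
    apply hnc
    have := Fact.mk hr
    have := Fact.mk hq
    -- both `x` and `h` generate
    have hxa : a ∈ zpowers (x : G) := by
      have e : zpowers (x : G) = zpowers a := by
        refine eq_of_le_of_card_ge (zpowers_le.mpr hx) (le_of_eq ?_)
        rw [Nat.card_zpowers, Nat.card_zpowers, hao]
        exact (orderOf_eq_prime (orderOf_dvd_iff_pow_eq_one.mp
          (((zpowers a).orderOf_dvd_natCard (show (x : G) ∈ zpowers a from hx)).trans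
            (by rw [Nat.card_zpowers, hao]))) (fun e => hx1 (Subtype.ext e))).symm
      rw [e]; exact mem_zpowers a
    have hhb : b ∈ zpowers (h : G) := by
      have e : zpowers (h : G) = zpowers b := by
        refine eq_of_le_of_card_ge (zpowers_le.mpr hh) (le_of_eq ?_)
        rw [Nat.card_zpowers, Nat.card_zpowers, hbo]
        exact (orderOf_eq_prime (orderOf_dvd_iff_pow_eq_one.mp
          (((zpowers b).orderOf_dvd_natCard (show (h : G) ∈ zpowers b from hh)).trans
            (by rw [Nat.card_zpowers, hbo]))) (fun e => hh1 (Subtype.ext e))).symm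
      rw [e]; exact mem_zpowers b
    obtain ⟨i, hi⟩ := mem_zpowers_iff.mp hxa
    obtain ⟨j, hj⟩ := mem_zpowers_iff.mp hhb
    have hcx : Commute (x : G) (h : G) :=
      congrArg Subtype.val (mem_centralizer_singleton_iff.mp hxc)
    rw [← hi, ← hj]
    exact (hcx.zpow_left i).zpow_right j

/-- Abelian subgroups of a group acting fixed point freely on a nilpotent group are cyclic. -/
theorem abelianCyclic_of_fpf {E K : Subgroup G} (hK : K ≠ ⊥) (hKn : Group.IsNilpotent K)
    (hEK : E ≤ normalizer (K : Set G))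
    (hfpf : ∀ e ∈ E, e ≠ 1 → K ⊓ centralizer ({e} : Set G) = ⊥) :
    Cfsg.Lib.PGroup.OrderType.AbelianCyclic E := by
  intro A hA
  set V := (center K).map K.subtype with hV
  have hV1 : V ≠ ⊥ := by
    rw [hV, Ne, map_eq_bot_iff_of_injective _ K.subtype_injective]
    have := hKn
    haveI : Nontrivial K := (nontrivial_iff_ne_bot K).mpr hK
    intro h
    exact Cfsg.Lib.Solv.inf_center_ne_bot_of_isNilpotent (G := K) (N := ⊤) top_ne_bot
      (by rw [h, inf_bot_eq])
  haveI : IsMulCommutative V := inferInstance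
  haveI : IsMulCommutative (A.map E.subtype) := inferInstance
  have hAE : A.map E.subtype ≤ E := map_subtype_le A
  have := Cfsg.Lib.Solv.isCyclic_of_fpf_abelian (B := A.map E.subtype) hV1
    ((hAE.trans hEK).trans (Cfsg.Lib.Core.normalizer_le_normalizer_map_char _))
    (fpf_mono hfpf hAE (map_subtype_le _))
  exact (A.equivMapOfInjective E.subtype E.subtype_injective).isCyclic.mpr this

/-- An involution acting fixed point freely inverts everything. -/
theorem inverts_of_fpf {E K : Subgroup G} (hEK : E ≤ normalizer (K : Set G))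
    (hfpf : ∀ e ∈ E, e ≠ 1 → K ⊓ centralizer ({e} : Set G) = ⊥) {t : G} (ht : t ∈ E)
    (hto : orderOf t = 2) {k : G} (hk : k ∈ K) : t * k * t⁻¹ = k⁻¹ := by
  let φ : MulAut K := Cfsg.Lib.Solv.conjAut hEK ⟨t, ht⟩
  have ht1 : t ≠ 1 := fun e => by rw [e, orderOf_one] at hto; norm_num at hto
  have h2 : t * t = 1 := by rw [← sq, ← hto, pow_orderOf_eq_one]
  have hf : MonoidHom.FixedPointFree φ.toMonoidHom := fun x hx =>
    Cfsg.Lib.Solv.fpf_conjAut hEK hfpf ⟨t, ht⟩ (fun e => ht1 (congrArg Subtype.val e)) x hx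
  have hi : Function.Involutive φ.toMonoidHom := fun x => Subtype.ext (by
    show t * (t * x * t⁻¹) * t⁻¹ = x
    rw [← mul_assoc, ← mul_assoc, h2, one_mul, mul_assoc, ← mul_inv_rev, h2, inv_one, mul_one])
  exact congrArg Subtype.val (congrFun (hf.coe_eq_inv_of_involutive hi) ⟨k, hk⟩)

/-- A CN group acting fixed point freely on a nontrivial nilpotent group is nilpotent. -/
theorem isNilpotent_of_fpf (hG : IsCNGroup G) {E K : Subgroup G} (hK : K ≠ ⊥)
    (hKn : Group.IsNilpotent K) (hEK : E ≤ normalizer (K : Set G))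
    (hfpf : ∀ e ∈ E, e ≠ 1 → K ⊓ centralizer ({e} : Set G) = ⊥) : Group.IsNilpotent E := by
  by_cases hE1 : E = ⊥
  · subst hE1; exact Cfsg.Lib.Core.isNilpotent_of_isMulCommutative _
  have hEcn : IsCNGroup E := isCN_of_injective hG E.subtype E.subtype_injective
  haveI : Nontrivial E := (nontrivial_iff_ne_bot E).mpr hE1
  suffices h : ∃ a : E, a ≠ 1 ∧ ∀ x : E, Commute x a by
    obtain ⟨a, ha1, ha⟩ := h
    have : centralizer ({a} : Set E) = ⊤ :=
      eq_top_iff.mpr fun x _ => mem_centralizer_singleton_iff.mpr (ha x).eq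
    have h' := hEcn a ha1
    rw [this] at h'
    exact Group.nilpotent_of_mulEquiv (topEquiv (G := E))
  by_cases heven : 2 ∣ Nat.card E
  · obtain ⟨t, hto⟩ := exists_prime_orderOf_dvd_card' (hp := ⟨Nat.prime_two⟩) 2 heven
    refine ⟨t, fun e => by rw [e, orderOf_one] at hto; norm_num at hto, fun x => ?_⟩
    have hto' : orderOf (t : G) = 2 := by rwa [orderOf_coe]
    have hto2 : orderOf (((x * t * x⁻¹ : E)) : G) = 2 := by
      rw [orderOf_coe, show x * t * x⁻¹ = MulAut.conj x t from rfl, MulEquiv.orderOf_eq, hto]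
    obtain ⟨k, hk, hk1⟩ := K.bot_or_exists_ne_one.resolve_left hK
    have e1 := inverts_of_fpf hEK hfpf t.2 hto' hk
    have e2 := inverts_of_fpf hEK hfpf (x * t * x⁻¹ : E).2 hto2 hk
    have hmem : k ∈ K ⊓ centralizer ({(((x * t * x⁻¹)⁻¹ * t : E) : G)} : Set G) := by
      refine ⟨hk, mem_centralizer_singleton_iff.mpr (Eq.symm (mul_inv_eq_iff_eq_mul.mp ?_))⟩
      rw [Subgroup.coe_mul, Subgroup.coe_inv]
      generalize (((x * t * x⁻¹ : E)) : G) = s at e2
      calc s⁻¹ * (t : G) * k * (s⁻¹ * (t : G))⁻¹ = s⁻¹ * ((t : G) * k * (t : G)⁻¹) * s := by group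
        _ = s⁻¹ * (s * k * s⁻¹) * s := by rw [e1, e2]
        _ = k := by group
    by_contra hne
    rw [hfpf _ (SetLike.coe_mem _) (fun e => hne (by
      have e' : (x * t * x⁻¹)⁻¹ * t = 1 := Subtype.ext e
      rw [inv_mul_eq_one, mul_inv_eq_iff_eq_mul] at e'
      exact e'))] at hmem
    exact hk1 (mem_bot.mp hmem)
  · have hAC := abelianCyclic_of_fpf hK hKn hEK hfpf
    have hZ : IsZGroup E := ⟨fun p hp P => by
      have := Fact.mk hp
      by_cases hP1 : (P : Subgroup E) = ⊥
      · rw [hP1]; infer_instance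
      have hp2 : p ≠ 2 := by
        rintro rfl
        exact heven (((P.2.nontrivial_iff_card.mp ((nontrivial_iff_ne_bot _).mpr hP1)).elim
          fun k hk => hk.2 ▸ dvd_pow_self 2 hk.1.ne').trans (card_subgroup_dvd_card _))
      haveI : Nontrivial ↥(P : Subgroup E) := (nontrivial_iff_ne_bot _).mpr hP1
      obtain ⟨z, -, hzc, hzo⟩ :=
        Cfsg.Lib.PGroup.exists_mem_center_orderOf_eq P.2 (N := (⊤ : Subgroup ↥(P : Subgroup E)))
          top_ne_bot
      refine (Cfsg.Agent.S0016.result p P.2 ?_).resolve_right fun h => hp2 h.1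
      have key : ∀ H : Subgroup ↥(P : Subgroup E), Nat.card H = p → H = zpowers z := by
        intro H hH
        obtain ⟨y, hy⟩ := exists_prime_orderOf_dvd_card' (G := H) p (by rw [hH])
        have hyz : (y : ↥(P : Subgroup E)) ∈ zpowers z :=
          Cfsg.Lib.PGroup.OrderType.mem_zpowers_of_eq_orderOf
            (Cfsg.Lib.PGroup.OrderType.abelianCyclic_of_injective (P : Subgroup E).subtype
              (P : Subgroup E).subtype_injective hAC)
            (Subgroup.mem_center_iff.mp hzc _).symm (by rw [hzo, orderOf_coe, hy])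
        have e1 : zpowers (y : ↥(P : Subgroup E)) = H :=
          eq_of_le_of_card_ge (zpowers_le.mpr y.2) (by rw [Nat.card_zpowers, orderOf_coe, hy, hH])
        have e2 : zpowers (y : ↥(P : Subgroup E)) = zpowers z :=
          eq_of_le_of_card_ge (zpowers_le.mpr hyz)
            (by rw [Nat.card_zpowers, Nat.card_zpowers, orderOf_coe, hy, hzo])
        rw [← e1, e2]
      intro H H' hH hH'
      rw [key H hH, key H' hH']⟩
    obtain ⟨R, hR⟩ := Cfsg.Lib.Core.exists_isMinNormal_univ (G := E)
    obtain ⟨hRc, r, hr, hRexp, hRp⟩ := Cfsg.Lib.Core.minimal_solvable_elementary hR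
      (Cfsg.Lib.Core.isSolvable_of_le (le_top : R ≤ ⊤) inferInstance)
    have := Fact.mk hr
    have hRcy : IsCyclic R := hAC R hRc
    obtain ⟨a, ha⟩ := IsCyclic.exists_generator (α := R)
    have hRa : zpowers (a : E) = R := by
      refine le_antisymm (zpowers_le.mpr a.2) fun x hx => ?_
      obtain ⟨j, hj⟩ := mem_zpowers_iff.mp (ha ⟨x, hx⟩)
      exact mem_zpowers_iff.mpr ⟨j, congrArg Subtype.val hj⟩
    have ha1 : (a : E) ≠ 1 := fun e => hR.2.1 (by rw [← hRa, e, zpowers_one_eq_bot])
    have hao : orderOf (a : E) = r := orderOf_eq_prime (hRexp _ a.2) ha1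
    refine ⟨a, ha1, fun x => ?_⟩
    refine mem_centralizer_singleton_iff.mp (Cfsg.Lib.PGroup.mem_of_ordCompl_pow_mem
      (H := centralizer ({(a : E)} : Set E)) fun q hq _ => mem_centralizer_singleton_iff.mpr ?_)
    have hu := Cfsg.Lib.PGroup.orderOf_ordCompl_pow (g := x) hq
    generalize x ^ (orderOf x / q ^ (orderOf x).factorization q) = u at hu
    by_cases hqr : q = r
    · subst hqr
      haveI := hR.1
      have hup : IsPGroup q (zpowers u) := IsPGroup.of_card (n := _) (by rw [Nat.card_zpowers, hu])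
      have hW := hup.to_sup_of_normal_right hRp
      have hle := Cfsg.Lib.PGroup.le_center_of_card_eq_prime hW
        (N := R.subgroupOf (zpowers u ⊔ R)) (by
          rw [Nat.card_congr (subgroupOfEquivOfLe le_sup_right).toEquiv, ← hRa, Nat.card_zpowers, hao])
      have h3 := Subgroup.mem_center_iff.mp
        (hle (show (⟨(a : E), mem_sup_right a.2⟩ : ↥(zpowers u ⊔ R)) ∈ R.subgroupOf _ from a.2))
        ⟨u, mem_sup_left (mem_zpowers u)⟩
      exact congrArg Subtype.val h3
    · by_cases hu1 : u = 1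
      · rw [hu1]; simp
      have hqu : q ∣ orderOf u := by
        rcases Nat.eq_zero_or_pos ((orderOf x).factorization q) with h0 | h0
        · exact absurd (orderOf_eq_one_iff.mp (by rw [hu, h0, pow_zero])) hu1
        · exact hu ▸ dvd_pow_self q h0.ne'
      set b := u ^ (orderOf u / q) with hb
      have hbo : orderOf b = q := orderOf_pow_orderOf_div (orderOf_pos u).ne' hqu
      have hb1 : b ≠ 1 := fun e => hq.ne_one (by rw [← hbo, e, orderOf_one])
      have hba : Commute (a : E) b := by
        refine Subtype.ext (commute_of_fpf_prime hK hEK hfpf hr hq (Ne.symm hqr) (a : E).2 b.2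
          (by rw [orderOf_coe, hao]) (by rw [orderOf_coe, hbo]) ?_).eq
        have hn : R.map E.subtype = zpowers ((a : E) : G) := by
          conv_lhs => rw [← hRa, MonoidHom.map_zpowers]
          rfl
        haveI := hR.1
        rw [← hn]
        exact le_normalizer_map E.subtype
          (mem_map_of_mem (K := normalizer (R : Set E)) _ (by rw [normalizer_eq_top_iff.mpr hR.1]; exact mem_top b))
      refine (commute_in (hEcn b hb1) (mem_centralizer_singleton_iff.mpr
        ((Commute.refl u).pow_right _).eq) (mem_centralizer_singleton_iff.mpr hba.eq) ?_).eq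
      rw [hu, hao]
      exact ((Nat.coprime_primes hq hr).mpr hqr).pow_left _

end Cfsg.Lib.Local.CN
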