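import Mathlib
import Cfsg.Prelude.Def_OddOrderLocal
import Cfsg.Agent.Lib.Local.CNFrobenius
import Cfsg.Agent.Lib.Core.Cores
import Cfsg.Agent.Lib.Core.Layer
import Cfsg.Agent.Lib.Coprime.Action

/-!
Structure of solvable CN groups: a Sylow subgroup for a prime with nontrivial core is normal,
or the group is a three-step group.
-/

set_option autoImplicit false

namespace Cfsg.Lib.Local.CN

open Cfsg Subgroup
open Cfsg.Lib.PGroup.OrderType

universe u

variable {G : Type u} [Group G] [Finite G]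

theorem isCyclic_or_quaternion_of_abelianCyclic (hG : AbelianCyclic G) {p : ℕ} [hp : Fact p.Prime]
    (hP : IsPGroup p G) :
    IsCyclic G ∨ (p = 2 ∧ ∃ n : ℕ, Nonempty (G ≃* QuaternionGroup (2 ^ n))) := by
  rcases subsingleton_or_nontrivial G with h | h
  · exact Or.inl inferInstance
  obtain ⟨z, -, hzc, hzo⟩ :=
    Cfsg.Lib.PGroup.exists_mem_center_orderOf_eq hP (N := (⊤ : Subgroup G)) top_ne_bot
  refine Cfsg.Agent.S0016.result p hP ?_
  have key : ∀ H : Subgroup G, Nat.card H = p → H = zpowers z := by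
    intro H hH
    obtain ⟨y, hy⟩ := exists_prime_orderOf_dvd_card' (G := H) p (by rw [hH])
    have hyz : (y : G) ∈ zpowers z := mem_zpowers_of_eq_orderOf hG
      (Subgroup.mem_center_iff.mp hzc _).symm (by rw [hzo, orderOf_coe, hy])
    have e1 : zpowers (y : G) = H :=
      eq_of_le_of_card_ge (zpowers_le.mpr y.2) (by rw [Nat.card_zpowers, orderOf_coe, hy, hH])
    have e2 : zpowers (y : G) = zpowers z :=
      eq_of_le_of_card_ge (zpowers_le.mpr hyz)
        (by rw [Nat.card_zpowers, Nat.card_zpowers, orderOf_coe, hy, hzo])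
    rw [← e1, e2]
  intro H H' hH hH'
  rw [key H hH, key H' hH']

theorem isCyclic_sylow_of_odd (hG : AbelianCyclic G) {p : ℕ} [hp : Fact p.Prime] (hp2 : p ≠ 2)
    (P : Sylow p G) : IsCyclic (P : Subgroup G) :=
  (isCyclic_or_quaternion_of_abelianCyclic
    (abelianCyclic_of_injective (P : Subgroup G).subtype (P : Subgroup G).subtype_injective hG)
    P.2).resolve_right fun h => hp2 h.1

theorem isCyclic_of_odd (hG : AbelianCyclic G) (hn : Group.IsNilpotent G)
    (hodd : Odd (Nat.card G)) : IsCyclic G := by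
  have : IsZGroup G := ⟨fun p hp P => by
    have := Fact.mk hp
    by_cases hP1 : (P : Subgroup G) = ⊥
    · rw [hP1]; infer_instance
    refine isCyclic_sylow_of_odd hG ?_ P
    rintro rfl
    haveI : Nontrivial ↥(P : Subgroup G) := (nontrivial_iff_ne_bot _).mpr hP1
    obtain ⟨k, hk, hc⟩ := P.2.nontrivial_iff_card.mp inferInstance
    exact (Nat.not_even_iff_odd.mpr hodd) (even_iff_two_dvd.mpr
      ((hc ▸ dvd_pow_self 2 hk.ne').trans (card_subgroup_dvd_card _)))⟩
  infer_instance

theorem fitting_ne_bot [Group.IsSolvable G] [Nontrivial G] : fittingSubgroup G ≠ ⊥ := by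
  obtain ⟨M, hM⟩ := Cfsg.Lib.Core.exists_isMinNormal_univ (G := G)
  obtain ⟨hc, -⟩ := Cfsg.Lib.Core.minimal_solvable_elementary hM
    (Cfsg.Lib.Core.isSolvable_of_le (le_top : M ≤ ⊤) inferInstance)
  exact fun h => hM.2.1 (eq_bot_iff.mpr (h ▸ Cfsg.Lib.Core.le_fittingSubgroup' hM.1
    (Cfsg.Lib.Core.isNilpotent_of_isMulCommutative M)))

theorem pCore_le_fitting (p : ℕ) [Fact p.Prime] : pCore p G ≤ fittingSubgroup G :=
  Cfsg.Lib.Core.pCore_le_fittingSubgroup p G

theorem sylow_normal_of_two_cores (hG : IsCNGroup G) {p q : ℕ} [hp : Fact p.Prime]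
    [hq : Fact q.Prime] (hpq : p ≠ q) (hpc : pCore p G ≠ ⊥) (hqc : pCore q G ≠ ⊥)
    (P : Sylow p G) : (P : Subgroup G).Normal := by
  set F := fittingSubgroup G with hF
  haveI : F.Normal := Cfsg.Lib.Core.fittingSubgroup_normal' G
  have hFn : Group.IsNilpotent F := Cfsg.Lib.Core.fittingSubgroup_isNilpotent G
  obtain ⟨H, ⟨hHn, hFH⟩, hHmax⟩ := Set.Finite.exists_maximal
    (s := {L : Subgroup G | Group.IsNilpotent L ∧ F ≤ L}) (Set.toFinite _) ⟨F, hFn, le_rfl⟩
  have hmax : ∀ L : Subgroup G, Group.IsNilpotent L → H ≤ L → L = H := fun L hL hle =>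
    le_antisymm (hHmax ⟨hL, hFH.trans hle⟩ hle) hle
  have hdvd : ∀ {r : ℕ} [Fact r.Prime], pCore r G ≠ ⊥ → r ∣ Nat.card F := by
    intro r _ hr
    haveI : Nontrivial ↥(pCore r G) := (nontrivial_iff_ne_bot _).mpr hr
    obtain ⟨k, hk, hc⟩ := (Cfsg.Lib.Core.pCore_isPGroup r G).nontrivial_iff_card.mp inferInstance
    exact (hc ▸ dvd_pow_self r hk.ne').trans (card_dvd_of_le (pCore_le_fitting r))
  have hpF := hdvd hpc
  have hpp : ¬ IsPrimePow (Nat.card H) := by
    intro h
    obtain ⟨r, -, hr⟩ := isPrimePow_iff_unique_prime_dvd.mp h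
    have e1 := hr p ⟨hp.out, hpF.trans (card_dvd_of_le hFH)⟩
    have e2 := hr q ⟨hq.out, (hdvd hqc).trans (card_dvd_of_le hFH)⟩
    exact hpq (e1.trans e2.symm)
  have hHnormal : H.Normal := by
    rw [Cfsg.Lib.Core.normal_iff_map_conj]
    intro g
    by_contra hne
    have h1 : F ≤ H ⊓ H.map (MulAut.conj g).toMonoidHom :=
      le_inf hFH ((Cfsg.Lib.Core.normal_iff_map_conj.mp ‹F.Normal› g).ge.trans (map_mono hFH))
    rw [isTI_of_not_isPrimePow hG hHn hmax hpp g hne, le_bot_iff] at h1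
    exact hp.out.not_dvd_one (by simpa [h1] using hpF)
  have hHF : H = F := le_antisymm (Cfsg.Lib.Core.le_fittingSubgroup' hHnormal hHn) hFH
  have hcop : (Nat.card F).Coprime F.index := hHF ▸ coprime_index hG hHn hmax
  have hPF : (P : Subgroup G) ≤ F := by
    intro g hg
    obtain ⟨i, hi⟩ := IsPGroup.iff_orderOf.mp P.2 ⟨g, hg⟩
    rw [orderOf_mk] at hi
    obtain ⟨m, hm⟩ := exists_pow_eq_self_of_coprime (x := g) (n := F.index) (by
      rw [hi]; exact ((hcop.coprime_dvd_left hpF).symm).pow_right i)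
    have := pow_mem (pow_index_mem F g) m
    rwa [hm] at this
  let PF : Sylow p F := P.subtype hPF
  haveI : (PF : Subgroup F).Normal :=
    ((Group.isNilpotent_of_finite_tfae (G := F)).out 0 3 rfl rfl).mp hFn p inferInstance PF
  haveI : (PF : Subgroup F).Characteristic := PF.characteristic_of_normal ‹_›
  have hn := Cfsg.Lib.Core.normal_map_char_of_normal (N := F) (PF : Subgroup F)
  rwa [show (PF : Subgroup F).map F.subtype = (P : Subgroup G) from
    map_subgroupOf_eq_of_le hPF] at hn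

/-- The dichotomy for solvable CN groups. -/
theorem sylow_normal_or_threeStep [Group.IsSolvable G] (hG : IsCNGroup G) {p : ℕ}
    [hp : Fact p.Prime] (hpc : pCore p G ≠ ⊥) :
    (∀ P : Sylow p G, (P : Subgroup G).Normal) ∨ IsThreeStepGroup p G := by
  by_cases hnorm : ∀ P : Sylow p G, (P : Subgroup G).Normal
  · exact Or.inl hnorm
  right
  push Not at hnorm
  obtain ⟨P, hP⟩ := hnorm
  -- the Fitting subgroup is a `p`-group
  have hother : ∀ q : ℕ, q.Prime → q ≠ p → pCore q G = ⊥ := fun q hq hqp => by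
    by_contra h
    have := Fact.mk hq
    exact hP (sylow_normal_of_two_cores hG (Ne.symm hqp) hpc h P)
  set F := pCore p G with hF
  haveI hFN : F.Normal := inferInstance
  have hFp : IsPGroup p F := Cfsg.Lib.Core.pCore_isPGroup p G
  have hfit : fittingSubgroup G = F := by
    rw [Cfsg.Lib.Core.fittingSubgroup_eq_iSup_pCore]
    refine le_antisymm (iSup_le fun q => ?_)
      (le_iSup (fun q : Nat.Primes => pCore (q : ℕ) G) ⟨p, hp.out⟩)
    by_cases h : (q : ℕ) = p
    · rw [h]
    · rw [hother q q.2 h]; exact bot_le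
  have hCF : centralizer (F : Set G) ≤ F := by
    have := Cfsg.Lib.Core.centralizer_fitting_le_of_isSolvable (G := G)
    rwa [hfit] at this
  haveI : Nontrivial ↥F := (nontrivial_iff_ne_bot _).mpr hpc
  obtain ⟨z, -, hzc, hzo⟩ :=
    Cfsg.Lib.PGroup.exists_mem_center_orderOf_eq hFp (N := (⊤ : Subgroup ↥F)) top_ne_bot
  have hz1 : (z : G) ≠ 1 := fun e => hp.out.ne_one (by
    rw [← hzo, orderOf_eq_one_iff]; exact Subtype.ext e)
  have hford : ∀ f ∈ F, ∃ i, orderOf f = p ^ i := fun f hf => by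
    obtain ⟨i, hi⟩ := IsPGroup.iff_orderOf.mp hFp ⟨f, hf⟩
    exact ⟨i, by rwa [orderOf_mk] at hi⟩
  have hFcard : ∃ k, Nat.card F = p ^ k := IsPGroup.iff_card.mp hFp
  -- `p'`-elements act fixed point freely
  have hfpf : ∀ b : G, (orderOf b).Coprime p → b ≠ 1 → F ⊓ centralizer ({b} : Set G) = ⊥ := by
    intro b hb hb1
    rw [eq_bot_iff]
    rintro x ⟨hx, hxb⟩
    by_contra hx1
    have hzx : Commute (z : G) x :=
      (congrArg Subtype.val (Subgroup.mem_center_iff.mp hzc ⟨x, hx⟩)).symm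
    have hbz : Commute b (z : G) := commute_in (hG x hx1)
      (mem_centralizer_singleton_iff.mpr (mem_centralizer_singleton_iff.mp hxb).symm)
      (mem_centralizer_singleton_iff.mpr hzx.eq)
      (by rw [orderOf_coe, hzo]; exact hb)
    have hbF : b ∈ centralizer (F : Set G) := mem_centralizer_iff.mpr fun f hf => by
      obtain ⟨i, hi⟩ := hford f hf
      refine (commute_in (hG _ hz1) (mem_centralizer_singleton_iff.mpr hbz.eq)
        (mem_centralizer_singleton_iff.mpr ?_) (by rw [hi]; exact hb.pow_right i)).eq.symm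
      exact congrArg Subtype.val (Subgroup.mem_center_iff.mp hzc ⟨f, hf⟩)
    obtain ⟨i, hi⟩ := hford b (hCF hbF)
    refine hb1 (orderOf_eq_one_iff.mp (Nat.eq_one_of_dvd_coprimes (hb.pow_right i) dvd_rfl ?_))
    rw [hi]
  -- the quotient
  set π := QuotientGroup.mk' F with hπ
  have hπs : Function.Surjective π := QuotientGroup.mk'_surjective F
  haveI : Group.IsSolvable (G ⧸ F) := Group.isSolvable_of_surjective hπs
  have hQ : IsCNGroup (G ⧸ F) := isCN_quotient_solvable _ G rfl hG F
    (Cfsg.Lib.Core.isSolvable_of_le (le_top : F ≤ ⊤) inferInstance)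
  have hQp : pCore p (G ⧸ F) = ⊥ := Cfsg.Lib.Core.pCore_quotient_pCore_eq_bot
  have hPF : ¬ (P : Subgroup G) ≤ F := fun h => hP (by
    rw [le_antisymm h (Cfsg.Lib.Core.pCore_le_sylow P)]; exact hFN)
  haveI : Nontrivial (G ⧸ F) := by
    rw [← not_subsingleton_iff_nontrivial, QuotientGroup.subsingleton_iff]
    intro h; exact hPF (h ▸ le_top)
  set Ab := fittingSubgroup (G ⧸ F) with hAb
  haveI hAbN : Ab.Normal := Cfsg.Lib.Core.fittingSubgroup_normal' _
  have hAbn : Group.IsNilpotent Ab := Cfsg.Lib.Core.fittingSubgroup_isNilpotent _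
  have hAbp : ¬ p ∣ Nat.card Ab := by
    intro hd
    obtain ⟨S⟩ : Nonempty (Sylow p Ab) := inferInstance
    haveI : (S : Subgroup Ab).Normal :=
      ((Group.isNilpotent_of_finite_tfae (G := Ab)).out 0 3 rfl rfl).mp hAbn p inferInstance S
    haveI : (S : Subgroup Ab).Characteristic := S.characteristic_of_normal ‹_›
    have hn := Cfsg.Lib.Core.normal_map_char_of_normal (N := Ab) (S : Subgroup Ab)
    have := Cfsg.Lib.Core.le_pCore' hn (S.2.map Ab.subtype)
    rw [hQp, le_bot_iff, map_eq_bot_iff_of_injective _ Ab.subtype_injective] at this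
    exact S.ne_bot_of_dvd_card hd this
  set W := Ab.comap π with hW
  haveI hWN : W.Normal := inferInstance
  have hFW : F ≤ W := fun f hf => mem_comap.mpr (by
    rw [show π f = 1 from (QuotientGroup.eq_one_iff f).mpr hf]; exact one_mem _)
  have hrel : F.relIndex W = Nat.card Ab := by
    rw [← relIndex_bot_left]
    conv_lhs => rw [show F = (⊥ : Subgroup (G ⧸ F)).comap π by
      rw [MonoidHom.comap_bot, QuotientGroup.ker_mk']]
    rw [relIndex_comap, map_comap_eq_self_of_surjective hπs]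
  obtain ⟨A, hAW, hAcard, hFA⟩ := Cfsg.Lib.Coprime.exists_complement_of_coprime hFW
    (Cfsg.Lib.Local.le_normalizer_normal W) (by
      obtain ⟨k, hk⟩ := hFcard
      rw [hrel, hk]
      exact Nat.Coprime.pow_left _ (hp.out.coprime_iff_not_dvd.mpr hAbp))
  rw [hrel] at hAcard
  have hAcop : (Nat.card A).Coprime p := by
    rw [hAcard]; exact (hp.out.coprime_iff_not_dvd.mpr hAbp).symm
  have hAel : ∀ a ∈ A, (orderOf a).Coprime p := fun a ha =>
    hAcop.coprime_dvd_left (A.orderOf_dvd_natCard ha)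
  have hAfpf : ∀ a ∈ A, a ≠ 1 → F ⊓ centralizer ({a} : Set G) = ⊥ := fun a ha ha1 =>
    hfpf a (hAel a ha) ha1
  have hAFd : ∀ a ∈ A, a ∈ F → a = 1 := fun a ha haF => by
    obtain ⟨i, hi⟩ := hford a haF
    exact orderOf_eq_one_iff.mp (Nat.eq_one_of_dvd_coprimes ((hAel a ha).pow_right i) dvd_rfl (by rw [hi]))
  have hπA : ∀ a ∈ A, π a = 1 → a = 1 := fun a ha h =>
    hAFd a ha ((QuotientGroup.eq_one_iff a).mp h)
  have hAsurj : ∀ y ∈ Ab, ∃ a ∈ A, π a = y := by
    intro y hy
    obtain ⟨w, rfl⟩ := hπs y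
    have hw : w ∈ F ⊔ A := hFA ▸ (mem_comap.mpr hy : w ∈ W)
    obtain ⟨f, hf, a, ha, rfl⟩ := mem_sup_of_normal_left.mp hw
    exact ⟨a, ha, by rw [map_mul, show π f = 1 from (QuotientGroup.eq_one_iff f).mpr hf, one_mul]⟩
  have hAAC : AbelianCyclic A :=
    abelianCyclic_of_fpf hpc hFp.isNilpotent (Cfsg.Lib.Local.le_normalizer_normal A) hAfpf
  have hAnil : Group.IsNilpotent A :=
    isNilpotent_of_fpf hG hpc hFp.isNilpotent (Cfsg.Lib.Local.le_normalizer_normal A) hAfpf
  have hAne : A ≠ ⊥ := fun e => fitting_ne_bot (G := G ⧸ F) (by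
    refine Subgroup.eq_bot_of_card_eq _ ?_
    rw [← hAb, ← hAcard, e, card_bot])
  -- oddness
  have hAodd : Odd (Nat.card A) := by
    rw [← Nat.not_even_iff_odd, even_iff_two_dvd]
    intro h2
    have := Fact.mk Nat.prime_two
    obtain ⟨t, htA, htc, hto⟩ := exists_central hAnil h2
    have htπ : π t ≠ 1 := fun e => by
      rw [hπA t htA e, orderOf_one] at hto; norm_num at hto
    have hu : ∀ a ∈ A, orderOf a = 2 → a = t := fun a ha hao =>
      congrArg Subtype.val (unique_involution hAAC (u := (⟨a, ha⟩ : A)) (v := ⟨t, htA⟩)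
        (by rwa [orderOf_mk]) (by rwa [orderOf_mk]) (Subtype.ext (htc a ha).eq))
    have htAb : π t ∈ Ab := mem_comap.mp (hAW htA)
    have hcent : centralizer ({π t} : Set (G ⧸ F)) = ⊤ := by
      refine eq_top_iff.mpr fun x _ => mem_centralizer_singleton_iff.mpr ?_
      obtain ⟨a, ha, hax⟩ := hAsurj _ (hAbN.conj_mem _ htAb x)
      have h2 : a * a = 1 := hπA _ (mul_mem ha ha) (by
        rw [map_mul, hax, show x * π t * x⁻¹ * (x * π t * x⁻¹) = x * (π t * π t) * x⁻¹ by group,
          ← map_mul, ← sq, ← hto, pow_orderOf_eq_one, map_one, mul_one, mul_inv_cancel])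
      have ha1 : a ≠ 1 := fun e => htπ (by
        rw [e, map_one] at hax
        exact conj_eq_one_iff.mp hax.symm)
      rw [hu a ha (orderOf_eq_prime (by rw [sq, h2]) ha1)] at hax
      exact (mul_inv_eq_iff_eq_mul.mp hax.symm)
    have hnilQ : Group.IsNilpotent (G ⧸ F) := by
      have h := hQ _ htπ
      rw [hcent] at h
      exact Group.nilpotent_of_mulEquiv (G := ↥(⊤ : Subgroup (G ⧸ F))) topEquiv
    obtain ⟨S⟩ : Nonempty (Sylow p (G ⧸ F)) := inferInstance
    have hSn : (S : Subgroup (G ⧸ F)).Normal :=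
      ((Group.isNilpotent_of_finite_tfae (G := G ⧸ F)).out 0 3 rfl rfl).mp hnilQ p inferInstance S
    refine hPF fun g hg => ?_
    have h1 : (P : Subgroup G).map π ≤ ⊥ := by
      rw [← hQp]
      haveI := hSn
      refine le_trans ?_ (Cfsg.Lib.Core.le_pCore' hSn S.2)
      exact le_trans le_sup_left
        (Cfsg.Lib.Local.sylow_eq_of_le S ((P.2.map π).to_sup_of_normal_right S.2) le_sup_right).le
    exact (QuotientGroup.eq_one_iff g).mp (mem_bot.mp (h1 (mem_map_of_mem _ hg)))
  have hAcyc : IsCyclic A := isCyclic_of_odd hAAC hAnil hAodd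
  have hAbc : IsCyclic Ab := by
    let f : A →* Ab := (π.comp A.subtype).codRestrict Ab fun a => mem_comap.mp (hAW a.2)
    exact isCyclic_of_surjective f fun y => by
      obtain ⟨a, ha, hay⟩ := hAsurj y y.2
      exact ⟨⟨a, ha⟩, Subtype.ext hay⟩
  -- elements outside act freely on the cyclic normal subgroup
  have hfree : ∀ x : G, x ∉ W → ∀ y ∈ Ab, y ≠ 1 → ¬ Commute (π x) y := by
    intro x hx y hy hy1 hc
    have hyn : (zpowers y).Normal := by
      refine ⟨fun v hv g => ?_⟩
      obtain ⟨j, rfl⟩ := mem_zpowers_iff.mp hv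
      have hgy : g * y * g⁻¹ ∈ zpowers y := by
        have h : zpowers (⟨g * y * g⁻¹, hAbN.conj_mem y hy g⟩ : Ab) = zpowers ⟨y, hy⟩ :=
          Cfsg.Lib.Invol.zpowers_eq_of_cyclic (by
            rw [orderOf_mk, orderOf_mk]; exact MulEquiv.orderOf_eq (MulAut.conj g) y)
        obtain ⟨i, hi⟩ := mem_zpowers_iff.mp (h ▸ mem_zpowers _ :
          (⟨g * y * g⁻¹, hAbN.conj_mem y hy g⟩ : Ab) ∈ zpowers ⟨y, hy⟩)
        exact mem_zpowers_iff.mpr ⟨i, congrArg Subtype.val hi⟩
      rw [← conj_zpow]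
      exact zpow_mem hgy j
    have e : centralizer ((zpowers y : Subgroup (G ⧸ F)) : Set (G ⧸ F)) = centralizer {y} := by
      rw [zpowers_eq_closure, centralizer_closure]
    have hCn : (centralizer ({y} : Set (G ⧸ F))).Normal := e ▸ Subgroup.normal_centralizer
    exact hx (mem_comap.mpr (Cfsg.Lib.Core.le_fittingSubgroup' hCn (hQ y hy1)
      (mem_centralizer_singleton_iff.mpr hc.eq)))
  have hWA : F ⊔ A = W := hFA
  refine ⟨hpc, A, hAne, hAcyc, hAodd, hAcop, ?_, ?_, ?_, hAfpf, ?_⟩
  · rw [← hF, hWA]; exact hWN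
  · rw [← hF, hWA]
    intro e
    apply hPF
    intro g hg
    have hgW : π g ∈ Ab := mem_comap.mp (e.symm ▸ mem_top g : g ∈ W)
    obtain ⟨i, hi⟩ := IsPGroup.iff_orderOf.mp P.2 ⟨g, hg⟩
    rw [orderOf_mk] at hi
    refine (QuotientGroup.eq_one_iff g).mp (orderOf_eq_one_iff.mp (Nat.eq_one_of_dvd_coprimes
      ((hp.out.coprime_iff_not_dvd.mpr hAbp).pow_left i) (hi ▸ orderOf_map_dvd π g)
      (Subgroup.orderOf_dvd_natCard _ hgW)))
  · rw [← hF, hWA]
    refine ⟨_, Nat.eq_prime_pow_of_unique_prime_dvd index_ne_zero_of_finite fun {s} hs hsd => ?_⟩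
    by_contra hsp
    have := Fact.mk hs
    -- an element of order `s` modulo `W`
    obtain ⟨S⟩ : Nonempty (Sylow s G) := inferInstance
    have hSW : ¬ (S : Subgroup G) ≤ W := fun h =>
      S.not_dvd_index (hsd.trans (index_dvd_of_le h))
    obtain ⟨x₀, hx₀S, hx₀W⟩ := SetLike.not_le_iff_exists.mp hSW
    obtain ⟨i, hi⟩ := IsPGroup.iff_orderOf.mp S.2 ⟨x₀, hx₀S⟩
    rw [orderOf_mk] at hi
    have hex : ∃ j, x₀ ^ s ^ j ∈ W := ⟨i, by rw [← hi, pow_orderOf_eq_one]; exact one_mem _⟩
    classical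
    obtain ⟨j, hj⟩ : ∃ j, Nat.find hex = j + 1 := ⟨Nat.find hex - 1, by
      have : Nat.find hex ≠ 0 := fun h => by
        have := Nat.find_spec hex
        rw [h, pow_zero, pow_one] at this
        exact hx₀W this
      omega⟩
    set x := x₀ ^ s ^ j with hx
    have hxW : x ∉ W := Nat.find_min hex (by omega)
    have hxs : x ^ s ∈ W := by
      rw [hx, ← pow_mul, ← pow_succ, ← hj]; exact Nat.find_spec hex
    have hxo : orderOf x ∣ s ^ i := (orderOf_pow_dvd _).trans (by rw [hi])
    have hxcop : (orderOf x).Coprime p :=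
      (((Nat.coprime_primes hs hp.out).mpr hsp).pow_left i).coprime_dvd_left hxo
    have hxs1 : x ^ s = 1 := by
      have h1 : π (x ^ s) = 1 := by
        by_contra h1
        exact hfree x hxW _ (mem_comap.mp hxs) h1
          (by rw [map_pow]; exact (Commute.refl (π x)).pow_right s)
      obtain ⟨k, hk⟩ := hford _ ((QuotientGroup.eq_one_iff _).mp h1)
      exact orderOf_eq_one_iff.mp (Nat.eq_one_of_dvd_coprimes (hxcop.pow_right k)
        (orderOf_pow_dvd s) (by rw [hk]))
    have hxo' : orderOf x = s := orderOf_eq_prime hxs1 fun e => hxW (e ▸ one_mem _)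
    -- `s` does not divide the order of `A`
    have hsA : ¬ s ∣ Nat.card Ab := by
      intro hd
      have hB : zpowers (π x) ≤ normalizer (Ab : Set (G ⧸ F)) :=
        Cfsg.Lib.Local.le_normalizer_normal _
      have hbfpf : ∀ b ∈ zpowers (π x), b ≠ 1 → Ab ⊓ centralizer ({b} : Set (G ⧸ F)) = ⊥ := by
        intro b hb hb1
        obtain ⟨k, rfl⟩ := mem_zpowers_iff.mp hb
        rw [eq_bot_iff]
        rintro y ⟨hy, hyb⟩
        by_contra hy1
        have hc : Commute (π (x ^ k)) y := by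
          rw [map_zpow]; exact (mem_centralizer_singleton_iff.mp hyb).symm
        refine hfree (x ^ k) (fun hk => hb1 ?_) y hy hy1 hc
        have hkx : x ∈ zpowers (x ^ k) := by
          have hne : x ^ k ≠ 1 := fun e => hb1 (by rw [← map_zpow, e, map_one])
          have ho : (x ^ k) ^ s = 1 := by
            rw [← zpow_natCast, ← zpow_mul, mul_comm, zpow_mul, zpow_natCast, hxs1, one_zpow]
          rw [eq_of_le_of_card_ge (zpowers_le.mpr (zpow_mem_zpowers x k)) (by
            rw [Nat.card_zpowers, Nat.card_zpowers, hxo', orderOf_eq_prime (p := s) ho hne])]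
          exact mem_zpowers x
        exact absurd ((zpowers_le.mpr hk) hkx) hxW
      have := Cfsg.Lib.Solv.coprime_of_fpf hB hbfpf
      have hπx : π x ≠ 1 := fun e => hxW (hFW ((QuotientGroup.eq_one_iff x).mp e))
      rw [Nat.card_zpowers, orderOf_eq_prime (p := s) (by rw [← map_pow, hxs1, map_one]) hπx] at this
      exact (hs.coprime_iff_not_dvd.mp this) hd
    -- a complement of `F` in `W⟨x⟩`
    set T := W ⊔ zpowers x with hT
    have hFT : F ≤ T := hFW.trans le_sup_left
    have hTcard : F.relIndex T = Nat.card Ab * s := by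
      rw [← relIndex_mul_relIndex F W T hFW le_sup_left, hrel]
      congr 1
      have hd : W ⊓ zpowers x = ⊥ := by
        rw [eq_bot_iff]
        rintro v ⟨hv, hvx⟩
        by_contra hv1
        refine hxW (zpowers_le.mpr hv ?_)
        have ho : v ^ s = 1 := orderOf_dvd_iff_pow_eq_one.mp
          ((Subgroup.orderOf_dvd_natCard _ hvx).trans (by rw [Nat.card_zpowers, hxo']))
        rw [eq_of_le_of_card_ge (zpowers_le.mpr hvx) (by
          rw [Nat.card_zpowers, Nat.card_zpowers, hxo', orderOf_eq_prime (p := s) ho hv1])]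
        exact mem_zpowers x
      rw [hT, relIndex_sup_left, ← inf_relIndex_right, hd, relIndex_bot_left, Nat.card_zpowers, hxo']
    obtain ⟨B, hBT, hBcard, -⟩ := Cfsg.Lib.Coprime.exists_complement_of_coprime hFT
      (Cfsg.Lib.Local.le_normalizer_normal T) (by
        obtain ⟨k, hk⟩ := hFcard
        rw [hTcard, hk]
        exact Nat.Coprime.pow_left _ (Nat.Coprime.mul_right (hp.out.coprime_iff_not_dvd.mpr hAbp)
          ((Nat.coprime_primes hp.out hs).mpr (Ne.symm hsp))))
    rw [hTcard] at hBcard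
    obtain ⟨b, hb⟩ := exists_prime_orderOf_dvd_card' (G := B) s (hBcard ▸ dvd_mul_left _ _)
    have hBel : ∀ g ∈ B, (orderOf g).Coprime p := fun g hg => by
      refine Nat.Coprime.coprime_dvd_left (B.orderOf_dvd_natCard hg) ?_
      rw [hBcard]
      exact Nat.Coprime.mul_left (hp.out.coprime_iff_not_dvd.mpr hAbp).symm
        ((Nat.coprime_primes hs hp.out).mpr hsp)
    have hbW : (b : G) ∉ W := by
      intro hbW
      have hd := orderOf_dvd_natCard (⟨(b : G), hbW⟩ : W)
      rw [orderOf_mk, orderOf_coe, hb, ← card_mul_index (F.subgroupOf W),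
        Nat.card_congr (subgroupOfEquivOfLe hFW).toEquiv] at hd
      rcases hs.dvd_mul.mp hd with h | h
      · obtain ⟨k, hk⟩ := hFcard
        exact hsp ((Nat.prime_dvd_prime_iff_eq hs hp.out).mp (hs.dvd_of_dvd_pow (hk ▸ h)))
      · exact hsA (hrel ▸ h)
    -- the kernel
    set V := (W.subgroupOf B) with hV
    have hBfpf : ∀ g ∈ B, g ≠ 1 → F ⊓ centralizer ({g} : Set G) = ⊥ := fun g hg hg1 =>
      hfpf g (hBel g hg) hg1
    haveI : V.Normal := inferInstance
    have hd : V ⊓ zpowers b = ⊥ := by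
      rw [eq_bot_iff]
      rintro v ⟨hv, hvb⟩
      by_contra hv1
      refine hbW ?_
      have : b ∈ zpowers v := by
        have ho : v ^ s = 1 := orderOf_dvd_iff_pow_eq_one.mp
          ((Subgroup.orderOf_dvd_natCard _ hvb).trans (by rw [Nat.card_zpowers, hb]))
        rw [eq_of_le_of_card_ge (zpowers_le.mpr hvb) (by
          rw [Nat.card_zpowers, Nat.card_zpowers, hb, orderOf_eq_prime (p := s) ho hv1])]
        exact mem_zpowers b
      exact zpowers_le.mpr hv this
    have hcard : Nat.card V * s = Nat.card B := by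
      have h1 : V.index ∣ s := by
        have h1 : W.relIndex T = s := by
          have := relIndex_mul_relIndex F W T hFW le_sup_left
          rw [hrel, hTcard] at this
          exact Nat.eq_of_mul_eq_mul_left Nat.card_pos this
        haveI : (W.subgroupOf T).Normal := inferInstance
        show W.relIndex B ∣ s
        rw [← h1, ← relIndex_mul_relIndex W (B ⊔ W) T le_sup_right (sup_le hBT le_sup_left),
          sup_comm B W, relIndex_sup_left]
        exact dvd_mul_right _ _
      have h2 : V.index ≠ 1 := fun h => hbW (by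
        have : b ∈ V := by rw [index_eq_one.mp h]; exact mem_top b
        exact this)
      rw [← card_mul_index V, ((Nat.dvd_prime hs).mp h1).resolve_left h2]
    have hc : V.IsComplement' (zpowers b) := by
      refine isComplement'_of_card_mul_and_disjoint ?_ (disjoint_iff.mpr hd)
      rw [Nat.card_zpowers, hb, hcard]
    refine Cfsg.Lib.Solv.not_fpf_frobenius hpc (Cfsg.Lib.Local.le_normalizer_normal B) hBfpf
      (zpowers b) (Cfsg.Lib.Solv.isFrobeniusComplement_of_fpf hc ?_ ?_ ?_)
    · intro e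
      rw [e, card_bot, one_mul, hBcard] at hcard
      have : Nat.card Ab = 1 := by
        have := hs.pos
        nlinarith
      exact fitting_ne_bot (G := G ⧸ F) (Subgroup.eq_bot_of_card_eq _ this)
    · rw [Ne, zpowers_eq_bot]
      intro e; rw [e, orderOf_one] at hb; exact hs.ne_one hb.symm
    · intro g hg hg1
      rw [eq_bot_iff]
      rintro v ⟨hv, hvg⟩
      by_contra hv1
      have hgW : (g : G) ∉ W := fun h => hg1 (mem_bot.mp (hd ▸ mem_inf.mpr ⟨h, hg⟩))
      have hc : Commute (π (g : G)) (π (v : G)) :=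
        ((show Commute v g from mem_centralizer_singleton_iff.mp hvg).map (π.comp B.subtype)).symm
      refine hfree _ hgW _ (mem_comap.mp hv) (fun e => hv1 ?_) hc
      obtain ⟨k, hk⟩ := hford _ ((QuotientGroup.eq_one_iff (v : G)).mp e)
      exact Subtype.ext (orderOf_eq_one_iff.mp (Nat.eq_one_of_dvd_coprimes
        ((hBel v v.2).pow_right k) dvd_rfl (by rw [hk])))
  · rw [← hF, hWA]
    intro x hx a ha ha1 hmem
    refine hfree x hx (π a) (mem_comap.mp (hAW ha)) (fun e => ha1 (hπA a ha e)) ?_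
    have h1 : π (x * a * x⁻¹ * a⁻¹) = 1 := (QuotientGroup.eq_one_iff _).mpr hmem
    rw [map_mul, map_mul, map_mul, map_inv, map_inv, mul_inv_eq_one, mul_inv_eq_iff_eq_mul] at h1
    exact h1

end Cfsg.Lib.Local.CN
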