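import Mathlib
import Cfsg.Prelude.Def_OddOrder
import Cfsg.Prelude.Def_OddOrderLocal
import Cfsg.Agent.Lib.Local.CNSolvable
import Cfsg.Agent.Lib.Fusion.Alperin
import Cfsg.Agent.Lib.Fusion.Tate
import Cfsg.Agent.Lib.Thompson.Transport
import Cfsg.Agent.Lib.Thompson.NormalComplement
import Cfsg.Agent.S0603

/-!
Minimal simple CN groups of odd order: no three-step subgroups, maximal nilpotent subgroups are
TI subgroups whose normalizers are the maximal subgroups.
-/

set_option autoImplicit false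

namespace Cfsg.Lib.Local.CN

open Cfsg Subgroup
open Cfsg.Lib.Fusion (conjR IsTame Chain chainProd Linked)

universe u

section ThreeStep

variable {L : Type u} [Group L] [Finite L] {p : ℕ} [hp : Fact p.Prime]

omit [Finite L] in
theorem pi_eq_one {F : Subgroup L} [F.Normal] {f : L} (hf : f ∈ F) :
    QuotientGroup.mk' F f = 1 := (QuotientGroup.eq_one_iff f).mpr hf

theorem threeStep_sylow_not_le (h : IsThreeStepGroup p L) (P : Sylow p L) :
    ¬ (P : Subgroup L) ≤ pCore p L := by
  intro hP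
  obtain ⟨-, A, -, -, -, -, -, htop, ⟨n, hn⟩, -⟩ := h
  have hn0 : n ≠ 0 := by
    rintro rfl
    exact htop (index_eq_one.mp (by rw [hn, pow_zero]))
  exact P.not_dvd_index ((hn ▸ dvd_pow_self p hn0).trans
    (index_dvd_of_le (hP.trans le_sup_left)))

theorem threeStep_not_normal (h : IsThreeStepGroup p L) (P : Sylow p L) :
    ¬ (P : Subgroup L).Normal := fun hn =>
  threeStep_sylow_not_le h P (Cfsg.Lib.Core.le_pCore' hn P.2)

theorem eq_one_of_mem_pCore {b : L} (hb : (orderOf b).Coprime p) (hbF : b ∈ pCore p L) :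
    b = 1 := by
  obtain ⟨i, hi⟩ := IsPGroup.iff_orderOf.mp (Cfsg.Lib.Core.pCore_isPGroup p L) ⟨b, hbF⟩
  rw [orderOf_mk] at hi
  exact orderOf_eq_one_iff.mp
    (Nat.eq_one_of_dvd_coprimes (hb.pow_right i) dvd_rfl (by rw [hi]))

/-- In a three-step group a `p'`-element centralizing `O_p` is trivial. -/
theorem threeStep_centralizer (h : IsThreeStepGroup p L) {b : L} (hb : (orderOf b).Coprime p)
    (hbc : ∀ f ∈ pCore p L, Commute b f) : b = 1 := by
  obtain ⟨hne, A, -, -, -, -, hN, -, ⟨n, hn⟩, hfpf, -⟩ := h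
  have hbW : b ∈ pCore p L ⊔ A := by
    obtain ⟨m, hm⟩ := exists_pow_eq_self_of_coprime (x := b) (n := (pCore p L ⊔ A).index)
      (by rw [hn]; exact (hb.pow_right n).symm)
    have := pow_mem (pow_index_mem (pCore p L ⊔ A) b) m
    rwa [hm] at this
  obtain ⟨f, hf, a, ha, rfl⟩ := mem_sup_of_normal_left.mp hbW
  haveI : Nontrivial ↥(pCore p L) := (nontrivial_iff_ne_bot _).mpr hne
  obtain ⟨z, -, hzc, hzo⟩ := Cfsg.Lib.PGroup.exists_mem_center_orderOf_eq
    (Cfsg.Lib.Core.pCore_isPGroup p L) (N := (⊤ : Subgroup ↥(pCore p L))) top_ne_bot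
  have hz1 : (z : L) ≠ 1 := fun e => hp.out.ne_one (by
    rw [← hzo, orderOf_eq_one_iff]; exact Subtype.ext e)
  have hza : Commute (z : L) a := by
    have h1 : Commute (z : L) (f * a) := (hbc z z.2).symm
    have h2 : Commute (z : L) f :=
      (congrArg Subtype.val (Subgroup.mem_center_iff.mp hzc ⟨f, hf⟩)).symm
    have := h2.inv_right.mul_right h1
    rwa [inv_mul_cancel_left] at this
  by_cases ha1 : a = 1
  · subst ha1
    exact eq_one_of_mem_pCore hb (by rwa [mul_one])
  · exact absurd (mem_bot.mp ((hfpf a ha ha1).le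
      ⟨z.2, mem_centralizer_singleton_iff.mpr hza.eq⟩)) hz1

/-- A `p`-subgroup normalized by a nontrivial `p'`-element lies in `O_p`. -/
theorem threeStep_le_core (h : IsThreeStepGroup p L) {b : L} (hbo : (orderOf b).Coprime p)
    (hb1 : b ≠ 1) {J : Subgroup L} (hJp : IsPGroup p J) (hbN : b ∈ normalizer (J : Set L)) :
    J ≤ pCore p L := by
  set F := pCore p L with hF
  obtain ⟨-, A, -, -, -, hAp, hN, -, ⟨n, hn⟩, -, hx⟩ := h
  set W := F ⊔ A with hW
  set π := QuotientGroup.mk' F with hπ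
  have hpW : ∀ {y : L} {i : ℕ}, orderOf y = p ^ i → y ∈ W → y ∈ F := by
    intro y i hy hyW
    obtain ⟨f, hf, a, ha, rfl⟩ := mem_sup_of_normal_left.mp hyW
    have h1 : π (f * a) = π a := by rw [map_mul, pi_eq_one hf, one_mul]
    have h2 : orderOf (π a) = 1 := by
      refine Nat.eq_one_of_dvd_coprimes ((hAp.coprime_dvd_left (A.orderOf_dvd_natCard ha)).pow_right i)
        (orderOf_map_dvd π a) ?_
      rw [← h1, ← hy]; exact orderOf_map_dvd π _
    exact mul_mem hf ((QuotientGroup.eq_one_iff a).mp (orderOf_eq_one_iff.mp h2))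
  intro y hy
  by_contra hyF
  obtain ⟨i, hi⟩ := IsPGroup.iff_orderOf.mp hJp ⟨y, hy⟩
  rw [orderOf_mk] at hi
  have hyW : y ∉ W := fun hh => hyF (hpW hi hh)
  have hbW : b ∈ W := by
    obtain ⟨m, hm⟩ := exists_pow_eq_self_of_coprime (x := b) (n := W.index)
      (by rw [hn]; exact (hbo.pow_right n).symm)
    have := pow_mem (pow_index_mem W b) m
    rwa [hm] at this
  obtain ⟨f, hf, a, ha, hba⟩ := mem_sup_of_normal_left.mp hbW
  have ha1 : a ≠ 1 := fun e => hb1 (eq_one_of_mem_pCore hbo (by
    rw [← hba, e, mul_one]; exact hf))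
  set c := y * b * y⁻¹ * b⁻¹ with hc
  have hcJ : c ∈ J := by
    rw [show c = y * (b * y⁻¹ * b⁻¹) by rw [hc]; group]
    exact mul_mem hy ((mem_normalizer_iff.mp hbN _).mp (inv_mem hy))
  have hcW : c ∈ W := mul_mem (hN.conj_mem b hbW y) (inv_mem hbW)
  obtain ⟨k, hk⟩ := IsPGroup.iff_orderOf.mp hJp ⟨c, hcJ⟩
  rw [orderOf_mk] at hk
  refine hx y hyW a ha ha1 ((QuotientGroup.eq_one_iff _).mp ?_)
  have h3 : π c = 1 := pi_eq_one (hpW hk hcW)
  have h4 : π b = π a := by rw [← hba, map_mul, pi_eq_one hf, one_mul]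
  rw [hc] at h3
  simp only [map_mul, map_inv, h4] at h3
  show π (y * a * y⁻¹ * a⁻¹) = 1
  simpa only [map_mul, map_inv] using h3

/-- In a three-step CN group of odd characteristic the Thompson subgroup of a Sylow subgroup is
normal. -/
theorem threeStep_thompson_normal (hCN : IsCNGroup L) (hp2 : p ≠ 2) (h : IsThreeStepGroup p L)
    (P : Sylow p L) :
    normalizer ((thompsonSubgroupOf p (P : Subgroup L) : Subgroup L) : Set L) = ⊤ := by
  set F := pCore p L with hF
  set J := thompsonSubgroupOf p (P : Subgroup L) with hJ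
  have hFP : F ≤ (P : Subgroup L) := Cfsg.Lib.Core.pCore_le_sylow P
  have hJP : J ≤ (P : Subgroup L) := Cfsg.Lib.Thompson.thompsonSubgroupOf_le _
  have hP1 : (P : Subgroup L) ≠ ⊥ := fun e =>
    threeStep_sylow_not_le h P (e.le.trans bot_le)
  by_cases hex : ∃ b ∈ normalizer (J : Set L), (orderOf b).Coprime p ∧ b ≠ 1
  swap
  · exfalso
    push Not at hex
    have h1 : HasNormalPComplement p (normalizer (J : Set L)) :=
      Cfsg.Lib.Fusion.hasNormalPComplement_of_isPGroup (isPGroup_of_forall_coprime hex)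
    have h2 : HasNormalPComplement p
        (centralizer (Cfsg.Lib.Thompson.zenter (P : Subgroup L) : Set L)) := by
      refine Cfsg.Lib.Fusion.hasNormalPComplement_of_isPGroup
        (isPGroup_of_forall_coprime fun b hb hbo => ?_)
      obtain ⟨z, hz, hz1⟩ := (Cfsg.Lib.Thompson.zenter (P : Subgroup L)).bot_or_exists_ne_one.resolve_left
        (Cfsg.Lib.Thompson.zenter_ne_bot P.2 hP1)
      refine threeStep_centralizer h hbo fun f hf => ?_
      obtain ⟨i, hi⟩ := IsPGroup.iff_orderOf.mp (Cfsg.Lib.Core.pCore_isPGroup p L) ⟨f, hf⟩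
      rw [orderOf_mk] at hi
      refine commute_in (hCN z hz1)
        (mem_centralizer_singleton_iff.mpr (mem_centralizer_iff.mp hb z hz).symm)
        (mem_centralizer_singleton_iff.mpr (mem_centralizer_iff.mp hz.2 f (hFP hf))) ?_
      rw [hi]; exact hbo.pow_right i
    obtain ⟨Q, K, hKn, hc⟩ := Cfsg.Lib.Thompson.thompson_normal_p_complement hp2 P ⟨h1, h2⟩
    have hKcop : (Nat.card K).Coprime p := by
      rw [← hc.index_eq_card]
      exact (hp.out.coprime_iff_not_dvd.mpr Q.not_dvd_index).symm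
    have hK : K = ⊥ := by
      refine eq_bot_iff.mpr fun b hb => mem_bot.mpr (threeStep_centralizer h
        (hKcop.coprime_dvd_left (K.orderOf_dvd_natCard hb)) fun f hf => ?_)
      refine Subgroup.commute_of_normal_of_disjoint K F hKn inferInstance ?_ _ _ hb hf
      rw [disjoint_iff]
      obtain ⟨k, hk⟩ := IsPGroup.iff_card.mp (Cfsg.Lib.Core.pCore_isPGroup p L)
      exact inf_eq_bot_of_coprime (by rw [hk]; exact hKcop.pow_right k)
    subst hK
    have hQ : (Q : Subgroup L) = ⊤ := by simpa using hc.sup_eq_top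
    exact threeStep_not_normal h Q (by rw [hQ]; infer_instance)
  obtain ⟨b, hbN, hbo, hb1⟩ := hex
  have hJF : J ≤ F := threeStep_le_core h hbo hb1 (P.2.to_le hJP) hbN
  have e : J = thompsonSubgroupOf p F := by
    have h1 := Cfsg.Agent.S0603.result (p := p) (F.subgroupOf (P : Subgroup L))
      (fun x hx => hJF (mem_map_of_mem (P : Subgroup L).subtype hx))
    have h2 := Cfsg.Lib.Thompson.map_thompsonSubgroupOf (p := p) (P : Subgroup L).subtype
      (F.subgroupOf (P : Subgroup L)) (Subtype.val_injective.injOn)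
    rw [h1, map_subgroupOf_eq_of_le hFP] at h2
    exact h2
  rw [e, eq_top_iff]
  calc (⊤ : Subgroup L) ≤ normalizer (F : Set L) := Cfsg.Lib.Local.le_normalizer_normal _
    _ ≤ _ := Cfsg.Lib.Thompson.normalizer_le_normalizer_thompsonSubgroupOf F

end ThreeStep

section Minimal

variable {G : Type u} [Group G] [Finite G]

theorem not_isSolvable (hG : IsMinSimpleOddOrder G) : ¬ Group.IsSolvable G := fun h => by
  haveI := hG.2.1
  exact hG.2.2.1 ⟨⟨IsSimpleGroup.comm_iff_isSolvable.mpr h⟩⟩

theorem eq_bot_or_top (hG : IsMinSimpleOddOrder G) (N : Subgroup G) [N.Normal] : N = ⊥ ∨ N = ⊤ :=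
  hG.2.1.eq_bot_or_eq_top_of_normal N inferInstance

theorem ne_top_of_isSolvable (hG : IsMinSimpleOddOrder G) {N : Subgroup G}
    (h : Group.IsSolvable N) : N ≠ ⊤ := by
  rintro rfl
  exact not_isSolvable hG (Group.isSolvable_of_surjective (f := topEquiv.toMonoidHom)
    (fun y => ⟨⟨y, mem_top y⟩, rfl⟩))

theorem normalizer_ne_top (hG : IsMinSimpleOddOrder G) {N : Subgroup G} (h1 : N ≠ ⊥)
    (h : Group.IsSolvable N) : normalizer (N : Set G) ≠ ⊤ := fun e => by
  haveI := normalizer_eq_top_iff.mp e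
  exact ne_top_of_isSolvable hG h ((eq_bot_or_top hG N).resolve_left h1)

theorem isSolvable_of_nilpotent {N : Subgroup G} (h : Group.IsNilpotent N) :
    Group.IsSolvable N := by
  have := h; infer_instance

theorem pCore_ne_bot {p : ℕ} {L D : Subgroup G} (hD : IsPGroup p D) (h1 : D ≠ ⊥) (hDL : D ≤ L)
    (hL : L ≤ normalizer (D : Set G)) : pCore p L ≠ ⊥ := by
  haveI : (D.subgroupOf L).Normal := (normal_subgroupOf_iff_le_normalizer hDL).mpr hL
  intro e
  have h2 := Cfsg.Lib.Core.le_pCore (p := p) (N := D.subgroupOf L)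
    (hD.of_equiv (subgroupOfEquivOfLe hDL).symm)
  rw [e, le_bot_iff, subgroupOf_eq_bot, disjoint_iff, inf_of_le_left hDL] at h2
  exact h1 h2

theorem threeStep_ne_top (hG : IsMinSimpleOddOrder G) {p : ℕ} [Fact p.Prime] {H : Subgroup G}
    (h : IsThreeStepGroup p H) : H ≠ ⊤ := by
  intro e
  set K := (pCore p H).map H.subtype
  have hK1 : K ≠ ⊥ := by
    rw [Ne, map_eq_bot_iff_of_injective _ H.subtype_injective]; exact h.1
  refine normalizer_ne_top hG hK1 (isSolvable_of_nilpotent
    ((Cfsg.Lib.Core.pCore_isPGroup p H).map H.subtype).isNilpotent) (eq_top_iff.mpr ?_)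
  calc (⊤ : Subgroup G) = H := e.symm
    _ ≤ normalizer (H : Set G) := le_normalizer
    _ ≤ _ := Cfsg.Lib.Core.normalizer_le_normalizer_map_char _

/-- A three-step subgroup contains a Sylow subgroup of `G` and normalizes its Thompson subgroup,
provided no three-step subgroup has a larger Sylow subgroup. -/
theorem threeStep_step (hG : IsMinSimpleOddOrder G) (hCN : IsCNGroup G) {p : ℕ} [hp : Fact p.Prime]
    (hp2 : p ≠ 2) {H : Subgroup G} (h : IsThreeStepGroup p H) (S : Sylow p G) (P : Sylow p H)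
    (hPS : (P : Subgroup H).map H.subtype ≤ (S : Subgroup G)) :
    normalizer (((P : Subgroup H).map H.subtype : Subgroup G) : Set G) ⊓ (S : Subgroup G) ≤
        normalizer (thompsonSubgroupOf p ((P : Subgroup H).map H.subtype) : Set G) ∧
      H ≤ normalizer (thompsonSubgroupOf p ((P : Subgroup H).map H.subtype) : Set G) ∧
      IsThreeStepGroup p
        (normalizer (thompsonSubgroupOf p ((P : Subgroup H).map H.subtype) : Set G)) := by
  set P' := (P : Subgroup H).map H.subtype with hP'
  set J := thompsonSubgroupOf p P' with hJ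
  set M := normalizer (J : Set G) with hM
  have hCNH : IsCNGroup H := isCN_of_injective hCN H.subtype H.subtype_injective
  have hP'ne : P' ≠ ⊥ := by
    rw [hP', Ne, map_eq_bot_iff_of_injective _ H.subtype_injective]
    exact fun e => threeStep_sylow_not_le h P (e.le.trans bot_le)
  have hP'p : IsPGroup p P' := P.2.map H.subtype
  have hJp : IsPGroup p J := hP'p.to_le (Cfsg.Lib.Thompson.thompsonSubgroupOf_le _)
  have hJne : J ≠ ⊥ := Cfsg.Lib.Thompson.thompsonSubgroupOf_ne_bot hP'p hP'ne
  have hHM : H ≤ M := by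
    intro x hx
    have e : J = (thompsonSubgroupOf p (P : Subgroup H)).map H.subtype :=
      (Cfsg.Lib.Thompson.map_thompsonSubgroupOf H.subtype (P : Subgroup H)
        Subtype.val_injective.injOn).symm
    rw [hM, e]
    exact le_normalizer_map H.subtype
      (mem_map_of_mem (K := normalizer ((thompsonSubgroupOf p (P : Subgroup H) : Subgroup H) : Set H))
        H.subtype (by
          rw [threeStep_thompson_normal hCNH hp2 h P]; exact mem_top (⟨x, hx⟩ : H)))
  have hMsol : Group.IsSolvable M := hG.2.2.2 M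
    (normalizer_ne_top hG hJne (isSolvable_of_nilpotent hJp.isNilpotent))
  refine ⟨inf_le_left.trans (Cfsg.Lib.Thompson.normalizer_le_normalizer_thompsonSubgroupOf P'),
    hHM, ?_⟩
  haveI := hMsol
  rcases sylow_normal_or_threeStep (isCN_of_injective hCN M.subtype M.subtype_injective)
    (pCore_ne_bot hJp hJne le_normalizer le_rfl : pCore p M ≠ ⊥) with hn | h3
  swap
  · exact h3
  exfalso
  obtain ⟨R⟩ : Nonempty (Sylow p M) := inferInstance
  haveI := hn R
  have hcomap : IsPGroup p ((R : Subgroup M).comap (inclusion hHM)) :=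
    R.2.comap_of_injective _ (inclusion_injective hHM)
  refine threeStep_sylow_not_le h P
    (le_trans ?_ (Cfsg.Lib.Core.le_pCore' (Normal.comap inferInstance _) hcomap))
  intro x hx
  refine mem_comap.mpr ((Cfsg.Lib.Local.sylow_eq_of_le R
    ((P.2.map (inclusion hHM)).to_sup_of_normal_right R.2) le_sup_right).le
    (mem_sup_left (mem_map_of_mem _ hx)))

/-- A three-step subgroup of maximal `p`-part contains a Sylow subgroup. -/
theorem threeStep_card (hG : IsMinSimpleOddOrder G) (hCN : IsCNGroup G) {p : ℕ} [hp : Fact p.Prime]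
    (hp2 : p ≠ 2) (n : ℕ) : ∀ {H : Subgroup G}, IsThreeStepGroup p H →
      ∀ (S : Sylow p G) (P : Sylow p H), (P : Subgroup H).map H.subtype ≤ (S : Subgroup G) →
        Nat.card (S : Subgroup G) ≤ Nat.card (P : Subgroup H) + n →
        (P : Subgroup H).map H.subtype = (S : Subgroup G) ∨ ∃ (M : Subgroup G) (S' : Sylow p G),
          IsThreeStepGroup p M ∧ (S' : Subgroup G) ≤ M := by
  induction n with
  | zero =>
    intro H _ S P hPS hle
    refine Or.inl (eq_of_le_of_card_ge hPS ?_)
    rwa [card_map_of_injective H.subtype_injective]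
  | succ n ih =>
    intro H h S P hPS hle
    by_cases heq : (P : Subgroup H).map H.subtype = (S : Subgroup G)
    · exact Or.inl heq
    right
    obtain ⟨h1, -, h3⟩ := threeStep_step hG hCN hp2 h S P hPS
    set P' := (P : Subgroup H).map H.subtype
    set M := normalizer (thompsonSubgroupOf p P' : Set G)
    have hlt := Cfsg.Lib.Fusion.lt_inf_normalizer S.2 (lt_of_le_of_ne hPS heq)
    rw [inf_comm] at hlt
    set U := normalizer (P' : Set G) ⊓ (S : Subgroup G)
    obtain ⟨R, hR⟩ := ((S.2.to_le (inf_le_right : U ≤ _)).of_equiv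
      (subgroupOfEquivOfLe h1).symm).exists_le_sylow
    obtain ⟨S', hS'⟩ := (R.2.map M.subtype).exists_le_sylow
    have hc1 := Cfsg.Lib.Fusion.card_lt_card_of_lt hlt
    have hc2 : Nat.card U ≤ Nat.card (R : Subgroup M) := by
      rw [← Nat.card_congr (subgroupOfEquivOfLe h1).toEquiv]
      exact card_le_of_le hR
    have hc3 : Nat.card P' = Nat.card (P : Subgroup H) := card_map_of_injective H.subtype_injective
    have hc4 : Nat.card (S' : Subgroup G) = Nat.card (S : Subgroup G) :=
      Nat.card_congr (S'.equiv S).toEquiv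
    rcases ih h3 S' R hS' (by omega) with e | e
    · exact ⟨M, S', h3, e ▸ map_subtype_le _⟩
    · exact e

variable {p : ℕ}

/-- Fusion in `S` is controlled by `M` when `M` contains the normalizers of tame intersections. -/
theorem chain_mem {S : Sylow p G} {M : Subgroup G}
    (hloc : ∀ Q : Sylow p G, IsTame S Q → (S : Subgroup G) ⊓ (Q : Subgroup G) ≠ ⊥ →
      normalizer (((S : Subgroup G) ⊓ (Q : Subgroup G) : Subgroup G) : Set G) ≤ M) :
    ∀ (l : List (Sylow p G × G)) (D : Subgroup G), D ≠ ⊥ → Chain S l D → chainProd l ∈ M := by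
  intro l
  induction l with
  | nil => intro D _ _; simp [chainProd]
  | cons a l ih =>
    obtain ⟨Q, x⟩ := a
    intro D hD hc
    obtain ⟨h1, h2, h3, h4⟩ := hc
    have hx : x ∈ M := hloc Q h1 (fun e => hD (le_bot_iff.mp (e ▸ h3))) h2
    have := ih (conjR x D) (fun e => hD ((map_eq_bot_iff_of_injective _
      (MulAut.conj x⁻¹).injective).mp e)) h4
    simpa [chainProd] using mul_mem hx this

theorem fusion_mem [Fact p.Prime] {S : Sylow p G} {M : Subgroup G}
    (hloc : ∀ Q : Sylow p G, IsTame S Q → (S : Subgroup G) ⊓ (Q : Subgroup G) ≠ ⊥ →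
      normalizer (((S : Subgroup G) ⊓ (Q : Subgroup G) : Subgroup G) : Set G) ≤ M)
    {x g : G} (hx : x ∈ (S : Subgroup G)) (hx1 : x ≠ 1) (hg : g * x * g⁻¹ ∈ (S : Subgroup G)) :
    g ∈ M := by
  obtain ⟨l, hl, hprod⟩ := Cfsg.Lib.Fusion.alperin S (zpowers x) g⁻¹ (zpowers_le.mpr hx) (by
    rw [Cfsg.Lib.Fusion.conjR_le_iff]
    intro v hv
    obtain ⟨j, rfl⟩ := mem_zpowers_iff.mp hv
    rw [inv_inv, ← conj_zpow]
    exact zpow_mem hg j)
  have := chain_mem hloc l _ (zpowers_ne_bot.mpr hx1) hl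
  rw [hprod] at this
  exact inv_mem_iff.mp this

/-- The normalizer of a tame intersection is either `p`-closed with the intersection Sylow in `G`
or a three-step group. -/
theorem tame_cases (hG : IsMinSimpleOddOrder G) (hCN : IsCNGroup G) [hp : Fact p.Prime]
    {S Q : Sylow p G} (ht : IsTame S Q) (hD : (S : Subgroup G) ⊓ (Q : Subgroup G) ≠ ⊥) :
    (S : Subgroup G) ⊓ (Q : Subgroup G) = S ∨
      IsThreeStepGroup p
        (normalizer (((S : Subgroup G) ⊓ (Q : Subgroup G) : Subgroup G) : Set G)) := by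
  set D := (S : Subgroup G) ⊓ (Q : Subgroup G)
  set L := normalizer (D : Set G)
  have hDp : IsPGroup p D := S.2.to_le inf_le_left
  haveI : Group.IsSolvable L :=
    hG.2.2.2 L (normalizer_ne_top hG hD (isSolvable_of_nilpotent hDp.isNilpotent))
  rcases sylow_normal_or_threeStep (isCN_of_injective hCN L.subtype L.subtype_injective)
    (pCore_ne_bot hDp hD le_normalizer le_rfl : pCore p L ≠ ⊥) with hn | h3
  swap
  · exact Or.inr h3
  left
  obtain ⟨R⟩ : Nonempty (Sylow p L) := inferInstance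
  haveI := hn R
  have key : ∀ T : Sylow p G, ¬ p ∣ ((T : Subgroup G) ⊓ L).relIndex L →
      ((T : Subgroup G) ⊓ L).subgroupOf L = (R : Subgroup L) := by
    intro T hT
    have hTp : IsPGroup p (((T : Subgroup G) ⊓ L).subgroupOf L) :=
      (T.2.to_le inf_le_left).of_equiv (subgroupOfEquivOfLe inf_le_right).symm
    refine le_antisymm (le_sup_left.trans
      (Cfsg.Lib.Local.sylow_eq_of_le R (hTp.to_sup_of_normal_right R.2) le_sup_right).le) ?_
    let T' : Sylow p L := hTp.toSylow hT
    exact le_sup_left.trans (Cfsg.Lib.Local.sylow_eq_of_le T'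
      (R.2.to_sup_of_normal_left T'.2) le_sup_right).le
  by_contra hne
  have hlt := Cfsg.Lib.Fusion.lt_inf_normalizer S.2 (lt_of_le_of_ne inf_le_left hne : D < _)
  refine hlt.not_ge (le_inf inf_le_left fun x hx => ?_)
  have h1 : (⟨x, hx.2⟩ : L) ∈ ((Q : Subgroup G) ⊓ L).subgroupOf L := by
    rw [key Q ht.2, ← key S ht.1]; exact hx
  exact h1.1

/-- The normalizer of a tame intersection that is a three-step group contains the Sylow subgroup. -/
theorem tame_threeStep_full (hG : IsMinSimpleOddOrder G) (hCN : IsCNGroup G) [hp : Fact p.Prime]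
    (hp2 : p ≠ 2) {S Q : Sylow p G} (ht : IsTame S Q)
    (h : IsThreeStepGroup p
      (normalizer (((S : Subgroup G) ⊓ (Q : Subgroup G) : Subgroup G) : Set G))) :
    (S : Subgroup G) ≤ normalizer (((S : Subgroup G) ⊓ (Q : Subgroup G) : Subgroup G) : Set G) := by
  set D := (S : Subgroup G) ⊓ (Q : Subgroup G) with hD
  set L := normalizer (D : Set G) with hL
  have hDp : IsPGroup p D := S.2.to_le inf_le_left
  have hcore : (pCore p L).map L.subtype ≤ D := by
    have key : ∀ T : Sylow p G, ¬ p ∣ ((T : Subgroup G) ⊓ L).relIndex L →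
        (pCore p L).map L.subtype ≤ (T : Subgroup G) := by
      intro T hT x hx
      obtain ⟨y, hy, rfl⟩ := hx
      let T' : Sylow p L := ((T.2.to_le inf_le_left).of_equiv
        (subgroupOfEquivOfLe (inf_le_right : (T : Subgroup G) ⊓ L ≤ L)).symm).toSylow hT
      have h1 : y ∈ ((T : Subgroup G) ⊓ L).subgroupOf L := Cfsg.Lib.Core.pCore_le_sylow T' hy
      exact h1.1
    exact le_inf (key S ht.1) (key Q ht.2)
  let T' : Sylow p L := ((S.2.to_le inf_le_left).of_equiv
    (subgroupOfEquivOfLe (inf_le_right : (S : Subgroup G) ⊓ L ≤ L)).symm).toSylow ht.1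
  have e : (T' : Subgroup L).map L.subtype = (S : Subgroup G) ⊓ L :=
    map_subgroupOf_eq_of_le inf_le_right
  obtain ⟨h1, h2, h3⟩ := threeStep_step hG hCN hp2 h S T' (e.le.trans inf_le_left)
  rw [e] at h1 h2 h3
  set M := normalizer (thompsonSubgroupOf p ((S : Subgroup G) ⊓ L) : Set G)
  -- a nontrivial element of order prime to `p`
  obtain ⟨-, A, hA, -, -, hAp, -⟩ := id h
  obtain ⟨b, hb, hb1⟩ := A.bot_or_exists_ne_one.resolve_left hA
  have hbo : (orderOf b).Coprime p := hAp.coprime_dvd_left (A.orderOf_dvd_natCard hb)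
  set F := (pCore p M).map M.subtype
  have hDL : D ≤ L := le_normalizer
  have hDF : D ≤ F := by
    have hbM : (b : G) ∈ M := h2 b.2
    have h4 := threeStep_le_core h3 (b := (⟨(b : G), hbM⟩ : M))
      (by rwa [orderOf_mk, orderOf_coe]) (fun e => hb1 (Subtype.ext (congrArg (Subtype.val) e :)))
      (J := D.subgroupOf M) (hDp.of_equiv (subgroupOfEquivOfLe (hDL.trans h2)).symm) (by
        rw [mem_normalizer_iff]
        intro x
        exact mem_normalizer_iff.mp (b.2 : (b : G) ∈ L) (x : G))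
    intro x hx
    exact ⟨⟨x, h2 (hDL hx)⟩, h4 hx, rfl⟩
  have hFM : M ≤ normalizer (F : Set G) :=
    le_normalizer.trans (Cfsg.Lib.Core.normalizer_le_normalizer_map_char _)
  have hFp : IsPGroup p F := (Cfsg.Lib.Core.pCore_isPGroup p M).map M.subtype
  have hFD : F = D := by
    by_contra hne
    refine (Cfsg.Lib.Fusion.lt_inf_normalizer hFp (lt_of_le_of_ne hDF (Ne.symm hne))).not_ge ?_
    rintro x ⟨hxF, hxL⟩
    refine hcore ⟨⟨x, hxL⟩, ?_, rfl⟩
    refine Cfsg.Lib.Core.le_pCore' (N := F.subgroupOf L) ?_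
      (hFp.comap_of_injective L.subtype L.subtype_injective) hxF
    exact ⟨fun v hv g => (mem_normalizer_iff.mp (hFM (h2 g.2)) (v : G)).mp hv⟩
  by_contra hSL
  refine (Cfsg.Lib.Fusion.lt_inf_normalizer S.2
    (lt_of_le_of_ne inf_le_left (fun e => hSL (e.ge.trans inf_le_right)) : (S : Subgroup G) ⊓ L < _)).not_ge ?_
  rintro x ⟨hxS, hxN⟩
  refine ⟨hxS, ?_⟩
  have := hFM (h1 ⟨hxN, hxS⟩)
  rwa [hFD] at this

/-- No subgroup of a minimal simple CN group of odd order is a three-step group. -/
theorem not_threeStep (hG : IsMinSimpleOddOrder G) (hCN : IsCNGroup G) [hp : Fact p.Prime]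
    (hp2 : p ≠ 2) (H : Subgroup G) : ¬ IsThreeStepGroup p H := by
  intro h
  obtain ⟨P⟩ : Nonempty (Sylow p H) := inferInstance
  obtain ⟨S₀, hS₀⟩ := (P.2.map H.subtype).exists_le_sylow
  obtain ⟨H₁, S, h₁, hSH₁⟩ : ∃ (M : Subgroup G) (S' : Sylow p G),
      IsThreeStepGroup p M ∧ (S' : Subgroup G) ≤ M := by
    rcases threeStep_card hG hCN hp2 (Nat.card (S₀ : Subgroup G)) h S₀ P hS₀
      (Nat.le_add_left _ _) with e | e
    · exact ⟨H, S₀, h, e ▸ map_subtype_le _⟩
    · exact e
  set J := thompsonSubgroupOf p (S : Subgroup G)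
  set M := normalizer (J : Set G)
  -- every three-step subgroup containing `S` lies in `M`
  have hinM : ∀ {L : Subgroup G}, IsThreeStepGroup p L → (S : Subgroup G) ≤ L →
      L ≤ M ∧ IsThreeStepGroup p M := by
    intro L hL hSL
    have e : ((S.subtype hSL : Sylow p L) : Subgroup L).map L.subtype = (S : Subgroup G) :=
      map_subgroupOf_eq_of_le hSL
    obtain ⟨-, h2, h3⟩ := threeStep_step hG hCN hp2 hL S (S.subtype hSL) e.le
    rw [e] at h2 h3
    exact ⟨h2, h3⟩
  have hMts := (hinM h₁ hSH₁).2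
  have hSM : (S : Subgroup G) ≤ M := hSH₁.trans (hinM h₁ hSH₁).1
  have hloc : ∀ Q : Sylow p G, IsTame S Q → (S : Subgroup G) ⊓ (Q : Subgroup G) ≠ ⊥ →
      normalizer (((S : Subgroup G) ⊓ (Q : Subgroup G) : Subgroup G) : Set G) ≤ M := by
    intro Q ht hD
    rcases tame_cases hG hCN ht hD with e | h3
    · rw [e]; exact Cfsg.Lib.Thompson.normalizer_le_normalizer_thompsonSubgroupOf _
    set L := normalizer (((S : Subgroup G) ⊓ (Q : Subgroup G) : Subgroup G) : Set G)
    let T' : Sylow p L := (((S.2.to_le inf_le_left).of_equiv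
      (subgroupOfEquivOfLe (inf_le_right : (S : Subgroup G) ⊓ L ≤ L)).symm)).toSylow ht.1
    have e : (T' : Subgroup L).map L.subtype = (S : Subgroup G) ⊓ L :=
      map_subgroupOf_eq_of_le inf_le_right
    have hSL : (S : Subgroup G) ≤ L := by
      by_contra hSL
      exact hSL (tame_threeStep_full hG hCN hp2 ht h3)
    exact (hinM h3 hSL).1
  -- `M` controls fusion in `S`, so `S ≤ M'`
  have hcomm : ⁅(⊤ : Subgroup G), (⊤ : Subgroup G)⁆ = (⊤ : Subgroup G) := by
    refine (eq_bot_or_top hG _).resolve_left fun e => hG.2.2.1 ⟨⟨fun a b => ?_⟩⟩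
    exact (commutatorElement_eq_one_iff_mul_comm.mp (mem_bot.mp
      (e.le (commutator_mem_commutator (mem_top a) (mem_top b)))))
  have hSM' : (S : Subgroup G) ≤ ⁅M, M⁆ := by
    have hctl := Cfsg.Lib.Fusion.commutator_inf_eq_of_controls S M hSM (fun x hx g hg => by
      by_cases hx1 : x = 1
      · exact ⟨1, one_mem _, by simp [hx1]⟩
      · exact ⟨g, fusion_mem hloc hx hx1 hg, rfl⟩)
    rw [show commutator G = ⊤ from hcomm, top_inf_eq] at hctl
    exact hctl.le.trans inf_le_left
  -- but `M` has a nontrivial quotient of `p`-power order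
  obtain ⟨-, A, -, -, -, -, hN, htop, ⟨n, hn⟩, -⟩ := id hMts
  set W := pCore p M ⊔ A
  haveI := hN
  set T := W ⊔ commutator M
  have hT : T = ⊤ := by
    rw [← index_eq_one]
    by_contra hne
    have h1 : T.index ∣ p ^ n := hn ▸ index_dvd_of_le le_sup_left
    obtain ⟨k, -, hk⟩ := (Nat.dvd_prime_pow hp.out).mp h1
    have hk0 : k ≠ 0 := fun e => hne (by rw [hk, e, pow_zero])
    refine (S.subtype hSM).not_dvd_index ((hk ▸ dvd_pow_self p hk0).trans (index_dvd_of_le ?_))
    intro x hx
    obtain ⟨y, hy, he⟩ := (map_subtype_commutator M).symm ▸ hSM' (hx : (x : G) ∈ (S : Subgroup G))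
    exact mem_sup_right (Subtype.ext he ▸ hy)
  -- so the solvable group `M / W` is perfect
  haveI hMsol : Group.IsSolvable M :=
    hG.2.2.2 M (threeStep_ne_top hG hMts)
  haveI : Group.IsSolvable (M ⧸ W) := Group.isSolvable_of_surjective (QuotientGroup.mk'_surjective W)
  haveI : Nontrivial (M ⧸ W) := by
    rw [← not_subsingleton_iff_nontrivial, QuotientGroup.subsingleton_iff]; exact htop
  refine (Group.IsSolvable.commutator_lt_top_of_nontrivial (M ⧸ W)).ne (eq_top_iff.mpr fun y _ => ?_)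
  obtain ⟨x, rfl⟩ := QuotientGroup.mk'_surjective W y
  have hx : x ∈ W ⊔ commutator M := hT.ge (mem_top x)
  obtain ⟨w, hw, c, hc, rfl⟩ := mem_sup_of_normal_left.mp hx
  rw [map_mul, pi_eq_one hw, one_mul, commutator_def, ← map_top_of_surjective _
    (QuotientGroup.mk'_surjective W), ← map_commutator]
  exact mem_map_of_mem _ (by rw [← commutator_def]; exact hc)

end Minimal

end Cfsg.Lib.Local.CN
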