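import Mathlib
import Cfsg.Agent.Lib.Local.CNMinimal
import Cfsg.Agent.Lib.Solv.Frobenius

/-!
Maximal subgroups of minimal simple CN groups of odd order.
-/

set_option autoImplicit false

namespace Cfsg.Lib.Local.CN

open Cfsg Subgroup
open scoped Pointwise

universe u

variable {G : Type u} [Group G] [Finite G]

/-- A maximal nilpotent subgroup. -/
def IsMaxNilp (H : Subgroup G) : Prop :=
  Group.IsNilpotent H ∧ ∀ L : Subgroup G, Group.IsNilpotent L → H ≤ L → L = H

theorem exists_isMaxNilp {L : Subgroup G} (hL : Group.IsNilpotent L) :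
    ∃ H : Subgroup G, IsMaxNilp H ∧ L ≤ H := by
  obtain ⟨H, ⟨hH, hLH⟩, hmax⟩ := Set.Finite.exists_maximal
    (s := {K : Subgroup G | Group.IsNilpotent K ∧ L ≤ K}) (Set.toFinite _) ⟨L, hL, le_rfl⟩
  exact ⟨H, ⟨hH, fun K hK hle => le_antisymm (hmax ⟨hK, hLH.trans hle⟩ hle) hle⟩, hLH⟩

theorem isNilpotent_zpowers (x : G) : Group.IsNilpotent (zpowers x) :=
  Cfsg.Lib.Core.isNilpotent_of_isMulCommutative _

theorem nontrivial_of_min (hG : IsMinSimpleOddOrder G) : Nontrivial G := hG.2.1.toNontrivial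

theorem prime_ne_two (hG : IsMinSimpleOddOrder G) {p : ℕ} (hd : p ∣ Nat.card G) : p ≠ 2 := by
  rintro rfl
  exact Nat.not_even_iff_odd.mpr hG.1 (even_iff_two_dvd.mpr hd)

theorem IsMaxNilp.ne_bot (hG : IsMinSimpleOddOrder G) {H : Subgroup G} (hH : IsMaxNilp H) :
    H ≠ ⊥ := by
  intro e
  have := nontrivial_of_min hG
  obtain ⟨x, hx⟩ := exists_ne (1 : G)
  exact hx (zpowers_eq_bot.mp ((hH.2 _ (isNilpotent_zpowers x) (e ▸ bot_le)).trans e))

theorem IsMaxNilp.normalizer_ne_top (hG : IsMinSimpleOddOrder G) {H : Subgroup G}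
    (hH : IsMaxNilp H) : normalizer (H : Set G) ≠ ⊤ :=
  CN.normalizer_ne_top hG (hH.ne_bot hG) (isSolvable_of_nilpotent hH.1)

/-- Maximal nilpotent subgroups are TI. -/
theorem IsMaxNilp.ti (hG : IsMinSimpleOddOrder G) (hCN : IsCNGroup G) {H : Subgroup G}
    (hH : IsMaxNilp H) (g : G) (hne : H.map (MulAut.conj g).toMonoidHom ≠ H) :
    H ⊓ H.map (MulAut.conj g).toMonoidHom = ⊥ := by
  by_cases hpp : IsPrimePow (Nat.card H)
  swap
  · exact isTI_of_not_isPrimePow hCN hH.1 hH.2 hpp g hne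
  obtain ⟨p, k, hp, hk, hpk⟩ := hpp
  have hp' : p.Prime := Nat.prime_iff.mpr hp
  have := Fact.mk hp'
  have hp2 : p ≠ 2 := prime_ne_two hG
    ((hpk ▸ dvd_pow_self p hk.ne').trans (card_subgroup_dvd_card H))
  obtain ⟨S, hS⟩ := (IsPGroup.of_card (n := k) hpk.symm : IsPGroup p H).exists_le_sylow
  have hSH : (S : Subgroup G) = H := hH.2 _ S.2.isNilpotent hS
  by_contra hD
  obtain ⟨x, ⟨hx, y, hy, rfl⟩, hx1⟩ := (H ⊓ H.map _).bot_or_exists_ne_one.resolve_left hD
  refine hne (Cfsg.Lib.Core.map_conj_eq_of_mem_normalizer ?_)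
  rw [← hSH]
  refine fusion_mem (S := S) (M := normalizer ((S : Subgroup G) : Set G)) ?_ (hS hy)
    (fun e => hx1 (by rw [e, map_one])) (hS hx)
  intro Q ht hQ
  rcases tame_cases hG hCN ht hQ with e | h3
  · rw [e]
  · exact absurd h3 (not_threeStep hG hCN hp2 _)

theorem IsMaxNilp.centralizer_le (hG : IsMinSimpleOddOrder G) (hCN : IsCNGroup G) {H : Subgroup G}
    (hH : IsMaxNilp H) {x : G} (hx : x ∈ H) (hx1 : x ≠ 1) : centralizer ({x} : Set G) ≤ H :=
  centralizer_le_of_TI hCN hH.1 hH.2 (hH.ti hG hCN) hx hx1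

theorem IsMaxNilp.exists_central {H : Subgroup G} (hG : IsMinSimpleOddOrder G) (hH : IsMaxNilp H) :
    ∃ z ∈ H, z ≠ 1 ∧ ∀ h ∈ H, Commute h z := by
  obtain ⟨p, hp, hd⟩ := Nat.exists_prime_and_dvd (n := Nat.card H) fun e =>
    hH.ne_bot hG (Subgroup.eq_bot_of_card_eq H e)
  have := Fact.mk hp
  obtain ⟨z, hz, hc, ho⟩ := CN.exists_central hH.1 hd
  exact ⟨z, hz, fun e => hp.ne_one (by rw [← ho, e, orderOf_one]), hc⟩

/-- Two maximal nilpotent subgroups meeting nontrivially are equal. -/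
theorem IsMaxNilp.eq_of_inf_ne_bot (hG : IsMinSimpleOddOrder G) (hCN : IsCNGroup G)
    {H K : Subgroup G} (hH : IsMaxNilp H) (hK : IsMaxNilp K) (h : H ⊓ K ≠ ⊥) : H = K := by
  obtain ⟨x, ⟨hxH, hxK⟩, hx1⟩ := (H ⊓ K).bot_or_exists_ne_one.resolve_left h
  obtain ⟨z, -, hz1, hzc⟩ := hH.exists_central hG
  have hzK : z ∈ K := hK.centralizer_le hG hCN hxK hx1
    (mem_centralizer_singleton_iff.mpr (hzc x hxH).eq.symm)
  exact (hH.2 K hK.1 ((centralizer_eq hCN hH.2 hzc hz1).ge.trans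
    (hK.centralizer_le hG hCN hzK hz1))).symm

theorem IsMaxNilp.map_conj {H : Subgroup G} (hH : IsMaxNilp H) (g : G) :
    IsMaxNilp (H.map (MulAut.conj g).toMonoidHom) := by
  refine ⟨Cfsg.Lib.Core.isNilpotent_map hH.1 _, fun L hL hle => ?_⟩
  have e : (L.comap (MulAut.conj g).toMonoidHom).map (MulAut.conj g).toMonoidHom = L :=
    map_comap_eq_self_of_surjective (MulAut.conj g).surjective L
  have h1 : Group.IsNilpotent (L.comap (MulAut.conj g).toMonoidHom) := by
    have : Group.IsNilpotent ((L.comap (MulAut.conj g).toMonoidHom).map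
        (MulAut.conj g).toMonoidHom) := by rw [e]; exact hL
    exact Group.nilpotent_of_mulEquiv ((L.comap (MulAut.conj g).toMonoidHom).equivMapOfInjective
      (MulAut.conj g).toMonoidHom (MulAut.conj g).injective).symm
  rw [← e, hH.2 _ h1 (map_le_iff_le_comap.mp hle)]

theorem IsMaxNilp.normalizer_ne_self (hG : IsMinSimpleOddOrder G) (hCN : IsCNGroup G)
    {H : Subgroup G} (hH : IsMaxNilp H) : normalizer (H : Set G) ≠ H := by
  intro e
  have hF : IsFrobeniusComplement H := by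
    refine ⟨hH.ne_bot hG, ne_top_of_isSolvable hG (isSolvable_of_nilpotent hH.1), fun g hg => ?_⟩
    exact hH.ti hG hCN g fun he =>
      hg (e.le (Cfsg.Lib.Core.mem_normalizer_iff_map_conj.mpr he))
  obtain ⟨K, -, hKn, hc⟩ := Cfsg.Lib.Solv.frobenius_theorem hF
  haveI := hKn
  rcases eq_bot_or_top hG K with hK | hK <;> subst hK
  · exact hF.2.1 (by simpa using hc.sup_eq_top)
  · exact hF.1 (by simpa using hc.disjoint.eq_bot)

/-- Every maximal subgroup is the normalizer of a maximal nilpotent subgroup. -/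
theorem exists_eq_normalizer (hG : IsMinSimpleOddOrder G) (hCN : IsCNGroup G) {M : Subgroup G}
    (hM : IsCoatom M) : ∃ H : Subgroup G, IsMaxNilp H ∧ M = normalizer (H : Set G) := by
  haveI : Group.IsSolvable M := hG.2.2.2 M hM.1
  haveI : Nontrivial M := by
    rw [nontrivial_iff_ne_bot]
    intro e
    have := nontrivial_of_min hG
    obtain ⟨x, hx⟩ := exists_ne (1 : G)
    refine ne_top_of_isSolvable hG (isSolvable_of_nilpotent (isNilpotent_zpowers x))
      (hM.2 _ (lt_of_le_of_ne (e ▸ bot_le) fun h => hx (zpowers_eq_bot.mp (h.symm.trans e))))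
  set F := (fittingSubgroup M).map M.subtype
  have hFn : Group.IsNilpotent F :=
    Cfsg.Lib.Core.isNilpotent_map (Cfsg.Lib.Core.fittingSubgroup_isNilpotent _) _
  obtain ⟨H, hH, hFH⟩ := exists_isMaxNilp hFn
  have hMN : M ≤ normalizer (H : Set G) := by
    intro g hg
    have hgF : F.map (MulAut.conj g).toMonoidHom = F :=
      Cfsg.Lib.Core.map_conj_eq_of_mem_normalizer
        (Cfsg.Lib.Core.normalizer_le_normalizer_map_char _ (le_normalizer hg))
    rw [Cfsg.Lib.Core.mem_normalizer_iff_map_conj]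
    by_contra hne
    have h1 := hH.ti hG hCN g hne
    refine fitting_ne_bot (G := M) ((map_eq_bot_iff_of_injective _ M.subtype_injective).mp
      (eq_bot_iff.mpr (h1 ▸ le_inf hFH (hgF.ge.trans (map_mono hFH)))))
  refine ⟨H, hH, ?_⟩
  by_contra hne
  exact hH.normalizer_ne_top hG (hM.2 _ (lt_of_le_of_ne hMN hne))

theorem IsMaxNilp.isCoatom_normalizer (hG : IsMinSimpleOddOrder G) (hCN : IsCNGroup G)
    {H : Subgroup G} (hH : IsMaxNilp H) : IsCoatom (normalizer (H : Set G)) := by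
  obtain ⟨M, hM, hle⟩ :=
    (eq_top_or_exists_le_coatom (normalizer (H : Set G))).resolve_left (hH.normalizer_ne_top hG)
  obtain ⟨K, hK, rfl⟩ := exists_eq_normalizer hG hCN hM
  by_cases hHK : H ⊓ K = ⊥
  swap
  · rwa [hH.eq_of_inf_ne_bot hG hCN hK hHK]
  exfalso
  have hfix : normalizer (H : Set G) ⊓ K = ⊥ := by
    rw [eq_bot_iff]
    rintro x ⟨hxN, hxK⟩
    by_contra hx1
    refine hH.ne_bot hG (eq_bot_iff.mpr fun h hh => hHK.le ⟨hh, ?_⟩)
    refine hK.centralizer_le hG hCN hxK hx1 (mem_centralizer_singleton_iff.mpr ?_)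
    have h1 : x * h * x⁻¹ * h⁻¹ ∈ H :=
      mul_mem ((mem_normalizer_iff.mp hxN h).mp hh) (inv_mem hh)
    have h2 : x * h * x⁻¹ * h⁻¹ ∈ K := by
      rw [show x * h * x⁻¹ * h⁻¹ = x * (h * x⁻¹ * h⁻¹) by group]
      exact mul_mem hxK ((mem_normalizer_iff.mp (hle (le_normalizer hh)) _).mp (inv_mem hxK))
    have h3 : x * h * x⁻¹ * h⁻¹ = 1 := mem_bot.mp (hHK.le ⟨h1, h2⟩)
    rw [mul_inv_eq_one, mul_inv_eq_iff_eq_mul] at h3
    exact h3.symm
  refine hH.normalizer_ne_self hG hCN (hH.2 _ (isNilpotent_of_fpf hCN (hK.ne_bot hG) hK.1 hle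
    fun e he he1 => ?_) le_normalizer)
  rw [eq_bot_iff]
  rintro v ⟨hv, hve⟩
  by_contra hv1
  exact he1 (mem_bot.mp (hfix.le ⟨he, hK.centralizer_le hG hCN hv hv1
    (mem_centralizer_singleton_iff.mpr (mem_centralizer_singleton_iff.mp hve).symm)⟩))

theorem IsMaxNilp.exists_complement (hG : IsMinSimpleOddOrder G) (hCN : IsCNGroup G)
    {H : Subgroup G} (hH : IsMaxNilp H) :
    ∃ E : Subgroup G, IsComplIn H E (normalizer (H : Set G)) ∧ E ≠ ⊥ ∧
      ∀ e ∈ E, e ≠ 1 → H ⊓ centralizer ({e} : Set G) = ⊥ := by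
  have hcop : (Nat.card H).Coprime (H.relIndex (normalizer (H : Set G))) :=
    (coprime_index hCN hH.1 hH.2).coprime_dvd_right (relIndex_dvd_index_of_le le_normalizer)
  obtain ⟨E, hE, hEc, hsup⟩ :=
    Cfsg.Lib.Coprime.exists_complement_of_coprime le_normalizer le_rfl hcop
  have hd : H ⊓ E = ⊥ := inf_eq_bot_of_coprime (hEc ▸ hcop)
  refine ⟨E, ⟨le_normalizer, hE, hd, fun m hm => ?_⟩, ?_, fun e he he1 => ?_⟩
  · rw [← hsup] at hm
    exact Cfsg.Lib.Coprime.exists_mul_of_mem_sup hE hm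
  · rintro rfl
    exact hH.normalizer_ne_self hG hCN (by rw [← hsup, sup_bot_eq])
  · rw [eq_bot_iff]
    rintro v ⟨hv, hve⟩
    by_contra hv1
    exact he1 (mem_bot.mp (hd.le ⟨hH.centralizer_le hG hCN hv hv1
      (mem_centralizer_singleton_iff.mpr (mem_centralizer_singleton_iff.mp hve).symm), he⟩))

/-- `M_F` for the normalizer of a maximal nilpotent subgroup. -/
theorem IsMaxNilp.fittingHallOf_normalizer (hG : IsMinSimpleOddOrder G) (hCN : IsCNGroup G)
    {H : Subgroup G} (hH : IsMaxNilp H) : fittingHallOf (normalizer (H : Set G)) = H := by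
  set M := normalizer (H : Set G)
  set H' := H.subgroupOf M
  haveI : H'.Normal := normal_in_normalizer
  have hHM : H ≤ M := le_normalizer
  haveI hH'n : Group.IsNilpotent H' := by
    have := hH.1
    exact Group.nilpotent_of_mulEquiv (subgroupOfEquivOfLe hHM).symm
  have hfit : (fittingSubgroup M).map M.subtype ≤ H := by
    obtain ⟨K, hK, hle⟩ := exists_isMaxNilp
      (Cfsg.Lib.Core.isNilpotent_map (Cfsg.Lib.Core.fittingSubgroup_isNilpotent M) M.subtype)
    have h1 : H ≤ K := fun x hx =>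
      hle ⟨⟨x, hHM hx⟩, Cfsg.Lib.Core.le_fittingSubgroup hH'n (hx : (⟨x, hHM hx⟩ : M) ∈ H'), rfl⟩
    rwa [hH.2 K hK.1 h1] at hle
  refine le_antisymm ?_ ?_
  · refine le_trans (map_mono (sSup_le fun N hN => ?_)) hfit
    exact Cfsg.Lib.Core.le_fittingSubgroup' hN.1 hN.2.1
  · have h1 : H' ≤ fittingHall M := by
      refine le_sSup ⟨inferInstance, hH'n, ?_⟩
      rw [Nat.card_congr (subgroupOfEquivOfLe hHM).toEquiv]
      exact (coprime_index hCN hH.1 hH.2).coprime_dvd_right (relIndex_dvd_index_of_le hHM)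
    exact (map_subgroupOf_eq_of_le hHM).ge.trans (map_mono h1)

theorem IsMaxNilp.exists_conj_of_not_coprime (hG : IsMinSimpleOddOrder G) (hCN : IsCNGroup G)
    {H K : Subgroup G} (hH : IsMaxNilp H) (hK : IsMaxNilp K)
    (h : ¬ (Nat.card H).Coprime (Nat.card K)) :
    ∃ g : G, K = H.map (MulAut.conj g).toMonoidHom := by
  obtain ⟨p, hp, h1, h2⟩ := Nat.Prime.not_coprime_iff_dvd.mp h
  have := Fact.mk hp
  obtain ⟨x, hx, -, hxo⟩ := CN.exists_central hH.1 h1
  obtain ⟨y, hy, -, hyo⟩ := CN.exists_central hK.1 h2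
  obtain ⟨P⟩ : Nonempty (Sylow p K) := inferInstance
  -- a Sylow subgroup of `G` inside `K`
  obtain ⟨S, hS⟩ := (P.2.map K.subtype).exists_le_sylow
  have hSK : (S : Subgroup G) ≤ K := by
    have hcard : Nat.card ((P : Subgroup K).map K.subtype) = Nat.card (S : Subgroup G) := by
      rw [card_map_of_injective K.subtype_injective, P.card_eq_multiplicity,
        S.card_eq_multiplicity]
      congr 1
      have hdi : ¬ p ∣ K.index := fun hd =>
        hp.not_dvd_one ((coprime_index hCN hK.1 hK.2).gcd_eq_one ▸ Nat.dvd_gcd h2 hd)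
      rw [← card_mul_index K, Nat.factorization_mul Nat.card_pos.ne' index_ne_zero_of_finite]
      simp [Nat.factorization_eq_zero_of_not_dvd hdi]
    rw [← eq_of_le_of_card_ge hS hcard.ge]
    exact map_subtype_le _
  obtain ⟨Q, hQ⟩ := (IsPGroup.of_card (n := 1)
    (by rw [Nat.card_zpowers, hxo, pow_one]) : IsPGroup p (zpowers x)).exists_le_sylow
  obtain ⟨g, hg⟩ := MulAction.exists_smul_eq G Q S
  refine ⟨g, ((hH.map_conj g).eq_of_inf_ne_bot hG hCN hK fun e => ?_).symm⟩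
  have hmem : g * x * g⁻¹ ∈ H.map (MulAut.conj g).toMonoidHom ⊓ K := by
    refine ⟨⟨x, hx, rfl⟩, hSK ?_⟩
    rw [← hg, Sylow.coe_subgroup_smul]
    exact mem_map_of_mem _ (hQ (mem_zpowers x))
  rw [e, mem_bot, conj_eq_one_iff] at hmem
  rw [hmem, orderOf_one] at hxo
  exact hp.ne_one hxo.symm

end Cfsg.Lib.Local.CN
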