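import Mathlib
import Cfsg.Agent.Lib.Local.CNBounds
import Cfsg.Agent.Lib.Local.CNCount
import Cfsg.Agent.Lib.Local.CNMinimalMax
import Cfsg.Agent.Lib.Coprime.Action

/-!
There is no minimal simple CN group of odd order.
-/

set_option autoImplicit false
set_option linter.style.haveILetI false

namespace Cfsg.Lib.Local.CNNode

open Cfsg Cfsg.Lib.Char Subgroup

universe u

variable {G : Type u} [Group G] [Fintype G]

theorem deg_pos (χ : IrrCharacter G) : 0 < deg χ := by
  simp only [deg]
  exact_mod_cast (χ.2.exists_degree.choose_spec).1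

/-- The contradiction from a family of nodes covering every nonidentity element exactly once. -/
theorem false_of_nodes {κ : Type*} [Fintype κ] [Nonempty κ] (K : κ → Subgroup G)
    (hD : ∀ k, NodeData (K k)) (hcov : ∀ z : G, z ≠ 1 → ∃! k, InConj (K k) z)
    (he3 : ∀ k, 3 ≤ eNum (K k)) (hco : ∀ i k, i ≠ k → (aNum (K i)).Coprime (aNum (K k)))
    (hprime : ∀ k, (aNum (K k)).Prime → Nat.card (K k) = aNum (K k)) : False := by
  classical
  haveI : ∀ k, Nonempty (Orb (K k)) := fun k =>
    Fintype.card_pos_iff.mp (Nat.lt_of_lt_of_le two_pos (two_le_card_orb (hD k)))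
  have hE : ∀ k, Nonempty (CNExc.Exc (cvec (H := K k))) := fun k =>
    CNExc.exists_exc (two_le_card_orb (hD k)) (cvec_dot (hD k)) deg_pos (sum_cvec_deg (hD k))
  let E := fun k => (hE k).some
  have hne : ∀ k, ∃ ω η : Orb (K k), ω ≠ η := fun k =>
    Fintype.exists_pair_of_one_lt_card (two_le_card_orb (hD k))
  have horth : ∀ i k, i ≠ k → ∀ ω η,
      CNExc.dot (cvec (H := K i) ω) (cvec (H := K k) η) = 0 := fun i k hik ω η =>
    cvec_dot_cross (hD i) (hD k) (fun z hz h1 h2 => hik ((hcov z hz).unique h1 h2)) ω η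
  have hcross := fun i k (h : i ≠ k) => (E i).cross (E k) (hne i) (hne k) (horth i k h)
  let X₀ : κ → IrrCharacter G := fun i => (E i).X (Classical.arbitrary _)
  let b : κ → κ → ℤ := fun i k => (E k).base (X₀ i)
  have hb : ∀ i k, i ≠ k → ∀ ω, (E k).base ((E i).X ω) = b i k := fun i k h ω =>
    (hcross i k h).2 ω _
  have h1X : ∀ k ω, (E k).X ω ≠ oneIrr := fun k ω =>
    (E k).ne_of_const (hne k) (cvec_one (hD k)) ω
  have hbase1 : ∀ k, (E k).base oneIrr = 1 := fun k => by
    rw [← (E k).base_apply (Classical.arbitrary _) (h1X k _).symm]; exact cvec_one (hD k) _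
  have hbar : ∀ k χ, (E k).base (irrConj χ) = (E k).base χ := by
    intro k χ
    by_cases hχ : ∀ ω, χ ≠ (E k).X ω
    · exact ((E k).base_bar irrConj_involutive orbInv_involutive (orbInv_ne (hD k))
        (cvec_bar (hD k)) hχ).2
    · push Not at hχ
      obtain ⟨ω, rfl⟩ := hχ
      rw [(E k).bar_X irrConj_involutive orbInv_involutive (orbInv_ne (hD k)) (cvec_bar (hD k)),
        (E k).hu, (E k).hu]
  -- parity
  have hpar : ∀ i k, i ≠ k → b i k ≠ 0 ∨ b k i ≠ 0 := by
    intro i k hik
    by_contra hcon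
    push Not at hcon
    have h := horth i k hik (Classical.arbitrary _) (Classical.arbitrary _)
    rw [(E i).dot_base_single] at h
    have hc : cvec (H := K k) (Classical.arbitrary _) ((E i).X (Classical.arbitrary _)) = 0 := by
      rw [(E k).base_apply _ ((hcross i k hik).1 _ _), hb i k hik]; exact hcon.1
    rw [hc, mul_zero, sub_zero, show ∀ f g : IrrCharacter G → ℤ, CNExc.dot f g = CNExc.dot g f from
      fun f g => Finset.sum_congr rfl fun _ _ => mul_comm _ _, (E k).dot_base_single,
      hb k i hik.symm, hcon.2, mul_zero, sub_zero] at h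
    have h2 : ((CNExc.dot (E k).base (E i).base : ℤ) : ZMod 2) = 0 := by rw [h, Int.cast_zero]
    rw [CNExc.dot, Int.cast_sum, ← Finset.add_sum_erase _ _ (Finset.mem_univ oneIrr), hbase1,
      hbase1, Finset.sum_involution (fun χ _ => irrConj χ)] at h2
    · simp at h2
    · intro χ _
      rw [hbar, hbar]
      exact CharTwo.add_self_eq_zero _
    · intro χ hχ _
      exact irrConj_ne (hD k).odd (Finset.ne_of_mem_erase hχ)
    · intro χ hχ
      refine Finset.mem_erase.mpr ⟨fun e => Finset.ne_of_mem_erase hχ ?_, Finset.mem_univ _⟩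
      rw [← irrConj_involutive χ, e]
      exact Subtype.ext (funext fun g => map_one _)
    · intro χ _
      exact irrConj_involutive χ
  -- the norm
  have hin : ∀ l, ∑ k ∈ (Finset.univ.erase l).filter (fun k => b k l ≠ 0),
      Fintype.card (Orb (K k)) + 1 ≤ eNum (K l) := by
    intro l
    set ω : Orb (K l) := Classical.arbitrary _
    have h := cvec_dot (hD l) ω ω
    rw [if_pos rfl, CNExc.dot, ← Finset.add_sum_erase _ _ (Finset.mem_univ oneIrr),
      cvec_one (hD l)] at h
    set S := (Finset.univ.erase l).filter (fun k => b k l ≠ 0)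
    have hsub : (Finset.univ.image (E l).X) ∪ S.biUnion (fun k => Finset.univ.image (E k).X) ⊆
        Finset.univ.erase oneIrr := by
      intro χ hχ
      simp only [Finset.mem_union, Finset.mem_image, Finset.mem_univ, true_and,
        Finset.mem_biUnion] at hχ
      rcases hχ with ⟨η, rfl⟩ | ⟨k, -, η, rfl⟩
      all_goals exact Finset.mem_erase.mpr ⟨h1X _ _, Finset.mem_univ _⟩
    have hle := Finset.sum_le_sum_of_subset_of_nonneg (f := fun χ => cvec ω χ * cvec ω χ) hsub
      (fun χ _ _ => mul_self_nonneg _)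
    rw [Finset.sum_union, Finset.sum_biUnion] at hle
    · have hown : (1 : ℤ) ≤ ∑ χ ∈ Finset.univ.image (E l).X, cvec ω χ * cvec ω χ := by
        rw [Finset.sum_image fun x _ y _ hxy => (E l).X_inj hxy]
        obtain ⟨η, hη⟩ : ∃ η, η ≠ ω := by
          obtain ⟨x, y, hxy⟩ := hne l
          by_cases hx : x = ω
          · exact ⟨y, fun e => hxy (hx.trans e.symm)⟩
          · exact ⟨x, hx⟩
        refine le_trans ?_ (Finset.sum_le_sum_of_subset_of_nonneg (Finset.subset_univ {ω, η})
          fun _ _ _ => mul_self_nonneg _)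
        rw [Finset.sum_pair hη.symm, (E l).hc, (E l).hc, if_pos rfl,
          if_neg (fun e => hη ((E l).X_inj e)), (E l).hu, (E l).hu]
        have := (E l).eps_sq
        nlinarith [sq_nonneg (2 * (E l).u - (E l).eps)]
      have hoth : ((∑ k ∈ S, Fintype.card (Orb (K k)) : ℕ) : ℤ) ≤
          ∑ k ∈ S, ∑ χ ∈ Finset.univ.image (E k).X, cvec ω χ * cvec ω χ := by
        push_cast
        refine Finset.sum_le_sum fun k hk => ?_
        obtain ⟨hk1, hk2⟩ := Finset.mem_filter.mp hk
        have hkl := Finset.ne_of_mem_erase hk1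
        rw [Finset.sum_image fun x _ y _ hxy => (E k).X_inj hxy]
        rw [Finset.sum_congr rfl fun η _ => show _ = b k l * b k l by
          rw [(E l).base_apply ω ((hcross k l hkl).1 η ω), hb k l hkl]]
        rw [Finset.sum_const, Finset.card_univ, nsmul_eq_mul]
        refine le_mul_of_one_le_right (Nat.cast_nonneg _) ?_
        rcases lt_or_gt_of_ne hk2 with h' | h' <;> nlinarith
      omega
    · intro k hk k' hk' hkk
      rw [Function.onFun, Finset.disjoint_left]
      intro χ h1 h2
      simp only [Finset.mem_image, Finset.mem_univ, true_and] at h1 h2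
      obtain ⟨η, rfl⟩ := h1
      obtain ⟨η', h'⟩ := h2
      exact (hcross k k' hkk).1 η η' h'.symm
    · rw [Finset.disjoint_left]
      intro χ h1 h2
      simp only [Finset.mem_image, Finset.mem_univ, true_and, Finset.mem_biUnion] at h1 h2
      obtain ⟨η, rfl⟩ := h1
      obtain ⟨k, hk, η', h'⟩ := h2
      exact (hcross k l (Finset.ne_of_mem_erase (Finset.mem_filter.mp hk).1)).1 η' η h'
  -- the exceptional characters
  have hout : ∀ l, ∑ k ∈ (Finset.univ.erase l).filter (fun k => b l k ≠ 0),
      (1 - 1 / (aNum (K k) : ℝ)) / (eNum (K k) : ℝ) < (eNum (K l) : ℝ) / aNum (K l) := by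
    intro l
    set ω : Orb (K l) := Classical.arbitrary _
    set χ := (E l).X ω
    have hlt := sum_weight_absSq_lt K hD hcov χ
    rw [← Finset.add_sum_erase _ _ (Finset.mem_univ l)] at hlt
    have hown : 1 - (eNum (K l) : ℝ) / aNum (K l) ≤ weight (K l) (absSq χ) := by
      refine weight_own (hD l) χ (E l).u (E l).eps (E l).eps_sq ω fun η => ?_
      rw [(E l).hc, (E l).hu]
      congr 2
      exact if_congr (by rw [(E l).X_inj.eq_iff]; exact eq_comm) rfl rfl
    have hoth : ∑ k ∈ (Finset.univ.erase l).filter (fun k => b l k ≠ 0),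
        (1 - 1 / (aNum (K k) : ℝ)) / (eNum (K k) : ℝ) ≤
          ∑ k ∈ Finset.univ.erase l, weight (K k) (absSq χ) := by
      refine le_trans (Finset.sum_le_sum fun k hk => ?_)
        (Finset.sum_le_sum_of_subset_of_nonneg (Finset.filter_subset _ _) fun k _ _ =>
          mul_nonneg (inv_nonneg.mpr (Nat.cast_nonneg _))
            (Finset.sum_nonneg fun _ _ => Complex.normSq_nonneg _))
      obtain ⟨hk1, hk2⟩ := Finset.mem_filter.mp hk
      have hkl := (Finset.ne_of_mem_erase hk1).symm
      refine le_trans ?_ (weight_cross (hD k) χ (b l k) fun η => by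
        rw [(E k).base_apply η ((hcross l k hkl).1 ω η), hb l k hkl])
      have ha : (1 : ℝ) ≤ aNum (K k) := by exact_mod_cast (aNum_odd (hD k)).pos
      refine div_le_div_of_nonneg_right ?_ (Nat.cast_nonneg _)
      refine le_mul_of_one_le_left ?_ ?_
      · rw [sub_nonneg, div_le_one (by linarith)]; exact ha
      · have : (1 : ℤ) ≤ b l k ^ 2 := Int.add_one_le_iff.mpr (lt_of_le_of_ne (sq_nonneg _) (pow_ne_zero 2 hk2).symm)
        exact_mod_cast this
    linarith
  -- the count
  have hsum : ∀ l, ∑ k ∈ Finset.univ.erase l, 1 / (eNum (K k) : ℝ) =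
      1 - 1 / (Nat.card G : ℝ) - (1 - 1 / (Nat.card (K l) : ℝ)) / (eNum (K l) : ℝ) +
        ∑ k ∈ Finset.univ.erase l, 1 / ((Nat.card (K k) : ℝ) * eNum (K k)) := by
    intro l
    rw [← sum_weight_const K hD hcov, ← Finset.add_sum_erase _ _ (Finset.mem_univ l),
      add_sub_cancel_left, ← Finset.sum_add_distrib]
    refine Finset.sum_congr rfl fun k _ => ?_
    have : (eNum (K k) : ℝ) ≠ 0 := Nat.cast_ne_zero.mpr (eNum_odd (hD k)).pos.ne'
    have : (Nat.card (K k) : ℝ) ≠ 0 := Nat.cast_ne_zero.mpr Nat.card_pos.ne'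
    field_simp
    ring
  have hle : ∀ k, 1 / (Nat.card G : ℝ) ≤ 1 / ((Nat.card (K k) : ℝ) * eNum (K k)) := by
    intro k
    rw [← Nat.cast_mul, card_normalizer]
    exact one_div_le_one_div_of_le (Nat.cast_pos.mpr Nat.card_pos)
      (Nat.cast_le.mpr (Nat.le_of_dvd Nat.card_pos (card_subgroup_dvd_card _)))
  have hnn : ∀ l, 0 ≤ ∑ k ∈ Finset.univ.erase l, 1 / ((Nat.card (K k) : ℝ) * eNum (K k)) :=
    fun l => Finset.sum_nonneg fun k _ => by positivity
  refine CNCount.contradiction (fun k => eNum (K k)) (fun k => aNum (K k))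
    (fun k => Fintype.card (Orb (K k))) (fun i k => b i k ≠ 0) he3 (fun k => eNum_odd (hD k))
    (fun k => card_orb (hD k)) (fun k => card_orb_even (hD k)) (fun k => two_le_card_orb (hD k))
    hco hpar hin hout (fun l => ?_) (fun l ha he => ?_)
  · rw [hsum]
    have h1 := hle l
    have h2 := hnn l
    have : (1 - 1 / (Nat.card (K l) : ℝ)) / (eNum (K l) : ℝ) =
        1 / (eNum (K l) : ℝ) - 1 / ((Nat.card (K l) : ℝ) * eNum (K l)) := by
      field_simp
    linarith
  · have hh : Nat.card (K l) = 7 := (hprime l (by rw [ha]; norm_num)).trans ha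
    have hg : 21 ≤ Nat.card G := by
      have := Nat.le_of_dvd Nat.card_pos (card_subgroup_dvd_card (normalizer (K l : Set G)))
      rw [← card_normalizer, hh, he] at this
      omega
    have h := hsum l
    rw [hh, he] at h
    rcases (Finset.univ.erase l).eq_empty_or_nonempty with h0 | ⟨k, hk⟩
    · rw [h0, Finset.sum_empty, Finset.sum_empty] at h
      have : 1 / (Nat.card G : ℝ) ≤ 1 / 21 :=
        one_div_le_one_div_of_le (by norm_num) (by exact_mod_cast hg)
      push_cast at h
      linarith
    · have h1 := hle k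
      have h2 := Finset.single_le_sum
        (f := fun k => 1 / ((Nat.card (K k) : ℝ) * eNum (K k)))
        (fun i _ => by positivity) hk
      rw [h]
      push_cast
      linarith

end Cfsg.Lib.Local.CNNode

namespace Cfsg.Lib.Local.CN

open Cfsg Subgroup CNNode
open scoped commutatorElement

universe u

variable {G : Type u} [Group G] [Finite G]

/-- In a nilpotent group the commutator subgroup of prime index is trivial. -/
theorem commutator_eq_bot_of_prime_index {L : Type u} [Group L] [Finite L]
    (hL : Group.IsNilpotent L) (h : (commutator L).index.Prime) : commutator L = ⊥ := by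
  have hne : commutator L ≠ ⊤ := fun e => h.ne_one (index_eq_one.mpr e)
  obtain ⟨x, -, hx⟩ := SetLike.exists_of_lt hne.lt_top
  have hcoat : ∀ M : Subgroup L, IsCoatom M → commutator L ≤ M := by
    intro M hM
    haveI : M.Normal := NormalizerCondition.normal_of_coatom _
      (Group.normalizerCondition_of_isNilpotent) hM
    haveI : Group.IsNilpotent (L ⧸ M) := Group.nilpotent_of_surjective (QuotientGroup.mk' M)
      (QuotientGroup.mk'_surjective M)
    haveI : Nontrivial (L ⧸ M) := QuotientGroup.nontrivial_iff.mpr hM.1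
    have h1 : (commutator (L ⧸ M)).comap (QuotientGroup.mk' M) ≠ ⊤ := by
      intro e
      refine (IsSolvable.commutator_lt_top_of_nontrivial (G := L ⧸ M)).ne ?_
      rw [← map_comap_eq_self_of_surjective (QuotientGroup.mk'_surjective M)
        (commutator (L ⧸ M)), e, map_top_of_surjective _ (QuotientGroup.mk'_surjective M)]
    have h2 : M ≤ (commutator (L ⧸ M)).comap (QuotientGroup.mk' M) := fun y hy => by
      rw [mem_comap, show QuotientGroup.mk' M y = 1 from (QuotientGroup.eq_one_iff y).mpr hy]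
      exact one_mem _
    have h3 : (commutator (L ⧸ M)).comap (QuotientGroup.mk' M) = M := by
      by_contra h'
      exact h1 (hM.2 _ (lt_of_le_of_ne h2 (Ne.symm h')))
    rw [← h3, ← map_le_iff_le_comap, commutator_def, commutator_def, map_commutator,
      map_top_of_surjective _ (QuotientGroup.mk'_surjective M)]
  have htop : zpowers x = ⊤ := by
    by_contra hz
    obtain ⟨M, hM, hxM⟩ := (eq_top_or_exists_le_coatom (zpowers x)).resolve_left hz
    have hd := index_dvd_of_le (hcoat M hM)
    rcases h.eq_one_or_self_of_dvd _ hd with h1 | h1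
    · exact hM.1 (index_eq_one.mp h1)
    · have h2 : Nat.card (commutator L) = Nat.card M := by
        have e1 := card_mul_index (commutator L)
        have e2 := card_mul_index M
        rw [h1] at e2
        exact Nat.eq_of_mul_eq_mul_right h.pos (e1.trans e2.symm)
      exact hx (by rw [eq_of_le_of_card_ge (hcoat M hM) h2.ge]; exact hxM (mem_zpowers x))
  rw [eq_bot_iff, commutator_def, commutator_le]
  intro a _ b _
  obtain ⟨i, rfl⟩ := mem_zpowers_iff.mp (show a ∈ zpowers x from htop ▸ mem_top a)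
  obtain ⟨j, rfl⟩ := mem_zpowers_iff.mp (show b ∈ zpowers x from htop ▸ mem_top b)
  rw [mem_bot, commutatorElement_eq_one_iff_mul_comm, ← zpow_add, ← zpow_add, add_comm]

theorem IsMaxNilp.nodeData (hG : IsMinSimpleOddOrder G) (hCN : IsCNGroup G) {H : Subgroup G}
    (hH : IsMaxNilp H) : NodeData H := by
  refine ⟨hG.1, fun x hx t ht ht1 hm => ?_, fun x hx hxH h k hk hkc => ?_, ?_⟩
  · have hne : H.map (MulAut.conj x).toMonoidHom ≠ H := fun e =>
      hx (Cfsg.Lib.Core.mem_normalizer_iff_map_conj.mpr e)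
    have : x * t * x⁻¹ ∈ H ⊓ H.map (MulAut.conj x).toMonoidHom := ⟨hm, t, ht, rfl⟩
    rw [hH.ti hG hCN x hne, mem_bot, conj_eq_one_iff] at this
    exact ht1 this
  · obtain ⟨E, ⟨-, hEN, hHE, hdec⟩, -, hfpf⟩ := hH.exists_complement hG hCN
    obtain ⟨v, hv, ε, hε, rfl⟩ := hdec x hx
    have hε1 : ε ≠ 1 := fun e => hxH (by rw [e, mul_one]; exact hv)
    set D : Subgroup G := (commutator H).map H.subtype with hD
    have hDH : D ≤ H := map_subtype_le _
    have hND : normalizer (H : Set G) ≤ normalizer (D : Set G) :=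
      Cfsg.Lib.Core.normalizer_le_normalizer_map_char _
    have hεN := hEN hε
    have hconj : ε * h * ε⁻¹ ∈ H := (mem_normalizer_iff.mp hεN _).mp h.2
    have hvh : ∀ w ∈ H, v⁻¹ * w * v * w⁻¹ ∈ D := fun w hw => by
      refine ⟨⟨_, _⟩, commutator_mem_commutator (mem_top (⟨v⁻¹, inv_mem hv⟩ : H))
        (mem_top ⟨w, hw⟩), ?_⟩
      simp [commutatorElement_def]
    have hbase : ε * h * ε⁻¹ * (h : G)⁻¹ ∈ D := by
      have h1 := hvh ((k : G) * h) (mul_mem k.2 h.2)
      have h2 : (k : G) ∈ D := ⟨k, hkc, rfl⟩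
      have h3 := mul_mem h1 h2
      rw [hk] at h3
      convert h3 using 1
      group
    -- the elements acting trivially on `h` modulo `D`
    have hall : ∀ a ∈ zpowers ε, ⁅(h : G), a⁆ ∈ D := by
      let S : Subgroup G :=
        { carrier := {a | a ∈ normalizer (H : Set G) ∧ a * h * a⁻¹ * (h : G)⁻¹ ∈ D}
          one_mem' := ⟨one_mem _, by simp⟩
          mul_mem' := by
            rintro a c ⟨ha, ha'⟩ ⟨hc, hc'⟩
            refine ⟨mul_mem ha hc, ?_⟩
            have := mul_mem ((mem_normalizer_iff.mp (hND ha) _).mp hc') ha'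
            convert this using 1
            group
          inv_mem' := by
            rintro a ⟨ha, ha'⟩
            refine ⟨inv_mem ha, ?_⟩
            have := inv_mem ((mem_normalizer_iff.mp (hND (inv_mem ha)) _).mp ha')
            convert this using 1
            group }
      intro a ha
      have : a ∈ S := zpowers_le.mpr (show ε ∈ S from ⟨hεN, hbase⟩) ha
      have h1 := inv_mem this.2
      convert h1 using 1
      simp [commutatorElement_def, mul_assoc]
    have hεle : zpowers ε ≤ normalizer (H : Set G) := zpowers_le.mpr hεN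
    have hcop : (Nat.card (zpowers ε)).Coprime (Nat.card H) := by
      have h1 : H.relIndex (normalizer (H : Set G)) ∣ H.index :=
        relIndex_dvd_index_of_le le_normalizer
      refine (((coprime_index hCN hH.1 hH.2).coprime_dvd_right h1).symm).coprime_dvd_left ?_
      have h2 : Nat.card E ∣ H.relIndex (normalizer (H : Set G)) := by
        have h3 := card_dvd_of_le (sup_le le_normalizer hEN : H ⊔ E ≤ normalizer (H : Set G))
        rw [Cfsg.Lib.Coprime.card_sup_of_disjoint hEN (disjoint_iff.mpr hHE),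
          ← Cfsg.Lib.Core.card_mul_relIndex (le_normalizer (H := H))] at h3
        exact Nat.dvd_of_mul_dvd_mul_left Nat.card_pos h3
      exact (card_dvd_of_le (zpowers_le.mpr hε)).trans h2
    obtain ⟨n, hn, c, ⟨hcH, hcε⟩, hnc⟩ :=
      Cfsg.Lib.Coprime.exists_mul_centralizer_of_commutator_mem (A := zpowers ε) (G := H) hεle hcop
        (Or.inr (isSolvable_of_nilpotent hH.1)) hDH (hεle.trans hND) h.2 hall
    have hc1 : c = 1 := mem_bot.mp ((hfpf ε hε hε1).le
      ⟨hcH, mem_centralizer_singleton_iff.mpr ((mem_centralizer_iff.mp hcε ε (mem_zpowers ε)).symm)⟩)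
    rw [hc1, mul_one] at hnc
    obtain ⟨n', hn', hn''⟩ := hn
    rwa [show h = n' from Subtype.ext (hnc.trans hn''.symm)]
  · haveI : Nontrivial H := (nontrivial_iff_ne_bot _).mpr (hH.ne_bot hG)
    haveI : Group.IsSolvable H := isSolvable_of_nilpotent hH.1
    exact (IsSolvable.commutator_lt_top_of_nontrivial (G := H)).ne

theorem not_minSimple (hG : IsMinSimpleOddOrder G) (hCN : IsCNGroup G) : False := by
  classical
  haveI := Fintype.ofFinite G
  haveI := nontrivial_of_min hG
  let s : Setoid {H : Subgroup G // IsMaxNilp H} :=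
    { r := fun H K => ∃ g : G, K.1 = H.1.map (MulAut.conj g).toMonoidHom
      iseqv := ⟨fun H => ⟨1, by rw [map_one]; exact (map_id _).symm⟩,
        fun {H K} ⟨g, hg⟩ => ⟨g⁻¹, by
          rw [hg, map_map]
          conv_lhs => rw [← map_id H.1]
          congr 1; ext; simp [mul_assoc]⟩,
        fun {H K L} ⟨g, hg⟩ ⟨g', hg'⟩ => ⟨g' * g, by rw [hg', hg, map_map]; congr 1; ext; simp [mul_assoc]⟩⟩ }
  haveI : Fintype (Quotient s) := Fintype.ofFinite _
  let K : Quotient s → Subgroup G := fun q => q.out.1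
  have hK : ∀ q, IsMaxNilp (K q) := fun q => q.out.2
  have heq : ∀ q r, (∃ g, K r = (K q).map (MulAut.conj g).toMonoidHom) → q = r := fun q r h => by
    rw [← Quotient.out_eq q, ← Quotient.out_eq r]; exact Quotient.sound h
  have hcov : ∀ z : G, z ≠ 1 → ∃! q, InConj (K q) z := by
    intro z hz
    obtain ⟨H, hH, hzH⟩ := exists_isMaxNilp (isNilpotent_zpowers z)
    obtain ⟨g, hg⟩ : (Quotient.mk s ⟨H, hH⟩).out ≈ (⟨H, hH⟩ : {H : Subgroup G // IsMaxNilp H}) :=
      Quotient.exact (Quotient.out_eq _)
    refine ⟨Quotient.mk s ⟨H, hH⟩, ⟨g, ?_⟩, fun q ⟨x, hx⟩ => ?_⟩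
    · obtain ⟨w, hw, hwz⟩ : z ∈ (K (Quotient.mk s ⟨H, hH⟩)).map (MulAut.conj g).toMonoidHom :=
        hg ▸ hzH (mem_zpowers z)
      rw [← hwz]
      simpa [mul_assoc] using hw
    · have h1 : z ∈ (K q).map (MulAut.conj x).toMonoidHom := ⟨x⁻¹ * z * x, hx, by simp [mul_assoc]⟩
      have h2 := ((hK q).map_conj x).eq_of_inf_ne_bot hG hCN hH fun e =>
        hz (mem_bot.mp (e.le ⟨h1, hzH (mem_zpowers z)⟩))
      conv_lhs => rw [← Quotient.out_eq q]
      exact Quotient.sound ⟨x, h2.symm⟩
  have hD : ∀ q, NodeData (K q) := fun q => (hK q).nodeData hG hCN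
  obtain ⟨z, hz⟩ := exists_ne (1 : G)
  haveI : Nonempty (Quotient s) := ⟨(hcov z hz).exists.choose⟩
  refine false_of_nodes K hD hcov (fun q => ?_) (fun q r hqr => ?_) fun q hp => ?_
  · obtain ⟨j, hj⟩ := eNum_odd (hD q)
    have : eNum (K q) ≠ 1 := fun e =>
      (hK q).normalizer_ne_self hG hCN (le_antisymm (relIndex_eq_one.mp e) le_normalizer)
    omega
  · by_contra hc
    refine hqr (heq q r ((hK q).exists_conj_of_not_coprime hG hCN (hK r) fun h => hc ?_))
    exact Nat.Coprime.of_dvd (index_dvd_card _) (index_dvd_card _) h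
  · rw [aNum, commutator_eq_bot_of_prime_index (hK q).1 hp, index_bot]

end Cfsg.Lib.Local.CN
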