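import Mathlib
import Cfsg.Agent.Lib.Local.CNOdd

/-!
The CN theorem for groups of odd order.
-/

set_option autoImplicit false
set_option linter.style.haveILetI false

namespace Cfsg.Lib.Local.CN

open Cfsg Subgroup

universe u

theorem isSolvable_of_odd_aux : ∀ (n : ℕ) (G : Type u) [Group G] [Finite G], Nat.card G = n →
    Odd (Nat.card G) → IsCNGroup G → Group.IsSolvable G := by
  intro n
  induction n using Nat.strong_induction_on with
  | _ n ih =>
  intro G _ _ hn hodd hCN
  have hsub : ∀ H : Subgroup G, H ≠ ⊤ → Group.IsSolvable H := fun H hH => by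
    have hlt : Nat.card H < n := hn ▸ lt_of_le_of_ne
      (Nat.le_of_dvd Nat.card_pos (card_subgroup_dvd_card H))
      fun e => hH (eq_top_of_card_eq H e)
    exact ih _ hlt H rfl (hodd.of_dvd_nat (card_subgroup_dvd_card H))
      (isCN_of_injective hCN H.subtype H.subtype_injective)
  by_cases hs : ∃ N : Subgroup G, N.Normal ∧ N ≠ ⊥ ∧ N ≠ ⊤
  · obtain ⟨N, hN, hN1, hN2⟩ := hs
    haveI := hsub N hN2
    haveI : Group.IsSolvable (G ⧸ N) := ih _ (hn ▸ Cfsg.Lib.Core.card_quotient_lt hN1) _ rfl
      (hodd.of_dvd_nat N.card_quotient_dvd_card) (isCN_quotient_solvable _ G rfl hCN N inferInstance)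
    exact Group.isSolvable_of_ker_le_range N.subtype (QuotientGroup.mk' N) (by simp)
  · push Not at hs
    by_cases hc : IsMulCommutative G
    · exact Group.isSolvable_of_comm fun a b => mul_comm' a b
    exfalso
    haveI : Nontrivial G := by
      by_contra h
      rw [not_nontrivial_iff_subsingleton] at h
      exact hc ⟨⟨fun a b => Subsingleton.elim _ _⟩⟩
    haveI : IsSimpleGroup G := ⟨fun N hN => or_iff_not_imp_left.mpr fun h => hs N hN h⟩
    exact not_minSimple ⟨hodd, inferInstance, hc, hsub⟩ hCN

theorem isSolvable_of_odd {G : Type u} [Group G] [Finite G] (hodd : Odd (Nat.card G))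
    (hCN : IsCNGroup G) : Group.IsSolvable G :=
  isSolvable_of_odd_aux _ G rfl hodd hCN

end Cfsg.Lib.Local.CN
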