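import Mathlib
import Cfsg.Prelude.Def_DStar

/-!
The family behind `D*(S)`: its members centralise each other.
-/

set_option autoImplicit false

namespace Cfsg.Lib.Local

open Subgroup

universe u

variable {S : Type u} [Group S]

theorem dStarFamily_subgroupOf {A M : Subgroup S} (hA : A ∈ dStarFamily S) (hAM : A ≤ M) :
    A.subgroupOf M ∈ dStarFamily ↥M := by
  obtain ⟨hab, hcl⟩ := hA
  refine ⟨⟨⟨fun a b => Subtype.ext (Subtype.ext ?_)⟩⟩, fun x hx a ha => Subtype.ext ?_⟩
  · simp only [Subgroup.coe_mul]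
    exact congrArg Subtype.val (hab.is_comm.comm ⟨_, mem_subgroupOf.mp a.2⟩ ⟨_, mem_subgroupOf.mp b.2⟩)
  · refine hcl (x : S) ?_ (a : S) ha
    have e : (A.subgroupOf M ⊔ zpowers x).map M.subtype = A ⊔ zpowers (x : S) := by
      rw [Subgroup.map_sup, map_subgroupOf_eq_of_le hAM, MonoidHom.map_zpowers]
      rfl
    have := congrArg (Subgroup.map M.subtype) hx
    rwa [Subgroup.map_commutator, Subgroup.map_commutator, e, Subgroup.map_bot] at this

theorem dStarFamily_map_conj {A : Subgroup S} (hA : A ∈ dStarFamily S) (g : S) :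
    A.map (MulAut.conj g).toMonoidHom ∈ dStarFamily S := by
  obtain ⟨hab, hcl⟩ := hA
  refine ⟨⟨⟨?_⟩⟩, fun x hx a ha => ?_⟩
  · rintro ⟨_, a, ha, rfl⟩ ⟨_, b, hb, rfl⟩
    apply Subtype.ext
    show (MulAut.conj g).toMonoidHom a * (MulAut.conj g).toMonoidHom b =
      (MulAut.conj g).toMonoidHom b * (MulAut.conj g).toMonoidHom a
    rw [← map_mul, ← map_mul]
    exact congrArg _ (congrArg Subtype.val (hab.is_comm.comm ⟨a, ha⟩ ⟨b, hb⟩))
  · obtain ⟨a, ha, rfl⟩ := ha
    have hy : x = (MulAut.conj g).toMonoidHom (g⁻¹ * x * g) := by simp [mul_assoc]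
    have h1 : (A ⊔ zpowers (g⁻¹ * x * g)).map (MulAut.conj g).toMonoidHom =
        A.map (MulAut.conj g).toMonoidHom ⊔ zpowers x := by
      rw [Subgroup.map_sup, MonoidHom.map_zpowers, ← hy]
    have h2 := hcl (g⁻¹ * x * g) (by
      apply Subgroup.map_injective (f := (MulAut.conj g).toMonoidHom) (MulAut.conj g).injective
      rw [Subgroup.map_commutator, Subgroup.map_commutator, h1, Subgroup.map_bot]; exact hx) a ha
    conv_lhs => rw [hy]
    conv_rhs => rw [hy]
    rw [← map_mul, ← map_mul, h2]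

/-- A group generated by two normal abelian subgroups has class at most two. -/
theorem class_two_of_normal_abelian {K L : Subgroup S} [K.Normal] [L.Normal] (hK : IsMulCommutative K)
    (hL : IsMulCommutative L) (h : K ⊔ L = ⊤) :
    ⁅⁅(⊤ : Subgroup S), (⊤ : Subgroup S)⁆, (⊤ : Subgroup S)⁆ = ⊥ := by
  have key : ∀ (K L : Subgroup S) [K.Normal], IsMulCommutative L → K ⊔ L = ⊤ → commutator S ≤ K := by
    intro K L _ hL h
    refine Subgroup.Normal.quotient_commutative_iff_commutator_le.mp ⟨⟨fun a b => ?_⟩⟩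
    obtain ⟨x, rfl⟩ := QuotientGroup.mk_surjective a
    obtain ⟨y, rfl⟩ := QuotientGroup.mk_surjective b
    obtain ⟨k, hk, l, hl, rfl⟩ := mem_sup_of_normal_left.mp (h.symm ▸ mem_top x : x ∈ K ⊔ L)
    obtain ⟨k', hk', l', hl', rfl⟩ := mem_sup_of_normal_left.mp (h.symm ▸ mem_top y : y ∈ K ⊔ L)
    rw [QuotientGroup.mk_mul, QuotientGroup.mk_mul, (QuotientGroup.eq_one_iff k).mpr hk,
      (QuotientGroup.eq_one_iff k').mpr hk', one_mul, one_mul, ← QuotientGroup.mk_mul,
      ← QuotientGroup.mk_mul]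
    exact congrArg _ (congrArg Subtype.val (hL.is_comm.comm ⟨l, hl⟩ ⟨l', hl'⟩))
  rw [commutator_eq_bot_iff_le_centralizer, ← commutator_def]
  intro c hc
  have hcK := key K L hL h hc
  have hcL := key L K hK (by rwa [sup_comm]) hc
  have : K ⊔ L ≤ centralizer ({c} : Set S) :=
    sup_le (fun k hk => mem_centralizer_singleton_iff.mpr
        (congrArg Subtype.val (hK.is_comm.comm ⟨k, hk⟩ ⟨c, hcK⟩)))
      (fun l hl => mem_centralizer_singleton_iff.mpr
        (congrArg Subtype.val (hL.is_comm.comm ⟨l, hl⟩ ⟨c, hcL⟩)))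
  exact mem_centralizer_iff.mpr fun g _ =>
    mem_centralizer_singleton_iff.mp (this (h.symm ▸ mem_top g))

/-- Two members of the family centralise each other. -/
theorem dStarFamily_commute_aux {p : ℕ} [Fact p.Prime] :
    ∀ (n : ℕ) (S : Type u) [Group S] [Finite S], Nat.card S = n → IsPGroup p S →
      ∀ A ∈ dStarFamily S, ∀ B ∈ dStarFamily S, ∀ a ∈ A, ∀ b ∈ B, a * b = b * a := by
  intro n
  induction n using Nat.strong_induction_on with
  | _ n ih =>
  intro S _ _ hn hS A hA B hB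
  -- the induction hypothesis for a proper subgroup
  have step : ∀ M : Subgroup S, M ≠ ⊤ → ∀ A ∈ dStarFamily S, ∀ B ∈ dStarFamily S, A ≤ M → B ≤ M →
      ∀ a ∈ A, ∀ b ∈ B, a * b = b * a := by
    intro M hM A hA B hB hAM hBM a ha b hb
    have hlt : Nat.card ↥M < n := by
      rw [← hn]
      exact lt_of_le_of_ne (card_le_card_group M) fun e => hM (eq_top_of_card_eq M e)
    exact congrArg Subtype.val (ih _ hlt ↥M rfl (hS.to_subgroup M) _ (dStarFamily_subgroupOf hA hAM)
      _ (dStarFamily_subgroupOf hB hBM) ⟨a, hAM ha⟩ (mem_subgroupOf.mpr ha) ⟨b, hBM hb⟩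
      (mem_subgroupOf.mpr hb))
  by_cases htop : A ⊔ B = ⊤
  swap
  · exact step _ htop A hA B hB le_sup_left le_sup_right
  by_cases hAt : A = ⊤
  · intro a ha b _
    exact congrArg Subtype.val (hA.1.is_comm.comm ⟨a, ha⟩ ⟨b, hAt ▸ mem_top b⟩)
  by_cases hBt : B = ⊤
  · intro a _ b hb
    exact congrArg Subtype.val (hB.1.is_comm.comm ⟨a, hBt ▸ mem_top a⟩ ⟨b, hb⟩)
  haveI := hS.isNilpotent
  -- normal closures are abelian
  have hclo : ∀ C ∈ dStarFamily S, C ≠ ⊤ → IsMulCommutative (normalClosure (C : Set S)) := by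
    intro C hC hne
    obtain ⟨M, hM, hCM⟩ := (eq_top_or_exists_le_coatom C).resolve_left hne
    haveI : M.Normal := NormalizerCondition.normal_of_coatom _
      Group.normalizerCondition_of_isNilpotent hM
    refine Subgroup.isMulCommutative_closure fun x hx y hy => ?_
    obtain ⟨c, hc, hcx⟩ := Group.mem_conjugatesOfSet_iff.mp hx
    obtain ⟨c', hc', hcy⟩ := Group.mem_conjugatesOfSet_iff.mp hy
    obtain ⟨g, rfl⟩ := isConj_iff.mp hcx
    obtain ⟨g', rfl⟩ := isConj_iff.mp hcy
    have hle : ∀ g : S, C.map (MulAut.conj g).toMonoidHom ≤ M := by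
      rintro g _ ⟨z, hz, rfl⟩
      exact ‹M.Normal›.conj_mem z (hCM hz) g
    exact step M hM.1 _ (dStarFamily_map_conj hC g) _ (dStarFamily_map_conj hC g') (hle g) (hle g')
      _ ⟨c, hc, rfl⟩ _ ⟨c', hc', rfl⟩
  have hsup : normalClosure (A : Set S) ⊔ normalClosure (B : Set S) = ⊤ :=
    top_unique (htop ▸ sup_le_sup le_normalClosure le_normalClosure)
  have hcl := class_two_of_normal_abelian (hclo A hA hAt) (hclo B hB hBt) hsup
  intro a ha b _
  refine hA.2 b (eq_bot_iff.mpr (hcl ▸ ?_)) a ha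
  exact commutator_mono (commutator_mono le_top le_top) le_top

theorem dStarFamily_commute [Finite S] {p : ℕ} [Fact p.Prime] (hS : IsPGroup p S) {A B : Subgroup S}
    (hA : A ∈ dStarFamily S) (hB : B ∈ dStarFamily S) {a b : S} (ha : a ∈ A) (hb : b ∈ B) :
    a * b = b * a :=
  dStarFamily_commute_aux _ S rfl hS A hA B hB a ha b hb

/-- `D*(S)` is a member of its family. -/
theorem dStar_mem [Finite S] {p : ℕ} [Fact p.Prime] (hS : IsPGroup p S) : dStar S ∈ dStarFamily S := by
  constructor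
  · unfold dStar
    rw [sSup_eq_iSup', Subgroup.iSup_eq_closure]
    refine Subgroup.isMulCommutative_closure fun x hx y hy => ?_
    obtain ⟨A, hA⟩ := Set.mem_iUnion.mp hx
    obtain ⟨B, hB⟩ := Set.mem_iUnion.mp hy
    exact dStarFamily_commute hS A.2 B.2 hA hB
  · intro x hx a ha
    have key : dStar S ≤ centralizer ({x} : Set S) := sSup_le fun A hA b hb => by
      refine mem_centralizer_singleton_iff.mpr (hA.2 x (eq_bot_iff.mpr (hx ▸ ?_)) b hb)
      have h : A ⊔ zpowers x ≤ dStar S ⊔ zpowers x := sup_le_sup_right (le_sSup hA) _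
      exact commutator_mono (commutator_mono h h) h
    exact mem_centralizer_singleton_iff.mp (key ha)

end Cfsg.Lib.Local
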