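import Mathlib
import Cfsg.Prelude.Def_CaseTheorems
import Cfsg.Agent.Lib.PGroup.Basic
import Cfsg.Agent.Lib.PGroup.ClassTwo
import Cfsg.Agent.Lib.PGroup.OddOmega
import Cfsg.Agent.Lib.Coprime.Generation

/-!
# Extensions of `p`-groups by `SL₂(p)` in groups of `p`-rank two

If `φ : G → SL₂(p)` is onto with `p`-group kernel `Q`, `G` has `p`-rank at most two, `p ≥ 5`, and an
involution over the centre of `SL₂(p)` moves `Q`, then `|Q| = p²`.
-/

set_option autoImplicit false
set_option linter.unusedSectionVars false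

namespace Cfsg.Lib.Local.QdRankTwo

open Cfsg Subgroup
open scoped commutatorElement MatrixGroups

section General

variable {G : Type*} [Group G] [Finite G] {p : ℕ} [hp : Fact p.Prime]

omit [Finite G] in
theorem conj_comm_elem (g a b : G) :
    g * ⁅a, b⁆ * g⁻¹ = ⁅g * a * g⁻¹, g * b * g⁻¹⁆ := by
  simp only [commutatorElement_def]
  group

theorem card_lt_card {H K : Subgroup G} (h : H < K) : Nat.card H < Nat.card K :=
  lt_of_le_of_ne (card_le_of_le h.le) fun e => h.ne (eq_of_le_of_card_ge h.le e.ge)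

/-- An element whose square is trivial in a `p`-group, `p` odd, is trivial. -/
theorem eq_one_of_mul_self {Q : Subgroup G} (hQ : IsPGroup p Q) (hp2 : p ≠ 2) {z : G}
    (hz : z ∈ Q) (h : z * z = 1) : z = 1 := by
  obtain ⟨k, hk⟩ := hQ ⟨z, hz⟩
  have hk' : z ^ p ^ k = 1 := congrArg Subtype.val hk
  have hodd : Odd (p ^ k) := (hp.out.odd_of_ne_two hp2).pow
  obtain ⟨m, hm⟩ := hodd
  rw [hm, pow_succ, pow_mul, sq, h, one_pow, one_mul] at hk'
  exact hk'

/-- In rank at most two, an element of order `p` centralizing a subgroup of type `(p, p)` lies in it. -/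
theorem mem_of_rank (hr : PRankLE p 2 G) {A : Subgroup G} {x : G}
    (hcomm : ∀ a ∈ A, ∀ b ∈ A, a * b = b * a) (hexp : ∀ a ∈ A, a ^ p = 1)
    (hcard : p ^ 2 ≤ Nat.card A) (hxA : ∀ a ∈ A, x * a = a * x) (hx : x ^ p = 1) : x ∈ A := by
  have hins : ∀ a ∈ insert x (A : Set G), ∀ b ∈ insert x (A : Set G), a * b = b * a := by
    rintro a (rfl | ha) b (rfl | hb)
    · rfl
    · exact hxA b hb
    · exact (hxA a ha).symm
    · exact hcomm a ha b hb
  let K : Subgroup G := closure (insert x (A : Set G))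
  have hK : IsMulCommutative K := isMulCommutative_closure hins
  have hKexp : ∀ a ∈ K, a ^ p = 1 := by
    intro a ha
    induction ha using closure_induction with
    | mem a ha =>
      rcases ha with rfl | ha
      · exact hx
      · exact hexp a ha
    | one => exact one_pow _
    | mul a b ha hb iha ihb =>
      have hc : Commute a b := congrArg Subtype.val (hK.is_comm.comm ⟨a, ha⟩ ⟨b, hb⟩)
      rw [hc.mul_pow, iha, ihb, one_mul]
    | inv a _ iha => rw [inv_pow, iha, inv_one]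
  have hAK : A ≤ K := fun a ha => subset_closure (Or.inr ha)
  have heq : A = K := eq_of_le_of_card_ge hAK ((hr K hK hKexp).trans hcard)
  rw [heq]
  exact subset_closure (Or.inl rfl)

/-- The derived subgroup centralizes every cyclic normal subgroup. -/
theorem commutator_le_centralizer_of_isCyclic (N : Subgroup G) [N.Normal] [IsCyclic N] :
    commutator G ≤ centralizer (N : Set G) := by
  rw [commutator_def, commutator_le]
  intro a _ b _
  rw [mem_centralizer_iff_commutator_eq_one]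
  obtain ⟨n, hn⟩ := IsCyclic.exists_generator (α := N)
  have hconj : ∀ g : G, ∃ i : ℤ, ∀ m ∈ N, g * m * g⁻¹ = m ^ i := by
    intro g
    obtain ⟨i, hi⟩ := hn ⟨g * n * g⁻¹, Normal.conj_mem inferInstance _ n.2 g⟩
    refine ⟨i, fun m hm => ?_⟩
    obtain ⟨j, hj⟩ := hn ⟨m, hm⟩
    have hj' : (n : G) ^ j = m := congrArg Subtype.val hj
    have hi' : (n : G) ^ i = g * n * g⁻¹ := congrArg Subtype.val hi
    rw [← hj', ← conj_zpow, ← hi', ← zpow_mul, ← zpow_mul, mul_comm]
  have hab : ∀ m ∈ N, (a * b) * m * (a * b)⁻¹ = (b * a) * m * (b * a)⁻¹ := by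
    intro m hm
    obtain ⟨i, hi⟩ := hconj a
    obtain ⟨j, hj⟩ := hconj b
    have e1 : (a * b) * m * (a * b)⁻¹ = (m ^ j) ^ i := by
      rw [show (a * b) * m * (a * b)⁻¹ = a * (b * m * b⁻¹) * a⁻¹ by group, hj m hm,
        hi _ (zpow_mem hm j)]
    have e2 : (b * a) * m * (b * a)⁻¹ = (m ^ i) ^ j := by
      rw [show (b * a) * m * (b * a)⁻¹ = b * (a * m * a⁻¹) * b⁻¹ by group, hi m hm,
        hj _ (zpow_mem hm i)]
    rw [e1, e2, ← zpow_mul, ← zpow_mul, mul_comm]
  intro m hm
  have h2 : ⁅a, b⁆ * m * ⁅a, b⁆⁻¹ = m := by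
    have h := hab ((b * a)⁻¹ * m * (b * a)) (Normal.conj_mem' inferInstance m hm (b * a))
    rw [show ⁅a, b⁆ * m * ⁅a, b⁆⁻¹ = (a * b) * ((b * a)⁻¹ * m * (b * a)) * (a * b)⁻¹ by
      simp [commutatorElement_def, mul_assoc], h]
    group
  rw [commutatorElement_eq_one_iff_mul_comm]
  exact (mul_inv_eq_iff_eq_mul.mp h2).symm

/-- A finite commutative `p`-group whose elements of order `p` lie in one subgroup of order `p` is cyclic. -/
theorem isCyclic_of_comm (D : Subgroup G) (hD : IsPGroup p D) (hcomm : ∀ a ∈ D, ∀ b ∈ D, a * b = b * a)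
    {z : G} (hz : z ^ p = 1) (h : ∀ x ∈ D, x ^ p = 1 → x ∈ zpowers z) : IsCyclic D := by
  let inst : CommGroup D :=
    { (inferInstance : Group D) with mul_comm := fun a b => Subtype.ext (hcomm _ a.2 _ b.2) }
  by_contra hne
  obtain ⟨q, a, b, hq, ha1, haq, hbq, hba⟩ :=
    @Cfsg.Lib.Coprime.exists_two_independent_of_not_isCyclic D inst _ hne
  have := Fact.mk hq
  have hoa : orderOf a = q := orderOf_eq_prime haq ha1
  have hqp : q = p := by
    obtain ⟨k, hk⟩ := hD a
    have hd : q ∣ p ^ k := hoa ▸ orderOf_dvd_of_pow_eq_one hk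
    exact (Nat.prime_dvd_prime_iff_eq hq hp.out).mp (hq.dvd_of_dvd_pow hd)
  subst hqp
  have hza : (a : G) ∈ zpowers z := h _ a.2 (congrArg Subtype.val haq)
  have hzb : (b : G) ∈ zpowers z := h _ b.2 (congrArg Subtype.val hbq)
  have hle : zpowers (a : G) = zpowers z := by
    refine eq_of_le_of_card_ge (zpowers_le.mpr hza) ?_
    rw [Nat.card_zpowers, Nat.card_zpowers, orderOf_coe, hoa]
    exact Nat.le_of_dvd hp.out.pos (orderOf_dvd_of_pow_eq_one hz)
  rw [← hle] at hzb
  obtain ⟨i, hi⟩ := hzb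
  exact hba ⟨i, Subtype.ext hi⟩

/-- A finite `p`-group, `p` odd, whose elements of order `p` lie in one subgroup of order `p` is cyclic. -/
theorem isCyclic_of_unique (hp2 : p ≠ 2) (D : Subgroup G) (hD : IsPGroup p D) {z : G}
    (hz : z ^ p = 1) (h : ∀ x ∈ D, x ^ p = 1 → x ∈ zpowers z) : IsCyclic D := by
  refine isCyclic_of_comm D hD ?_ hz h
  by_contra hne
  push Not at hne
  obtain ⟨a0, ha0, b0, hb0, hab0⟩ := hne
  -- work inside `D`
  have := hD.isNilpotent
  have hcne : center D ≠ ⊤ := by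
    intro hc
    exact hab0 (congrArg Subtype.val (mem_center_iff.mp (hc ▸ mem_top (⟨b0, hb0⟩ : D)) ⟨a0, ha0⟩))
  -- an element `x` of the second centre, outside the centre, with `x ^ p` central
  have hnt : Nontrivial (D ⧸ center D) := by
    rw [← not_subsingleton_iff_nontrivial, QuotientGroup.subsingleton_iff]
    exact hcne
  obtain ⟨xbar, -, hxc, hxo⟩ := Cfsg.Lib.PGroup.exists_mem_center_orderOf_eq (p := p)
    (hD.to_quotient (center D)) (N := (⊤ : Subgroup (D ⧸ center D))) top_ne_bot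
  obtain ⟨x, rfl⟩ := QuotientGroup.mk_surjective xbar
  have hxp : x ^ p ∈ center D := by
    rw [← QuotientGroup.eq_one_iff, QuotientGroup.mk_pow, ← hxo]
    exact pow_orderOf_eq_one _
  have hxnc : x ∉ center D := by
    intro hc
    rw [(QuotientGroup.eq_one_iff x).mpr hc, orderOf_one] at hxo
    exact hp.out.one_lt.ne hxo
  obtain ⟨y, hxy⟩ : ∃ y : D, y * x ≠ x * y := by
    rw [mem_center_iff] at hxnc
    push Not at hxnc
    exact hxnc
  have hcz : ∀ g : D, ⁅x, g⁆ ∈ center D := by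
    intro g
    rw [← QuotientGroup.eq_one_iff]
    change (QuotientGroup.mk' (center D)) ⁅x, g⁆ = 1
    rw [map_commutatorElement, commutatorElement_eq_one_iff_mul_comm]
    exact (mem_center_iff.mp hxc _).symm
  -- the subgroup generated by `x`, `y` has class two and derived group of exponent `p`
  let E : Subgroup D := closure {x, y}
  have hc0 : (⁅x, y⁆ : D) ∈ center D := hcz y
  have hE2 : commutator E ≤ center E := by
    have hN : (center D).subgroupOf E ≤ center E := fun e he =>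
      mem_center_iff.mpr fun f => Subtype.ext (mem_center_iff.mp (mem_subgroupOf.mp he) _)
    refine le_trans ?_ hN
    intro e he
    rw [mem_subgroupOf]
    have h1 : (e : D) ∈ ⁅E, E⁆ := by
      rw [← map_subtype_commutator]
      exact ⟨e, he, rfl⟩
    refine (show ⁅E, E⁆ ≤ center D from ?_) h1
    -- images of `x`, `y` commute modulo the centre
    have h2 : (⁅E, E⁆).map (QuotientGroup.mk' (center D)) = ⊥ := by
      rw [map_commutator, MonoidHom.map_closure, Set.image_pair,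
        commutator_eq_bot_iff_le_centralizer]
      have hcomm : ∀ u ∈ ({QuotientGroup.mk' (center D) x, QuotientGroup.mk' (center D) y} : Set _),
          ∀ v ∈ ({QuotientGroup.mk' (center D) x, QuotientGroup.mk' (center D) y} : Set _),
          u * v = v * u := by
        have hk : QuotientGroup.mk' (center D) x * QuotientGroup.mk' (center D) y =
            QuotientGroup.mk' (center D) y * QuotientGroup.mk' (center D) x :=
          (mem_center_iff.mp hxc _).symm
        rintro u (rfl | rfl) v (rfl | rfl) <;> first | rfl | exact hk | exact hk.symm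
      have := isMulCommutative_closure hcomm
      exact le_centralizer _
    rwa [Subgroup.map_eq_bot_iff, QuotientGroup.ker_mk'] at h2
  let xE : E := ⟨x, subset_closure (Or.inl rfl)⟩
  let yE : E := ⟨y, subset_closure (Or.inr rfl)⟩
  have hcp : ⁅xE, yE⁆ ^ p = 1 := by
    rw [← Cfsg.Lib.PGroup.commutatorElement_pow_left hE2, commutatorElement_eq_one_iff_mul_comm]
    exact Subtype.ext (mem_center_iff.mp hxp y).symm
  -- all commutators of `E` have exponent `p`
  have hgen : (closure {xE, yE} : Subgroup E) = ⊤ := by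
    refine map_injective E.subtype_injective ?_
    rw [MonoidHom.map_closure, Set.image_pair, ← MonoidHom.range_eq_map, range_subtype]
    rfl
  have hexp : ∀ e f : E, ⁅e, f⁆ ^ p = 1 := by
    have hstep : ∀ e : E, (∀ g ∈ ({xE, yE} : Set E), ⁅e, g⁆ ^ p = 1) → ∀ f : E, ⁅e, f⁆ ^ p = 1 := by
      intro e he f
      rw [← Cfsg.Lib.PGroup.commutatorElement_pow_left hE2, commutatorElement_eq_one_iff_mul_comm]
      have hle : closure {xE, yE} ≤ centralizer ({e ^ p} : Set E) := by
        rw [closure_le]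
        intro g hg
        rw [SetLike.mem_coe, mem_centralizer_iff]
        rintro _ rfl
        have := he g hg
        rwa [← Cfsg.Lib.PGroup.commutatorElement_pow_left hE2,
          commutatorElement_eq_one_iff_mul_comm] at this
      exact mem_centralizer_iff.mp (hle (hgen ▸ mem_top f)) _ rfl
    intro e f
    refine hstep e (fun g hg => ?_) f
    have hsym : ∀ u v : E, ⁅u, v⁆ ^ p = 1 → ⁅v, u⁆ ^ p = 1 := fun u v h => by
      rw [← commutatorElement_inv, inv_pow, h, inv_one]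
    refine hsym g e (hstep g (fun g' hg' => ?_) e)
    rcases hg with rfl | rfl <;> rcases hg' with rfl | rfl
    · rw [commutatorElement_self, one_pow]
    · exact hcp
    · exact hsym _ _ hcp
    · rw [commutatorElement_self, one_pow]
  -- so the `p`-th power map is a homomorphism into the centre of `E`
  have hch : p ∣ p.choose 2 :=
    hp.out.dvd_choose_self two_ne_zero (lt_of_le_of_ne hp.out.two_le (Ne.symm hp2))
  have hpow : ∀ e f : E, (e * f) ^ p = e ^ p * f ^ p := by
    intro e f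
    obtain ⟨m, hm⟩ := hch
    rw [Cfsg.Lib.PGroup.mul_pow_of_class_two hE2, hm, pow_mul, hexp, one_pow, mul_one]
  have hcen : ∀ e : E, e ^ p ∈ center E := fun e => mem_center_iff.mpr fun f => by
    have := hexp e f
    rw [← Cfsg.Lib.PGroup.commutatorElement_pow_left hE2,
      commutatorElement_eq_one_iff_mul_comm] at this
    exact this.symm
  let ψ : E →* center E :=
    { toFun := fun e => ⟨e ^ p, hcen e⟩
      map_one' := Subtype.ext (one_pow p)
      map_mul' := fun e f => Subtype.ext (hpow e f) }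
  have hker : Nat.card ψ.ker ≤ p := by
    let ι : E →* G := D.subtype.comp E.subtype
    have hι : Function.Injective ι := D.subtype_injective.comp E.subtype_injective
    have hle : ψ.ker.map ι ≤ zpowers z := by
      rintro _ ⟨e, he, rfl⟩
      refine h _ (e : D).2 ?_
      have he' : e ^ p = 1 := congrArg Subtype.val (MonoidHom.mem_ker.mp he)
      rw [← map_pow, he', map_one]
    calc Nat.card ψ.ker = Nat.card (ψ.ker.map ι) := (card_map_of_injective hι).symm
      _ ≤ Nat.card (zpowers z) := card_le_of_le hle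
      _ ≤ p := by rw [Nat.card_zpowers]; exact Nat.le_of_dvd hp.out.pos (orderOf_dvd_of_pow_eq_one hz)
  have hidx : Nat.card (E ⧸ center E) ≤ p := by
    have h1 : Nat.card E ≤ p * Nat.card (center E) := by
      rw [← ψ.ker.card_mul_index, index_ker]
      exact Nat.mul_le_mul hker (card_le_card_group (ψ.range : Subgroup (center E)))
    have h2 := (center E).card_mul_index
    rw [index_eq_card] at h2
    refine le_of_mul_le_mul_left (a := Nat.card (center E)) ?_ (Nat.card_pos (α := center E))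
    rw [h2, Nat.mul_comm]
    exact h1
  have hEp : IsPGroup p E := hD.to_subgroup E
  have hcyc : IsCyclic (E ⧸ center E) := by
    obtain ⟨k, hk⟩ := IsPGroup.iff_card.mp (hEp.to_quotient (center E))
    rcases Nat.lt_or_ge k 2 with hk2 | hk2
    · interval_cases k
      · exact @isCyclic_of_subsingleton _ _ (Nat.card_eq_one_iff_unique.mp (by simpa using hk)).1
      · exact isCyclic_of_prime_card (p := p) (by simpa using hk)
    · exfalso
      have : p ^ 2 ≤ p := ((Nat.pow_le_pow_right hp.out.pos hk2).trans_eq hk.symm).trans hidx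
      nlinarith [hp.out.two_le]
  exact hxy (congrArg Subtype.val ((MonoidHom.isMulCommutative_of_isCyclic_of_ker_le_center
    (QuotientGroup.mk' (center E)) (by rw [QuotientGroup.ker_mk'])).is_comm.comm yE xE))

end General

section SLTwo

variable {p : ℕ} [hp : Fact p.Prime]

open Matrix

theorem natCast_ne_zero (k : ℕ) (h0 : 0 < k) (hk : k < p) : (k : ZMod p) ≠ 0 := fun h =>
  absurd (Nat.le_of_dvd h0 ((ZMod.natCast_eq_zero_iff k p).mp h)) (by omega)

theorem two_facts (h5 : 5 ≤ p) : (2 : ZMod p) ≠ 0 ∧ (2 : ZMod p) ^ 2 ≠ 1 := by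
  refine ⟨by simpa using natCast_ne_zero (p := p) 2 (by omega) (by omega), fun h => ?_⟩
  have h3 := natCast_ne_zero (p := p) 3 (by omega) (by omega)
  refine h3 ?_
  rw [show ((3 : ℕ) : ZMod p) = 2 ^ 2 - 1 by norm_num, h, sub_self]

theorem commutator_SL_two (h5 : 5 ≤ p) : commutator SL(2, ZMod p) = ⊤ :=
  SL2.commutator_eq_top (two_facts h5).1 (two_facts h5).2

/-- The standard unipotent element. -/
def unip (p : ℕ) [Fact p.Prime] : SL(2, ZMod p) := SpecialLinearGroup.transvection zero_ne_one 1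

theorem unip_pow (n : ℕ) :
    unip p ^ n = SpecialLinearGroup.transvection zero_ne_one (n : ZMod p) := by
  induction n with
  | zero =>
    apply Subtype.ext
    simp
  | succ n ih =>
    rw [pow_succ, ih, unip, ← SpecialLinearGroup.transvection_add, Nat.cast_succ]

theorem unip_pow_prime : unip p ^ p = 1 := by
  rw [unip_pow, ZMod.natCast_self]
  apply Subtype.ext
  simp

theorem unip_ne_one : unip p ≠ 1 := by
  intro h
  have := congrArg (fun A : SL(2, ZMod p) => (A : Matrix (Fin 2) (Fin 2) (ZMod p)) 0 1) h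
  simp [unip, SpecialLinearGroup.transvection_coe] at this

theorem exists_conj_unip (h5 : 5 ≤ p) : ∃ w : SL(2, ZMod p), w * unip p * w⁻¹ = unip p ^ 4 := by
  refine ⟨SpecialLinearGroup.diag2 2 (two_facts h5).1, ?_⟩
  have h := commutator_diag2_transvection (2 : ZMod p) (two_facts h5).1 1 3 (by norm_num)
  rw [commutatorElement_def, mul_inv_eq_iff_eq_mul, ← SpecialLinearGroup.transvection_add] at h
  rw [unip_pow]
  refine h.trans ?_
  norm_num

end SLTwo

/-- The standing hypotheses. -/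
structure Setup (p : ℕ) [Fact p.Prime] (G : Type*) [Group G] where
  φ : G →* SL(2, ZMod p)
  five : 5 ≤ p
  surj : Function.Surjective φ
  ker : IsPGroup p φ.ker
  rank : PRankLE p 2 G
  t : G
  tsq : t * t = 1
  tcomm : ∀ g : G, g * t * g⁻¹ * t⁻¹ ∈ φ.ker
  tne : ∃ q ∈ φ.ker, t * q ≠ q * t

namespace Setup

variable {G : Type*} [Group G] [Finite G] {p : ℕ} [hp : Fact p.Prime] (S : Setup p G)

include S in
theorem ne_two : p ≠ 2 := by have := S.five; omega

theorem eq_top {K : Subgroup G} (h1 : S.φ.ker ≤ K) (h2 : commutator G ≤ K) : K = ⊤ := by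
  rw [eq_top_iff]
  intro g _
  have hm : S.φ g ∈ (commutator G).map S.φ := by
    rw [commutator_def, map_commutator, map_top_of_surjective S.φ S.surj,
      ← commutator_def, commutator_SL_two S.five]
    exact mem_top _
  obtain ⟨c, hc, hcg⟩ := hm
  have hk : c⁻¹ * g ∈ S.φ.ker := by rw [MonoidHom.mem_ker, map_mul, map_inv, hcg, inv_mul_cancel]
  simpa using K.mul_mem (h2 hc) (h1 hk)

/-- `G` acts trivially on a normal section of order dividing `p` inside the kernel. -/
theorem central_mod {T R : Subgroup G} [T.Normal] [R.Normal] (hR : R ≤ S.φ.ker)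
    (hcard : Nat.card (R.map (QuotientGroup.mk' T)) ≤ p) :
    ∀ r ∈ R, ∀ g : G, g * r * g⁻¹ * r⁻¹ ∈ T := by
  set f := QuotientGroup.mk' T with hf
  set N := R.map f with hN
  have hNn : N.Normal := Normal.map inferInstance f (QuotientGroup.mk'_surjective T)
  have hNp : IsPGroup p N := (S.ker.to_le hR).map f
  obtain ⟨k, hk⟩ := IsPGroup.iff_card.mp hNp
  have hk1 : k ≤ 1 := (Nat.pow_le_pow_iff_right hp.out.one_lt).mp (by rw [pow_one, ← hk]; exact hcard)
  have hcyc : IsCyclic N := by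
    interval_cases k
    · exact @isCyclic_of_subsingleton _ _ (Nat.card_eq_one_iff_unique.mp (by simpa using hk)).1
    · exact isCyclic_of_prime_card (p := p) (by simpa using hk)
  have hQ : S.φ.ker.map f ≤ centralizer (N : Set (G ⧸ T)) := by
    by_cases hN0 : N = ⊥
    · intro g _
      rw [mem_centralizer_iff]
      intro n hn
      rw [hN0, SetLike.mem_coe, mem_bot] at hn
      simp [hn]
    rw [le_centralizer_iff, ← commutator_eq_bot_iff_le_centralizer]
    have hlt := Cfsg.Lib.PGroup.commutator_lt_of_isPGroup hNp (S.ker.map f)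
      (fun g _ => by simp [Subgroup.normalizer_eq_top]) hN0
    by_contra hne
    have h1 : 1 < Nat.card (⁅N, S.φ.ker.map f⁆ : Subgroup (G ⧸ T)) :=
      Finite.one_lt_card_iff_nontrivial.mpr ((nontrivial_iff_ne_bot _).mpr hne)
    obtain ⟨l, hl⟩ := IsPGroup.iff_card.mp (hNp.to_le hlt.le)
    have hle : ¬ Nat.card N ≤ Nat.card (⁅N, S.φ.ker.map f⁆ : Subgroup (G ⧸ T)) := fun hle =>
      hlt.ne (eq_of_le_of_card_ge hlt.le hle)
    have hl1 : 1 ≤ l := by
      by_contra hl0
      obtain rfl : l = 0 := by omega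
      simp [hl] at h1
    rw [hk, hl] at hle
    exact hle (Nat.pow_le_pow_right hp.out.pos (hk1.trans hl1))
  have htop : (centralizer (N : Set (G ⧸ T))).comap f = ⊤ := by
    refine S.eq_top (map_le_iff_le_comap.mp hQ) ?_
    rw [← map_le_iff_le_comap]
    refine le_trans ?_ (commutator_le_centralizer_of_isCyclic N)
    rw [commutator_def, commutator_def, map_commutator]
    exact commutator_mono le_top le_top
  intro r hr g
  have hg : f g ∈ centralizer (N : Set (G ⧸ T)) :=
    mem_comap.mp (htop.symm ▸ mem_top g)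
  have := mem_centralizer_iff.mp hg (f r) ⟨r, hr, rfl⟩
  rw [← QuotientGroup.eq_one_iff]
  change f (g * r * g⁻¹ * r⁻¹) = 1
  rw [map_mul, map_mul, map_mul, map_inv, map_inv, ← this]
  group

/-- An element moved by `t` only by a fixed element is fixed. -/
theorem fix_of_layer {z r : G} (hz : z ∈ S.φ.ker) (htz : S.t * z * S.t = z)
    (hr : S.t * r * S.t = z * r) : S.t * r = r * S.t := by
  have h2 : r = z * z * r := by
    calc r = (S.t * S.t) * r * (S.t * S.t) := by rw [S.tsq, one_mul, mul_one]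
      _ = S.t * (S.t * r * S.t) * S.t := by group
      _ = S.t * (z * r) * S.t := by rw [hr]
      _ = (S.t * z * S.t) * (S.t * r * S.t) := by
        rw [show (S.t * z * S.t) * (S.t * r * S.t) = S.t * z * (S.t * S.t) * r * S.t by group,
          S.tsq, mul_one]
        group
      _ = z * z * r := by rw [htz, hr, mul_assoc]
  have hz1 : z = 1 := eq_one_of_mul_self S.ker S.ne_two hz (by simpa using h2.symm)
  calc S.t * r = (S.t * r * S.t) * S.t := by rw [mul_assoc _ S.t S.t, S.tsq, mul_one]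
    _ = r * S.t := by rw [hr, hz1, one_mul]

theorem tinv : S.t⁻¹ = S.t := inv_eq_of_mul_eq_one_left S.tsq

theorem conj_t_eq_self {z : G} (h : S.t * z = z * S.t) : S.t * z * S.t = z := by
  rw [h, mul_assoc, S.tsq, mul_one]

/-- The centralizer of `t`. -/
def cent : Subgroup G := centralizer {S.t}

theorem mem_cent {g : G} : g ∈ S.cent ↔ S.t * g = g * S.t := by
  rw [cent, mem_centralizer_singleton_iff]
  exact eq_comm

theorem decomp (g : G) : ∃ c ∈ S.cent, ∃ q ∈ S.φ.ker, g = q * c := by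
  set q := g * S.t * g⁻¹ * S.t⁻¹ with hq
  have hqk : q ∈ S.φ.ker := S.tcomm g
  have hgt : g * S.t * g⁻¹ = q * S.t := by rw [hq]; group
  have hinv : S.t * q * S.t = q⁻¹ := by
    have h : (q * S.t) * (q * S.t) = 1 := by
      rw [← hgt, show g * S.t * g⁻¹ * (g * S.t * g⁻¹) = g * (S.t * S.t) * g⁻¹ by group, S.tsq]
      group
    exact eq_inv_of_mul_eq_one_right (by rw [← h]; group)
  obtain ⟨k, hk⟩ := S.ker ⟨q, hqk⟩
  have hk' : q ^ p ^ k = 1 := congrArg Subtype.val hk
  obtain ⟨m, hm⟩ := (hp.out.odd_of_ne_two S.ne_two).pow (n := k)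
  set s := q ^ (m + 1) with hs
  have hsq : s * s = q := by
    rw [hs, ← pow_add, show m + 1 + (m + 1) = p ^ k + 1 by omega, pow_succ, hk', one_mul]
  have hts : S.t * s * S.t = s⁻¹ := by
    have hind : ∀ n : ℕ, S.t * q ^ n * S.t = (q⁻¹) ^ n := by
      intro n
      have h := conj_pow (i := n) (a := S.t) (b := q)
      rw [S.tinv] at h
      rw [← h, hinv]
    rw [hs, hind, inv_pow]
  refine ⟨s⁻¹ * g, ?_, s, pow_mem hqk _, by group⟩
  rw [S.mem_cent]
  calc S.t * (s⁻¹ * g) = (S.t * s⁻¹ * S.t⁻¹) * S.t * g := by group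
    _ = s * S.t * g := by
      have h' := congrArg (·⁻¹) hts
      simp only [mul_inv_rev, inv_inv, S.tinv] at h'
      rw [S.tinv, show S.t * s⁻¹ * S.t = s by rw [mul_assoc]; exact h']
    _ = s⁻¹ * (q * S.t) * g := by rw [← hsq]; group
    _ = s⁻¹ * g * S.t := by rw [← hgt]; group

theorem map_cent : S.cent.map S.φ = ⊤ := by
  rw [eq_top_iff]
  intro y _
  obtain ⟨g, rfl⟩ := S.surj y
  obtain ⟨c, hc, q, hq, rfl⟩ := S.decomp g
  exact ⟨c, hc, by rw [map_mul, MonoidHom.mem_ker.mp hq, one_mul]⟩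

theorem normal_of {N : Subgroup G} (hQ : ∀ q ∈ S.φ.ker, ∀ n ∈ N, q * n * q⁻¹ ∈ N)
    (hC : ∀ c ∈ S.cent, ∀ n ∈ N, c * n * c⁻¹ ∈ N) : N.Normal := by
  refine ⟨fun n hn g => ?_⟩
  obtain ⟨c, hc, q, hq, rfl⟩ := S.decomp g
  rw [show q * c * n * (q * c)⁻¹ = q * (c * n * c⁻¹) * q⁻¹ by group]
  exact hQ q hq _ (hC c hc n hn)

/-- If the kernel meets the centralizer of `t` in a cyclic group, an element of order `p` outside the
kernel centralizes `t`. -/
theorem exists_elem (hcyc : IsCyclic ↥(S.φ.ker ⊓ S.cent)) :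
    ∃ x ∈ S.cent, x ^ p = 1 ∧ x ∉ S.φ.ker := by
  set D := S.φ.ker ⊓ S.cent with hD
  have hmapCC : (⁅S.cent, S.cent⁆).map S.φ = ⊤ := by
    rw [map_commutator, S.map_cent, ← commutator_def, commutator_SL_two S.five]
  have hcomm : ∀ c ∈ ⁅S.cent, S.cent⁆, ∀ d ∈ D, c * d = d * c := by
    have hDC : D ≤ S.cent := inf_le_right
    have hn : (D.subgroupOf S.cent).Normal := ⟨fun d hd g => by
      rw [mem_subgroupOf] at hd ⊢
      simp only [coe_mul, coe_inv]
      exact mem_inf.mpr ⟨(inferInstance : S.φ.ker.Normal).conj_mem _ (mem_inf.mp hd).1 g,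
        mul_mem (mul_mem g.2 (mem_inf.mp hd).2) (inv_mem g.2)⟩⟩
    have hc' : IsCyclic (D.subgroupOf S.cent) :=
      (subgroupOfEquivOfLe hDC).isCyclic.mpr hcyc
    intro c hc d hd
    rw [← map_subtype_commutator] at hc
    obtain ⟨c', hc'', rfl⟩ := hc
    have h := mem_centralizer_iff.mp (commutator_le_centralizer_of_isCyclic (D.subgroupOf S.cent) hc'')
      ⟨d, hDC hd⟩ (mem_subgroupOf.mpr hd)
    exact (congrArg Subtype.val h).symm
  obtain ⟨w0, hw0⟩ := exists_conj_unip S.five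
  obtain ⟨y, hy, hyu⟩ := (hmapCC.symm ▸ mem_top (unip p) : unip p ∈ (⁅S.cent, S.cent⁆).map S.φ)
  obtain ⟨w, hw, hwu⟩ := (hmapCC.symm ▸ mem_top w0 : w0 ∈ (⁅S.cent, S.cent⁆).map S.φ)
  have hCC : ⁅S.cent, S.cent⁆ ≤ S.cent := commutator_le_self _
  have hd0 : y ^ p ∈ D := mem_inf.mpr ⟨by rw [MonoidHom.mem_ker, map_pow, hyu, unip_pow_prime],
    pow_mem (hCC hy) p⟩
  set d := (y ^ 4)⁻¹ * (w * y * w⁻¹) with hd
  have hdD : d ∈ D := mem_inf.mpr ⟨by
      rw [hd, MonoidHom.mem_ker, map_mul, map_inv, map_pow, map_mul, map_mul, map_inv, hyu, hwu,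
        hw0, inv_mul_cancel],
    mul_mem (inv_mem (pow_mem (hCC hy) 4)) (mul_mem (mul_mem (hCC hw) (hCC hy)) (inv_mem (hCC hw)))⟩
  have hyd : Commute (y ^ 4) d := (show Commute y d from hcomm y hy d hdD).pow_left 4
  have h3 : (y ^ p) ^ 3 = (d ^ p)⁻¹ := by
    have e1 : (w * y * w⁻¹) ^ p = y ^ p := by
      rw [conj_pow, hcomm w hw _ hd0, mul_inv_cancel_right]
    have e2 : y ^ p = (y ^ p) ^ 4 * d ^ p := by
      conv_lhs => rw [← e1, show w * y * w⁻¹ = y ^ 4 * d by rw [hd]; group]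
      rw [hyd.mul_pow, ← pow_mul, ← pow_mul, Nat.mul_comm]
    refine eq_inv_of_mul_eq_one_left ?_
    apply mul_left_cancel (a := y ^ p)
    rw [mul_one, ← mul_assoc, ← pow_succ']
    exact e2.symm
  obtain ⟨k, hk⟩ := S.ker ⟨y ^ p, hd0.1⟩
  have hk' : (y ^ p) ^ p ^ k = 1 := congrArg Subtype.val hk
  have hcop : Nat.Coprime 3 (orderOf (y ^ p)) := by
    refine Nat.Coprime.coprime_dvd_right (orderOf_dvd_of_pow_eq_one hk') (Nat.Coprime.pow_right k ?_)
    exact (Nat.coprime_primes Nat.prime_three hp.out).mpr (by have := S.five; omega)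
  obtain ⟨m, hm⟩ := exists_pow_eq_self_of_coprime hcop
  set e := (d⁻¹) ^ m with he
  have heD : e ∈ D := pow_mem (inv_mem hdD) m
  have hep : e ^ p = y ^ p := by
    rw [he, ← pow_mul, Nat.mul_comm, pow_mul, inv_pow, ← h3, hm]
  refine ⟨y * e⁻¹, mul_mem (hCC hy) (inv_mem heD.2), ?_, fun h => unip_ne_one (p := p) ?_⟩
  · rw [(show Commute y e⁻¹ from (show Commute y e from hcomm y hy e heD).inv_right).mul_pow,
      inv_pow, hep, mul_inv_cancel]
  · rw [MonoidHom.mem_ker, map_mul, map_inv, MonoidHom.mem_ker.mp heD.1, inv_one, mul_one, hyu] at h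
    exact h

/-- A normal subgroup is fixed by `t`. -/
def Fix (N : Subgroup G) : Prop := ∀ n ∈ N, S.t * n = n * S.t

/-- A minimal normal subgroup of `G` inside the kernel not centralized by `t`. -/
structure IsMin (R : Subgroup G) : Prop where
  normal : R.Normal
  le : R ≤ S.φ.ker
  nfix : ¬ S.Fix R
  min : ∀ N : Subgroup G, N.Normal → N < R → S.Fix N

theorem exists_isMin : ∃ R, S.IsMin R := by
  obtain ⟨R, ⟨h1, h2, h3⟩, hmin⟩ := wellFounded_lt.has_min
    {R : Subgroup G | R.Normal ∧ R ≤ S.φ.ker ∧ ¬ S.Fix R}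
    ⟨S.φ.ker, inferInstance, le_rfl, fun h => by
      obtain ⟨q, hq, hne⟩ := S.tne
      exact hne (h q hq)⟩
  refine ⟨R, h1, h2, h3, fun N hN hlt => ?_⟩
  by_contra hfix
  exact hmin N ⟨hN, hlt.le.trans h2, hfix⟩ hlt

variable {S} {R : Subgroup G}

theorem IsMin.ne_bot (hR : S.IsMin R) : R ≠ ⊥ := by
  rintro rfl
  exact hR.nfix fun n hn => by rw [mem_bot.mp hn, mul_one, one_mul]

theorem IsMin.isPGroup (hR : S.IsMin R) : IsPGroup p R := S.ker.to_le hR.le

/-- Proper normal subgroups of `R` are central in `R`. -/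
theorem IsMin.comm_of_lt (hR : S.IsMin R) {N : Subgroup G} (hN : N.Normal) (hlt : N < R) :
    ∀ n ∈ N, ∀ r ∈ R, n * r = r * n := by
  have := hR.normal
  have hK : (centralizer (N : Set G)).Normal := inferInstance
  have htK : S.t ∈ centralizer (N : Set G) :=
    mem_centralizer_iff.mpr fun n hn => (hR.min N hN hlt n hn).symm
  have hfull : R ≤ centralizer (N : Set G) := by
    by_contra hnot
    have hM : R ⊓ centralizer (N : Set G) < R := inf_lt_left.mpr hnot
    refine hR.nfix fun r hr => ?_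
    set z := r * S.t * r⁻¹ * S.t⁻¹ with hz
    have hzR : z ∈ R := by
      rw [hz, show r * S.t * r⁻¹ * S.t⁻¹ = r * (S.t * r⁻¹ * S.t⁻¹) by group]
      exact mul_mem hr (hR.normal.conj_mem _ (inv_mem hr) _)
    have hzK : z ∈ centralizer (N : Set G) := mul_mem (hK.conj_mem _ htK r) (inv_mem htK)
    refine S.fix_of_layer (z := z⁻¹) (inv_mem (hR.le hzR))
      (S.conj_t_eq_self (hR.min _ inferInstance hM _ (inv_mem ⟨hzR, hzK⟩))) ?_
    rw [hz, S.tinv]
    simp only [mul_inv_rev, inv_inv, S.tinv]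
    group
  intro n hn r hr
  exact mem_centralizer_iff.mp (hfull hr) n hn

theorem IsMin.no_layer (hR : S.IsMin R) {N : Subgroup G} [N.Normal] (hlt : N < R)
    (hcard : Nat.card (R.map (QuotientGroup.mk' N)) ≤ p) : False := by
  have := hR.normal
  refine hR.nfix fun r hr => ?_
  have hz := S.central_mod (T := N) hR.le hcard r hr S.t
  refine S.fix_of_layer (z := S.t * r * S.t⁻¹ * r⁻¹) (hR.le (hlt.le hz))
    (S.conj_t_eq_self (hR.min N inferInstance hlt _ hz)) ?_
  rw [S.tinv]
  group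

theorem IsMin.card_gt (hR : S.IsMin R) : p < Nat.card R := by
  by_contra h
  push Not at h
  exact hR.no_layer (N := ⊥) (bot_lt_iff_ne_bot.mpr hR.ne_bot)
    ((Nat.le_of_dvd Nat.card_pos (R.card_map_dvd _)).trans h)

/-- A commutator with `R` inside the kernel: `⁅R, Q⁆` is a proper normal subgroup of `G`. -/
theorem IsMin.commutator_lt (hR : S.IsMin R) : ⁅R, S.φ.ker⁆ < R := by
  have := hR.normal
  exact Cfsg.Lib.PGroup.commutator_lt_of_isPGroup hR.isPGroup S.ker
    (by rw [normalizer_eq_top]; exact le_top) hR.ne_bot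

theorem IsMin.derived_lt (hR : S.IsMin R) : ⁅R, R⁆ < R :=
  lt_of_le_of_lt (commutator_mono le_rfl hR.le) hR.commutator_lt

theorem IsMin.derived_comm (hR : S.IsMin R) {a b r : G} (ha : a ∈ R) (hb : b ∈ R) (hr : r ∈ R) :
    ⁅a, b⁆ * r = r * ⁅a, b⁆ := by
  have := hR.normal
  exact hR.comm_of_lt inferInstance hR.derived_lt _ (commutator_mem_commutator ha hb) r hr

theorem IsMin.closure_omega (hR : S.IsMin R) : closure {r : G | r ∈ R ∧ r ^ p = 1} = R := by
  set W := closure {r : G | r ∈ R ∧ r ^ p = 1} with hW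
  have hle : W ≤ R := (closure_le _).mpr fun r hr => hr.1
  have hn : W.Normal := ⟨fun n hn g => by
    induction hn using closure_induction with
    | mem r hr => exact subset_closure ⟨hR.normal.conj_mem _ hr.1 g, by rw [conj_pow, hr.2]; group⟩
    | one => simp
    | mul a b _ _ iha ihb =>
      rw [show g * (a * b) * g⁻¹ = (g * a * g⁻¹) * (g * b * g⁻¹) by group]
      exact mul_mem iha ihb
    | inv a _ iha =>
      rw [show g * a⁻¹ * g⁻¹ = (g * a * g⁻¹)⁻¹ by group]
      exact inv_mem iha⟩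
  refine hle.antisymm ?_
  by_contra hnot
  have hfix := hR.min W hn (lt_of_le_not_ge hle hnot)
  refine hR.nfix fun r hr => ?_
  have hcard : (Nat.card (zpowers S.t)).Coprime (Nat.card R) := by
    obtain ⟨k, hk⟩ := IsPGroup.iff_card.mp hR.isPGroup
    rw [hk, Nat.card_zpowers]
    refine Nat.Coprime.coprime_dvd_left (orderOf_dvd_of_pow_eq_one (n := 2) (by rw [sq, S.tsq]))
      (Nat.Coprime.pow_right k ?_)
    exact (Nat.coprime_primes Nat.prime_two hp.out).mpr S.ne_two.symm
  have hA : zpowers S.t ≤ centralizer (R : Set G) := by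
    refine Cfsg.Lib.PGroup.le_centralizer_of_centralizes_omega S.ne_two _ R hR.isPGroup ?_ hcard ?_
    · have := hR.normal
      rw [normalizer_eq_top]; exact le_top
    · intro x hx hxp a ha
      obtain ⟨i, rfl⟩ := ha
      exact ((show Commute S.t x from hfix x (subset_closure ⟨hx, hxp⟩)).zpow_left i).eq
  exact (mem_centralizer_iff.mp (hA (mem_zpowers S.t)) r hr).symm

theorem IsMin.pow_eq_one (hR : S.IsMin R) : ∀ r ∈ R, r ^ p = 1 := by
  have := hR.normal
  have hcl : commutator R ≤ center R := by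
    intro c hc
    have h1 : (c : G) ∈ ⁅R, R⁆ := by
      rw [← map_subtype_commutator]; exact ⟨c, hc, rfl⟩
    exact mem_center_iff.mpr fun r =>
      Subtype.ext (hR.comm_of_lt inferInstance hR.derived_lt _ h1 r r.2).symm
  obtain ⟨m, hm⟩ : p ∣ p.choose 2 :=
    hp.out.dvd_choose_self two_ne_zero (lt_of_le_of_ne hp.out.two_le (Ne.symm S.ne_two))
  let W : Subgroup G :=
    { carrier := {r : G | r ∈ R ∧ r ^ p = 1}
      one_mem' := ⟨one_mem _, one_pow _⟩
      inv_mem' := fun {a} h => ⟨inv_mem h.1, by rw [inv_pow, h.2, inv_one]⟩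
      mul_mem' := by
        rintro a b ⟨ha, hap⟩ ⟨hb, hbp⟩
        refine ⟨mul_mem ha hb, ?_⟩
        have h := Cfsg.Lib.PGroup.mul_pow_of_class_two hcl ⟨a, ha⟩ ⟨b, hb⟩ p
        have hc : ⁅(⟨b, hb⟩ : R), (⟨a, ha⟩ : R)⁆ ^ p = 1 := by
          rw [← Cfsg.Lib.PGroup.commutatorElement_pow_left hcl]
          have : (⟨b, hb⟩ : R) ^ p = 1 := Subtype.ext hbp
          rw [this, commutatorElement_one_left]
        rw [hm, pow_mul, hc, one_pow, mul_one] at h
        have h' := congrArg Subtype.val h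
        simpa [hap, hbp] using h' }
  intro r hr
  have hle : closure {r : G | r ∈ R ∧ r ^ p = 1} ≤ W := (closure_le _).mpr fun x hx => hx
  rw [hR.closure_omega] at hle
  exact (hle hr).2

/-- Case of an abelian `R`. -/
theorem IsMin.card_ker_of_comm (hR : S.IsMin R) (hcomm : ∀ a ∈ R, ∀ b ∈ R, a * b = b * a) :
    Nat.card S.φ.ker = p ^ 2 := by
  have := hR.normal
  have hexp := hR.pow_eq_one
  have hRA : IsMulCommutative R := ⟨⟨fun a b => Subtype.ext (hcomm _ a.2 _ b.2)⟩⟩
  have hle2 : Nat.card R ≤ p ^ 2 := S.rank R hRA hexp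
  have hcard : Nat.card R = p ^ 2 := by
    obtain ⟨k, hk⟩ := IsPGroup.iff_card.mp hR.isPGroup
    have h1 := hR.card_gt
    rw [hk] at h1 hle2 ⊢
    have hk2 : k ≤ 2 := (Nat.pow_le_pow_iff_right hp.out.one_lt).mp hle2
    have : 1 < k := by
      by_contra hcon
      push Not at hcon
      exact absurd ((Nat.pow_le_pow_right hp.out.pos hcon).trans_eq (pow_one p)) (by omega)
    rw [show k = 2 by omega]
  -- no normal subgroup strictly between
  have hsimple : ∀ N : Subgroup G, N.Normal → N < R → N = ⊥ := by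
    intro N hN hlt
    by_contra hne
    apply hR.no_layer hlt
    have h1 : p ≤ Nat.card N := by
      obtain ⟨k, hk⟩ := IsPGroup.iff_card.mp (hR.isPGroup.to_le hlt.le)
      have hk1 : 1 ≤ k := by
        by_contra h0
        obtain rfl : k = 0 := by omega
        exact hne (eq_bot_of_card_eq _ (by simpa using hk))
      rw [hk]
      exact Nat.le_self_pow (by omega) p
    have h2 : Nat.card (N.subgroupOf R) * Nat.card (R.map (QuotientGroup.mk' N)) = Nat.card R := by
      have h := ((QuotientGroup.mk' N).comp R.subtype).ker.card_mul_index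
      rwa [index_ker, ← MonoidHom.comap_ker, QuotientGroup.ker_mk', MonoidHom.range_comp,
        range_subtype] at h
    rw [Nat.card_congr (subgroupOfEquivOfLe hlt.le).toEquiv, hcard] at h2
    refine le_of_mul_le_mul_left (a := p) ?_ hp.out.pos
    calc p * _ ≤ Nat.card N * Nat.card (R.map (QuotientGroup.mk' N)) := Nat.mul_le_mul_right _ h1
      _ = p * p := by rw [h2, sq]
  have hQR : ∀ q ∈ S.φ.ker, ∀ r ∈ R, q * r = r * q := by
    have h := hsimple _ inferInstance hR.commutator_lt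
    rw [commutator_eq_bot_iff_le_centralizer] at h
    intro q hq r hr
    exact mem_centralizer_iff.mp (h hr) q hq
  have hmemR : ∀ x : G, (∀ r ∈ R, x * r = r * x) → x ^ p = 1 → x ∈ R := fun x h hx =>
    mem_of_rank S.rank hcomm hexp hcard.ge h hx
  have hCR : R ⊓ S.cent = ⊥ := by
    refine hsimple _ (S.normal_of ?_ ?_) (inf_lt_left.mpr fun h => hR.nfix fun r hr =>
      S.mem_cent.mp (h hr))
    · intro q hq n hn
      rw [hQR q hq n (mem_inf.mp hn).1, mul_inv_cancel_right]
      exact hn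
    · intro c hc n hn
      exact mem_inf.mpr ⟨hR.normal.conj_mem _ (mem_inf.mp hn).1 c,
        mul_mem (mul_mem hc (mem_inf.mp hn).2) (inv_mem hc)⟩
  have hD : S.φ.ker ⊓ S.cent = ⊥ := by
    rw [eq_bot_iff]
    intro q hq
    by_contra hne
    rw [mem_bot] at hne
    obtain ⟨k, hk⟩ := (IsPGroup.iff_orderOf.mp S.ker) ⟨q, (mem_inf.mp hq).1⟩
    rw [← orderOf_coe] at hk
    have hk1 : 1 ≤ k := by
      by_contra h0
      obtain rfl : k = 0 := by omega
      exact hne (orderOf_eq_one_iff.mp (by simpa using hk))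
    set q' := q ^ p ^ (k - 1) with hq'
    have hq'p : q' ^ p = 1 := by
      rw [hq', ← pow_mul, ← pow_succ, Nat.sub_add_cancel hk1]
      exact orderOf_dvd_iff_pow_eq_one.mp (by rw [show orderOf q = p ^ k from hk])
    have hq'ne : q' ≠ 1 := fun h => by
      have := orderOf_dvd_of_pow_eq_one h
      rw [show orderOf q = p ^ k from hk] at this
      have := (Nat.pow_dvd_pow_iff_le_right hp.out.one_lt).mp this
      omega
    have hmem : q' ∈ R ⊓ S.cent := mem_inf.mpr
      ⟨hmemR q' (fun r hr => hQR q' (pow_mem (mem_inf.mp hq).1 _) r hr) hq'p,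
        pow_mem (mem_inf.mp hq).2 _⟩
    rw [hCR, mem_bot] at hmem
    exact hq'ne hmem
  -- `t` inverts the kernel, which is therefore commutative
  have hinv : ∀ q ∈ S.φ.ker, S.t * q * S.t = q⁻¹ := by
    have hn : S.φ.ker.Normal := inferInstance
    let f : S.φ.ker → S.φ.ker := fun a => ⟨(a : G)⁻¹ * (S.t * (a : G) * S.t⁻¹),
      mul_mem (inv_mem a.2) (hn.conj_mem _ a.2 _)⟩
    have hinj : Function.Injective f := by
      intro a b hab
      have h : (a : G)⁻¹ * (S.t * a * S.t⁻¹) = (b : G)⁻¹ * (S.t * b * S.t⁻¹) := congrArg Subtype.val hab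
      have hm : (b : G) * (a : G)⁻¹ ∈ S.φ.ker ⊓ S.cent := by
        refine mem_inf.mpr ⟨mul_mem b.2 (inv_mem a.2), S.mem_cent.mpr ?_⟩
        calc S.t * ((b : G) * (a : G)⁻¹) = b * ((b : G)⁻¹ * (S.t * b * S.t⁻¹)) * S.t * (a : G)⁻¹ := by
              group
          _ = b * (a : G)⁻¹ * S.t := by rw [← h]; group
      rw [hD, mem_bot, mul_inv_eq_one] at hm
      exact Subtype.ext hm.symm
    intro q hq
    obtain ⟨a, ha⟩ := Finite.surjective_of_injective hinj ⟨q, hq⟩
    have ha' : (a : G)⁻¹ * (S.t * a * S.t⁻¹) = q := congrArg Subtype.val ha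
    rw [← ha', S.tinv]
    calc S.t * ((a : G)⁻¹ * (S.t * a * S.t)) * S.t = S.t * (a : G)⁻¹ * S.t * a * (S.t * S.t) := by
          group
      _ = ((a : G)⁻¹ * (S.t * a * S.t))⁻¹ := by
          rw [S.tsq]
          simp only [mul_inv_rev, inv_inv, S.tinv]
          group
  have hQc : ∀ a ∈ S.φ.ker, ∀ b ∈ S.φ.ker, a * b = b * a := by
    intro a ha b hb
    have h : a⁻¹ * b⁻¹ = (a * b)⁻¹ := by
      rw [← hinv _ (mul_mem ha hb), ← hinv a ha, ← hinv b hb]
      rw [show S.t * a * S.t * (S.t * b * S.t) = S.t * a * (S.t * S.t) * b * S.t by group, S.tsq]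
      group
    apply inv_injective
    rw [← h, mul_inv_rev]
  obtain ⟨x, hxC, hxp, hxQ⟩ := S.exists_elem (by rw [hD]; infer_instance)
  obtain ⟨r0, hr0, hxr0⟩ : ∃ r ∈ R, x * r ≠ r * x := by
    by_contra hcon
    push Not at hcon
    exact hxQ (hR.le (hmemR x hcon hxp))
  -- `x` is unipotent of degree two on `R`
  have hN2 : ∀ r ∈ R, x * (x * r * x⁻¹ * r⁻¹) * x⁻¹ = x * r * x⁻¹ * r⁻¹ := by
    have hP : IsPGroup p (zpowers x) := IsPGroup.of_card_dvd_pow (p := p) (n := 1)
      (by rw [pow_one, Nat.card_zpowers]; exact orderOf_dvd_of_pow_eq_one hxp)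
    set V := ⁅R, zpowers x⁆ with hV
    have hVR : V < R := Cfsg.Lib.PGroup.commutator_lt_of_isPGroup hR.isPGroup hP
      (by rw [normalizer_eq_top]; exact le_top) hR.ne_bot
    have hmemV : ∀ r ∈ R, x * r * x⁻¹ * r⁻¹ ∈ V := fun r hr => by
      rw [hV, commutator_comm]
      exact commutator_mem_commutator (mem_zpowers x) hr
    by_cases hV0 : V = ⊥
    · intro r hr
      have := hmemV r hr
      rw [hV0, mem_bot] at this
      rw [this]; group
    have hnV : zpowers x ≤ normalizer (V : Set G) := normalizer_commutator_ge_right R (zpowers x)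
    have hW := Cfsg.Lib.PGroup.commutator_lt_of_isPGroup (hR.isPGroup.to_le hVR.le) hP hnV hV0
    have hWbot : ⁅V, zpowers x⁆ = ⊥ := by
      obtain ⟨i, hi⟩ := IsPGroup.iff_card.mp (hR.isPGroup.to_le hVR.le)
      obtain ⟨j, hj⟩ := IsPGroup.iff_card.mp (hR.isPGroup.to_le (hW.le.trans hVR.le))
      have h1 : p ^ i < p ^ 2 := by rw [← hi, ← hcard]; exact card_lt_card hVR
      have h2 : p ^ j < p ^ i := by rw [← hi, ← hj]; exact card_lt_card hW
      have h1' := (Nat.pow_lt_pow_iff_right hp.out.one_lt).mp h1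
      have h2' := (Nat.pow_lt_pow_iff_right hp.out.one_lt).mp h2
      exact eq_bot_of_card_eq _ (by rw [hj, show j = 0 by omega, pow_zero])
    intro r hr
    rw [commutator_eq_bot_iff_le_centralizer] at hWbot
    rw [← mem_centralizer_iff.mp (hWbot (hmemV r hr)) x (mem_zpowers x) |>.symm] 
    group
  -- the kernel has exponent `p`
  suffices hall : ∀ q ∈ S.φ.ker, q ∈ R by
    rw [show S.φ.ker = R from le_antisymm hall hR.le, hcard]
  by_contra hne
  push Not at hne
  obtain ⟨q, hq, hqR⟩ := hne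
  let A : CommGroup S.φ.ker :=
    { (inferInstance : Group S.φ.ker) with mul_comm := fun a b => Subtype.ext (hQc _ a.2 _ b.2) }
  let M : Subgroup G :=
    { carrier := {a : G | ∃ b ∈ S.φ.ker, b ^ (p * p) = 1 ∧ b ^ p = a}
      one_mem' := ⟨1, one_mem _, one_pow _, one_pow _⟩
      inv_mem' := by
        rintro _ ⟨b, hb, hb2, rfl⟩
        exact ⟨b⁻¹, inv_mem hb, by rw [inv_pow, hb2, inv_one], by rw [inv_pow]⟩
      mul_mem' := by
        rintro _ _ ⟨b, hb, hb2, rfl⟩ ⟨c, hc, hc2, rfl⟩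
        have hbc : Commute b c := hQc b hb c hc
        exact ⟨b * c, mul_mem hb hc, by rw [hbc.mul_pow, hb2, hc2, one_mul], hbc.mul_pow p⟩ }
  have hMn : M.Normal := ⟨by
    rintro _ ⟨b, hb, hb2, rfl⟩ g
    refine ⟨g * b * g⁻¹, (inferInstance : S.φ.ker.Normal).conj_mem _ hb g, ?_, conj_pow⟩
    rw [conj_pow, hb2]; group⟩
  have hMR : M ≤ R := by
    rintro _ ⟨b, hb, hb2, rfl⟩
    exact hmemR _ (fun r hr => hQR _ (pow_mem hb p) r hr) (by rw [← pow_mul, hb2])
  have hMne : M ≠ ⊥ := by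
    intro hbot
    obtain ⟨k, hk⟩ := S.ker ⟨q, hq⟩
    have hk' : q ^ p ^ k = 1 := congrArg Subtype.val hk
    have hind : ∀ n, ∀ a ∈ S.φ.ker, a ^ p ^ n = 1 → a ^ p = 1 := by
      intro n
      induction n with
      | zero => intro a _ ha; rw [pow_zero, pow_one] at ha; rw [ha, one_pow]
      | succ n ih =>
        intro a ha hap
        have h2 : (a ^ p) ^ p = 1 := ih _ (pow_mem ha p) (by rw [← pow_mul, ← pow_succ', hap])
        have : a ^ p ∈ M := ⟨a, ha, by rw [pow_mul]; exact h2, rfl⟩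
        rwa [hbot, mem_bot] at this
    exact hqR (hmemR q (fun r hr => hQR q hq r hr) (hind k q hq hk'))
  have hMeq : M = R := (eq_or_lt_of_le hMR).resolve_right fun h => hMne (hsimple M hMn h)
  rw [← hMeq] at hr0
  obtain ⟨s, hs, hs2, rfl⟩ := hr0
  let σ : S.φ.ker →* S.φ.ker :=
    { toFun := fun a => ⟨x * a * x⁻¹, (inferInstance : S.φ.ker.Normal).conj_mem _ a.2 x⟩
      map_one' := Subtype.ext (by simp)
      map_mul' := fun a b => Subtype.ext (by push_cast; group) }
  have hσk : ∀ (k : ℕ) (a : S.φ.ker), ((σ^[k] a : S.φ.ker) : G) = x ^ k * a * (x ^ k)⁻¹ := by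
    intro k
    induction k with
    | zero => intro a; simp
    | succ k ih =>
      intro a
      rw [Function.iterate_succ_apply', show ((σ (σ^[k] a) : S.φ.ker) : G) = x * (σ^[k] a : S.φ.ker) * x⁻¹
        from rfl, ih, pow_succ']
      group
  set s' : S.φ.ker := ⟨s, hs⟩ with hs'
  set a := σ s' * s'⁻¹ with ha
  set b := σ a * a⁻¹ with hb
  set c := σ b * b⁻¹ with hc
  have hfixR : ∀ e : S.φ.ker, (e : G) ∈ R → σ (σ e * e⁻¹) = σ e * e⁻¹ := fun e he =>
    Subtype.ext (hN2 e he)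
  have hbp : b ^ p = 1 := by
    have he : ((s' ^ p : S.φ.ker) : G) ∈ R := hMR ⟨s, hs, hs2, rfl⟩
    have h := hfixR _ he
    have : a ^ p = σ (s' ^ p) * (s' ^ p)⁻¹ := by rw [ha, mul_pow, map_pow, inv_pow]
    rw [hb, mul_pow, ← map_pow, inv_pow, this, h, mul_inv_cancel]
  have hbR : (b : G) ∈ R :=
    hmemR _ (fun r hr => hQR _ b.2 r hr) (congrArg Subtype.val hbp)
  have hcfix : σ c = c := hfixR b hbR
  have hcp : c ^ p = 1 := by rw [hc, mul_pow, ← map_pow, inv_pow, hbp, map_one, one_mul, inv_one]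
  have hs1 : σ s' = s' * a := by rw [ha, mul_comm (σ s'), mul_inv_cancel_left]
  have ha1 : σ a = a * b := by rw [hb, mul_comm (σ a), mul_inv_cancel_left]
  have hb1 : σ b = b * c := by rw [hc, mul_comm (σ b), mul_inv_cancel_left]
  have hiter : ∀ k : ℕ, σ^[k] s' = s' * a ^ k * b ^ (k.choose 2) * c ^ (k.choose 3) := by
    intro k
    induction k with
    | zero => simp
    | succ k ih =>
      rw [Function.iterate_succ_apply', ih]
      simp only [map_mul, map_pow, hs1, ha1, hb1, hcfix, mul_pow]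
      rw [Nat.choose_succ_succ' k 1, Nat.choose_succ_succ' k 2, Nat.choose_one_right,
        pow_succ', pow_add, pow_add]
      ac_rfl
  obtain ⟨m2, hm2⟩ : p ∣ p.choose 2 := hp.out.dvd_choose_self two_ne_zero (by have := S.five; omega)
  obtain ⟨m3, hm3⟩ : p ∣ p.choose 3 :=
    hp.out.dvd_choose_self (by norm_num) (by have := S.five; omega)
  have hap : a ^ p = 1 := by
    have h := hiter p
    rw [hm2, hm3, pow_mul, pow_mul, hbp, hcp, one_pow, one_pow, mul_one, mul_one] at h
    have h' : σ^[p] s' = s' := Subtype.ext (by rw [hσk, hxp]; simp)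
    exact mul_left_cancel (h.symm.trans (h'.trans (mul_one _).symm))
  refine hxr0 ?_
  have h := congrArg Subtype.val hap
  rw [ha, mul_pow, ← map_pow, inv_pow] at h
  have h' : x * s ^ p * x⁻¹ * (s ^ p)⁻¹ = 1 := h
  rwa [mul_inv_eq_one, mul_inv_eq_iff_eq_mul] at h'

/-- A nonabelian `R` is impossible. -/
theorem IsMin.comm_all (hR : S.IsMin R) : ∀ a ∈ R, ∀ b ∈ R, a * b = b * a := by
  by_contra hne
  push Not at hne
  obtain ⟨a0, ha0, b0, hb0, hab0⟩ := hne
  have := hR.normal
  have hexp := hR.pow_eq_one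
  set Z := R ⊓ centralizer (R : Set G) with hZ
  have hmemZ : ∀ {z : G}, z ∈ Z ↔ z ∈ R ∧ ∀ r ∈ R, r * z = z * r := fun {z} => by
    rw [hZ, mem_inf, mem_centralizer_iff]; rfl
  have hZR : Z < R := lt_of_le_not_ge inf_le_left fun h =>
    hab0 ((hmemZ.mp (h hb0)).2 a0 ha0)
  have hlow : ∀ N : Subgroup G, N.Normal → N < R → N ≤ Z := fun N hN hlt n hn =>
    hmemZ.mpr ⟨hlt.le hn, fun r hr => (hR.comm_of_lt hN hlt n hn r hr).symm⟩
  have hZne : Z ≠ ⊥ := by
    intro h
    have h1 : ⁅a0, b0⁆ ∈ Z :=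
      hlow _ inferInstance hR.derived_lt (commutator_mem_commutator ha0 hb0)
    rw [h, mem_bot, commutatorElement_eq_one_iff_mul_comm] at h1
    exact hab0 h1
  -- maximal elementary abelian subgroups `⟨Z, a⟩`
  have hA : ∀ a ∈ R, a ∉ Z →
      (∀ u ∈ Z ⊔ zpowers a, ∀ v ∈ Z ⊔ zpowers a, u * v = v * u) ∧
      (∀ u ∈ Z ⊔ zpowers a, u ^ p = 1) ∧ Nat.card ↥(Z ⊔ zpowers a) = p ^ 2 ∧ Nat.card Z = p := by
    intro a ha haZ
    have hle : Z ⊔ zpowers a ≤ R := sup_le inf_le_left (zpowers_le.mpr ha)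
    have hcl : Z ⊔ zpowers a = closure ((Z : Set G) ∪ {a}) := by
      rw [Subgroup.closure_union, Subgroup.closure_eq, zpowers_eq_closure]
    have hc : IsMulCommutative ↥(Z ⊔ zpowers a) := by
      rw [hcl]
      refine isMulCommutative_closure ?_
      rintro u (hu | rfl) v (hv | rfl)
      · exact ((hmemZ.mp hu).2 v (hmemZ.mp hv).1).symm
      · exact ((hmemZ.mp hu).2 _ ha).symm
      · exact (hmemZ.mp hv).2 _ ha
      · rfl
    have hexpA : ∀ u ∈ Z ⊔ zpowers a, u ^ p = 1 := fun u hu => hexp u (hle hu)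
    have hlt : Z < Z ⊔ zpowers a :=
      lt_of_le_not_ge le_sup_left fun h => haZ (h (mem_sup_right (mem_zpowers a)))
    obtain ⟨i, hi⟩ := IsPGroup.iff_card.mp (hR.isPGroup.to_le hle)
    obtain ⟨j, hj⟩ := IsPGroup.iff_card.mp (hR.isPGroup.to_le (hZR.le))
    have h1 : p ^ i ≤ p ^ 2 := hi ▸ S.rank _ hc hexpA
    have h2 : p ^ j < p ^ i := hi ▸ hj ▸ card_lt_card hlt
    have h1' := (Nat.pow_le_pow_iff_right hp.out.one_lt).mp h1
    have h2' := (Nat.pow_lt_pow_iff_right hp.out.one_lt).mp h2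
    have hj1 : 1 ≤ j := by
      by_contra h0
      exact hZne (eq_bot_of_card_eq _ (by rw [hj, show j = 0 by omega, pow_zero]))
    exact ⟨fun u hu v hv => congrArg Subtype.val (hc.is_comm.comm ⟨u, hu⟩ ⟨v, hv⟩), hexpA,
      by rw [hi, show i = 2 by omega], by rw [hj, show j = 1 by omega, pow_one]⟩
  obtain ⟨a1, ha1, ha1Z⟩ : ∃ a ∈ R, a ∉ Z := by
    by_contra hcon
    push Not at hcon
    exact hZR.not_ge hcon
  have hZcard : Nat.card Z = p := (hA a1 ha1 ha1Z).2.2.2
  -- `Z` is central in `G`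
  have hZc : ∀ z ∈ Z, ∀ g : G, g * z * g⁻¹ = z := by
    intro z hz g
    have hle : Z ≤ S.φ.ker := hZR.le.trans hR.le
    have h := S.central_mod (T := ⊥) (R := Z) hle
      ((Nat.le_of_dvd Nat.card_pos (Z.card_map_dvd _)).trans hZcard.le) z hz g
    rwa [mem_bot, mul_inv_eq_one] at h
  have hZt : ∀ z ∈ Z, S.t * z * S.t = z := fun z hz => by
    have := hZc z hz S.t
    rwa [S.tinv] at this
  -- `[R, Q] ≤ Z`
  have hRQ : ∀ q ∈ S.φ.ker, ∀ r ∈ R, ⁅q, r⁆ ∈ Z := fun q hq r hr => by
    refine hlow _ inferInstance hR.commutator_lt ?_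
    rw [commutator_comm]
    exact commutator_mem_commutator hq hr
  -- fixed points of `t` in `R` are central
  have hRC : R ⊓ S.cent ≤ Z := by
    refine hlow _ (S.normal_of ?_ ?_) (inf_lt_left.mpr fun h => hR.nfix fun r hr =>
      S.mem_cent.mp (h hr))
    · intro q hq n hn
      rw [show q * n * q⁻¹ = ⁅q, n⁆ * n by rw [commutatorElement_def]; group]
      have hz := hRQ q hq n (mem_inf.mp hn).1
      exact mem_inf.mpr ⟨mul_mem (hZR.le hz) (mem_inf.mp hn).1,
        mul_mem (S.mem_cent.mpr (hR.min Z inferInstance hZR _ hz)) (mem_inf.mp hn).2⟩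
    · intro c hc n hn
      exact mem_inf.mpr ⟨hR.normal.conj_mem _ (mem_inf.mp hn).1 c,
        mul_mem (mul_mem hc (mem_inf.mp hn).2) (inv_mem hc)⟩
  have htR : ∀ r ∈ R, S.t * r * S.t ∈ R := fun r hr => by
    have := hR.normal.conj_mem r hr S.t
    rwa [S.tinv] at this
  -- `t` inverts `R` modulo `Z`
  have hinv : ∀ r ∈ R, ∃ z ∈ Z, S.t * r * S.t = r⁻¹ * z := by
    intro r hr
    set r' := S.t * r * S.t with hr'
    have hr'R : r' ∈ R := htR r hr
    have hcz : ⁅r', r⁆ ∈ Z := hlow _ inferInstance hR.derived_lt (commutator_mem_commutator hr'R hr)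
    have hw : r * r' ∈ Z := by
      refine hRC (mem_inf.mpr ⟨mul_mem hr hr'R, S.mem_cent.mpr ?_⟩)
      refine S.fix_of_layer (z := ⁅r', r⁆) (hR.le (hZR.le hcz)) (hZt _ hcz) ?_
      rw [show S.t * (r * r') * S.t = (S.t * r * S.t) * (S.t * r' * S.t) by
        rw [show (S.t * r * S.t) * (S.t * r' * S.t) = S.t * r * (S.t * S.t) * r' * S.t by group,
          S.tsq]; group]
      rw [show S.t * r' * S.t = r by
        rw [hr', show S.t * (S.t * r * S.t) * S.t = (S.t * S.t) * r * (S.t * S.t) by group, S.tsq]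
        group]
      rw [← hr', commutatorElement_def]
      group
    exact ⟨r * r', hw, by group⟩
  -- `C_Q(t)` centralizes `R`
  have hD : ∀ q ∈ S.φ.ker ⊓ S.cent, ∀ r ∈ R, q * r = r * q := by
    intro q hq r hr
    obtain ⟨z, hz, htr⟩ := hinv r hr
    have hqt : S.t * q * S.t = q := S.conj_t_eq_self (S.mem_cent.mp (mem_inf.mp hq).2)
    have hc := hRQ q (mem_inf.mp hq).1 r hr
    rw [← commutatorElement_eq_one_iff_mul_comm]
    refine eq_one_of_mul_self S.ker S.ne_two (hR.le (hZR.le hc)) ?_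
    have h1 : ⁅q, S.t * r * S.t⁆ = ⁅q, r⁆ := by
      conv_lhs => rw [← hqt]
      have hconj := conj_comm_elem S.t q r
      rw [S.tinv] at hconj
      rw [← hconj, hZt _ hc]
    have h2 : ⁅q, S.t * r * S.t⁆ = ⁅q, r⁻¹⁆ := by
      rw [htr, commutatorElement_def, commutatorElement_def]
      have : z * q⁻¹ * z⁻¹ = q⁻¹ := by
        have h := hZc z hz q⁻¹
        rw [inv_inv] at h
        calc z * q⁻¹ * z⁻¹ = (q⁻¹ * z * q) * q⁻¹ * z⁻¹ := by rw [h]
          _ = q⁻¹ := by group
      rw [show q * (r⁻¹ * z) * q⁻¹ * (r⁻¹ * z)⁻¹ = q * r⁻¹ * (z * q⁻¹ * z⁻¹) * r by group, this]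
      group
    have h3 : ⁅q, r⁻¹⁆ = r⁻¹ * ⁅q, r⁆⁻¹ * r := by
      rw [commutatorElement_def, commutatorElement_def]; group
    have h4 : r⁻¹ * ⁅q, r⁆⁻¹ * r = ⁅q, r⁆⁻¹ := by
      have := hZc _ (inv_mem hc) r⁻¹
      rwa [inv_inv] at this
    rw [h2, h3, h4] at h1
    exact eq_inv_iff_mul_eq_one.mp h1.symm
  obtain ⟨g, hg⟩ := (isCyclic_of_prime_card (α := Z) (p := p) hZcard).exists_generator
  have hcyc : IsCyclic ↥(S.φ.ker ⊓ S.cent) := by
    refine isCyclic_of_unique S.ne_two _ (S.ker.to_le inf_le_left) (z := (g : G))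
      (hexp _ (hZR.le g.2)) fun x hx hxp => ?_
    obtain ⟨hcA, heA, hcardA, -⟩ := hA a1 ha1 ha1Z
    have hxA : x ∈ Z ⊔ zpowers a1 := mem_of_rank S.rank hcA heA hcardA.ge
      (fun u hu => hD x hx u (sup_le inf_le_left (zpowers_le.mpr ha1) hu)) hxp
    have hxR : x ∈ R := sup_le inf_le_left (zpowers_le.mpr ha1) hxA
    have hxZ : x ∈ Z := hmemZ.mpr ⟨hxR, fun r hr => (hD x hx r hr).symm⟩
    obtain ⟨i, hi⟩ := hg ⟨x, hxZ⟩
    exact ⟨i, congrArg Subtype.val hi⟩
  obtain ⟨x, hxC, hxp, hxQ⟩ := S.exists_elem hcyc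
  have hP : IsPGroup p (zpowers x) := IsPGroup.of_card_dvd_pow (p := p) (n := 1)
    (by rw [pow_one, Nat.card_zpowers]; exact orderOf_dvd_of_pow_eq_one hxp)
  obtain ⟨V, ⟨hVR, hVn, hVZ⟩, hVmin⟩ := wellFounded_lt.has_min
    {V : Subgroup G | V ≤ R ∧ zpowers x ≤ normalizer (V : Set G) ∧ ¬ V ≤ Z}
    ⟨R, le_rfl, by rw [normalizer_eq_top]; exact le_top, hZR.not_ge⟩
  have hVne : V ≠ ⊥ := fun h => hVZ (h ▸ bot_le)
  have hW := Cfsg.Lib.PGroup.commutator_lt_of_isPGroup (hR.isPGroup.to_le hVR) hP hVn hVne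
  have hWZ : ⁅V, zpowers x⁆ ≤ Z := by
    by_contra hWZ
    exact hVmin _ ⟨hW.le.trans hVR, normalizer_commutator_ge_right V (zpowers x), hWZ⟩ hW
  obtain ⟨r, hrV, hrZ⟩ := SetLike.not_le_iff_exists.mp hVZ
  obtain ⟨z, hz, htr⟩ := hinv r (hVR hrV)
  obtain ⟨m, hm⟩ := hp.out.odd_of_ne_two S.ne_two
  set r1 := r * z ^ m with hr1
  have hzc : ∀ (k : ℕ) (g : G), g * z ^ k = z ^ k * g := fun k g =>
    mul_inv_eq_iff_eq_mul.mp (hZc _ (pow_mem hz k) g)
  have hr1R : r1 ∈ R := mul_mem (hVR hrV) (pow_mem (hZR.le hz) m)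
  have hr1Z : r1 ∉ Z := fun h => hrZ (by simpa [hr1] using mul_mem h (inv_mem (pow_mem hz m)))
  have ht1 : S.t * r1 * S.t = r1⁻¹ := by
    have e : S.t * r1 * S.t = (S.t * r * S.t) * z ^ m := by
      rw [hr1, show S.t * (r * z ^ m) * S.t = S.t * r * (z ^ m * S.t) by group, ← hzc m S.t]
      group
    have hzp : z ^ (m + 1) * z ^ m = 1 := by
      rw [← pow_add, show m + 1 + m = p by omega]
      exact hexp z (hZR.le hz)
    rw [e, htr, hr1, mul_inv_rev, mul_assoc, ← pow_succ', eq_inv_of_mul_eq_one_left hzp]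
    have := hzc m r
    rw [← mul_inv_rev, ← mul_inv_rev, this]
  -- `x` centralizes `r1`, so rank three
  have hxr : x * r1 = r1 * x := by
    have hc0 : ⁅x, r⁆ ∈ Z := hWZ (by rw [commutator_comm]; exact commutator_mem_commutator (mem_zpowers x) hrV)
    have hc1 : ⁅x, r1⁆ = ⁅x, r⁆ := by
      rw [commutatorElement_def, commutatorElement_def, hr1]
      rw [show x * (r * z ^ m) * x⁻¹ * (r * z ^ m)⁻¹ = x * r * (z ^ m * x⁻¹) * (z ^ m)⁻¹ * r⁻¹ by group,
        ← hzc m x⁻¹]
      group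
    rw [← commutatorElement_eq_one_iff_mul_comm]
    refine eq_one_of_mul_self S.ker S.ne_two (hR.le (hZR.le (hc1 ▸ hc0))) ?_
    have hxt : S.t * x * S.t = x := S.conj_t_eq_self (S.mem_cent.mp hxC)
    have h1 : ⁅x, r1⁻¹⁆ = ⁅x, r1⁆ := by
      conv_lhs => rw [← ht1, ← hxt]
      have hconj := conj_comm_elem S.t x r1
      rw [S.tinv] at hconj
      rw [← hconj, hZt _ (hc1 ▸ hc0)]
    have h3 : ⁅x, r1⁻¹⁆ = r1⁻¹ * ⁅x, r1⁆⁻¹ * r1 := by
      rw [commutatorElement_def, commutatorElement_def]; group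
    have h4 : r1⁻¹ * ⁅x, r1⁆⁻¹ * r1 = ⁅x, r1⁆⁻¹ := by
      have := hZc _ (inv_mem (hc1 ▸ hc0 : ⁅x, r1⁆ ∈ Z)) r1⁻¹
      rwa [inv_inv] at this
    rw [h3, h4] at h1
    exact eq_inv_iff_mul_eq_one.mp h1.symm
  obtain ⟨hcA, heA, hcardA, -⟩ := hA r1 hr1R hr1Z
  have hxcent : ∀ u ∈ Z ⊔ zpowers r1, x * u = u * x := by
    intro u hu
    have hle : Z ⊔ zpowers r1 ≤ centralizer {x} := by
      refine sup_le (fun w hw => ?_) (zpowers_le.mpr ?_)
      · exact mem_centralizer_singleton_iff.mpr (mul_inv_eq_iff_eq_mul.mp (hZc w hw x)).symm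
      · exact mem_centralizer_singleton_iff.mpr hxr.symm
    exact (mem_centralizer_singleton_iff.mp (hle hu)).symm
  exact hxQ (hR.le (sup_le inf_le_left (zpowers_le.mpr hr1R)
    (mem_of_rank S.rank hcA heA hcardA.ge hxcent hxp)))

/-- **Main lemma.** -/
theorem card_ker (S : Setup p G) : Nat.card S.φ.ker = p ^ 2 := by
  obtain ⟨R, hR⟩ := S.exists_isMin
  exact hR.card_ker_of_comm hR.comm_all

end Setup

end Cfsg.Lib.Local.QdRankTwo
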