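import Cfsg.Agent.Lib.Local.GlaubermanComplement
import Cfsg.Agent.Lib.Fusion.Parts
import Cfsg.Agent.Lib.Sig.PConstrained

/-!
# `p`-stable groups act `p`-stably on the normal `p`-subgroups modulo the `p'`-core
-/

set_option autoImplicit false
set_option linter.style.haveILetI false

namespace Cfsg.Lib.Local.StableQuotient

open Subgroup Cfsg
open scoped commutatorElement

variable {G : Type*} [Group G] [Finite G] {p : ℕ} [hp : Fact p.Prime]

/-- Reduction to elements of `p`-power order. -/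
theorem isPStableOn_of_pElements {Q : Type*} [Group Q] [Finite Q] (V : Subgroup Q) [V.Normal]
    (hV : IsPGroup p V)
    (h : ∀ (a : Q) (k : ℕ), orderOf a = p ^ k → ⁅⁅V, zpowers a⁆, zpowers a⁆ = ⊥ →
      (QuotientGroup.mk a : Q ⧸ centralizer (V : Set Q)) ∈ pCore p (Q ⧸ centralizer (V : Set Q))) :
    IsPStableOn p V := by
  intro a ha
  refine Cfsg.Lib.Fusion.induction_parts a
    (Q := fun y => (QuotientGroup.mk y : Q ⧸ centralizer (V : Set Q)) ∈
      pCore p (Q ⧸ centralizer (V : Set Q)))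
    (fun y hy q k hq hk => ?_) (fun u _ v _ hu hv => by rw [QuotientGroup.mk_mul]; exact mul_mem hu hv)
  have hy' : ⁅⁅V, zpowers y⁆, zpowers y⁆ = ⊥ := le_bot_iff.1 (ha ▸
    commutator_mono (commutator_mono le_rfl (zpowers_le.2 hy)) (zpowers_le.2 hy))
  by_cases hqp : q = p
  · exact h y k (hqp ▸ hk) hy'
  · have hyn : zpowers y ≤ normalizer (V : Set Q) := by
      rw [normalizer_eq_top_iff.2 ‹V.Normal›]; exact le_top
    have hcop : (Nat.card (zpowers y)).Coprime (Nat.card V) := by
      obtain ⟨j, hj⟩ := IsPGroup.iff_card.1 hV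
      rw [Nat.card_zpowers, hk, hj]
      exact Nat.Coprime.pow _ _ ((Nat.coprime_primes hq hp.out).2 hqp)
    have h1 := Cfsg.Lib.Coprime.commutator_eq_bot_of_commutator_commutator_eq_bot hyn hcop
      (Or.inl (by haveI : IsMulCommutative (zpowers y) := inferInstance; infer_instance)) hy'
    have h2 : y ∈ centralizer (V : Set Q) :=
      le_centralizer_iff.1 (commutator_eq_bot_iff_le_centralizer.1 h1) (mem_zpowers y)
    rw [(QuotientGroup.eq_one_iff y).2 h2]
    exact one_mem _

/-- `p`-stability gives `p`-stable actions on all normal `p`-subgroups of `G / O_{p'}(G)`. -/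
theorem isPStableOn_quotient (hs : IsPStable p G) (V : Subgroup (G ⧸ pPrimeCore p G)) [V.Normal]
    (hV : IsPGroup p V) : IsPStableOn p V := by
  set N := pPrimeCore p G with hN
  set f := QuotientGroup.mk' N with hf
  have hfs : Function.Surjective f := QuotientGroup.mk'_surjective N
  have hker : f.ker = N := QuotientGroup.ker_mk' N
  have hcop : (Nat.card f.ker).Coprime p := by rw [hker]; exact Cfsg.Lib.Core.pPrimeCore_coprime p G
  refine isPStableOn_of_pElements V hV fun ab k hk hab => ?_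
  -- a Sylow subgroup of the preimage of `V`
  obtain ⟨T⟩ : Nonempty (Sylow p (V.comap f)) := inferInstance
  set P0 := (T : Subgroup (V.comap f)).map (V.comap f).subtype with hP0
  have hP0p : IsPGroup p P0 := T.2.map _
  have hP0V : P0.map f = V := by
    refine le_antisymm ((map_mono (map_subtype_le _)).trans (map_comap_le f V)) fun v hv => ?_
    let g : ↥(V.comap f) →* V := (f.comp (V.comap f).subtype).codRestrict V fun x => x.2
    have hg : Function.Surjective g := fun ⟨w, hw⟩ => by
      obtain ⟨x, rfl⟩ := hfs w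
      exact ⟨⟨x, hw⟩, rfl⟩
    have htop : ((T.mapSurjective hg : Sylow p V) : Subgroup V) = ⊤ :=
      ((T.mapSurjective hg).is_maximal' (hV.to_subgroup ⊤) le_top).symm
    have hv' : (⟨v, hv⟩ : V) ∈ (T : Subgroup ↥(V.comap f)).map g := by
      rw [← Sylow.coe_mapSurjective hg T, htop]; exact mem_top _
    obtain ⟨x, hx, hxv⟩ := hv'
    exact ⟨x, ⟨x, hx, rfl⟩, congrArg Subtype.val hxv⟩
  have hsupn : (N ⊔ P0).Normal := by
    have : N ⊔ P0 = V.comap f := by
      rw [← hP0V, comap_map_eq, hker, sup_comm]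
    rw [this]; infer_instance
  have hP0le : P0 ≤ pPrimePCore p G := by
    intro x hx
    exact (Cfsg.Lib.Core.le_pCore hV) (hP0V ▸ mem_map_of_mem f hx)
  -- lift the element
  have hnorm : ab ∈ normalizer ((P0.map f : Subgroup (G ⧸ N)) : Set (G ⧸ N)) := by
    rw [hP0V, normalizer_eq_top_iff.2 ‹V.Normal›]; trivial
  obtain ⟨x, hx, hxab⟩ := GlaubermanZJ.exists_normalizer_lift f hfs hcop hP0p ab hnorm
  obtain ⟨e, m, hm, he⟩ := Nat.exists_eq_pow_mul_and_not_dvd (orderOf_pos x).ne' p hp.out.ne_one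
  have hcm : (p ^ k).Coprime m := Nat.Coprime.pow_left k ((Nat.Prime.coprime_iff_not_dvd hp.out).2 hm)
  obtain ⟨j, hj⟩ := exists_pow_eq_self_of_coprime (x := ab) (n := m) (by rw [hk]; exact hcm.symm)
  set a := (x ^ m) ^ j with ha
  have hab' : f a = ab := by rw [ha, map_pow, map_pow, hxab, hj]
  have haN : a ∈ normalizer (P0 : Set G) := pow_mem (pow_mem hx m) j
  have hap : IsPGroup p (zpowers a) := by
    have hpow : a ^ p ^ e = 1 := by
      rw [ha, ← pow_mul, ← pow_mul, show m * (j * p ^ e) = p ^ e * m * j by ring, pow_mul, ← he,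
        pow_orderOf_eq_one, one_pow]
    obtain ⟨i, -, hi⟩ := (Nat.dvd_prime_pow hp.out).1 (orderOf_dvd_of_pow_eq_one hpow)
    exact IsPGroup.of_card (n := i) (by rw [Nat.card_zpowers, hi])
  have hzn : zpowers a ≤ normalizer (P0 : Set G) := zpowers_le.2 haN
  have hAn : ∀ b ∈ zpowers a, ∀ y ∈ P0, b * y * b⁻¹ ∈ P0 := fun b hb y hy =>
    (mem_normalizer_iff.1 (hzn hb) y).1 hy
  have hcomm : ⁅⁅P0, zpowers a⁆, zpowers a⁆ = ⊥ := by
    refine le_bot_iff.1 (le_trans (le_inf ?_ ?_) (Cfsg.Lib.Sig.disjoint_of_isPGroup_coprime hP0p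
      (by rw [← hker]; exact hcop : (Nat.card N).Coprime p)).le)
    · have h1 : ⁅P0, zpowers a⁆ ≤ P0 := le_normalizer_iff_commutator_le_left.1 hzn
      exact (commutator_mono h1 le_rfl).trans h1
    · refine le_trans ?_ hker.le
      rw [← Subgroup.map_eq_bot_iff, map_commutator, map_commutator, hP0V, MonoidHom.map_zpowers,
        hab', hab]
  have key := hs.2.2 (zpowers a) P0 hap hP0p hAn hP0le hsupn hcomm
  -- push down
  set M := normalizer (P0 : Set G) with hM
  set C := centralizer (V : Set (G ⧸ N))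
  let ψ : ↥M ⧸ (centralizer (P0 : Set G)).subgroupOf M →* (G ⧸ N) ⧸ C :=
    QuotientGroup.lift _ ((QuotientGroup.mk' C).comp (f.comp M.subtype)) fun z hz => by
      refine (QuotientGroup.eq_one_iff _).2 (mem_centralizer_iff.2 ?_)
      rw [← hP0V]
      rintro _ ⟨y, hy, rfl⟩
      show f y * f (z : G) = f (z : G) * f y
      rw [← map_mul, ← map_mul]
      exact congrArg f (mem_centralizer_iff.1 hz y hy)
  have hψ : Function.Surjective ψ := fun q => by
    obtain ⟨w, rfl⟩ := QuotientGroup.mk'_surjective C q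
    obtain ⟨z, hz, rfl⟩ := GlaubermanZJ.exists_normalizer_lift f hfs hcop hP0p w
      (by rw [hP0V, normalizer_eq_top_iff.2 ‹V.Normal›]; trivial)
    exact ⟨QuotientGroup.mk ⟨z, hz⟩, rfl⟩
  have h1 : ψ (QuotientGroup.mk ⟨a, haN⟩) ∈ pCore p ((G ⧸ N) ⧸ C) :=
    Cfsg.Lib.Core.map_pCore_le ψ hψ
      ⟨_, key ⟨⟨a, haN⟩, mem_subgroupOf.2 (mem_zpowers a), rfl⟩, rfl⟩
  rw [← hab']
  exact h1

/-- A `p`-stable group with trivial `p'`-core acts `p`-stably on its normal `p`-subgroups. -/
theorem isPStableOn_of_pPrimeCore_eq_bot (hs : IsPStable p G) (hO : pPrimeCore p G = ⊥)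
    (V : Subgroup G) [V.Normal] (hV : IsPGroup p V) : IsPStableOn p V := by
  set f := QuotientGroup.mk' (pPrimeCore p G) with hf
  have hinj : Function.Injective f := by
    rw [← MonoidHom.ker_eq_bot_iff, hf, QuotientGroup.ker_mk', hO]
  have hsur : Function.Surjective f := QuotientGroup.mk'_surjective _
  haveI : (V.map f).Normal := Subgroup.Normal.map ‹V.Normal› f hsur
  have h := isPStableOn_quotient hs (V.map f) (hV.map f)
  intro a ha
  have h1 := h (f a) (by rw [← MonoidHom.map_zpowers, ← map_commutator, ← map_commutator, ha, Subgroup.map_bot])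
  set C := centralizer (V : Set G)
  set C' := centralizer ((V.map f : Subgroup (G ⧸ pPrimeCore p G)) : Set (G ⧸ pPrimeCore p G))
  have hCC : C = C'.comap f := by
    ext x
    rw [mem_comap, mem_centralizer_iff, mem_centralizer_iff]
    constructor
    · rintro hx _ ⟨y, hy, rfl⟩
      rw [← map_mul, ← map_mul, hx y hy]
    · intro hx y hy
      exact hinj (by rw [map_mul, map_mul]; exact hx _ ⟨y, hy, rfl⟩)
  let φ : G ⧸ C →* (G ⧸ pPrimeCore p G) ⧸ C' := QuotientGroup.map C C' f hCC.le
  have hφ : Function.Bijective φ := by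
    refine ⟨(MonoidHom.ker_eq_bot_iff φ).1 ?_, fun q => ?_⟩
    · rw [eq_bot_iff]
      intro q hq
      obtain ⟨x, rfl⟩ := QuotientGroup.mk_surjective q
      refine mem_bot.2 ((QuotientGroup.eq_one_iff x).2 (hCC.ge ?_))
      exact (QuotientGroup.eq_one_iff (f x)).1 hq
    · obtain ⟨w, rfl⟩ := QuotientGroup.mk'_surjective C' q
      obtain ⟨x, rfl⟩ := hsur w
      exact ⟨QuotientGroup.mk x, rfl⟩
  let e := MulEquiv.ofBijective φ hφ
  rw [← Cfsg.Lib.Core.map_pCore_equiv e] at h1
  obtain ⟨y, hy, hye⟩ := h1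
  exact (e.injective (hye.trans (rfl : _ = e (QuotientGroup.mk a)))) ▸ hy

/-- The centre of the Thompson subgroup of a `p`-constrained `p`-stable group, modulo the `p'`-core. -/
theorem centerThompsonA_normal_quotient (h2 : p ≠ 2) (hc : IsPConstrained p G) (hs : IsPStable p G)
    (P : Sylow p (G ⧸ pPrimeCore p G)) :
    (centerThompsonAOf (P : Subgroup (G ⧸ pPrimeCore p G))).Normal :=
  GlaubermanZJ.centerThompsonA_normal h2 (Cfsg.Lib.Sig.isPConstrained_iff.1 hc)
    (fun V _ hV => isPStableOn_quotient hs V hV) P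

end Cfsg.Lib.Local.StableQuotient
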