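import Cfsg.Agent.Lib.Local.QdInvolved
import Cfsg.Agent.Lib.Local.QdRankTwo
import Cfsg.Agent.Lib.Local.StableQuotient
import Cfsg.Agent.Lib.Linear.GLTwo
import Cfsg.Agent.Lib.Core.PSolvable
import Cfsg.Prelude.Def_PLocal

/-!
# Failure of `p`-stability produces `SL₂(p)`

* `involves_SL2_of_not_isPStableOn`, `involves_SL2_mod_pGroup`.
* `SL₂(p)` has non-abelian Sylow `2`-subgroups and, for `p ≥ 5`, is not `p`-solvable.
* `isActionPStable_of_not_involves_SL2`.
-/

set_option autoImplicit false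
set_option linter.style.haveILetI false

universe u

namespace Cfsg.Lib.Local.SL2Involved

open Subgroup Cfsg Cfsg.Lib.FusionSys Matrix
open scoped MatrixGroups

variable {p : ℕ} [hp : Fact p.Prime]

theorem pSubgroup_normal_SL2 {H : Subgroup SL(2, ZMod p)} (hn : H.Normal) (hH : IsPGroup p H) :
    H = ⊥ := by
  obtain ⟨P, hP⟩ : ∃ P : Sylow p SL(2, ZMod p), (P : Subgroup SL(2, ZMod p)) = Linear.Two.UT (ZMod p) :=
    ⟨(Linear.Two.isPGroup_UT p).toSylow (Linear.Two.not_dvd_index_UT p), rfl⟩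
  have hle : H ≤ Linear.Two.UT (ZMod p) := hP ▸ IsPGroup.le_sylow_of_normal hH P
  let w : SL(2, ZMod p) := ⟨!![0, -1; 1, 0], by simp [Matrix.det_fin_two]⟩
  refine (Subgroup.eq_bot_iff_forall _).2 fun A hA => ?_
  obtain ⟨h0, h1, h2⟩ := Linear.Two.mem_UT.mp (hle hA)
  obtain ⟨-, -, h3⟩ := Linear.Two.mem_UT.mp (hle (hn.conj_mem A hA w))
  change (w.1 * A.1 * Matrix.adjugate w.1) 1 0 = 0 at h3
  simp [w, Matrix.adjugate_fin_two, Matrix.mul_apply, Fin.sum_univ_two, Matrix.vecMul, dotProduct,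
    h0, h1, h2] at h3
  ext i j
  fin_cases i <;> fin_cases j <;> simp [h0, h1, h2, h3]

variable {G : Type u} [Group G] [Finite G]

/-- `SL₂(p)` survives dividing out a normal `p`-subgroup. -/
theorem involves_SL2_mod_pGroup (h : Involves (qd p) G) (N : Subgroup G) [N.Normal]
    (hN : IsPGroup p N) : Involves SL(2, ZMod p) (G ⧸ N) := by
  obtain ⟨K, f, hf⟩ := involves_iff_exists_hom.1 h
  set g : K →* SL(2, ZMod p) := (QdGroup.block p).comp f with hg
  have hgs : Function.Surjective g := (QdGroup.block_surjective p).comp hf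
  set q : K →* G ⧸ N := (QuotientGroup.mk' N).comp K.subtype with hq
  have hker : q.ker ≤ g.ker := fun x hx => by
    have hxN : x ∈ N.subgroupOf K := (QuotientGroup.eq_one_iff (N := N) (x : G)).1 hx
    have h1 := pSubgroup_normal_SL2 (Subgroup.Normal.map (inferInstance : (N.subgroupOf K).Normal) g hgs)
      ((hN.comap_subtype (K := K)).map g)
    exact MonoidHom.mem_ker.2 (mem_bot.1 (h1.le (mem_map_of_mem g hxN)))
  let e := QuotientGroup.quotientKerEquivRange q
  let g' : q.range →* SL(2, ZMod p) := (QuotientGroup.lift q.ker g hker).comp e.symm.toMonoidHom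
  refine involves_iff_exists_hom.2 ⟨q.range, g', fun A => ?_⟩
  obtain ⟨x, rfl⟩ := hgs A
  refine ⟨e (QuotientGroup.mk x), ?_⟩
  show QuotientGroup.lift q.ker g hker (e.symm (e (QuotientGroup.mk x))) = g x
  rw [MulEquiv.symm_apply_apply]
  rfl

theorem involves_SL2_of_qd (h : Involves (qd p) G) : Involves SL(2, ZMod p) G := by
  obtain ⟨K, f, hf⟩ := involves_iff_exists_hom.1 h
  exact involves_iff_exists_hom.2 ⟨K, (QdGroup.block p).comp f, (QdGroup.block_surjective p).comp hf⟩

/-- A faithful action without normal `p`-subgroup and with a quadratic element involves `SL₂(p)`. -/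
theorem involves_SL2_of_action (h2 : p ≠ 2) (V H : Subgroup G) (hV : IsPGroup p V)
    (hVc : IsMulCommutative V) (hHV : H ≤ normalizer (V : Set G))
    (hf : H ⊓ centralizer (V : Set G) = ⊥) (x : G) (hxH : x ∈ H)
    (hq : ⁅⁅V, zpowers x⁆, zpowers x⁆ = ⊥) (hx : x ∉ (pCore p H).map H.subtype) :
    Involves SL(2, ZMod p) H := by
  set X := V ⊔ H with hX
  have hVX : V ≤ X := le_sup_left
  have hHX : H ≤ X := le_sup_right
  have hXN : X ≤ normalizer (V : Set G) := sup_le le_normalizer hHV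
  haveI hVn : (V.subgroupOf X).Normal := ⟨fun v hv g =>
    (mem_normalizer_iff.1 (hXN g.2) (v : G)).1 hv⟩
  have hVp : IsPGroup p (V.subgroupOf X) := hV.of_equiv (subgroupOfEquivOfLe hVX).symm
  have hVC : V.subgroupOf X ≤ centralizer ((V.subgroupOf X : Subgroup X) : Set X) := fun v hv =>
    mem_centralizer_iff.2 fun w hw =>
      Subtype.ext (congrArg (fun z : V => (z : G)) (hVc.is_comm.comm ⟨(w : G), hw⟩ ⟨(v : G), hv⟩))
  have hdec : ∀ g : X, ∃ h ∈ H, ∃ v ∈ V, (g : G) = v * h := fun g => by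
    obtain ⟨v, hv, h, hh, e⟩ := Cfsg.Lib.Coprime.exists_mul_of_mem_sup hHV g.2
    exact ⟨h, hh, v, hv, e⟩
  -- `H ≅ X / C_X(V)`
  set C := centralizer ((V.subgroupOf X : Subgroup X) : Set X) with hC
  let π : H →* X ⧸ C := (QuotientGroup.mk' C).comp (inclusion hHX)
  have hinj : Function.Injective π := by
    rw [← MonoidHom.ker_eq_bot_iff, Subgroup.eq_bot_iff_forall]
    intro h hh
    have hmem : inclusion hHX h ∈ C := (QuotientGroup.eq_one_iff _).1 hh
    refine Subtype.ext (mem_bot.1 (hf.le ⟨h.2, mem_centralizer_iff.2 fun v hv => ?_⟩))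
    exact congrArg Subtype.val (mem_centralizer_iff.1 hmem ⟨v, hVX hv⟩ hv)
  have hsur : Function.Surjective π := fun y => by
    obtain ⟨g, rfl⟩ := QuotientGroup.mk'_surjective C y
    obtain ⟨h, hh, v, hv, he⟩ := hdec g
    refine ⟨⟨h, hh⟩, ?_⟩
    have hg : g = ⟨v, hVX hv⟩ * inclusion hHX ⟨h, hh⟩ := Subtype.ext he
    rw [hg, map_mul]
    show _ = _ * π ⟨h, hh⟩
    rw [show QuotientGroup.mk' C (⟨v, hVX hv⟩ : X) = 1 from
      (QuotientGroup.eq_one_iff _).2 (hVC hv), one_mul]
  let e : H ≃* X ⧸ C := MulEquiv.ofBijective π ⟨hinj, hsur⟩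
  have hns : ¬ IsPStableOn p (V.subgroupOf X) := by
    intro hst
    have hqX : ⁅⁅V.subgroupOf X, zpowers (⟨x, hHX hxH⟩ : X)⁆, zpowers (⟨x, hHX hxH⟩ : X)⁆ = ⊥ := by
      refine map_injective X.subtype_injective ?_
      rw [Subgroup.map_commutator, Subgroup.map_commutator, MonoidHom.map_zpowers,
        map_subgroupOf_eq_of_le hVX, Subgroup.map_bot]
      exact hq
    have h := hst _ hqX
    refine hx ⟨⟨x, hxH⟩, ?_, rfl⟩
    have h' := Cfsg.Lib.Core.map_pCore_equiv (p := p) e.symm
    rw [← h']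
    exact ⟨_, h, e.symm_apply_apply ⟨x, hxH⟩⟩
  have hqd := QdInvolved.involves_qd_of_not_isPStableOn h2 (V.subgroupOf X) hVp hns
  have hsl := involves_SL2_mod_pGroup hqd (V.subgroupOf X) hVp
  -- `X / V` is a quotient of `H`
  refine involves_of_surjective (f := (QuotientGroup.mk' (V.subgroupOf X)).comp (inclusion hHX))
    (fun y => ?_) hsl
  obtain ⟨g, rfl⟩ := QuotientGroup.mk'_surjective (V.subgroupOf X) y
  obtain ⟨h, hh, v, hv, he⟩ := hdec g
  refine ⟨⟨h, hh⟩, ?_⟩
  have hg : g = ⟨v, hVX hv⟩ * inclusion hHX ⟨h, hh⟩ := Subtype.ext he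
  rw [hg, map_mul]
  show _ = _ * QuotientGroup.mk' (V.subgroupOf X) (inclusion hHX ⟨h, hh⟩)
  rw [show QuotientGroup.mk' (V.subgroupOf X) (⟨v, hVX hv⟩ : X) = 1 from
    (QuotientGroup.eq_one_iff _).2 hv, one_mul]
  rfl

/-- If the Sylow `2`-subgroups are abelian, so are the `2`-subgroups of all sections. -/
theorem commute_of_involves {A : Type} [Group A] (h : Involves A G)
    (hab : ∀ T : Sylow 2 G, IsMulCommutative T) (D : Subgroup A) (hD : IsPGroup 2 D) :
    IsMulCommutative D := by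
  obtain ⟨K, f, hf⟩ := involves_iff_exists_hom.1 h
  haveI : Fact (Nat.Prime 2) := ⟨Nat.prime_two⟩
  haveI : Finite A := Finite.of_surjective f hf
  obtain ⟨T₀⟩ : Nonempty (Sylow 2 K) := inferInstance
  obtain ⟨P, hP⟩ := hD.exists_le_sylow
  obtain ⟨g, hg⟩ := MulAction.exists_smul_eq A (T₀.mapSurjective hf) P
  obtain ⟨T, hT⟩ := (T₀.isPGroup'.map K.subtype).exists_le_sylow
  refine ⟨⟨fun a b => Subtype.ext ?_⟩⟩
  have hmem : ∀ c : D, ∃ t ∈ (T₀ : Subgroup K), g * f t * g⁻¹ = (c : A) := fun c => by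
    obtain ⟨_, ⟨t, ht, rfl⟩, hte⟩ := hg.symm.le (hP c.2)
    exact ⟨t, ht, hte⟩
  obtain ⟨s, hs, hse⟩ := hmem a
  obtain ⟨t, ht, hte⟩ := hmem b
  have hc : (s : G) * t = t * s :=
    congrArg Subtype.val ((hab T).is_comm.comm ⟨_, hT ⟨s, hs, rfl⟩⟩ ⟨_, hT ⟨t, ht, rfl⟩⟩)
  have hc' : s * t = t * s := Subtype.ext hc
  show (a : A) * b = b * a
  rw [← hse, ← hte]
  calc g * f s * g⁻¹ * (g * f t * g⁻¹) = g * f (s * t) * g⁻¹ := by rw [map_mul]; group
    _ = g * f (t * s) * g⁻¹ := by rw [hc']
    _ = _ := by rw [map_mul]; group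

/-- `SL₂(p)` has a non-abelian `2`-subgroup for odd `p`. -/
theorem exists_two_subgroup_nonabelian (h2 : p ≠ 2) :
    ∃ D : Subgroup SL(2, ZMod p), IsPGroup 2 D ∧ ¬ IsMulCommutative D := by
  obtain ⟨a, b, hab⟩ := ZMod.sq_add_sq p (-1)
  let i : SL(2, ZMod p) := ⟨!![0, 1; -1, 0], by simp⟩
  let j : SL(2, ZMod p) := ⟨!![a, b; b, -a], by rw [det_fin_two_of]; linear_combination -(1 : ZMod p) * hab⟩
  have hi : (i : Matrix (Fin 2) (Fin 2) (ZMod p)) = !![0, 1; -1, 0] := rfl
  have hj : (j : Matrix (Fin 2) (Fin 2) (ZMod p)) = !![a, b; b, -a] := rfl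
  have hi4 : i ^ 2 = -1 := by
    apply Subtype.ext
    show (i : Matrix (Fin 2) (Fin 2) (ZMod p)) ^ 2 = _
    rw [hi, QdInvolved.coeM_neg_one]
    ext r s
    fin_cases r <;> fin_cases s <;> simp [sq, Matrix.mul_apply, Fin.sum_univ_two]
  have hj4 : j ^ 2 = -1 := by
    apply Subtype.ext
    show (j : Matrix (Fin 2) (Fin 2) (ZMod p)) ^ 2 = _
    rw [hj, QdInvolved.coeM_neg_one]
    ext r s
    fin_cases r <;> fin_cases s <;>
      simp [sq, Matrix.mul_apply, Fin.sum_univ_two] <;>
      first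
        | linear_combination (0 : ZMod p) * hab
        | linear_combination hab
        | linear_combination -(1 : ZMod p) * hab
  have hji : j * i = i⁻¹ * j := by
    rw [eq_inv_mul_iff_mul_eq]
    apply Subtype.ext
    show (i : Matrix (Fin 2) (Fin 2) (ZMod p)) * ((j : Matrix (Fin 2) (Fin 2) (ZMod p)) * i) = j
    rw [hi, hj]
    ext r s
    fin_cases r <;> fin_cases s <;> simp [Matrix.mul_apply, Fin.sum_univ_two]
  have h4 : ∀ x : SL(2, ZMod p), x ^ 2 = -1 → IsPGroup 2 (zpowers x) := fun x hx => by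
    have hx4 : x ^ 2 ^ 2 = 1 := by
      rw [show (2 : ℕ) ^ 2 = 2 * 2 from rfl, pow_mul, hx]
      simp
    rintro ⟨y, m, rfl⟩
    refine ⟨2, Subtype.ext ?_⟩
    show (x ^ m) ^ 2 ^ 2 = 1
    rw [← zpow_natCast, ← _root_.zpow_mul, mul_comm, _root_.zpow_mul, zpow_natCast, hx4,
      _root_.one_zpow]
  have hN : zpowers j ≤ normalizer (zpowers i : Set SL(2, ZMod p)) := by
    rw [zpowers_le]
    refine mem_normalizer_fintype fun x hx => ?_
    obtain ⟨m, rfl⟩ := mem_zpowers_iff.1 hx
    show j * i ^ m * j⁻¹ ∈ zpowers i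
    rw [← conj_zpow, hji, mul_inv_cancel_right]
    exact zpow_mem (inv_mem (mem_zpowers i)) m
  refine ⟨zpowers j ⊔ zpowers i, IsPGroup.to_sup_of_normal_right' (h4 j hj4) (h4 i hi4) hN,
    fun hc => ?_⟩
  have h := congrArg Subtype.val
    (hc.is_comm.comm ⟨j, mem_sup_left (mem_zpowers j)⟩ ⟨i, mem_sup_right (mem_zpowers i)⟩)
  simp only [Subgroup.coe_mul] at h
  rw [hji] at h
  have h' : i⁻¹ = i := mul_right_cancel (h.trans rfl)
  have h1 : i ^ 2 = 1 := by rw [sq]; nth_rewrite 1 [← h']; exact inv_mul_cancel i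
  rw [hi4] at h1
  have h3 := congrFun (congrFun (congrArg
    (fun X : SL(2, ZMod p) => (X : Matrix (Fin 2) (Fin 2) (ZMod p))) h1) 0) 0
  simp at h3
  have h0 : ((2 : ℕ) : ZMod p) = 0 := by
    push_cast
    linear_combination -h3
  exact h2 ((Nat.prime_dvd_prime_iff_eq hp.out Nat.prime_two).1
    ((ZMod.natCast_eq_zero_iff _ _).1 h0))

theorem not_involves_SL2_of_abelian_sylow_two (h2 : p ≠ 2)
    (hab : ∀ T : Sylow 2 G, IsMulCommutative T) : ¬ Involves SL(2, ZMod p) G := fun h => by
  obtain ⟨D, hD, hn⟩ := exists_two_subgroup_nonabelian (p := p) h2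
  exact hn (commute_of_involves h hab D hD)

theorem not_isPSolvable_SL2 (h5 : 5 ≤ p) : ¬ IsPSolvable p SL(2, ZMod p) := by
  rintro ⟨n, H, h0, hl, -, hn, hi⟩
  suffices h : ∀ i : Fin (n + 1), H i = ⊤ by
    have h' : (1 : SL(2, ZMod p)) ≠ -1 := fun e => by
      have h1 := congrFun (congrFun (congrArg
        (fun X : SL(2, ZMod p) => (X : Matrix (Fin 2) (Fin 2) (ZMod p))) e) 0) 0
      simp at h1
      have h2 : ((2 : ℕ) : ZMod p) = 0 := by push_cast; linear_combination h1
      have := Nat.le_of_dvd two_pos ((ZMod.natCast_eq_zero_iff _ _).1 h2)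
      omega
    exact h' (mem_bot.1 ((h0.symm.trans (h 0)).ge (mem_top (-1 : SL(2, ZMod p))))).symm
  intro i
  induction i using Fin.reverseInduction with
  | last => exact hl
  | cast i ih =>
    have hrel := hi i
    rw [ih, relIndex_top_right] at hrel
    haveI := hn i.castSucc
    rcases hrel with ⟨m, hm⟩ | hm
    · haveI : Group.IsNilpotent (SL(2, ZMod p) ⧸ H i.castSucc) :=
        (IsPGroup.of_card (n := m) hm).isNilpotent
      have hc := congrArg (Subgroup.map (QuotientGroup.mk' (H i.castSucc)))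
        (QdRankTwo.commutator_SL_two h5)
      rw [_root_.commutator_def, Subgroup.map_commutator,
        map_top_of_surjective _ (QuotientGroup.mk'_surjective _), ← _root_.commutator_def] at hc
      refine eq_top_iff.2 fun x _ => (QuotientGroup.eq_one_iff _).1 ?_
      by_contra hne
      haveI : Nontrivial (SL(2, ZMod p) ⧸ H i.castSucc) := ⟨_, _, hne⟩
      exact (Group.IsSolvable.commutator_lt_top_of_nontrivial
        (SL(2, ZMod p) ⧸ H i.castSucc)).ne hc
    · refine eq_top_iff.2 fun x hx => ?_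
      have hgen : (⊤ : Subgroup SL(2, ZMod p)) ≤ H i.castSucc := by
        rw [← Cfsg.Lib.Linear.closure_transvection_eq_top, closure_le]
        rintro _ ⟨r, s, hrs, c, rfl⟩
        refine (QuotientGroup.eq_one_iff _).1 (orderOf_eq_one_iff.1 ?_)
        have hpow : Matrix.SpecialLinearGroup.transvection hrs c ^ p = 1 := by
          have h : ∀ k : ℕ, Matrix.SpecialLinearGroup.transvection hrs c ^ k =
              Matrix.SpecialLinearGroup.transvection hrs ((k : ZMod p) * c) := by
            intro k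
            induction k with
            | zero => apply Subtype.ext; simp
            | succ k ih => rw [pow_succ, ih, ← SpecialLinearGroup.transvection_add, Nat.cast_succ, add_mul, one_mul]
          rw [h, ZMod.natCast_self, zero_mul]
          apply Subtype.ext
          simp
        refine Nat.Coprime.eq_one_of_dvd ?_ ((orderOf_map_dvd (QuotientGroup.mk' (H i.castSucc)) _).trans
          (orderOf_dvd_of_pow_eq_one hpow))
        exact Nat.Coprime.coprime_dvd_left (orderOf_dvd_natCard _) hm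
      exact hgen trivial

theorem not_involves_SL2_of_isPSolvable (h5 : 5 ≤ p) (h : IsPSolvable p G) :
    ¬ Involves SL(2, ZMod p) G := fun hi => by
  obtain ⟨K, f, hf⟩ := involves_iff_exists_hom.1 hi
  exact not_isPSolvable_SL2 h5
    (Cfsg.Lib.Core.isPSolvable_of_surjective f hf (Cfsg.Lib.Core.isPSolvable_subgroup h K))

theorem not_involves_qd_of_not_involves_SL2 (h : ¬ Involves SL(2, ZMod p) G) : ¬ Involves (qd p) G :=
  fun hq => h (involves_SL2_of_qd hq)

/-- Without `SL₂(p)` sections the action is `p`-stable. -/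
theorem isActionPStable_of_not_involves_SL2 (h2 : p ≠ 2) (h : ¬ Involves SL(2, ZMod p) G) :
    IsActionPStable p G := by
  have hq := not_involves_qd_of_not_involves_SL2 h
  refine ⟨fun V _ hV => QdInvolved.isPStableOn_of_not_involves_qd h2 hq V
    (fun v => ⟨1, Subtype.ext (by rw [pow_one]; exact hV.2 _ v.2)⟩), ?_, fun S V _ hV => ?_⟩
  · intro a ha
    set N := (frattini ↥(pCore p G)).map (pCore p G).subtype
    set q := QuotientGroup.mk' N with hqdef
    have hqs : Function.Surjective q := QuotientGroup.mk'_surjective _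
    set W := (pCore p G).map q with hW
    haveI : W.Normal := Subgroup.Normal.map inferInstance q hqs
    have hqN : ¬ Involves (qd p) (G ⧸ N) := fun h' => hq (involves_of_surjective hqs h')
    have hst := QdInvolved.isPStableOn_of_not_involves_qd h2 hqN W
      ((Cfsg.Lib.Core.pCore_isPGroup p G).map q)
    have hquad : ⁅⁅W, zpowers (q a)⁆, zpowers (q a)⁆ = ⊥ := by
      rw [← MonoidHom.map_zpowers, hW, ← Subgroup.map_commutator, ← Subgroup.map_commutator,
        Subgroup.map_eq_bot_iff, hqdef, QuotientGroup.ker_mk']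
      exact ha
    set π : G →* (G ⧸ N) ⧸ centralizer (W : Set (G ⧸ N)) :=
      (QuotientGroup.mk' _).comp q with hπ
    have hπs : Function.Surjective π := (QuotientGroup.mk'_surjective _).comp hqs
    have hπk : π.ker = sectionKernel (pCore p G) N := by
      rw [hπ, ← MonoidHom.comap_ker, QuotientGroup.ker_mk']
      rfl
    refine ⟨(pCore p ((G ⧸ N) ⧸ centralizer (W : Set (G ⧸ N)))).comap π, inferInstance, ?_, ?_, hst _ hquad⟩
    · rw [← hπk, ← MonoidHom.comap_bot]; exact comap_mono bot_le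
    · obtain ⟨k, hk⟩ := IsPGroup.iff_card.1 (Cfsg.Lib.Core.pCore_isPGroup p
        ((G ⧸ N) ⧸ centralizer (W : Set (G ⧸ N))))
      refine ⟨k, ?_⟩
      rw [← hπk, ← MonoidHom.comap_bot, relIndex_comap, map_comap_eq_self_of_surjective hπs,
        relIndex_bot_left, hk]
  · have hqN : ¬ Involves (qd p) ↥(normalizer (thompsonSubgroupOf p (S : Subgroup G) : Set G)) :=
      fun h' => hq (involves_of_injective (Subgroup.subtype_injective _) h')
    refine QdInvolved.isPStableOn_of_not_involves_qd h2 hqN V ?_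
    refine ((S.isPGroup'.to_le (hV.trans (map_subtype_le _))).comap_of_injective _
      (Subgroup.subtype_injective _)).to_le fun v hv => ?_
    exact mem_map_of_mem _ hv

/-- A section of a subgroup is a section inside it. -/
theorem exists_section_le {A : Type} [Group A] {H : Subgroup G} (h : Involves A H) :
    ∃ (K L : Subgroup G) (_ : (L.subgroupOf K).Normal), K ≤ H ∧
      Nonempty ((K ⧸ L.subgroupOf K) ≃* A) := by
  obtain ⟨K₀, f, hf⟩ := involves_iff_exists_hom.1 h
  set K := K₀.map H.subtype with hK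
  let g : K →* A := f.comp (K₀.equivMapOfInjective H.subtype H.subtype_injective).symm.toMonoidHom
  have hg : Function.Surjective g := hf.comp (MulEquiv.surjective _)
  set L := g.ker.map K.subtype with hL
  have hLK : L.subgroupOf K = g.ker := comap_map_eq_self_of_injective K.subtype_injective _
  refine ⟨K, L, hLK ▸ inferInstance, map_subtype_le _, ⟨?_⟩⟩
  haveI : (L.subgroupOf K).Normal := hLK ▸ inferInstance
  exact (QuotientGroup.quotientMulEquivOfEq hLK).trans
    (QuotientGroup.quotientKerEquivOfSurjective g hg)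

/-- The form of `p`-stability for a quadratic subgroup. -/
theorem map_le_pCore (hst : IsNormalizerPStable p G) (P A : Subgroup G) (hP : IsPGroup p P)
    (hq : ⁅⁅P, A⁆, A⁆ = ⊥) :
    (A.subgroupOf (normalizer (P : Set G))).map
        (QuotientGroup.mk' ((centralizer (P : Set G)).subgroupOf (normalizer (P : Set G)))) ≤
      pCore p _ := by
  rintro _ ⟨a, ha, rfl⟩
  refine hst P hP (a : G) a.2 (le_bot_iff.1 ((commutator_mono (commutator_mono le_rfl ?_) ?_).trans hq.le))
  all_goals exact (zpowers_le).2 ha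

end Cfsg.Lib.Local.SL2Involved
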