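import Cfsg.Agent.Lib.FusionSys.GroupModel
import Cfsg.Agent.Lib.Local.DStar
import Cfsg.Agent.Lib.Local.Sylow
import Cfsg.Agent.Lib.Local.SL2Involved
import Cfsg.Agent.Lib.Local.StableQuotient
import Cfsg.Agent.Lib.Sig.KInfFusion
import Cfsg.Agent.S3060

/-!
# `D*(S)` is normal in the fusion system of a `p`-stable group

* `le_of_abelian`: an abelian `p`-subgroup normalized by a radical centric subgroup lies in it.
* `dStarOf_normalClosure`: `D*(S)` inside a normal abelian `p`-subgroup is normal.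
* `isNormal_dStarOf`: for odd `p`, `D*(S)` is normal in the fusion system of a `p`-stable group.
-/

set_option autoImplicit false
set_option linter.style.haveILetI false

universe u

namespace Cfsg.Lib.Local.DStarFusion

open Subgroup Cfsg Cfsg.FusionSystem Cfsg.Lib.FusionSys
open scoped commutatorElement

variable {p : ℕ} [hp : Fact p.Prime]

/-! ### The functor -/

theorem mem_dStarFamily_map {A B : Type*} [Group A] [Group B] (e : A ≃* B) {K : Subgroup A}
    (hK : K ∈ dStarFamily A) : K.map e.toMonoidHom ∈ dStarFamily B := by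
  obtain ⟨hab, hcl⟩ := hK
  refine ⟨⟨⟨?_⟩⟩, ?_⟩
  · rintro ⟨_, a, ha, rfl⟩ ⟨_, b, hb, rfl⟩
    apply Subtype.ext
    show e.toMonoidHom a * e.toMonoidHom b = e.toMonoidHom b * e.toMonoidHom a
    rw [← map_mul, ← map_mul]
    exact congrArg _ (congrArg Subtype.val (hab.is_comm.comm ⟨a, ha⟩ ⟨b, hb⟩))
  · intro y hy b hb
    obtain ⟨a, ha, rfl⟩ := hb
    obtain ⟨x, rfl⟩ := e.surjective y
    have h1 : (K ⊔ zpowers x).map e.toMonoidHom = K.map e.toMonoidHom ⊔ zpowers (e x) := by
      rw [Subgroup.map_sup, MonoidHom.map_zpowers]; rfl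
    have h2 := hcl x (Subgroup.map_injective (f := e.toMonoidHom) e.injective (by
      rw [Subgroup.map_commutator, Subgroup.map_commutator, h1, Subgroup.map_bot]; exact hy)) a ha
    show e a * e x = e x * e a
    rw [← map_mul, ← map_mul, h2]

theorem dStar_map {A B : Type*} [Group A] [Group B] (e : A ≃* B) :
    (dStar A).map e.toMonoidHom = dStar B := by
  refine le_antisymm ?_ ?_
  · rw [map_le_iff_le_comap]
    refine sSup_le fun K hK => ?_
    rw [← map_le_iff_le_comap]
    exact le_sSup (mem_dStarFamily_map e hK)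
  · refine sSup_le fun K hK => ?_
    have h : K.map e.symm.toMonoidHom ≤ dStar A := le_sSup (mem_dStarFamily_map e.symm hK)
    intro x hx
    exact ⟨e.symm x, h ⟨x, hx, rfl⟩, e.apply_symm_apply x⟩

variable {G : Type u} [Group G]

theorem dStarOf_le (U : Subgroup G) : dStarOf U ≤ U := map_subtype_le _

theorem dStarOf_map_injOn {H : Type*} [Group H] (f : G →* H) (U : Subgroup G)
    (hf : Set.InjOn f (U : Set G)) : dStarOf (U.map f) = (dStarOf U).map f := by
  let g : U →* U.map f := f.subgroupMap U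
  have hg : Function.Bijective g := by
    refine ⟨fun x y h => Subtype.ext (hf x.2 y.2 (congrArg Subtype.val h)), ?_⟩
    exact f.subgroupMap_surjective U
  let e : U ≃* U.map f := MulEquiv.ofBijective g hg
  unfold dStarOf
  rw [← dStar_map e, Subgroup.map_map, Subgroup.map_map]
  rfl

theorem normalizer_le_dStarOf (U : Subgroup G) :
    normalizer (U : Set G) ≤ normalizer (dStarOf U : Set G) := by
  intro g hg
  have hU : U.map (MulAut.conj g).toMonoidHom = U := by
    ext x
    constructor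
    · rintro ⟨y, hy, rfl⟩
      exact (mem_normalizer_iff.1 hg y).1 hy
    · intro hx
      exact ⟨g⁻¹ * x * g, (mem_normalizer_iff''.1 hg x).1 hx, by simp [mul_assoc]⟩
  have h := dStarOf_map_injOn (MulAut.conj g).toMonoidHom U (MulAut.conj g).injective.injOn
  rw [hU] at h
  refine mem_normalizer_iff.2 fun x => ⟨fun hx => h.ge ⟨x, hx, rfl⟩, fun hx => ?_⟩
  obtain ⟨y, hy, hye⟩ := h.le hx
  obtain rfl : y = x := (MulAut.conj g).injective hye
  exact hy

theorem dStarOf_comm [Finite G] {U : Subgroup G} (hU : IsPGroup p U) :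
    ∀ a ∈ dStarOf U, ∀ b ∈ dStarOf U, a * b = b * a := by
  rintro _ ⟨a, ha, rfl⟩ _ ⟨b, hb, rfl⟩
  exact congrArg (fun t : dStar U => ((t : U) : G))
    ((dStar_mem (S := U) hU).1.is_comm.comm ⟨a, ha⟩ ⟨b, hb⟩)

theorem dStarOf_mono [Finite G] {U V : Subgroup G} (hU : IsPGroup p U) (hVU : V ≤ U)
    (h : dStarOf U ≤ V) : dStarOf U ≤ dStarOf V := by
  set M := V.subgroupOf U with hM
  have hMV : M.map U.subtype = V := map_subgroupOf_eq_of_le hVU
  have hle : dStar U ≤ M := fun x hx => h ⟨x, hx, rfl⟩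
  have h1 : (dStar U).subgroupOf M ≤ dStar M := le_sSup (dStarFamily_subgroupOf (dStar_mem hU) hle)
  have h2 : dStar U ≤ dStarOf M := fun x hx => ⟨⟨x, hle hx⟩, h1 hx, rfl⟩
  have h3 := dStarOf_map_injOn U.subtype M U.subtype_injective.injOn
  rw [hMV] at h3
  rw [h3]
  exact map_mono h2

theorem centerOf_le_dStarOf {U : Subgroup G} {x : G} (hx : x ∈ U) (hc : ∀ u ∈ U, u * x = x * u) :
    x ∈ dStarOf U := by
  have hK : center U ∈ dStarFamily U :=
    ⟨inferInstance, fun y _ a ha => (mem_center_iff.1 ha y).symm⟩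
  exact ⟨⟨x, hx⟩, le_sSup hK (mem_center_iff.2 fun u => Subtype.ext (hc u u.2)), rfl⟩

theorem dStarOf_ne_bot [Finite G] {U : Subgroup G} (hU : IsPGroup p U) (hne : U ≠ ⊥) :
    dStarOf U ≠ ⊥ := by
  haveI : Nontrivial U := (nontrivial_iff_ne_bot U).2 hne
  haveI := hU.center_nontrivial
  obtain ⟨⟨z, hz⟩, hz1⟩ := exists_ne (1 : center U)
  intro h
  have := centerOf_le_dStarOf z.2 fun u hu => congrArg Subtype.val (mem_center_iff.1 hz ⟨u, hu⟩)
  rw [h, mem_bot] at this
  exact hz1 (Subtype.ext (Subtype.ext this))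

/-! ### Radical centric subgroups -/

variable [Finite G]

/-- An abelian `p`-subgroup normalized by a radical centric subgroup lies in it. -/
theorem le_of_abelian (hst : IsNormalizerPStable p G) (S : Sylow p G) {Q A : Subgroup G}
    (hc : (groupFusionSystem (S : Subgroup G)).IsCentric Q)
    (hr : (groupFusionSystem (S : Subgroup G)).IsRadical p Q) (hA : IsPGroup p A)
    (hab : ∀ a ∈ A, ∀ b ∈ A, a * b = b * a) (hQA : Q ≤ normalizer (A : Set G)) : A ≤ Q := by
  have hQS := hc.1
  have hQp : IsPGroup p Q := S.isPGroup'.to_le hQS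
  set U := A ⊔ Q with hU
  have hUp : IsPGroup p U := hA.to_sup_of_normal_left' hQp hQA
  -- the elements normalizing `Q`
  have hkey : A ⊓ normalizer (Q : Set G) ≤ Q := by
    rintro y ⟨hyA, hyN⟩
    have hquad : ⁅⁅Q, zpowers y⁆, zpowers y⁆ = ⊥ := by
      have h1 : ⁅Q, zpowers y⁆ ≤ A := by
        rw [commutator_le]
        intro q hq t ht
        have htA : t ∈ A := zpowers_le.2 hyA ht
        rw [commutatorElement_def]
        exact A.mul_mem ((mem_normalizer_iff.1 (hQA hq) t).1 htA) (A.inv_mem htA)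
      rw [eq_bot_iff]
      refine (commutator_mono h1 (zpowers_le.2 hyA)).trans ?_
      rw [commutator_le]
      intro a ha b hb
      rw [mem_bot, commutatorElement_eq_one_iff_mul_comm]
      exact hab a ha b hb
    have key := hst Q hQp y hyN hquad
    set F := groupFusionSystem (S : Subgroup G) with hF
    have haut := autGroup_groupFusionSystem (S : Subgroup G) hQS
    let f : ↥(normalizer (Q : Set G)) →* ↥(F.autGroup Q) :=
      Q.normalizerMonoidHom.codRestrict _ fun x => by
        rw [haut]; exact conjAut_mem_autInducedBy x.2 (mem_top _)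
    have hfs : Function.Surjective f := by
      rintro ⟨α, hα⟩
      obtain ⟨g, -, hg⟩ := mem_autInducedBy.1 (haut ▸ hα)
      exact ⟨⟨g, mem_normalizer_of_aut hg⟩, Subtype.ext (MulEquiv.ext fun x => Subtype.ext (hg x).symm)⟩
    set C := (centralizer (Q : Set G)).subgroupOf (normalizer (Q : Set G)) with hC
    let fb : ↥(normalizer (Q : Set G)) ⧸ C →* ↥(F.autGroup Q) := QuotientGroup.lift C f fun z hz => by
      refine MonoidHom.mem_ker.2 (Subtype.ext ?_)
      show Q.normalizerMonoidHom z = 1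
      rw [← MonoidHom.mem_ker, normalizerMonoidHom_ker]
      exact hz
    have hfb : Function.Surjective fb := fun a => by
      obtain ⟨z, rfl⟩ := hfs a
      exact ⟨QuotientGroup.mk z, rfl⟩
    have h1 : f ⟨y, hyN⟩ ∈ pCore p ↥(F.autGroup Q) :=
      Cfsg.Lib.Core.map_pCore_le fb hfb ⟨_, key, rfl⟩
    obtain ⟨q, hq⟩ := hr.2.le ⟨_, h1, rfl⟩
    -- a centralizing element of a `p`-subgroup containing `Q`
    set y' := (q : G)⁻¹ * y with hy'
    have hy'U : y' ∈ U := U.mul_mem (U.inv_mem (mem_sup_right q.2)) (mem_sup_left hyA)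
    have hy'c : ∀ x ∈ Q, x * y' = y' * x := fun x hx => by
      have h3 : (q : G) * x * (q : G)⁻¹ = y * x * y⁻¹ := by
        have h4 := congrArg (fun α : MulAut Q => ((α ⟨x, hx⟩ : Q) : G)) hq
        exact h4
      have h5 := eq_mul_inv_iff_mul_eq.1 h3
      rw [hy']
      calc x * ((q : G)⁻¹ * y) = (q : G)⁻¹ * ((q : G) * x * (q : G)⁻¹ * y) := by group
        _ = (q : G)⁻¹ * y * x := by rw [h5]; group
    obtain ⟨g, -, hconj, hUS⟩ := exists_conj_into (hTH := le_top) (pConjInto_sylow S) hQS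
      (le_sup_right : Q ≤ U) le_top hUp
    rw [← groupFusionSystem_eq] at hconj
    have h6 : MulAut.conj g y' ∈ centralizerIn (S : Subgroup G) (Q.map (MulAut.conj g).toMonoidHom) := by
      refine mem_centralizerIn.2 ⟨hUS ⟨y', hy'U, rfl⟩, ?_⟩
      rintro _ ⟨x, hx, rfl⟩
      show MulAut.conj g y' * MulAut.conj g x = MulAut.conj g x * MulAut.conj g y'
      rw [← map_mul, ← map_mul, hy'c x hx]
    obtain ⟨x, hx, hxe⟩ := hc.2 _ hconj h6
    obtain rfl : x = y' := (MulAut.conj g).injective hxe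
    have := Q.mul_mem q.2 hx
    rwa [hy', mul_inv_cancel_left] at this
  -- normalizers grow
  by_contra hne
  have hlt : Q < U := lt_of_le_of_ne le_sup_right fun h => hne (le_sup_left.trans h.ge)
  haveI := hUp.isNilpotent
  have hlt' := lt_normalizerIn (S := U) hUp hlt
  refine hlt'.not_ge fun x hx => ?_
  obtain ⟨a, ha, q, hq, rfl⟩ := Cfsg.Lib.Coprime.exists_mul_of_mem_sup hQA hx.1
  refine Q.mul_mem (hkey ⟨ha, ?_⟩) hq
  have h : a * q * q⁻¹ ∈ normalizer (Q : Set G) := mul_mem hx.2 (inv_mem (le_normalizer hq))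
  rwa [mul_inv_cancel_right] at h

/-- `D*(S)` inside a normal abelian `p`-subgroup is normal. -/
theorem dStarOf_normal_of_le (hst : IsNormalizerPStable p G) (S : Sylow p G) {R : Subgroup G}
    [R.Normal] (hR : IsPGroup p R) (hab : ∀ a ∈ R, ∀ b ∈ R, a * b = b * a)
    (hle : dStarOf (S : Subgroup G) ≤ R) : (dStarOf (S : Subgroup G)).Normal := by
  set D := dStarOf (S : Subgroup G) with hD
  set K := normalClosure (D : Set G) with hK
  haveI : K.Normal := normalClosure_normal
  have hKR : K ≤ R := normalClosure_le_normal hle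
  have hKp : IsPGroup p K := hR.to_le hKR
  have hKS : K ≤ (S : Subgroup G) := IsPGroup.le_sylow_of_normal hKp S
  suffices hKD : K ≤ D by
    rw [show D = K from le_antisymm le_normalClosure hKD]
    infer_instance
  suffices hfam : K.subgroupOf (S : Subgroup G) ∈ dStarFamily ↥(S : Subgroup G) from
    fun k hk => ⟨⟨k, hKS hk⟩, (le_sSup hfam : _ ≤ dStar ↥(S : Subgroup G)) hk, rfl⟩
  have hDS : D ≤ (S : Subgroup G) := dStarOf_le _
  -- the defining property of `D` read inside `G`
  have hDcl : ∀ x ∈ (S : Subgroup G), ⁅⁅D ⊔ zpowers x, D ⊔ zpowers x⁆, D ⊔ zpowers x⁆ = ⊥ →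
      ∀ d ∈ D, d * x = x * d := by
    rintro x hx hxc _ ⟨d, hd, rfl⟩
    have e : (dStar ↥(S : Subgroup G) ⊔ zpowers (⟨x, hx⟩ : ↥(S : Subgroup G))).map
        (S : Subgroup G).subtype = D ⊔ zpowers x := by
      rw [Subgroup.map_sup, MonoidHom.map_zpowers]; rfl
    refine congrArg Subtype.val ((dStar_mem S.isPGroup').2 ⟨x, hx⟩
      (Subgroup.map_injective (S : Subgroup G).subtype_injective ?_) d hd)
    rw [Subgroup.map_commutator, Subgroup.map_commutator, e, Subgroup.map_bot]
    exact hxc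
  refine ⟨⟨⟨fun a b => Subtype.ext (Subtype.ext (hab _ (hKR a.2) _ (hKR b.2)))⟩⟩, ?_⟩
  rintro ⟨x, hx⟩ hxc ⟨a, haS⟩ ha
  refine Subtype.ext ?_
  suffices hcx : K ≤ centralizer {x} from mem_centralizer_singleton_iff.1 (hcx ha)
  have hxcG : ⁅⁅K ⊔ zpowers x, K ⊔ zpowers x⁆, K ⊔ zpowers x⁆ = ⊥ := by
    have e : (K.subgroupOf (S : Subgroup G) ⊔ zpowers (⟨x, hx⟩ : ↥(S : Subgroup G))).map
        (S : Subgroup G).subtype = K ⊔ zpowers x := by
      rw [Subgroup.map_sup, MonoidHom.map_zpowers, map_subgroupOf_eq_of_le hKS]; rfl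
    have h := congrArg (Subgroup.map (S : Subgroup G).subtype) hxc
    rwa [Subgroup.map_commutator, Subgroup.map_commutator, e, Subgroup.map_bot] at h
  set N := normalizer (K : Set G) with hN
  have hNtop : ∀ g : G, g ∈ N := fun g => by rw [hN, normalizer_eq_top]; exact mem_top g
  set C := centralizer (K : Set G) with hC
  let f : G →* ↥N ⧸ C.subgroupOf N :=
    (QuotientGroup.mk' _).comp ((MonoidHom.id G).codRestrict N hNtop)
  set X := (pCore p (↥N ⧸ C.subgroupOf N)).comap f with hX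
  haveI hXn : X.Normal := inferInstanceAs ((pCore p (↥N ⧸ C.subgroupOf N)).comap f).Normal
  have hxX : x ∈ X := hst K hKp x (hNtop x) (le_bot_iff.1 ((commutator_mono
    (commutator_mono le_sup_left le_sup_right) le_sup_right).trans hxcG.le))
  have hXsup : X ≤ ((S : Subgroup G) ⊓ X) ⊔ C := by
    refine Cfsg.Lib.Local.le_inf_sup_of_pow_mem S fun z hz => ?_
    obtain ⟨k, hk⟩ := Cfsg.Lib.Core.pCore_isPGroup p (↥N ⧸ C.subgroupOf N) ⟨f z, hz⟩
    refine ⟨k, ?_⟩
    have h1 : f (z ^ p ^ k) = 1 := by rw [map_pow]; exact congrArg Subtype.val hk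
    exact (QuotientGroup.eq_one_iff (N := C.subgroupOf N) _).1 h1
  obtain ⟨T, hT⟩ := Cfsg.Lib.Local.exists_sylow_inf S X
  have hfr := Sylow.normalizer_sup_eq_top T
  rw [hT, subgroupOf_map_subtype] at hfr
  set M := normalizer (((S : Subgroup G) ⊓ X : Subgroup G) : Set G) with hM
  rw [hK, normalClosure, closure_le]
  intro y hy
  obtain ⟨d, hd, hdy⟩ := Group.mem_conjugatesOfSet_iff.mp hy
  obtain ⟨g, rfl⟩ := isConj_iff.mp hdy
  have hmem : g ∈ C ⊔ M := by
    have htop : (⊤ : Subgroup G) ≤ C ⊔ M := by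
      rw [← hfr]
      exact sup_le le_sup_right (hXsup.trans (sup_le (le_sup_of_le_right le_normalizer) le_sup_left))
    exact htop (mem_top g)
  obtain ⟨c, hcC, n, hn, rfl⟩ := mem_sup_of_normal_left.1 hmem
  have hdK : n * d * n⁻¹ ∈ K := normalClosure_normal.conj_mem d (le_normalClosure hd) n
  rw [show c * n * d * (c * n)⁻¹ = c * (n * d * n⁻¹) * c⁻¹ by group,
    ← mem_centralizer_iff.1 hcC _ hdK, mul_inv_cancel_right]
  have hx' : n⁻¹ * x * n ∈ (S : Subgroup G) := ((mem_normalizer_iff''.1 hn x).1 ⟨hx, hxX⟩).1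
  have h1 := hDcl (n⁻¹ * x * n) hx' (by
    have h2 := congrArg (Subgroup.map (MulAut.conj n⁻¹).toMonoidHom) hxcG
    rw [Subgroup.map_commutator, Subgroup.map_commutator, Subgroup.map_bot] at h2
    refine le_bot_iff.1 ((commutator_mono (commutator_mono ?_ ?_) ?_).trans h2.le)
    all_goals
      rw [Subgroup.map_sup, MonoidHom.map_zpowers]
      refine sup_le_sup (fun y hy => ⟨n * y * n⁻¹,
        normalClosure_normal.conj_mem y (le_normalClosure hy) n, by simp [mul_assoc]⟩) (le_of_eq ?_)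
      simp) d hd
  refine mem_centralizer_singleton_iff.2 ?_
  have h3 := congrArg (fun t => n * t * n⁻¹) h1
  simpa [mul_assoc] using h3

/-! ### The theorem -/

/-- Normality from invariance in the essential subgroups, knowing the maps on larger subgroups. -/
theorem isNormal_of_essential' {Ω : Type*} [Group Ω] {S : Subgroup Ω} [Finite S]
    {F : FusionSystem S} (hS : IsPGroup p S) (hF : F.IsSaturated p) {W : Subgroup Ω} (hWS : W ≤ S)
    (hWn : S ≤ normalizer (W : Set Ω))
    (h : ∀ P : Subgroup Ω, (P = S ∨ F.IsEssential p P) →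
      (∀ (T : Subgroup Ω), ∀ φ ∈ F.Hom T, Nat.card P < Nat.card T → W ≤ T →
        ∀ x : T, (x : Ω) ∈ W → φ x ∈ W) →
      W ≤ P ∧ ∀ α ∈ F.autGroup P, ∀ x : P, (x : Ω) ∈ W → ((α x : P) : Ω) ∈ W) :
    F.IsNormal W := by
  have hN : normalizerIn S W = S := le_antisymm (normalizerIn_le W) fun g hg => ⟨hg, hWn hg⟩
  obtain ⟨E₀, hE₀⟩ := exists_normalizerSystem F hWS
  obtain ⟨E, hE⟩ := exists_copy hN E₀
  haveI := finite_of_le hWS
  have hle : F ≤ E := le_of_autGroup_le' hS hF E fun P hP hbig α hα => by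
    have hPS : P ≤ S := by rcases hP with rfl | hP; exacts [le_rfl, hP.1.1]
    obtain ⟨hWP, hinv⟩ := h P hP fun T φ hφ hT hWT x hx => by
      have h1 := hbig T hT hφ
      rw [hE, hE₀] at h1
      obtain ⟨-, -, -, ψ, -, hψe, hψW⟩ := h1
      rw [← hψe x]
      exact hψW.le (mem_map_subgroupOf.2 ⟨_, mem_sup_left x.2, hx, rfl⟩)
    refine (mem_autGroup hPS).2 ?_
    show _ ∈ E.Hom P
    have hi := (mem_autGroup hPS).1 hα
    rw [hE, hE₀]
    refine ⟨hi, hN.symm ▸ hPS, fun x => hN.symm ▸ hom_mem hi x, ?_⟩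
    have hsup : P ⊔ W ≤ P := sup_le le_rfl hWP
    refine ⟨_, restrict_mem hi hsup, fun x => rfl, ?_⟩
    refine eq_of_le_of_card_ge ?_ (le_of_eq ?_)
    · intro y hy
      obtain ⟨x, hx, hxW, rfl⟩ := mem_map_subgroupOf.1 hy
      exact hinv α hα ⟨x, hsup hx⟩ hxW
    · rw [card_map_of_injective]
      · exact (Nat.card_congr (subgroupOfEquivOfLe (le_sup_right : W ≤ P ⊔ W)).toEquiv).symm
      · intro x y hxy
        exact Subtype.ext (congrArg (fun z : P => (z : Ω)) (α.injective (Subtype.ext hxy)) :)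
  refine ⟨hWS, fun P φ hφ => ?_⟩
  have h1 := hle P hφ
  rw [hE, hE₀] at h1
  exact h1.2.2.2

/-- The `D*`-subgroup of `N_S(Q)` is invariant in `N_G(Q)` for a fully normalized centric `Q`. -/
theorem dStarOf_invariant (h2 : p ≠ 2) (hst : IsNormalizerPStable p G) (S : Sylow p G)
    {Q : Subgroup G} (hQne : Q ≠ ⊥) (hn : (groupFusionSystem (S : Subgroup G)).IsFullyNormalized Q)
    (hc : (groupFusionSystem (S : Subgroup G)).IsCentric Q)
    (hr : (groupFusionSystem (S : Subgroup G)).IsRadical p Q) :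
    ∀ h ∈ normalizer (Q : Set G), ∀ x ∈ dStarOf (normalizerIn (S : Subgroup G) Q),
      h * x * h⁻¹ ∈ dStarOf (normalizerIn (S : Subgroup G) Q) := by
  intro h hh x hx
  set T := normalizerIn (S : Subgroup G) Q with hT
  have hTN : T ≤ normalizer (Q : Set G) := inf_le_right
  have hTp : IsPGroup p T := S.isPGroup'.to_le (normalizerIn_le Q)
  have hQT : Q ≤ T := le_normalizerIn hn.1
  set D := dStarOf T with hD
  have hDQ : D ≤ Q := le_of_abelian hst S hc hr (hTp.to_le (dStarOf_le T)) (dStarOf_comm hTp)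
    (hQT.trans (le_normalizer.trans (normalizer_le_dStarOf T)))
  obtain ⟨E, hE⟩ := exists_normalizerSystem (groupFusionSystem (S : Subgroup G)) hn.1
  set N := normalizer (Q : Set G) with hN
  set q := QuotientGroup.mk' (pPrimeCore p N) with hq
  obtain ⟨-, -, ⟨TL, hTL⟩, hcL⟩ := isModel_groupNormalizer S hn hc hE
  have hstN : IsNormalizerPStable p N :=
    Cfsg.Lib.Sig.isNormalizerPStable_of_injective N.subtype N.subtype_injective hst
  have hQn : (Q.subgroupOf N).Normal := normal_in_normalizer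
  have hIs : IsPStable p N := by
    refine ⟨hp.out.odd_of_ne_two h2, fun hbot => hQne ?_, fun A P _ hP _ _ _ hq =>
      SL2Involved.map_le_pCore hstN P A hP hq⟩
    have h1 : Q.subgroupOf N ≤ pCore p N := Cfsg.Lib.Core.le_pCore' hQn
      ((hTp.to_le hQT).of_equiv (subgroupOfEquivOfLe le_normalizer).symm)
    rw [hbot, le_bot_iff, subgroupOf_eq_bot] at h1
    exact disjoint_self.1 (h1.mono_right le_normalizer)
  have hnorm := Cfsg.Agent.S3060.result h2 hcL (fun V _ hV => StableQuotient.isPStableOn_quotient hIs V hV) TL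
  set D' := D.subgroupOf N with hD'
  have hTLe : (TL : Subgroup (N ⧸ pPrimeCore p N)) = (T.subgroupOf N).map q := by
    rw [hTL]
    ext z
    constructor
    · rintro ⟨t, rfl⟩
      exact ⟨_, t.2, rfl⟩
    · rintro ⟨t, ht, rfl⟩
      exact ⟨⟨t, ht⟩, rfl⟩
  have hinj : Set.InjOn q (T.subgroupOf N : Set N) := by
    intro a ha b hb hab
    have h1 : a⁻¹ * b ∈ T.subgroupOf N ⊓ pPrimeCore p N :=
      ⟨(T.subgroupOf N).mul_mem ((T.subgroupOf N).inv_mem ha) hb, QuotientGroup.eq.1 hab⟩
    have h3 := (Cfsg.Lib.Sig.disjoint_of_isPGroup_coprime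
      (hTp.of_equiv (subgroupOfEquivOfLe hTN).symm)
      (Cfsg.Lib.Core.pPrimeCore_coprime p N)).le h1
    exact inv_mul_eq_one.1 (mem_bot.1 h3)
  have hD'e : dStarOf (T.subgroupOf N) = D' := by
    refine map_injective N.subtype_injective ?_
    rw [← dStarOf_map_injOn N.subtype _ N.subtype_injective.injOn, map_subgroupOf_eq_of_le hTN, hD',
      map_subgroupOf_eq_of_le ((dStarOf_le T).trans hTN)]
  rw [hTLe, dStarOf_map_injOn q _ hinj, hD'e] at hnorm
  have hxN : x ∈ N := hTN (dStarOf_le T hx)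
  obtain ⟨r, hr', hre⟩ := hnorm.conj_mem (q ⟨x, hxN⟩) ⟨⟨x, hxN⟩, hx, rfl⟩ (q ⟨h, hh⟩)
  rw [← map_inv, ← map_mul, ← map_mul] at hre
  have hrQ : (r : G) ∈ Q := hDQ hr'
  have hxQ : h * x * h⁻¹ ∈ Q := (mem_normalizer_iff.1 hh x).1 (hDQ hx)
  have h3 := hinj (x₁ := r) (x₂ := ⟨h, hh⟩ * ⟨x, hxN⟩ * ⟨h, hh⟩⁻¹) (hQT hrQ) (hQT hxQ) hre
  have h4 : (r : G) = h * x * h⁻¹ := congrArg Subtype.val h3
  rw [← h4]
  exact hr'

theorem isNormal_dStarOf_aux : ∀ (n : ℕ) (G : Type u) [Group G] [Finite G], Nat.card G ≤ n → p ≠ 2 →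
    IsNormalizerPStable p G → ∀ S : Sylow p G,
      (groupFusionSystem (S : Subgroup G)).IsNormal (dStarOf (S : Subgroup G)) := by
  intro n
  induction n with
  | zero => intro G _ _ hn; exact absurd (Nat.card_pos (α := G)) (by omega)
  | succ n ih =>
  intro G _ _ hn h2 hst S
  set W := dStarOf (S : Subgroup G) with hW
  have hWS : W ≤ (S : Subgroup G) := dStarOf_le _
  have hSW : (S : Subgroup G) ≤ normalizer (W : Set G) := le_normalizer.trans (normalizer_le_dStarOf _)
  refine isNormal_of_essential' S.isPGroup' (isSaturated_groupFusionSystem S) hWS hSW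
    fun P hP hbig => ?_
  rcases hP with rfl | hP
  · refine ⟨hWS, fun α hα x hx => ?_⟩
    rw [autGroup_groupFusionSystem _ le_rfl] at hα
    obtain ⟨g, -, hg⟩ := mem_autInducedBy.1 hα
    rw [hg x]
    exact (mem_normalizer_iff.1 (normalizer_le_dStarOf _ (mem_normalizer_of_aut hg)) _).1 hx
  have hc := hP.1
  have hrad := isRadical_of_isEssential S.isPGroup' hP
  have hPS := hc.1
  have hWP : W ≤ P := le_of_abelian hst S hc hrad (S.isPGroup'.to_le hWS)
    (dStarOf_comm S.isPGroup') (hPS.trans hSW)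
  refine ⟨hWP, ?_⟩
  suffices hinv : ∀ h ∈ normalizer (P : Set G), ∀ x ∈ W, h * x * h⁻¹ ∈ W by
    intro α hα x hx
    rw [autGroup_groupFusionSystem _ hPS] at hα
    obtain ⟨g, -, hg⟩ := mem_autInducedBy.1 hα
    rw [hg x]
    exact hinv g (mem_normalizer_of_aut hg) _ hx
  by_cases hP0 : P = ⊥
  · subst hP0
    intro h _ x hx
    obtain rfl := mem_bot.1 (hWP hx)
    simp
  by_cases hne : P = (S : Subgroup G)
  · subst hne
    exact fun h hh x hx => (mem_normalizer_iff.1 (normalizer_le_dStarOf _ hh) x).1 hx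
  set T := normalizerIn (S : Subgroup G) P with hT
  have hPT : P ≤ T := le_normalizerIn hPS
  have hTS : T ≤ (S : Subgroup G) := normalizerIn_le P
  have hTgt : Nat.card P < Nat.card T := by
    have hlt : P < T := lt_normalizerIn S.isPGroup' (lt_of_le_of_ne hPS hne)
    exact Set.Finite.card_lt_card (Set.toFinite (T : Set G)) (SetLike.coe_ssubset_coe.2 hlt)
  -- the Sylow subgroups over `T` have the same `D*`
  have hsame : ∀ P' : Sylow p G, T ≤ (P' : Subgroup G) → dStarOf (P' : Subgroup G) = W := by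
    intro P' hTP'
    obtain ⟨g, hg⟩ := MulAction.exists_smul_eq G P' S
    have hmap : (P' : Subgroup G).map (MulAut.conj g).toMonoidHom = (S : Subgroup G) := by
      rw [← hg]; rfl
    have h1 := dStarOf_map_injOn (MulAut.conj g).toMonoidHom (P' : Subgroup G) (MulAut.conj g).injective.injOn
    rw [hmap] at h1
    have hfix : ∀ x ∈ W, g * x * g⁻¹ ∈ W := fun x hx =>
      hbig T (conjHom T g) ⟨hTS, fun t => hmap.le ⟨t, hTP' t.2, rfl⟩, g, fun t => rfl⟩ hTgt
        (hWP.trans hPT) ⟨x, hPT (hWP hx)⟩ hx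
    have h3 : W.map (MulAut.conj g).toMonoidHom = W :=
      eq_of_le_of_card_ge (by rintro _ ⟨x, hx, rfl⟩; exact hfix x hx)
        (card_map_of_injective (MulAut.conj g).injective).ge
    exact (Subgroup.map_injective (MulAut.conj g).injective (h3.trans h1)).symm
  have climb : ∀ (k : ℕ) (U : Subgroup G), IsPGroup p U → T ≤ U → Nat.card G ≤ Nat.card U + k →
      (∀ h ∈ normalizer (P : Set G), ∀ x ∈ dStarOf U, h * x * h⁻¹ ∈ dStarOf U) →
        ∀ h ∈ normalizer (P : Set G), ∀ x ∈ W, h * x * h⁻¹ ∈ W := by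
    intro k
    induction k with
    | zero =>
      intro U hU hTU hk hinv
      obtain ⟨P', hP'⟩ := hU.exists_le_sylow
      have hUeq : (P' : Subgroup G) = U := (eq_of_le_of_card_ge hP'
        ((card_le_card_group _).trans (by omega))).symm
      rw [← hsame P' (hTU.trans hP'), hUeq]
      exact hinv
    | succ k ihk =>
      intro U hU hTU hk hinv
      obtain ⟨P', hP'⟩ := hU.exists_le_sylow
      rcases eq_or_lt_of_le hP' with he | hlt
      · rw [← hsame P' (hTU.trans hP'), ← he]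
        exact hinv
      set R := dStarOf U with hR
      have hPN : normalizer (P : Set G) ≤ normalizer (R : Set G) := fun h hh =>
        mem_normalizer_fintype fun x hx => hinv h hh x hx
      by_cases hRn : normalizer (R : Set G) = ⊤
      · haveI : R.Normal := normalizer_eq_top_iff.1 hRn
        have hWR : W ≤ R := by
          have h1 := dStarOf_mono P'.isPGroup' hP' ((hsame P' (hTU.trans hP')).le.trans
            ((hWP.trans hPT).trans hTU))
          rwa [hsame P' (hTU.trans hP')] at h1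
        haveI := dStarOf_normal_of_le hst S (hU.to_le (dStarOf_le U)) (dStarOf_comm hU) hWR
        exact fun h _ x hx => Normal.conj_mem inferInstance x hx h
      set H := normalizer (R : Set G) with hH
      set U₁ := normalizerIn (P' : Subgroup G) U with hU₁
      have hUU₁ : U < U₁ := lt_normalizerIn P'.isPGroup' hlt
      have hU₁H : U₁ ≤ H := inf_le_right.trans (normalizer_le_dStarOf U)
      obtain ⟨Y, hY⟩ := ((P'.isPGroup'.to_le (normalizerIn_le U)).of_equiv
        (subgroupOfEquivOfLe hU₁H).symm).exists_le_sylow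
      set U₂ := (Y : Subgroup H).map H.subtype with hU₂
      have hU₁₂ : U₁ ≤ U₂ := fun x hx => ⟨⟨x, hU₁H hx⟩, hY hx, rfl⟩
      have hU₂p : IsPGroup p U₂ := Y.isPGroup'.map _
      have hTU₂ : T ≤ U₂ := hTU.trans (hUU₁.le.trans hU₁₂)
      have hcard : Nat.card H ≤ n := by
        have h1 : Nat.card H < Nat.card G :=
          lt_of_le_of_ne (card_le_card_group H) fun h => hRn (eq_top_of_card_eq H h)
        omega
      have hY' := ih ↥H hcard h2
        (Cfsg.Lib.Sig.isNormalizerPStable_of_injective H.subtype H.subtype_injective hst) Y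
      have hD₂ : dStarOf U₂ = (dStarOf (Y : Subgroup H)).map H.subtype :=
        dStarOf_map_injOn H.subtype _ H.subtype_injective.injOn
      have hD₂P : dStarOf U₂ ≤ P := le_of_abelian hst S hc hrad (hU₂p.to_le (dStarOf_le U₂))
        (dStarOf_comm hU₂p) ((hPT.trans hTU₂).trans (le_normalizer.trans (normalizer_le_dStarOf U₂)))
      refine ihk U₂ hU₂p hTU₂ ?_ fun h hh x hx => ?_
      · have h1 := Set.Finite.card_lt_card (Set.toFinite (U₁ : Set G)) (SetLike.coe_ssubset_coe.2 hUU₁)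
        replace h1 : Nat.card U < Nat.card U₁ := h1
        have h3 := Subgroup.card_le_of_le hU₁₂
        omega
      rw [hD₂] at hx ⊢
      obtain ⟨y, hy, rfl⟩ := hx
      have hyP : (y : G) ∈ P := hD₂P (hD₂.ge ⟨y, hy, rfl⟩)
      obtain ⟨z, hzY, hz⟩ := hTU₂ (hPT ((mem_normalizer_iff.1 hh (y : G)).1 hyP))
      obtain rfl : z = ⟨h, hPN hh⟩ * y * ⟨h, hPN hh⟩⁻¹ := Subtype.ext hz
      refine ⟨_, (isNormal_stronglyClosed hY').2 (zpowers y) (zpowers_le.2 hy)
        (conjHom (zpowers y) ⟨h, hPN hh⟩) ⟨zpowers_le.2 (dStarOf_le _ hy), ?_, ⟨h, hPN hh⟩, fun _ => rfl⟩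
        ⟨y, mem_zpowers y⟩, rfl⟩
      rintro ⟨w, hw⟩
      obtain ⟨i, rfl⟩ := mem_zpowers_iff.1 hw
      show (⟨h, hPN hh⟩ : H) * y ^ i * ⟨h, hPN hh⟩⁻¹ ∈ (Y : Subgroup H)
      rw [← conj_zpow]
      exact zpow_mem hzY i
  exact climb (Nat.card G) T (S.isPGroup'.to_le hTS) le_rfl (Nat.le_add_left _ _)
    (dStarOf_invariant h2 hst S hP0 hP.2.1 hc hrad)

/-- `D*(S)` is normal in the fusion system of a `p`-stable group, for odd `p`. -/
theorem isNormal_dStarOf (h2 : p ≠ 2) (hst : IsNormalizerPStable p G) (S : Sylow p G) :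
    (groupFusionSystem (S : Subgroup G)).IsNormal (dStarOf (S : Subgroup G)) :=
  isNormal_dStarOf_aux _ G le_rfl h2 hst S

end Cfsg.Lib.Local.DStarFusion
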