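import Mathlib
import Cfsg.Prelude.Def_PLocal
import Cfsg.Agent.Lib.Local.QdRankTwo

/-!
# The group `Qd(p)` as an extension of a group of order `p²` by `SL₂(p)`
-/

set_option autoImplicit false

namespace Cfsg.Lib.Local.QdGroup

open Cfsg Matrix
open scoped MatrixGroups

variable (p : ℕ) [hp : Fact p.Prime]

theorem row_two {M : SpecialLinearGroup (Fin 3) (ZMod p)} (h : M ∈ qd p) :
    (M : Matrix (Fin 3) (Fin 3) (ZMod p)) 2 0 = 0 ∧ (M : Matrix (Fin 3) (Fin 3) (ZMod p)) 2 1 = 0 ∧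
      (M : Matrix (Fin 3) (Fin 3) (ZMod p)) 2 2 = 1 := by
  induction h using Subgroup.closure_induction with
  | mem M hM => exact hM
  | one => simp
  | mul A B _ _ hA hB =>
    simp [SpecialLinearGroup.coe_mul, Matrix.mul_apply, Fin.sum_univ_three, hA.1, hA.2.1, hA.2.2,
      hB.1, hB.2.1, hB.2.2]
  | inv A _ hA =>
    have h : ∀ j, ((A⁻¹ : SpecialLinearGroup (Fin 3) (ZMod p)) : Matrix (Fin 3) (Fin 3) (ZMod p)) 2 j
        = (1 : Matrix (Fin 3) (Fin 3) (ZMod p)) 2 j := by
      intro j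
      have h1 := congrArg (fun X : SpecialLinearGroup (Fin 3) (ZMod p) =>
        (X : Matrix (Fin 3) (Fin 3) (ZMod p)) 2 j) (mul_inv_cancel A)
      simpa [-mul_inv_cancel, -SpecialLinearGroup.coe_inv, SpecialLinearGroup.coe_mul,
        SpecialLinearGroup.coe_one, Matrix.mul_apply, Fin.sum_univ_three, hA.1, hA.2.1, hA.2.2] using h1
    refine ⟨?_, ?_, ?_⟩ <;> rw [h] <;> simp

theorem det_block {M : SpecialLinearGroup (Fin 3) (ZMod p)} (h : M ∈ qd p) :
    (!![(M : Matrix (Fin 3) (Fin 3) (ZMod p)) 0 0, (M : Matrix (Fin 3) (Fin 3) (ZMod p)) 0 1;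
        (M : Matrix (Fin 3) (Fin 3) (ZMod p)) 1 0, (M : Matrix (Fin 3) (Fin 3) (ZMod p)) 1 1]).det = 1 := by
  obtain ⟨h0, h1, h2⟩ := row_two p h
  have hd := M.2
  rw [det_fin_three, h0, h1, h2] at hd
  rw [det_fin_two_of]
  linear_combination hd

/-- The upper left block. -/
def block : qd p →* SL(2, ZMod p) where
  toFun M := ⟨!![(M.1 : Matrix (Fin 3) (Fin 3) (ZMod p)) 0 0, (M.1 : Matrix (Fin 3) (Fin 3) (ZMod p)) 0 1;
        (M.1 : Matrix (Fin 3) (Fin 3) (ZMod p)) 1 0, (M.1 : Matrix (Fin 3) (Fin 3) (ZMod p)) 1 1],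
      det_block p M.2⟩
  map_one' := by
    apply Subtype.ext
    ext i j
    fin_cases i <;> fin_cases j <;> simp
  map_mul' A B := by
    apply Subtype.ext
    obtain ⟨h0, h1, h2⟩ := row_two p B.2
    change _ = (!![(A.1 : Matrix (Fin 3) (Fin 3) (ZMod p)) 0 0, (A.1 : Matrix (Fin 3) (Fin 3) (ZMod p)) 0 1;
        (A.1 : Matrix (Fin 3) (Fin 3) (ZMod p)) 1 0, (A.1 : Matrix (Fin 3) (Fin 3) (ZMod p)) 1 1] *
      !![(B.1 : Matrix (Fin 3) (Fin 3) (ZMod p)) 0 0, (B.1 : Matrix (Fin 3) (Fin 3) (ZMod p)) 0 1;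
        (B.1 : Matrix (Fin 3) (Fin 3) (ZMod p)) 1 0, (B.1 : Matrix (Fin 3) (Fin 3) (ZMod p)) 1 1])
    ext i j
    fin_cases i <;> fin_cases j <;>
      simp [SpecialLinearGroup.coe_mul, Matrix.mul_apply, Fin.sum_univ_three, Fin.sum_univ_two, h0, h1]

/-- The matrix `[A v; 0 1]`. -/
def affine (A : SL(2, ZMod p)) (v : ZMod p × ZMod p) : qd p :=
  ⟨⟨!![(A : Matrix (Fin 2) (Fin 2) (ZMod p)) 0 0, (A : Matrix (Fin 2) (Fin 2) (ZMod p)) 0 1, v.1;
      (A : Matrix (Fin 2) (Fin 2) (ZMod p)) 1 0, (A : Matrix (Fin 2) (Fin 2) (ZMod p)) 1 1, v.2;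
      0, 0, 1], by
      have hd := A.2
      rw [det_fin_two] at hd
      simp only [det_fin_three, Matrix.cons_val', Matrix.cons_val_zero, Matrix.cons_val_one,
        Matrix.cons_val, Matrix.of_apply]
      linear_combination hd⟩,
    Subgroup.subset_closure ⟨rfl, rfl, rfl⟩⟩

theorem block_coe (M : qd p) : (block p M : Matrix (Fin 2) (Fin 2) (ZMod p)) =
    !![(M.1 : Matrix (Fin 3) (Fin 3) (ZMod p)) 0 0, (M.1 : Matrix (Fin 3) (Fin 3) (ZMod p)) 0 1;
      (M.1 : Matrix (Fin 3) (Fin 3) (ZMod p)) 1 0, (M.1 : Matrix (Fin 3) (Fin 3) (ZMod p)) 1 1] := rfl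

theorem affine_coe (A : SL(2, ZMod p)) (v : ZMod p × ZMod p) :
    ((affine p A v).1 : Matrix (Fin 3) (Fin 3) (ZMod p)) =
    !![(A : Matrix (Fin 2) (Fin 2) (ZMod p)) 0 0, (A : Matrix (Fin 2) (Fin 2) (ZMod p)) 0 1, v.1;
      (A : Matrix (Fin 2) (Fin 2) (ZMod p)) 1 0, (A : Matrix (Fin 2) (Fin 2) (ZMod p)) 1 1, v.2;
      0, 0, 1] := rfl

theorem block_affine (A : SL(2, ZMod p)) (v : ZMod p × ZMod p) : block p (affine p A v) = A := by
  apply Subtype.ext
  ext i j
  fin_cases i <;> fin_cases j <;> simp [block_coe, affine_coe]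

theorem block_surjective : Function.Surjective (block p) := fun A => ⟨affine p A 0, block_affine p A 0⟩

theorem card_ker_block : Nat.card (block p).ker = p ^ 2 := by
  have e : (ZMod p × ZMod p) ≃ (block p).ker :=
    { toFun := fun v => ⟨affine p 1 v, block_affine p 1 v⟩
      invFun := fun M => ((M.1.1 : Matrix (Fin 3) (Fin 3) (ZMod p)) 0 2,
        (M.1.1 : Matrix (Fin 3) (Fin 3) (ZMod p)) 1 2)
      left_inv := fun v => by simp [affine_coe]
      right_inv := fun M => by
        apply Subtype.ext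
        apply Subtype.ext
        apply Subtype.ext
        obtain ⟨h0, h1, h2⟩ := row_two p M.1.2
        have hb := M.2
        rw [MonoidHom.mem_ker] at hb
        have hb' := congrArg (fun X : SL(2, ZMod p) => (X : Matrix (Fin 2) (Fin 2) (ZMod p))) hb
        have a00 := congrFun (congrFun hb' 0) 0
        have a01 := congrFun (congrFun hb' 0) 1
        have a10 := congrFun (congrFun hb' 1) 0
        have a11 := congrFun (congrFun hb' 1) 1
        simp [block_coe] at a00 a01 a10 a11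
        ext i j
        fin_cases i <;> fin_cases j <;> simp [affine_coe, h0, h1, h2, a00, a01, a10, a11] }
  rw [← Nat.card_congr e, Nat.card_prod, Nat.card_zmod, sq]

theorem affine_mul (A B : SL(2, ZMod p)) (v w : ZMod p × ZMod p) :
    affine p A v * affine p B w = affine p (A * B)
      ((A : Matrix (Fin 2) (Fin 2) (ZMod p)) 0 0 * w.1 + (A : Matrix (Fin 2) (Fin 2) (ZMod p)) 0 1 * w.2 + v.1,
       (A : Matrix (Fin 2) (Fin 2) (ZMod p)) 1 0 * w.1 + (A : Matrix (Fin 2) (Fin 2) (ZMod p)) 1 1 * w.2 + v.2) := by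
  apply Subtype.ext
  apply Subtype.ext
  ext i j
  fin_cases i <;> fin_cases j <;>
    simp [affine_coe, SpecialLinearGroup.coe_mul, Matrix.mul_apply, Fin.sum_univ_three, Fin.sum_univ_two]

theorem affine_one : affine p 1 0 = 1 := by
  apply Subtype.ext
  apply Subtype.ext
  ext i j
  fin_cases i <;> fin_cases j <;> simp [affine_coe]

/-- A finite group of `p`-rank at most two, `p ≥ 5`, mapping onto `Qd(p)` with `p`-group kernel,
is `Qd(p)`. -/
theorem ker_eq_bot {G : Type*} [Group G] [Finite G] (h5 : 5 ≤ p) (hr : PRankLE p 2 G)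
    (ψ : G →* qd p) (hψ : Function.Surjective ψ) (hker : IsPGroup p ψ.ker) : ψ.ker = ⊥ := by
  set neg : SL(2, ZMod p) := -1 with hneg
  have hcoe : (neg : Matrix (Fin 2) (Fin 2) (ZMod p)) = -1 := by rw [hneg]; simp
  set t0 : qd p := affine p neg 0 with ht0
  have ht0sq : t0 * t0 = 1 := by
    rw [ht0, affine_mul, ← affine_one p]
    congr 1
    · rw [hneg]; simp
    · simp [hcoe]
  obtain ⟨g, hg⟩ := hψ t0
  have hg2 : g * g ∈ ψ.ker := by rw [MonoidHom.mem_ker, map_mul, hg, ht0sq]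
  obtain ⟨k, hk⟩ := hker ⟨g * g, hg2⟩
  have hk' : (g * g) ^ p ^ k = 1 := congrArg Subtype.val hk
  obtain ⟨m, hm⟩ := (hp.out.odd_of_ne_two (by omega)).pow (n := k)
  set t := g ^ p ^ k with ht
  have htt : t * t = 1 := by rw [ht, ← (Commute.refl g).mul_pow, hk']
  have hψt : ψ t = t0 := by
    rw [ht, map_pow, hg, hm, pow_succ, pow_mul, sq, ht0sq, one_pow, one_mul]
  set φ : G →* SL(2, ZMod p) := (block p).comp ψ with hφ
  have hφker : φ.ker = (block p).ker.comap ψ := (MonoidHom.comap_ker _ _).symm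
  have hblk : IsPGroup p (block p).ker := IsPGroup.of_card (n := 2) (card_ker_block p)
  have hcentral : ∀ A : SL(2, ZMod p), A * neg = neg * A := fun A => by
    apply Subtype.ext
    simp [SpecialLinearGroup.coe_mul, hcoe]
  let S : QdRankTwo.Setup p G :=
    { φ := φ
      five := h5
      surj := (block_surjective p).comp hψ
      ker := by
        rw [hφker]
        exact hblk.comap_of_ker_isPGroup ψ hker
      rank := hr
      t := t
      tsq := htt
      tcomm := fun g => by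
        have hφt : φ t = neg := by
          rw [hφ, MonoidHom.comp_apply, hψt, ht0, block_affine]
        rw [MonoidHom.mem_ker, map_mul, map_mul, map_mul, map_inv, map_inv, hφt, hcentral]
        group
      tne := by
        obtain ⟨q, hq⟩ := hψ (affine p 1 (1, 0))
        refine ⟨q, ?_, fun h => ?_⟩
        · rw [MonoidHom.mem_ker, hφ, MonoidHom.comp_apply, hq, block_affine]
        · have h' := congrArg ψ h
          rw [map_mul, map_mul, hψt, hq, ht0, affine_mul, affine_mul] at h'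
          have h'' := congrArg (fun M : qd p => (M.1 : Matrix (Fin 3) (Fin 3) (ZMod p)) 0 2) h'
          simp [affine_coe, hcoe] at h''
          refine (QdRankTwo.two_facts (p := p) h5).1 ?_
          linear_combination -h'' }
  have hcard : Nat.card φ.ker = p ^ 2 := S.card_ker
  have hle : ψ.ker ≤ φ.ker := fun x hx => by
    rw [MonoidHom.mem_ker] at hx ⊢
    rw [hφ, MonoidHom.comp_apply, hx, map_one]
  have hsplit : Nat.card ψ.ker * Nat.card (block p).ker = Nat.card φ.ker := by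
    have h := (ψ.comp φ.ker.subtype).ker.card_mul_index
    rw [Subgroup.index_ker, MonoidHom.range_comp, Subgroup.range_subtype, ← MonoidHom.comap_ker ψ φ.ker.subtype] at h
    rw [Subgroup.comap_subtype, Nat.card_congr (Subgroup.subgroupOfEquivOfLe hle).toEquiv] at h
    rwa [hφker, Subgroup.map_comap_eq_self_of_surjective hψ, ← hφker] at h
  rw [card_ker_block, hcard] at hsplit
  exact Subgroup.eq_bot_of_card_eq _ (Nat.eq_of_mul_eq_mul_right (pow_pos hp.out.pos 2)
    (hsplit.trans (one_mul _).symm))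

end Cfsg.Lib.Local.QdGroup
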