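import Cfsg.Agent.Lib.Local.QuadraticPair
import Cfsg.Agent.Lib.Invol.BaerSuzuki
import Cfsg.Agent.Lib.FusionSys.GroupModelQd
import Cfsg.Agent.Lib.FusionSys.NormalizerModel
import Cfsg.Agent.Lib.Core.Cores
import Cfsg.Agent.Lib.Sig.KInfFusion
import Cfsg.Prelude.Def_LocalEven

/-!
# Failure of `p`-stability produces `Qd(p)`

* `involves_qd_of_irreducible`: the irreducible elementary abelian case.
* `involves_qd_of_quadratic_pair`: two quadratic elements inducing more than a `p`-group.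
* `involves_qd_of_not_isPStableOn`, `isPStableOn_of_not_involves_qd`,
  `isNormalizerPStable_of_not_involves_qd`.
-/

set_option autoImplicit false
set_option linter.style.haveILetI false
set_option linter.unusedSectionVars false

universe u

namespace Cfsg.Lib.Local.QdInvolved

open Subgroup Cfsg Cfsg.Lib.FusionSys Matrix
open scoped MatrixGroups commutatorElement

variable {G : Type u} [Group G] [Finite G] {p : ℕ} [hp : Fact p.Prime]

theorem involves_trans {A : Type} [Group A] {L M : Type u} [Group L] [Group M] (h : Involves A L)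
    (h' : Involves L M) : Involves A M := by
  obtain ⟨K, g, hg⟩ := involves_iff_exists_hom.1 h'
  exact involves_of_injective K.subtype_injective (involves_of_surjective hg h)

section Core

theorem coeM_mul (A B : SL(2, ZMod p)) : ((A * B : SL(2, ZMod p)) : Matrix (Fin 2) (Fin 2) (ZMod p)) =
    (A : Matrix (Fin 2) (Fin 2) (ZMod p)) * (B : Matrix (Fin 2) (Fin 2) (ZMod p)) := rfl

theorem coeM_one : ((1 : SL(2, ZMod p)) : Matrix (Fin 2) (Fin 2) (ZMod p)) = 1 := rfl

theorem coeM_neg_one : ((-1 : SL(2, ZMod p)) : Matrix (Fin 2) (Fin 2) (ZMod p)) = -1 := by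
  simp


/-- The irreducible case. -/
theorem involves_qd_of_irreducible (h2 : p ≠ 2) (W : Subgroup G) [W.Normal]
    (hWc : IsMulCommutative W) (hWp : ∀ w ∈ W, w ^ p = 1) (a b : G)
    (ha : ∀ w ∈ W, Commute a (a * w * a⁻¹ * w⁻¹)) (hb : ∀ w ∈ W, Commute b (b * w * b⁻¹ * w⁻¹))
    (hirr : ∀ K : Subgroup G, K ≤ W → (∀ k ∈ K, a * k * a⁻¹ ∈ K) → (∀ k ∈ K, b * k * b⁻¹ ∈ K) →
      K = ⊥ ∨ K = W)
    (hbad : ∃ x ∈ closure ({a, b} : Set G), ∀ k : ℕ, x ^ p ^ k ∉ centralizer (W : Set G)) :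
    Involves (qd p) G := by
  classical
  letI : CommGroup W := { (inferInstance : Group W) with mul_comm := hWc.is_comm.comm }
  have hW0 : ∀ w : Additive W, p • w = 0 := fun w => by
    rw [← ofMul_toMul w, ← ofMul_pow]
    exact congrArg Additive.ofMul (Subtype.ext (hWp _ (Additive.toMul w).2))
  haveI : Module (ZMod p) (Additive W) := AddCommGroup.zmodModule hW0
  haveI : Finite (Additive W) := inferInstanceAs (Finite W)
  let lin : G → (Additive W ≃ₗ[ZMod p] Additive W) := fun g =>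
    { (MulEquiv.toAdditive (MulAut.conjNormal g : MulAut W)) with
      map_smul' := fun c w => (ZMod.map_smul
        (MulEquiv.toAdditive (MulAut.conjNormal g : MulAut W)).toAddMonoidHom c w) }
  have hlin : ∀ (g : G) (w : Additive W), lin g w =
      Additive.ofMul ((MulAut.conjNormal g : MulAut W) (Additive.toMul w)) := fun g w => rfl
  let ρ : G →* (Additive W ≃ₗ[ZMod p] Additive W) :=
    { toFun := lin
      map_one' := LinearEquiv.ext fun w => by
        rw [hlin, map_one]; rfl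
      map_mul' := fun g h => LinearEquiv.ext fun w => by
        show lin (g * h) w = lin g (lin h w)
        rw [hlin, hlin, hlin, map_mul]; rfl }
  have hρ : ∀ (g : G) (w : Additive W),
      ((Additive.toMul (ρ g w) : W) : G) = g * ((Additive.toMul w : W) : G) * g⁻¹ := fun g w =>
    MulAut.conjNormal_apply g _
  have hquad : ∀ c : G, (∀ w ∈ W, Commute c (c * w * c⁻¹ * w⁻¹)) →
      ∀ w, ρ c (ρ c w - w) = ρ c w - w := by
    intro c hc w
    apply Additive.toMul.injective
    apply Subtype.ext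
    rw [hρ, sub_eq_add_neg, toMul_add, toMul_neg, Subgroup.coe_mul, Subgroup.coe_inv, hρ]
    exact mul_inv_eq_iff_eq_mul.2 (hc _ (Additive.toMul w).2).eq
  have hirrU : ∀ U : Submodule (ZMod p) (Additive W), (∀ u ∈ U, ρ a u ∈ U) →
      (∀ u ∈ U, ρ b u ∈ U) → U = ⊥ ∨ U = ⊤ := by
    intro U hUa hUb
    let K : Subgroup G :=
      { carrier := {g | ∃ hg : g ∈ W, Additive.ofMul (⟨g, hg⟩ : W) ∈ U}
        one_mem' := ⟨one_mem W, U.zero_mem⟩
        mul_mem' := fun ⟨h1, h1'⟩ ⟨h3, h3'⟩ => ⟨mul_mem h1 h3, U.add_mem h1' h3'⟩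
        inv_mem' := fun ⟨h1, h1'⟩ => ⟨inv_mem h1, U.neg_mem h1'⟩ }
    have hmem : ∀ w : Additive W, ((Additive.toMul w : W) : G) ∈ K ↔ w ∈ U := fun w =>
      ⟨fun ⟨_, h⟩ => h, fun h => ⟨(Additive.toMul w).2, h⟩⟩
    rcases hirr K (fun g hg => hg.1)
      (fun k ⟨hk, hk'⟩ => ⟨(inferInstance : W.Normal).conj_mem k hk a, by
        convert hUa _ hk' using 1
        exact Additive.toMul.injective (Subtype.ext (hρ a (Additive.ofMul (⟨k, hk⟩ : W))).symm)⟩)
      (fun k ⟨hk, hk'⟩ => ⟨(inferInstance : W.Normal).conj_mem k hk b, by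
        convert hUb _ hk' using 1
        exact Additive.toMul.injective (Subtype.ext (hρ b (Additive.ofMul (⟨k, hk⟩ : W))).symm)⟩)
      with h | h
    · left
      rw [Submodule.eq_bot_iff]
      intro w hw
      have h1 := (hmem w).2 hw
      rw [h, mem_bot] at h1
      exact Additive.toMul.injective (Subtype.ext h1)
    · right
      rw [Submodule.eq_top_iff']
      exact fun w => (hmem w).1 (h.ge (Additive.toMul w).2)
  have hXn : ¬ IsPGroup p (closure ({ρ a, ρ b} : Set (Additive W ≃ₗ[ZMod p] Additive W))) := by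
    intro hX
    obtain ⟨x, hx, hxk⟩ := hbad
    have hρx : ρ x ∈ closure ({ρ a, ρ b} : Set (Additive W ≃ₗ[ZMod p] Additive W)) := by
      rw [← Set.image_pair, ← MonoidHom.map_closure]
      exact mem_map_of_mem ρ hx
    obtain ⟨k, hk⟩ := hX ⟨ρ x, hρx⟩
    refine hxk k (mem_centralizer_iff.2 fun w hw => ?_)
    have h : ρ (x ^ p ^ k) = 1 := by rw [map_pow]; exact congrArg Subtype.val hk
    have h3 := hρ (x ^ p ^ k) (Additive.ofMul (⟨w, hw⟩ : W))
    rw [h] at h3
    exact eq_mul_inv_iff_mul_eq.1 h3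
  obtain ⟨θ, hθinj, hθ⟩ := QuadraticPair.exists_natural_plane (p := p) h2 (ρ a) (ρ b)
    (hquad a ha) (hquad b hb) hirrU hXn
  -- the stabilizer of the plane
  have hθext : ∀ A B : SL(2, ZMod p), (∀ v, θ ((A : Matrix (Fin 2) (Fin 2) (ZMod p)) *ᵥ v) =
      θ ((B : Matrix (Fin 2) (Fin 2) (ZMod p)) *ᵥ v)) → A = B := fun A B h =>
    Subtype.ext (Matrix.ext_of_mulVec_single fun i => hθinj (h (Pi.single i 1)))
  let Y : Subgroup G :=
    { carrier := {g | ∃ A : SL(2, ZMod p), ∀ v,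
        ρ g (θ v) = θ ((A : Matrix (Fin 2) (Fin 2) (ZMod p)) *ᵥ v)}
      one_mem' := ⟨1, fun v => by simp⟩
      mul_mem' := fun {g g'} ⟨A, hA⟩ ⟨B, hB⟩ => ⟨A * B, fun v => by
        rw [map_mul, coeM_mul, ← Matrix.mulVec_mulVec, ← hA, ← hB]
        rfl⟩
      inv_mem' := fun {g} ⟨A, hA⟩ => ⟨A⁻¹, fun v => by
        refine (ρ g).injective ?_
        rw [hA, Matrix.mulVec_mulVec, ← coeM_mul, mul_inv_cancel,
          coeM_one, Matrix.one_mulVec, map_inv]
        exact (ρ g).apply_symm_apply _⟩ }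
  have hπe : ∀ y : Y, ∃ A : SL(2, ZMod p), ∀ v,
      ρ y (θ v) = θ ((A : Matrix (Fin 2) (Fin 2) (ZMod p)) *ᵥ v) := fun y => y.2
  choose π₀ hπ₀ using hπe
  let π : Y →* SL(2, ZMod p) := MonoidHom.mk' π₀ fun y z => hθext _ _ fun v => by
    rw [← hπ₀, coeM_mul, ← Matrix.mulVec_mulVec, ← hπ₀, ← hπ₀, Subgroup.coe_mul,
      map_mul]
    rfl
  have hπ : ∀ (y : Y) v, ρ y (θ v) = θ ((π y : Matrix (Fin 2) (Fin 2) (ZMod p)) *ᵥ v) := hπ₀
  have hπs : Function.Surjective π := fun A => by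
    obtain ⟨g, hg, hgA⟩ := hθ A
    rw [← Set.image_pair, ← MonoidHom.map_closure] at hg
    obtain ⟨x, -, rfl⟩ := hg
    exact ⟨⟨x, A, hgA⟩, hθext _ _ fun v => by rw [← hπ, hgA]⟩
  -- a `2`-subgroup inducing `-1`
  set nI : SL(2, ZMod p) := -1 with hnI
  haveI : Fact (Nat.Prime 2) := ⟨Nat.prime_two⟩
  let S : Subgroup Y := (zpowers nI).comap π
  haveI : (zpowers nI).Normal := ⟨fun x hx g => by
    obtain ⟨m, rfl⟩ := mem_zpowers_iff.1 hx
    have hc : Commute g nI := Subtype.ext (by simp [hnI])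
    rw [(hc.zpow_right m).eq, mul_inv_cancel_right]
    exact zpow_mem (mem_zpowers nI) m⟩
  haveI : S.Normal := inferInstanceAs ((zpowers nI).comap π).Normal
  let f : S →* zpowers nI := π.subgroupComap (zpowers nI)
  have hf : Function.Surjective f := fun ⟨m, hm⟩ => by
    obtain ⟨y, hy⟩ := hπs m
    exact ⟨⟨y, show π y ∈ zpowers nI by rw [hy]; exact hm⟩, Subtype.ext hy⟩
  have hnI2 : IsPGroup 2 (zpowers nI) := fun ⟨m, hm⟩ => by
    obtain ⟨i, rfl⟩ := mem_zpowers_iff.1 hm
    refine ⟨1, Subtype.ext ?_⟩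
    show (nI ^ i) ^ 2 ^ 1 = 1
    rw [pow_one, ← zpow_natCast, ← _root_.zpow_mul, mul_comm, _root_.zpow_mul]
    simp [hnI]
  obtain ⟨T⟩ : Nonempty (Sylow 2 S) := inferInstance
  have hTtop := sylow_map_eq_top hf hnI2 T
  set N : Subgroup Y := normalizer (((T : Subgroup S).map S.subtype : Subgroup Y) : Set Y) with hN
  have hNT : ∀ m ∈ zpowers nI, ∃ t ∈ (T : Subgroup S).map S.subtype, π t = m := fun m hm => by
    obtain ⟨t, ht, hte⟩ := hTtop.ge (mem_top (⟨m, hm⟩ : zpowers nI))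
    exact ⟨t, mem_map_of_mem _ ht, congrArg Subtype.val hte⟩
  have hNπ : Function.Surjective (π.comp N.subtype) := fun A => by
    obtain ⟨y, rfl⟩ := hπs A
    have htop : (⊤ : Subgroup Y) = N ⊔ S := (Sylow.normalizer_sup_eq_top T).symm
    obtain ⟨n, hn, s, hs, rfl⟩ := mem_sup_of_normal_right.1 (htop.le (mem_top y))
    obtain ⟨t, ht, hts⟩ := hNT (π s) hs
    refine ⟨⟨n * t, N.mul_mem hn (le_normalizer ht)⟩, ?_⟩
    show π (n * t) = π (n * s)
    rw [map_mul, map_mul, hts]
  -- the plane as a subgroup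
  let ξ₁ : Multiplicative (Fin 2 → ZMod p) →* G :=
    { toFun := fun v => ((Additive.toMul (θ v.toAdd) : W) : G)
      map_one' := by simp
      map_mul' := fun v w => by simp }
  have hξ₁ : ∀ (y : Y) (v : Fin 2 → ZMod p), (y : G) * ξ₁ (Multiplicative.ofAdd v) * (y : G)⁻¹ =
      ξ₁ (Multiplicative.ofAdd ((π y : Matrix (Fin 2) (Fin 2) (ZMod p)) *ᵥ v)) := fun y v => by
    show _ = ((Additive.toMul (θ ((π y : Matrix (Fin 2) (Fin 2) (ZMod p)) *ᵥ v)) : W) : G)
    rw [← hπ, hρ]
    rfl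
  have hξY : ∀ v, ξ₁ v ∈ Y := fun v => ⟨1, fun w => by
    rw [coeM_one, Matrix.one_mulVec]
    apply Additive.toMul.injective
    apply Subtype.ext
    rw [hρ]
    exact mul_inv_eq_iff_eq_mul.2
      (congrArg Subtype.val (hWc.is_comm.comm (Additive.toMul (θ v.toAdd)) (Additive.toMul (θ w))))⟩
  -- the semidirect product
  let act : N →* MulAut (Multiplicative (Fin 2 → ZMod p)) :=
    { toFun := fun n => AddEquiv.toMultiplicative
        ((SpecialLinearGroup.toLin' (π n)).toAddEquiv)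
      map_one' := MulEquiv.ext fun v => by
        show Multiplicative.ofAdd ((π ((1 : N) : Y) : Matrix (Fin 2) (Fin 2) (ZMod p)) *ᵥ v.toAdd) = v
        rw [Subgroup.coe_one, map_one, coeM_one, Matrix.one_mulVec]
        rfl
      map_mul' := fun n m => MulEquiv.ext fun v => by
        show Multiplicative.ofAdd ((π ((n * m : N) : Y) : Matrix (Fin 2) (Fin 2) (ZMod p)) *ᵥ v.toAdd) =
          Multiplicative.ofAdd ((π n : Matrix (Fin 2) (Fin 2) (ZMod p)) *ᵥ
            ((π m : Matrix (Fin 2) (Fin 2) (ZMod p)) *ᵥ v.toAdd))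
        rw [Subgroup.coe_mul, map_mul, coeM_mul, Matrix.mulVec_mulVec] }
  let ξ : Multiplicative (Fin 2 → ZMod p) ⋊[act] N →* G :=
    SemidirectProduct.lift ξ₁ (Y.subtype.comp N.subtype) fun n => MonoidHom.ext fun v => by
      show ξ₁ (Multiplicative.ofAdd _) = ((n : Y) : G) * ξ₁ v * ((n : Y) : G)⁻¹
      exact (hξ₁ n v.toAdd).symm
  have hsep : ∀ (v : Multiplicative (Fin 2 → ZMod p)), (⟨ξ₁ v, hξY v⟩ : Y) ∈ N → v = 1 := by
    intro v hv
    obtain ⟨t, ht, htI⟩ := hNT nI (mem_zpowers nI)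
    set y : Y := ⟨ξ₁ v, hξY v⟩ with hy
    have hyt : y * t * y⁻¹ * t⁻¹ ∈ (T : Subgroup S).map S.subtype :=
      mul_mem ((mem_normalizer_iff.1 hv t).1 ht) (inv_mem ht)
    have hval : ((y * t * y⁻¹ * t⁻¹ : Y) : G) = ξ₁ (v * v) := by
      simp only [Subgroup.coe_mul, Subgroup.coe_inv, hy]
      rw [map_mul, show ξ₁ v * (t : G) * (ξ₁ v)⁻¹ * (t : G)⁻¹ =
        ξ₁ v * ((t : G) * ξ₁ (Multiplicative.ofAdd v.toAdd) * (t : G)⁻¹)⁻¹ by
          simp [mul_assoc], hξ₁, htI, hnI, coeM_neg_one,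
        Matrix.neg_mulVec, Matrix.one_mulVec, ← map_inv]
      congr 2
      exact congrArg Multiplicative.ofAdd (neg_neg _)
    obtain ⟨t₀, ht₀, ht₀e⟩ := hyt
    obtain ⟨i, hi⟩ := T.isPGroup' ⟨t₀, ht₀⟩
    have h1 : ξ₁ (v * v) ^ 2 ^ i = 1 := by
      rw [← hval, ← ht₀e, ← Subgroup.coe_pow, ← map_pow]
      exact congrArg (fun z : (T : Subgroup S) => (((z : S) : Y) : G)) hi
    have h3 : ξ₁ (v * v) ^ p = 1 := hWp _ (Additive.toMul (θ (v * v).toAdd)).2
    have h4 := pow_gcd_eq_one.2 ⟨h1, h3⟩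
    rw [(Nat.Coprime.pow_left i ((Nat.coprime_primes Nat.prime_two hp.out).2 h2.symm)).gcd_eq_one,
      pow_one] at h4
    have h5 : θ (v * v).toAdd = 0 := Additive.toMul.injective (Subtype.ext h4)
    have h6 : v.toAdd + v.toAdd = 0 := hθinj (h5.trans (map_zero θ).symm)
    have two : (2 : ZMod p) ≠ 0 := fun h0 => by
      have h0' : ((2 : ℕ) : ZMod p) = 0 := by exact_mod_cast h0
      exact h2 ((Nat.prime_dvd_prime_iff_eq hp.out Nat.prime_two).1
        ((ZMod.natCast_eq_zero_iff _ _).1 h0'))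
    exact Multiplicative.toAdd.injective (funext fun k => (mul_eq_zero.1
      (show (2 : ZMod p) * v.toAdd k = 0 by rw [two_mul]; exact congrFun h6 k)).resolve_left two)
  have hξinj : Function.Injective ξ := by
    rw [injective_iff_map_eq_one]
    rintro ⟨v, n⟩ h
    have h' : ξ₁ v * ((n : Y) : G) = 1 := h
    have hv : v = 1 := hsep v (by
      have he : (⟨ξ₁ v, hξY v⟩ : Y) = (n : Y)⁻¹ := Subtype.ext (eq_inv_of_mul_eq_one_left h')
      rw [he]
      exact inv_mem n.2)
    subst hv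
    rw [map_one, one_mul] at h'
    exact SemidirectProduct.ext rfl (Subtype.ext (Subtype.ext h'))
  let η₁ : Multiplicative (Fin 2 → ZMod p) →* qd p :=
    { toFun := fun v => QdGroup.affine p 1 (v.toAdd 0, v.toAdd 1)
      map_one' := QdGroup.affine_one p
      map_mul' := fun v w => by
        rw [QdGroup.affine_mul, one_mul]
        congr 1
        simp [add_comm] }
  let η : Multiplicative (Fin 2 → ZMod p) ⋊[act] N →* qd p :=
    SemidirectProduct.lift η₁ ((linearPart p).comp (π.comp N.subtype)) fun n =>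
      MonoidHom.ext fun v => by
        show QdGroup.affine p 1 _ = linearPart p (π n) * QdGroup.affine p 1 _ * (linearPart p (π n))⁻¹
        rw [eq_mul_inv_iff_mul_eq]
        show QdGroup.affine p 1 _ * QdGroup.affine p (π n) 0 =
          QdGroup.affine p (π n) 0 * QdGroup.affine p 1 _
        rw [QdGroup.affine_mul, QdGroup.affine_mul, one_mul, mul_one]
        congr 1
        simp [act, SpecialLinearGroup.toLin'_apply, Matrix.mulVec, dotProduct, Fin.sum_univ_two]
  have hηs : Function.Surjective η := by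
    intro M
    obtain ⟨n, hn⟩ := hNπ (QdGroup.block p M)
    obtain ⟨h0, h1, h3⟩ := QdGroup.row_two p M.2
    refine ⟨⟨Multiplicative.ofAdd ![(M.1 : Matrix (Fin 3) (Fin 3) (ZMod p)) 0 2,
      (M.1 : Matrix (Fin 3) (Fin 3) (ZMod p)) 1 2], n⟩, ?_⟩
    show QdGroup.affine p 1 _ * linearPart p ((π.comp N.subtype) n) = M
    rw [hn]
    show QdGroup.affine p 1 _ * QdGroup.affine p _ 0 = M
    rw [QdGroup.affine_mul, one_mul]
    apply Subtype.ext
    apply Subtype.ext
    ext i j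
    fin_cases i <;> fin_cases j <;> simp [QdGroup.affine_coe, QdGroup.block_coe, h0, h1, h3]
  exact involves_of_injective (f := ξ) hξinj
    (involves_iff_exists_hom.2 ⟨⊤, η.comp Subgroup.topEquiv.toMonoidHom,
      hηs.comp (fun x => ⟨⟨x, mem_top x⟩, rfl⟩)⟩)

end Core

theorem quadratic_commute {V : Subgroup G} {a : G}
    (h : ⁅⁅V, zpowers a⁆, zpowers a⁆ = ⊥) : ∀ v ∈ V, Commute a (a * v * a⁻¹ * v⁻¹) := by
  intro v hv
  rw [commutator_eq_bot_iff_le_centralizer] at h
  have h1 := inv_mem (h (commutator_mem_commutator hv (mem_zpowers a)))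
  have he : ⁅v, a⁆⁻¹ = a * v * a⁻¹ * v⁻¹ := by rw [commutatorElement_def]; group
  rw [he] at h1
  exact mem_centralizer_iff.1 h1 a (mem_zpowers a)

theorem pow_conj_of_commute {a v c : G} (hc : c = a * v * a⁻¹ * v⁻¹) (h : Commute a c) (n : ℕ) :
    a ^ n * v * (a ^ n)⁻¹ = c ^ n * v := by
  induction n with
  | zero => simp
  | succ n ih =>
    calc a ^ (n + 1) * v * (a ^ (n + 1))⁻¹ = a * (a ^ n * v * (a ^ n)⁻¹) * a⁻¹ := by
          rw [pow_succ']; group
      _ = (a * c ^ n * a⁻¹) * (a * v * a⁻¹) := by rw [ih]; group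
      _ = c ^ n * (c * v) := by
          rw [(h.pow_right n).eq, mul_inv_cancel_right, hc]; group
      _ = c ^ (n + 1) * v := by rw [pow_succ]; group

/-- Two quadratic elements inducing more than a `p`-group give `Qd(p)`. -/
theorem involves_qd_of_quadratic_pair (h2 : p ≠ 2) (V : Subgroup G) (hV : IsPGroup p V) (a b : G)
    (haN : a ∈ normalizer (V : Set G)) (hbN : b ∈ normalizer (V : Set G))
    (ha : ∀ v ∈ V, Commute a (a * v * a⁻¹ * v⁻¹)) (hb : ∀ v ∈ V, Commute b (b * v * b⁻¹ * v⁻¹))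
    (hbad : ∃ x ∈ closure ({a, b} : Set G), ∀ k : ℕ, x ^ p ^ k ∉ centralizer (V : Set G)) :
    Involves (qd p) G := by
  revert hV haN hbN ha hb hbad
  induction V using WellFoundedLT.induction with
  | ind V ih =>
  intro hV haN hbN ha hb hbad
  have hV0 : V ≠ ⊥ := by
    rintro rfl
    obtain ⟨x, -, hx⟩ := hbad
    exact hx 0 (mem_centralizer_iff.2 fun y hy => by rw [mem_bot.1 hy, one_mul, mul_one])
  obtain ⟨N, ⟨hNlt, hNV, haNN, hbNN⟩, hmax⟩ := (Set.toFinite {K : Subgroup G | K < V ∧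
      V ≤ normalizer (K : Set G) ∧ a ∈ normalizer (K : Set G) ∧
      b ∈ normalizer (K : Set G)}).exists_maximal
    ⟨⊥, bot_lt_iff_ne_bot.2 hV0, by
      rw [normalizer_eq_top_iff.2 (inferInstance : (⊥ : Subgroup G).Normal)]; simp⟩
  by_cases hbN' : ∃ x ∈ closure ({a, b} : Set G), ∀ k : ℕ, x ^ p ^ k ∉ centralizer (N : Set G)
  · exact ih N hNlt (hV.to_le hNlt.le) haNN hbNN (fun v hv => ha v (hNlt.le hv))
      (fun v hv => hb v (hNlt.le hv)) hbN'
  push Not at hbN'
  -- the section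
  set M := normalizer (V : Set G) ⊓ normalizer (N : Set G) with hM
  have hVM : V ≤ M := le_inf le_normalizer hNV
  haveI : (N.subgroupOf M).Normal := ⟨fun x hx g => (mem_normalizer_iff.1 g.2.2 (x : G)).1 hx⟩
  set q := QuotientGroup.mk' (N.subgroupOf M) with hq
  have hqs : Function.Surjective q := QuotientGroup.mk'_surjective _
  haveI : (V.subgroupOf M).Normal := ⟨fun x hx g => (mem_normalizer_iff.1 g.2.1 (x : G)).1 hx⟩
  set W := (V.subgroupOf M).map q with hW
  haveI hWn : W.Normal := Subgroup.Normal.map inferInstance q hqs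
  have hWp : IsPGroup p W := (hV.of_equiv (subgroupOfEquivOfLe hVM).symm).map q
  let a' : M := ⟨a, haN, haNN⟩
  let b' : M := ⟨b, hbN, hbNN⟩
  -- normal subgroups of the section below `W`
  have hcorr : ∀ K : Subgroup (M ⧸ N.subgroupOf M), K ≤ W →
      (∀ k ∈ K, q a' * k * (q a')⁻¹ ∈ K) → (∀ k ∈ K, q b' * k * (q b')⁻¹ ∈ K) →
      (∀ v ∈ W, ∀ k ∈ K, v * k * v⁻¹ ∈ K) → K = ⊥ ∨ K = W := by
    intro K hKW hKa hKb hKW'
    set K₀ := (K.comap q).map M.subtype with hK₀
    have hmem : ∀ m : M, (m : G) ∈ K₀ ↔ q m ∈ K := fun m => by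
      rw [hK₀]
      exact mem_map_iff_mem M.subtype_injective
    have hK₀V : K₀ ≤ V := by
      rintro _ ⟨m, hm, rfl⟩
      obtain ⟨v, hv, hve⟩ := hKW hm
      have h1 : v⁻¹ * m ∈ N.subgroupOf M := QuotientGroup.eq.1 hve
      have h3 : (v : G)⁻¹ * (m : G) ∈ V := hNlt.le h1
      show (m : G) ∈ V
      have := V.mul_mem hv h3
      change (v : G) * ((v : G)⁻¹ * (m : G)) ∈ V at this
      rwa [mul_inv_cancel_left] at this
    have hNK₀ : N ≤ K₀ := fun n hn => by
      refine (hmem ⟨n, hVM (hNlt.le hn)⟩).2 ?_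
      rw [show q ⟨n, hVM (hNlt.le hn)⟩ = 1 from (QuotientGroup.eq_one_iff _).2 hn]
      exact one_mem K
    have hnorm : ∀ c : M, (∀ k ∈ K, q c * k * (q c)⁻¹ ∈ K) →
        (c : G) ∈ normalizer (K₀ : Set G) := fun c hc =>
      mem_normalizer_fintype fun x hx => by
        obtain ⟨m, hm, rfl⟩ := hx
        show (c : G) * (m : G) * (c : G)⁻¹ ∈ K₀
        have := hc _ hm
        rw [← map_inv, ← map_mul, ← map_mul, ← hmem] at this
        exact this
    rcases eq_or_lt_of_le hK₀V with he | hlt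
    · right
      refine le_antisymm hKW ?_
      rintro _ ⟨m, hm, rfl⟩
      exact (hmem m).1 (he.ge hm)
    · left
      have hle : K₀ ≤ N := hmax ⟨hlt, fun v hv => hnorm ⟨v, hVM hv⟩
        (hKW' _ ⟨⟨v, hVM hv⟩, hv, rfl⟩), hnorm a' hKa, hnorm b' hKb⟩ hNK₀
      refine (Subgroup.eq_bot_iff_forall _).2 fun k hk => ?_
      obtain ⟨m, rfl⟩ := hqs k
      exact (QuotientGroup.eq_one_iff _).2 (hle ((hmem m).2 hk))
  have hWne : W ≠ ⊥ := by
    intro h
    refine hNlt.not_ge fun v hv => ?_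
    have h1 : q ⟨v, hVM hv⟩ ∈ W := ⟨⟨v, hVM hv⟩, hv, rfl⟩
    rw [h, mem_bot] at h1
    exact (QuotientGroup.eq_one_iff (N := N.subgroupOf M) (⟨v, hVM hv⟩ : M)).1 h1
  have hWc : IsMulCommutative W := by
    haveI : Nontrivial W := (nontrivial_iff_ne_bot W).2 hWne
    haveI : Group.IsSolvable W := by
      haveI := hWp.isNilpotent
      infer_instance
    rcases hcorr ⁅W, W⁆ (commutator_le_self W)
      (fun k hk => (inferInstance : (⁅W, W⁆).Normal).conj_mem k hk _)
      (fun k hk => (inferInstance : (⁅W, W⁆).Normal).conj_mem k hk _)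
      (fun v _ k hk => (inferInstance : (⁅W, W⁆).Normal).conj_mem k hk _) with h | h
    · refine ⟨⟨fun x y => Subtype.ext ?_⟩⟩
      rw [commutator_eq_bot_iff_le_centralizer] at h
      exact (mem_centralizer_iff.1 (h x.2) y y.2).symm
    · exfalso
      refine (Group.IsSolvable.commutator_lt_top_of_nontrivial W).ne (map_injective W.subtype_injective ?_)
      rw [map_subtype_commutator, h, ← MonoidHom.range_eq_map, range_subtype]
  have hWe : ∀ w ∈ W, w ^ p = 1 := by
    letI : CommGroup W := { (inferInstance : Group W) with mul_comm := hWc.is_comm.comm }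
    let D : Subgroup (M ⧸ N.subgroupOf M) := ((powMonoidHom p : W →* W).range).map W.subtype
    have hD : ∀ g k, k ∈ D → g * k * g⁻¹ ∈ D := by
      rintro g _ ⟨_, ⟨w, rfl⟩, rfl⟩
      refine ⟨_, ⟨⟨g * w * g⁻¹, hWn.conj_mem w w.2 g⟩, rfl⟩, ?_⟩
      show (g * (w : M ⧸ N.subgroupOf M) * g⁻¹) ^ p = g * ((w : M ⧸ N.subgroupOf M) ^ p) * g⁻¹
      exact conj_pow
    rcases hcorr D (map_subtype_le _) (fun k hk => hD _ k hk) (fun k hk => hD _ k hk)
      (fun v _ k hk => hD v k hk) with h | h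
    · intro w hw
      have h1 : w ^ p ∈ D := ⟨_, ⟨⟨w, hw⟩, rfl⟩, rfl⟩
      rwa [h, mem_bot] at h1
    · exfalso
      have hsur : Function.Surjective (powMonoidHom p : W →* W) := fun w => by
        obtain ⟨v, hv, hve⟩ := h.ge w.2
        obtain rfl : v = w := Subtype.ext hve
        exact hv
      haveI : Nontrivial W := (nontrivial_iff_ne_bot W).2 hWne
      obtain ⟨j, hj0, hj⟩ := hWp.nontrivial_iff_card.1 inferInstance
      obtain ⟨w, hw⟩ := exists_prime_orderOf_dvd_card' (G := W) p (hj ▸ dvd_pow_self p (by omega))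
      have hinj := Finite.injective_iff_surjective.2 hsur
      have h1 : w = 1 := hinj (by
        show w ^ p = 1 ^ p
        rw [one_pow, ← hw, pow_orderOf_eq_one])
      rw [h1, orderOf_one] at hw
      exact hp.out.one_lt.ne hw
  refine involves_of_injective M.subtype_injective (involves_of_surjective hqs
    (involves_qd_of_irreducible h2 W hWc hWe (q a') (q b') ?_ ?_ ?_ ?_))
  · rintro _ ⟨v, hv, rfl⟩
    have h : Commute a' (a' * v * a'⁻¹ * v⁻¹) := Subtype.ext (ha v hv).eq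
    simpa using h.map q
  · rintro _ ⟨v, hv, rfl⟩
    have h : Commute b' (b' * v * b'⁻¹ * v⁻¹) := Subtype.ext (hb v hv).eq
    simpa using h.map q
  · intro K hK h1 h3
    refine hcorr K hK h1 h3 fun v hv k hk => ?_
    have h := congrArg Subtype.val (hWc.is_comm.comm ⟨v, hv⟩ ⟨k, hK hk⟩)
    rw [show v * k = k * v from h, mul_inv_cancel_right]
    exact hk
  · obtain ⟨x, hx, hxk⟩ := hbad
    have hxM : x ∈ M := (closure_le (K := M)).2 (by
      rintro g (rfl | rfl)
      exacts [⟨haN, haNN⟩, ⟨hbN, hbNN⟩]) hx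
    obtain ⟨k₀, hk₀⟩ := hbN' x hx
    refine ⟨q ⟨x, hxM⟩, ?_, fun k hk => ?_⟩
    · rw [← Set.image_pair, ← MonoidHom.map_closure]
      refine mem_map_of_mem q ?_
      have h : (closure ({a', b'} : Set M)).map M.subtype = closure ({a, b} : Set G) := by
        rw [MonoidHom.map_closure, Set.image_pair]; rfl
      exact (mem_map_iff_mem M.subtype_injective).1 (h.ge hx)
    -- stabilising `N` and `V / N`
    set z := x ^ p ^ (k₀ + k) with hz
    have hzN : z ∈ centralizer (N : Set G) := by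
      rw [hz, pow_add, pow_mul]
      exact pow_mem hk₀ _
    obtain ⟨c, hc⟩ := IsPGroup.iff_card.1 hV
    refine hxk (k₀ + k + c) (mem_centralizer_iff.2 fun v hv => ?_)
    set n := z * v * z⁻¹ * v⁻¹ with hn
    have hnN : n ∈ N := by
      have hxV := hk
      rw [← map_pow] at hxV
      have h1 : q ((⟨x, hxM⟩ : M) ^ p ^ (k + k₀)) ∈ centralizer (W : Set _) := by
        rw [pow_add, pow_mul, map_pow]
        exact pow_mem hxV _
      have h3 := mem_centralizer_iff.1 h1 (q ⟨v, hVM hv⟩) ⟨⟨v, hVM hv⟩, hv, rfl⟩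
      rw [← map_mul, ← map_mul] at h3
      have h4 := QuotientGroup.eq.1 h3.symm
      have hzv : (z : G) * v * z⁻¹ * v⁻¹ ∈ N := by
        have h5 : ((x ^ p ^ (k + k₀) * v)⁻¹ * (v * x ^ p ^ (k + k₀)) : G) ∈ N := h4
        rw [add_comm k k₀, ← hz] at h5
        have h6 := (mem_normalizer_iff.1 (show z * v ∈ normalizer (N : Set G) from
          mul_mem (by rw [hz]; exact pow_mem hxM.2 _) (hNV hv)) _).1 (inv_mem h5)
        simpa [mul_assoc] using h6
      exact hzv
    have h := pow_conj_of_commute hn (mem_centralizer_iff.1 hzN n hnN).symm (p ^ c)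
    have hn1 : n ^ p ^ c = 1 := by
      rw [← hc]
      exact congrArg Subtype.val (pow_card_eq_one' (x := (⟨n, hNlt.le hnN⟩ : V)))
    rw [hn1, one_mul, hz, ← pow_mul, ← pow_add] at h
    exact (mul_inv_eq_iff_eq_mul.1 h).symm

/-- Failure of `p`-stability on a normal `p`-subgroup gives `Qd(p)`. -/
theorem involves_qd_of_not_isPStableOn (h2 : p ≠ 2) (V : Subgroup G) [V.Normal] (hV : IsPGroup p V)
    (h : ¬ IsPStableOn p V) : Involves (qd p) G := by
  obtain ⟨a, ha, hna⟩ : ∃ a, ⁅⁅V, zpowers a⁆, zpowers a⁆ = ⊥ ∧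
      (QuotientGroup.mk a : G ⧸ centralizer (V : Set G)) ∉ pCore p (G ⧸ centralizer (V : Set G)) := by
    simp only [IsPStableOn] at h
    push Not at h
    exact h
  have haq := quadratic_commute ha
  set q := QuotientGroup.mk' (centralizer (V : Set G)) with hq
  have hap : IsPGroup p (zpowers (q a)) := by
    obtain ⟨c, hc⟩ := IsPGroup.iff_card.1 hV
    have hker : a ^ p ^ c ∈ centralizer (V : Set G) := mem_centralizer_iff.2 fun v hv => by
      have h1 := pow_conj_of_commute (c := a * v * a⁻¹ * v⁻¹) rfl (haq v hv) (p ^ c)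
      have hcV : a * v * a⁻¹ * v⁻¹ ∈ V :=
        V.mul_mem ((inferInstance : V.Normal).conj_mem v hv a) (V.inv_mem hv)
      have h3 : (a * v * a⁻¹ * v⁻¹) ^ p ^ c = 1 := by
        rw [← hc]
        exact congrArg Subtype.val (pow_card_eq_one' (x := (⟨_, hcV⟩ : V)))
      rw [h3, one_mul] at h1
      exact (mul_inv_eq_iff_eq_mul.1 h1).symm
    have hqa : q a ^ p ^ c = 1 := by rw [← map_pow]; exact (QuotientGroup.eq_one_iff _).2 hker
    exact fun ⟨w, m, hm⟩ => ⟨c, Subtype.ext (by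
      show w ^ p ^ c = 1
      rw [← hm]
      show (q a ^ m) ^ p ^ c = 1
      rw [← zpow_natCast, ← _root_.zpow_mul, mul_comm, _root_.zpow_mul, zpow_natCast, hqa, _root_.one_zpow])⟩
  by_contra hcon
  have hall : ∀ g : G ⧸ centralizer (V : Set G),
      IsPGroup p ↥(zpowers (q a) ⊔ (zpowers (q a)).map (MulAut.conj g).toMonoidHom) := by
    intro g
    obtain ⟨g, rfl⟩ := QuotientGroup.mk'_surjective (centralizer (V : Set G)) g
    have hbq : ∀ v ∈ V, Commute (g * a * g⁻¹) (g * a * g⁻¹ * v * (g * a * g⁻¹)⁻¹ * v⁻¹) := by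
      intro v hv
      have h1 := (haq (g⁻¹ * v * g) (by simpa using (inferInstance : V.Normal).conj_mem v hv g⁻¹)).map
        (MulAut.conj g).toMonoidHom
      simpa [mul_assoc] using h1
    have hN : ∀ c : G, c ∈ normalizer (V : Set G) := fun c => by
      rw [normalizer_eq_top]; exact mem_top c
    by_contra hnp
    refine hcon (involves_qd_of_quadratic_pair h2 V hV a (g * a * g⁻¹) (hN _) (hN _) haq hbq ?_)
    by_contra hno
    push Not at hno
    refine hnp ?_
    have hgen : zpowers (q a) ⊔ (zpowers (q a)).map (MulAut.conj (q g)).toMonoidHom =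
        (closure ({a, g * a * g⁻¹} : Set G)).map q := by
      rw [MonoidHom.map_closure, Set.image_pair, MonoidHom.map_zpowers, Set.insert_eq,
        Subgroup.closure_union, ← zpowers_eq_closure, ← zpowers_eq_closure]
      simp [MulAut.conj_apply]
    rw [hgen]
    rintro ⟨_, x, hx, rfl⟩
    obtain ⟨k, hk⟩ := hno x hx
    exact ⟨k, Subtype.ext (by
      show q x ^ p ^ k = 1
      rw [← map_pow]
      exact (QuotientGroup.eq_one_iff _).2 hk)⟩
  obtain ⟨N, hNn, hNp, hle⟩ := Cfsg.Lib.Invol.baerSuzuki (zpowers (q a)) hap hall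
  exact hna (Cfsg.Lib.Core.le_pCore' hNn hNp (hle (mem_zpowers _)))

theorem isPStableOn_of_not_involves_qd (h2 : p ≠ 2) (hfree : ¬ Involves (qd p) G) (V : Subgroup G)
    [V.Normal] (hV : IsPGroup p V) : IsPStableOn p V :=
  of_not_not fun h => hfree (involves_qd_of_not_isPStableOn h2 V hV h)

theorem isNormalizerPStable_of_not_involves_qd (h2 : p ≠ 2) (hfree : ¬ Involves (qd p) G) :
    IsNormalizerPStable p G := by
  intro P hP g hg hquad
  set N := normalizer (P : Set G) with hN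
  have hPN : P ≤ N := le_normalizer
  haveI : (P.subgroupOf N).Normal := normal_in_normalizer
  have hfreeN : ¬ Involves (qd p) N := fun h =>
    hfree (involves_of_injective N.subtype_injective h)
  have hst := isPStableOn_of_not_involves_qd h2 hfreeN (P.subgroupOf N)
    (hP.of_equiv (subgroupOfEquivOfLe hPN).symm)
  have hq : ⁅⁅P.subgroupOf N, zpowers (⟨g, hg⟩ : N)⁆, zpowers (⟨g, hg⟩ : N)⁆ = ⊥ := by
    refine map_injective N.subtype_injective ?_
    rw [Subgroup.map_commutator, Subgroup.map_commutator, MonoidHom.map_zpowers,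
      map_subgroupOf_eq_of_le hPN, Subgroup.map_bot]
    exact hquad
  have h := hst _ hq
  have hc : centralizer ((P.subgroupOf N : Subgroup N) : Set N) =
      (centralizer (P : Set G)).subgroupOf N := by
    ext x
    rw [mem_subgroupOf, mem_centralizer_iff, mem_centralizer_iff]
    exact ⟨fun h y hy => congrArg Subtype.val (h ⟨y, hPN hy⟩ hy),
      fun h y hy => Subtype.ext (h y hy)⟩
  have key : ∀ (A B : Subgroup N) [A.Normal] [B.Normal], A = B → ∀ x : N,
      (QuotientGroup.mk x : N ⧸ A) ∈ pCore p (N ⧸ A) → (QuotientGroup.mk x : N ⧸ B) ∈ pCore p (N ⧸ B) := by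
    intro A B _ _ hAB
    subst hAB
    exact fun _ h => h
  exact key _ _ hc _ h

/-- `Qd(p)` is not `p`-stable. -/
theorem not_isNormalizerPStable_qd (h2 : p ≠ 2) : ¬ IsNormalizerPStable p (qd p) := by
  intro hst
  let U : Multiplicative (ZMod p) →* SL(2, ZMod p) :=
    MonoidHom.mk' (fun m => ⟨!![1, m.toAdd; 0, 1], by simp⟩) fun a b => Subtype.ext (by
      show (!![1, (a * b).toAdd; 0, 1] : Matrix (Fin 2) (Fin 2) (ZMod p)) =
        !![1, a.toAdd; 0, 1] * !![1, b.toAdd; 0, 1]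
      ext i j
      fin_cases i <;> fin_cases j <;> simp [Matrix.mul_apply, Fin.sum_univ_two, add_comm])
  have hU : ∀ m, ((U m : SL(2, ZMod p)) : Matrix (Fin 2) (Fin 2) (ZMod p)) = !![1, m.toAdd; 0, 1] :=
    fun m => rfl
  set P := (QdGroup.block p).ker with hP
  haveI : P.Normal := MonoidHom.normal_ker _
  have hPp : IsPGroup p P := IsPGroup.of_card (QdGroup.card_ker_block p)
  have hN : ∀ x, x ∈ normalizer (P : Set (qd p)) := fun x => by
    rw [normalizer_eq_top]; exact mem_top x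
  set g : qd p := linearPart p (U (Multiplicative.ofAdd 1)) with hg
  have hzp : ∀ y ∈ zpowers g, ∃ m, y = QdGroup.affine p (U m) 0 := by
    intro y hy
    obtain ⟨k, rfl⟩ := mem_zpowers_iff.1 hy
    refine ⟨(Multiplicative.ofAdd 1) ^ k, ?_⟩
    rw [hg, ← map_zpow, ← map_zpow]
    rfl
  have hker : ∀ x ∈ P, ∃ v, x = QdGroup.affine p 1 v := fun x hx => by
    obtain ⟨h0, h1, h3⟩ := QdGroup.row_two p x.2
    have hb := congrArg (fun X : SL(2, ZMod p) => (X : Matrix (Fin 2) (Fin 2) (ZMod p)))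
      (MonoidHom.mem_ker.1 hx)
    have a00 := congrFun (congrFun hb 0) 0
    have a01 := congrFun (congrFun hb 0) 1
    have a10 := congrFun (congrFun hb 1) 0
    have a11 := congrFun (congrFun hb 1) 1
    simp [QdGroup.block_coe] at a00 a01 a10 a11
    refine ⟨((x.1 : Matrix (Fin 3) (Fin 3) (ZMod p)) 0 2,
      (x.1 : Matrix (Fin 3) (Fin 3) (ZMod p)) 1 2), ?_⟩
    apply Subtype.ext
    apply Subtype.ext
    ext i j
    fin_cases i <;> fin_cases j <;>
      simp [QdGroup.affine_coe, h0, h1, h3, a00, a01, a10, a11]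
  have hquad : ⁅⁅P, zpowers g⁆, zpowers g⁆ = ⊥ := by
    rw [commutator_eq_bot_iff_le_centralizer, commutator_le]
    intro x hx y hy
    obtain ⟨v, rfl⟩ := hker x hx
    obtain ⟨m, rfl⟩ := hzp y hy
    have h : QdGroup.affine p 1 v * QdGroup.affine p (U m) 0 =
        QdGroup.affine p 1 (-(m.toAdd * v.2), 0) *
          (QdGroup.affine p (U m) 0 * QdGroup.affine p 1 v) := by
      simp [QdGroup.affine_mul, hU]
    rw [commutatorElement_def, h]
    simp only [mul_assoc, mul_inv_cancel_left, mul_inv_cancel, mul_one]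
    rw [mem_centralizer_iff]
    intro z hz
    obtain ⟨n, rfl⟩ := hzp z hz
    simp [QdGroup.affine_mul, hU]
  have key := hst P hPp g (hN g) hquad
  set C := (centralizer (P : Set (qd p))).subgroupOf (normalizer (P : Set (qd p))) with hC
  let ψ : normalizer (P : Set (qd p)) →* SL(2, ZMod p) :=
    (QdGroup.block p).comp (normalizer (P : Set (qd p))).subtype
  have hψ : C ≤ ψ.ker := fun x hx => block_eq_one_of_comm p (x : qd p) fun y hy =>
    (mem_centralizer_iff.1 hx y hy).symm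
  have hψs : Function.Surjective (QuotientGroup.lift C ψ hψ) := fun A => by
    obtain ⟨x, rfl⟩ := QdGroup.block_surjective p A
    exact ⟨QuotientGroup.mk ⟨x, hN x⟩, rfl⟩
  set H := (pCore p (normalizer (P : Set (qd p)) ⧸ C)).map (QuotientGroup.lift C ψ hψ) with hH
  have hHp : IsPGroup p H := (Cfsg.Lib.Core.pCore_isPGroup p _).map _
  have hHn : H.Normal := Subgroup.Normal.map inferInstance _ hψs
  have hu : U (Multiplicative.ofAdd 1) ∈ H :=
    ⟨_, key, block_linearPart p _⟩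
  let w : SL(2, ZMod p) := ⟨!![0, 1; -1, 0], by simp⟩
  let v : SL(2, ZMod p) := ⟨!![1, 0; -1, 1], by simp⟩
  have hwv : v = w * U (Multiplicative.ofAdd 1) * w⁻¹ := by
    rw [eq_mul_inv_iff_mul_eq]
    apply Subtype.ext
    show (!![1, 0; -1, 1] : Matrix (Fin 2) (Fin 2) (ZMod p)) * !![0, 1; -1, 0] =
      !![0, 1; -1, 0] * !![1, 1; 0, 1]
    ext i j
    fin_cases i <;> fin_cases j <;> simp [Matrix.mul_apply, Fin.sum_univ_two]
  have hv : v ∈ H := hwv ▸ hHn.conj_mem _ hu w
  set z := U (Multiplicative.ofAdd 1) * v with hz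
  have hz3 : z ^ 3 = -1 := by
    apply Subtype.ext
    have hm : (z : Matrix (Fin 2) (Fin 2) (ZMod p)) = !![0, 1; -1, 1] := by
      show (!![1, 1; 0, 1] : Matrix (Fin 2) (Fin 2) (ZMod p)) * !![1, 0; -1, 1] = !![0, 1; -1, 1]
      ext i j
      fin_cases i <;> fin_cases j <;> simp [Matrix.mul_apply, Fin.sum_univ_two]
    show (z : Matrix (Fin 2) (Fin 2) (ZMod p)) ^ 3 = _
    rw [hm, coeM_neg_one]
    ext i j
    fin_cases i <;> fin_cases j <;> simp [pow_succ, Matrix.mul_apply, Fin.sum_univ_two]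
  have hneg : (-1 : SL(2, ZMod p)) ∈ H := hz3 ▸ H.pow_mem (H.mul_mem hu hv) 3
  obtain ⟨k, hk⟩ := hHp ⟨-1, hneg⟩
  have hk' : (-1 : SL(2, ZMod p)) ^ p ^ k = 1 := congrArg Subtype.val hk
  rw [(Odd.pow (hp.out.odd_of_ne_two h2)).neg_one_pow] at hk'
  have h3 := congrFun (congrFun (congrArg
    (fun X : SL(2, ZMod p) => (X : Matrix (Fin 2) (Fin 2) (ZMod p))) hk') 0) 0
  simp at h3
  have h0 : ((2 : ℕ) : ZMod p) = 0 := by
    push_cast
    linear_combination -h3
  exact h2 ((Nat.prime_dvd_prime_iff_eq hp.out Nat.prime_two).1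
    ((ZMod.natCast_eq_zero_iff _ _).1 h0))

theorem not_involves_qd_of_sections (h2 : p ≠ 2)
    (hst : ∀ (K R : Subgroup G) [(R.subgroupOf K).Normal],
      IsNormalizerPStable p (↥K ⧸ R.subgroupOf K)) : ¬ Involves (qd p) G := by
  rintro ⟨K, R, hn, ⟨e⟩⟩
  exact not_isNormalizerPStable_qd h2 (Cfsg.Lib.Sig.isNormalizerPStable_of_injective
    e.symm.toMonoidHom e.symm.injective (hst K R))

end Cfsg.Lib.Local.QdInvolved
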