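import Cfsg.Agent.Lib.Local.GLTwoOdd
import Mathlib.LinearAlgebra.Matrix.ToLinearEquiv
import Mathlib.Algebra.CharP.Lemmas
import Mathlib.GroupTheory.Commutator.Basic

/-!
A group of odd order acting on a plane in odd characteristic `p` has derived group acting as a `p`-group.
-/

set_option autoImplicit false

namespace Cfsg.Lib.Local.GLTwoOdd

variable {F : Type*} [Field F]

local notation "M2" => Matrix (Fin 2) (Fin 2) F

variable {H : Type*} [Group H] [Finite H]

/-- An odd group of invertible plane matrices of order prime to the characteristic is commutative. -/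
theorem commute_of_not_dvd (p : ℕ) [Fact p.Prime] [CharP F p] (hp : p ≠ 2)
    (ρ : H →* GL (Fin 2) F) (hρ : Function.Injective ρ) (hodd : Odd (Nat.card H))
    (hn : ¬ p ∣ Nat.card H) : ∀ x y : H, Commute x y := by
  classical
  have h2 : (2 : F) ≠ 0 := by
    intro h
    have := (CharP.cast_eq_zero_iff F p 2).mp (by exact_mod_cast h)
    exact hp ((Nat.prime_dvd_prime_iff_eq Fact.out Nat.prime_two).mp this)
  let m : H →* M2 := (Units.coeHom _).comp ρ
  have hm : Function.Injective m := Units.val_injective.comp hρ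
  have hcomm : ∀ {x y : H}, Commute (m x) (m y) → Commute x y := by
    intro x y h
    exact hm (by rw [map_mul, map_mul]; exact h)
  have hScalarSmul : ∀ a : F, Scalar (a • (1 : M2)) := fun a => by simp [Scalar]
  let Z : Subgroup H :=
    { carrier := {x | Scalar (m x)}
      one_mem' := by simp [Scalar]
      mul_mem' := fun {x y} hx hy => by
        show Scalar (m (x * y))
        rw [map_mul, scalar_eq hx, scalar_eq hy, smul_mul_smul_comm, one_mul]
        exact hScalarSmul _
      inv_mem' := fun {x} hx => by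
        show Scalar (m x⁻¹)
        have h1 : m x⁻¹ * m x = 1 := by rw [← map_mul, inv_mul_cancel, map_one]
        rw [scalar_eq hx, mul_smul_comm, mul_one] at h1
        have h0 : m x 0 0 ≠ 0 := fun h0 => by rw [h0, zero_smul] at h1; exact zero_ne_one h1
        rw [show m x⁻¹ = (m x 0 0)⁻¹ • (1 : M2) by
          rw [← h1, smul_smul, inv_mul_cancel₀ h0, one_smul]]
        exact hScalarSmul _ }
  have hZ : ∀ {x}, x ∈ Z ↔ Scalar (m x) := Iff.rfl
  have hZc : ∀ z ∈ Z, ∀ x : H, Commute z x := by
    intro z hz x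
    apply hcomm
    rw [scalar_eq (hZ.mp hz)]
    exact (Commute.one_left _).smul_left _
  let A : H → Subgroup H := fun g => Subgroup.centralizer ({g} : Set H)
  have hA : ∀ {g x}, x ∈ A g ↔ Commute x g := fun {g x} =>
    Subgroup.mem_centralizer_singleton_iff
  have hAZ : ∀ g, Z ≤ A g := fun g z hz => hA.mpr (hZc z hz g)
  have hd : ∀ g, g ∉ Z → disc (m g) ≠ 0 := by
    intro g hg h0
    have hfin : IsOfFinOrder (ρ g) := MonoidHom.isOfFinOrder ρ (isOfFinOrder_of_finite g)
    have := char_dvd_orderOf p h2 (ρ g) hg h0 hfin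
    rw [orderOf_injective ρ hρ] at this
    exact hn (this.trans (orderOf_dvd_natCard g))
  have hcc : ∀ {g}, g ∉ Z → ∀ {x y : H}, x ∈ A g → y ∈ A g → Commute x y := by
    intro g hg x y hx hy
    exact hcomm (commute_of_commutant hg ((hA.mp hx).map m) ((hA.mp hy).map m))
  have hAeq : ∀ {g t}, g ∉ Z → t ∈ A g → t ∉ Z → ∀ {x}, x ∈ A t ↔ x ∈ A g := by
    intro g t hg ht htZ x
    exact ⟨fun hx => hA.mpr (hcc htZ hx (hA.mpr (hA.mp ht).symm)),
      fun hx => hA.mpr (hcc hg hx ht)⟩
  have hsq : ∀ x : H, x ∈ Subgroup.zpowers (x ^ 2) := by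
    intro x
    obtain ⟨k, hk⟩ : Odd (orderOf x) := hodd.of_dvd_nat (orderOf_dvd_natCard x)
    refine ⟨((k + 1 : ℕ) : ℤ), ?_⟩
    show (x ^ 2) ^ ((k + 1 : ℕ) : ℤ) = x
    rw [zpow_natCast, ← pow_mul, show 2 * (k + 1) = orderOf x + 1 by omega, pow_succ,
      pow_orderOf_eq_one, one_mul]
  have hTI : ∀ {g}, g ∉ Z → ∀ x : H, ∀ t ∈ (A g : Set H) \ Z,
      x * t * x⁻¹ ∈ (A g : Set H) \ Z → x ∈ A g := by
    intro g hg x t ht ht'
    have hc : Commute ((ρ x : M2) * m t * (↑(ρ x)⁻¹ : M2)) (m t) := by
      have := (hcc hg ht'.1 ht.1).map m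
      rw [map_mul, map_mul] at this
      rw [← map_inv]
      exact this
    have h := conj_sq h2 (ρ x) (hd t ht.2) hc
    rw [← map_pow] at h
    have h' : x ^ 2 ∈ A g := (hAeq hg ht.1 ht.2).mp (hA.mpr (hcomm h))
    exact (Subgroup.zpowers_le.mpr h') (hsq x)
  set n := Nat.card H with hndef
  set zc := Nat.card Z with hzc
  have hZS : (Z : Set H).ncard = zc := (Nat.card_coe_set_eq _).symm
  let SC : H → Set H := fun g =>
    {y : H | ∃ x ∈ (⊤ : Subgroup H), ∃ t ∈ (A g : Set H) \ Z, x * t * x⁻¹ = y}
  have hnormT : ∀ {g}, g ∉ Z → ∀ l ∈ A g, ∀ t ∈ (A g : Set H) \ Z,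
      l * t * l⁻¹ ∈ (A g : Set H) \ Z := by
    intro g hg l hl t ht
    rw [(hcc hg hl ht.1).eq, mul_inv_cancel_right]
    exact ht
  have hT : ∀ g, ((A g : Set H) \ Z).ncard + zc = Nat.card (A g) := by
    intro g
    rw [← hZS, Set.ncard_sdiff_add_ncard_of_subset (hAZ g), ← Nat.card_coe_set_eq]
    rfl
  have cC : ∀ {g}, g ∉ Z → (SC g).ncard * Nat.card (A g) + n * zc = n * Nat.card (A g) := by
    intro g hg
    rw [ti_count le_top (hnormT hg) (fun x _ => hTI hg x), Subgroup.card_top, ← mul_add, hT g]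
  have hSCZ : ∀ {g}, ∀ y ∈ SC g, y ∉ Z := by
    rintro g y ⟨x, -, t, ht, rfl⟩ hy
    refine ht.2 ?_
    have h := (hZc _ hy x).eq
    rw [inv_mul_cancel_right] at h
    rw [mul_left_cancel h] 
    exact hy
  have hbig : ∀ {g}, g ∉ Z → 2 * n ≤ 3 * (SC g).ncard := by
    intro g hg
    have h3 : 3 * zc ≤ Nat.card (A g) := by
      obtain ⟨k, hk⟩ := Subgroup.card_dvd_of_le (hAZ g)
      have hkodd : Odd k := by
        have : Odd (Nat.card (A g)) := hodd.of_dvd_nat (Subgroup.card_subgroup_dvd_card _)
        rw [hk] at this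
        exact (Nat.odd_mul.mp this).2
      have hk1 : k ≠ 1 := fun e => hg (by
        have := Subgroup.eq_of_le_of_card_ge (hAZ g) (by rw [hk, e, mul_one])
        rw [this]; exact hA.mpr (Commute.refl g))
      rw [hk, mul_comm]
      refine Nat.mul_le_mul_left _ ?_
      obtain ⟨j, rfl⟩ := hkodd
      omega
    have e := cC hg
    have := Nat.mul_le_mul_left n h3
    refine Nat.le_of_mul_le_mul_right ?_ (Nat.card_pos (α := A g))
    nlinarith [e, this]
  have hnpos : 0 < n := Nat.card_pos
  intro x y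
  by_cases hall : ∀ g, g ∈ Z
  · exact hZc x (hall x) y
  push Not at hall
  obtain ⟨g, hg⟩ := hall
  have hcover : ∀ g', g' ∉ Z → g' ∈ SC g := by
    intro g' hg'
    by_contra hne
    have hdisj : Disjoint (SC g) (SC g') := by
      rw [Set.disjoint_left]
      rintro z ⟨a, -, t, ht, rfl⟩ ⟨a', -, t', ht', e⟩
      apply hne
      refine ⟨(a'⁻¹ * a), Subgroup.mem_top _, (a'⁻¹ * a)⁻¹ * g' * (a'⁻¹ * a), ⟨?_, ?_⟩, by group⟩
      · refine (hAeq hg ht.1 ht.2).mp (hA.mpr ?_)
        have hc : Commute g' t' := (hA.mp ht'.1).symm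
        have e1 : (a'⁻¹ * a)⁻¹ * t' * (a'⁻¹ * a) = t := by
          calc (a'⁻¹ * a)⁻¹ * t' * (a'⁻¹ * a) = a⁻¹ * (a' * t' * a'⁻¹) * a := by group
            _ = t := by rw [e]; group
        have := hc.map (MulAut.conj (a'⁻¹ * a)⁻¹).toMonoidHom
        simp only [MulEquiv.coe_toMonoidHom, MulAut.conj_apply, inv_inv] at this
        rw [e1] at this
        exact this
      · intro hz
        apply hg'
        have h := (hZc _ hz (a'⁻¹ * a)⁻¹).eq
        have e2 : (a'⁻¹ * a)⁻¹ * g' * (a'⁻¹ * a) = g' := by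
          have h' := congrArg (fun u => (a'⁻¹ * a) * u) h
          simp only [mul_assoc, mul_inv_cancel, mul_one, mul_inv_cancel_left] at h' ⊢
          simpa [mul_assoc] using h'.symm
        rw [e2] at hz
        exact hz
    have := Set.ncard_le_ncard (Set.subset_univ (SC g ∪ SC g'))
    rw [Set.ncard_union_eq hdisj, Set.ncard_univ, ← hndef] at this
    have := hbig hg
    have := hbig hg'
    omega
  have k2 : zc + (SC g).ncard = n := by
    have e : (Z : Set H) ∪ SC g = Set.univ := by
      apply Set.eq_univ_of_forall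
      intro z
      by_cases hz : z ∈ Z
      · exact Or.inl hz
      · exact Or.inr (hcover z hz)
    have d : Disjoint (Z : Set H) (SC g) := by
      rw [Set.disjoint_left]; exact fun z hz hz' => hSCZ z hz' hz
    have := congrArg Set.ncard e
    rw [Set.ncard_union_eq d, hZS, Set.ncard_univ] at this
    exact this
  have k6 : zc * Nat.card (A g) = zc * n := by nlinarith [cC hg, k2]
  have htop : A g = ⊤ :=
    Subgroup.eq_top_of_card_eq _ (Nat.eq_of_mul_eq_mul_left Nat.card_pos k6)
  exact hcc hg (htop ▸ Subgroup.mem_top x) (htop ▸ Subgroup.mem_top y)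

open Matrix in
/-- In an odd group of plane matrices in odd characteristic `p`, commutators satisfy `g ^ p = 1`. -/
theorem commutator_pow_eq_one (p : ℕ) [Fact p.Prime] [CharP F p] (hp : p ≠ 2)
    (ρ : H →* GL (Fin 2) F) (hρ : Function.Injective ρ) (hodd : Odd (Nat.card H)) :
    ∀ g ∈ commutator H, g ^ p = 1 := by
  classical
  intro g hg
  by_cases hn : p ∣ Nat.card H
  swap
  · have hc := commute_of_not_dvd p hp ρ hρ hodd hn
    have : commutator H = ⊥ := by
      rw [commutator_def, Subgroup.commutator_eq_bot_iff_le_centralizer]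
      exact fun x _ y _ => (hc y x).eq
    rw [this] at hg
    rw [Subgroup.mem_bot.mp hg, one_pow]
  have hirr := fun h => not_char_dvd p hp ρ hρ hodd h hn
  simp only [imp_false, not_forall, not_exists, not_not] at hirr
  obtain ⟨v, hv, hinv⟩ := hirr
  let m : H →* M2 := (Units.coeHom _).comp ρ
  have hm : Function.Injective m := Units.val_injective.comp hρ
  have heig : ∀ x : H, ∃ a : F, m x *ᵥ v = a • v := fun x => by
    obtain ⟨a, ha⟩ := Submodule.mem_span_singleton.mp (hinv x)
    exact ⟨a, ha.symm⟩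
  choose a ha using heig
  have hmul : ∀ x y, m (x * y) *ᵥ v = (a y * a x) • v := fun x y => by
    rw [map_mul, ← Matrix.mulVec_mulVec, ha y, Matrix.mulVec_smul, ha x, smul_smul]
  let χ : H →* F × F :=
    { toFun := fun x => (a x, (m x).det)
      map_one' := by
        refine Prod.ext ?_ (by simp)
        have := ha 1
        rw [map_one, Matrix.one_mulVec] at this
        exact smul_left_injective F hv (this.symm.trans (one_smul F v).symm)
      map_mul' := fun x y => by
        refine Prod.ext (smul_left_injective F hv ?_) ?_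
        · show a (x * y) • v = (a x * a y) • v
          rw [← ha, hmul, mul_comm]
        · show (m (x * y)).det = (m x).det * (m y).det
          rw [map_mul, Matrix.det_mul] }
  have hker : commutator H ≤ χ.ker := by
    rw [commutator_def, Subgroup.commutator_le]
    intro x _ y _
    rw [MonoidHom.mem_ker, commutatorElement_def, map_mul, map_mul, map_mul, mul_right_comm (χ x),
      ← map_mul, mul_inv_cancel, map_one, one_mul, ← map_mul, mul_inv_cancel, map_one]
  obtain ⟨h1, h2⟩ := Prod.ext_iff.mp (MonoidHom.mem_ker.mp (hker hg))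
  change a g = 1 at h1
  change (m g).det = 1 at h2
  set N := m g - 1 with hN
  have hNv : N *ᵥ v = 0 := by
    rw [hN, Matrix.sub_mulVec, ha, h1, one_smul, Matrix.one_mulVec, sub_self]
  have hdN : N.det = 0 := Matrix.exists_mulVec_eq_zero_iff.mp ⟨v, hv, hNv⟩
  have htN : N.trace = 0 := by
    rw [Matrix.det_fin_two] at hdN h2
    rw [Matrix.trace_fin_two, hN]
    simp [hN] at hdN ⊢
    linear_combination h2 - hdN
  have hN2 : N ^ 2 = 0 := by
    rw [Matrix.trace_fin_two] at htN
    rw [Matrix.det_fin_two] at hdN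
    rw [sq]
    ext i j
    fin_cases i <;> fin_cases j <;> simp [Matrix.mul_apply]
    · linear_combination N 0 0 * htN - hdN
    · linear_combination N 0 1 * htN
    · linear_combination N 1 0 * htN
    · linear_combination N 1 1 * htN - hdN
  apply hm
  rw [map_pow, map_one, ← sub_eq_zero]
  have : N ^ p = m g ^ p - 1 := by
    rw [hN, sub_pow_char_of_commute p (Commute.one_right _), one_pow]
  rw [← this]
  exact pow_eq_zero_of_le (Fact.out : p.Prime).two_le hN2

/-- The derived group of an odd group acting on a plane with `p`-group kernel is a `p`-group. -/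
theorem isPGroup_commutator (p : ℕ) [Fact p.Prime] [CharP F p] (hp : p ≠ 2)
    (f : H →* GL (Fin 2) F) (hodd : Odd (Nat.card H)) (hker : IsPGroup p f.ker) :
    IsPGroup p (commutator H) := by
  rintro ⟨g, hg⟩
  haveI : Finite f.range := Finite.of_surjective f.rangeRestrict f.rangeRestrict_surjective
  have hr : Odd (Nat.card f.range) := hodd.of_dvd_nat (Subgroup.card_range_dvd f)
  have h := commutator_pow_eq_one p hp f.range.subtype f.range.subtype_injective hr (f.rangeRestrict g)
    ((Subgroup.map_commutator ⊤ ⊤ f.rangeRestrict).trans_le (Subgroup.commutator_mono le_top le_top)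
      ⟨g, hg, rfl⟩)
  obtain ⟨k, hk⟩ := hker ⟨g ^ p, by
    rw [MonoidHom.mem_ker, map_pow]
    exact congrArg Subtype.val h⟩
  refine ⟨k + 1, Subtype.ext ?_⟩
  rw [Subgroup.coe_pow, pow_succ', pow_mul]
  exact congrArg Subtype.val hk

end Cfsg.Lib.Local.GLTwoOdd
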