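import Cfsg.Prelude.Def_CaseTheorems
import Cfsg.Agent.Lib.Local.GLTwoOddDerived
import Cfsg.Agent.Lib.Local.Basic
import Cfsg.Agent.Lib.PGroup.FrattiniStab
import Cfsg.Agent.S0093
import Cfsg.Agent.S0096
import Cfsg.Agent.S0120
import Cfsg.Agent.S0121
import Cfsg.Agent.S3771
import Mathlib.LinearAlgebra.Matrix.GeneralLinearGroup.Card
import Mathlib.LinearAlgebra.Matrix.ToLin
import Mathlib.Algebra.Module.ZMod

/-!
For an odd prime `p`, the automorphism group of a `p`-group of `p`-rank at most two maps to `GL (2, p)`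
with `p`-group kernel.
-/

set_option autoImplicit false

namespace Cfsg.Lib.Local.RankTwoAut

open Subgroup
open scoped commutatorElement

universe u

variable {p : ℕ} [Fact p.Prime]

/-- The rank bound passes to subgroups. -/
theorem pRankLE_subgroup {G : Type*} [Group G] {k : ℕ} (h : Cfsg.PRankLE p k G) (H : Subgroup G) :
    Cfsg.PRankLE p k H := by
  intro A hAc hAp
  rw [← card_map_of_injective H.subtype_injective]
  refine h _ inferInstance ?_
  rintro _ ⟨a, ha, rfl⟩
  rw [← map_pow, hAp a ha, map_one]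

/-- Restriction of automorphisms to an invariant subgroup. -/
def restrictHom {R : Type*} [Group R] (Q : Subgroup R) (hQ : ∀ g : MulAut R, ∀ x ∈ Q, g x ∈ Q) :
    MulAut R →* MulAut Q where
  toFun g :=
    { toFun := fun x => ⟨g x, hQ g x x.2⟩
      invFun := fun x => ⟨g⁻¹ x, hQ g⁻¹ x x.2⟩
      left_inv := fun x => Subtype.ext (g.symm_apply_apply x)
      right_inv := fun x => Subtype.ext (g.apply_symm_apply x)
      map_mul' := fun x y => Subtype.ext (map_mul g (x : R) (y : R)) }
  map_one' := MulEquiv.ext fun _ => rfl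
  map_mul' _ _ := MulEquiv.ext fun _ => rfl

theorem restrictHom_apply {R : Type*} [Group R] (Q : Subgroup R)
    (hQ : ∀ g : MulAut R, ∀ x ∈ Q, g x ∈ Q) (g : MulAut R) (x : Q) :
    (restrictHom Q hQ g x : R) = g x := rfl

theorem apply_mem_of_char {R : Type*} [Group R] {K : Subgroup R} (hK : K.Characteristic) (g : MulAut R) :
    ∀ x ∈ K, g x ∈ K := fun _ hx => (hK.fixed g).symm.le hx

theorem exists_embedding_aux {W : Type u} [CommGroup W] [Finite W] [Module (ZMod p) (Additive W)]
    (hW : Nat.card W ≤ p ^ 2) :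
    ∃ f : MulAut W →* GL (Fin 2) (ZMod p), Function.Injective f := by
  haveI : Finite (Additive W) := inferInstanceAs (Finite W)
  haveI : Module.Finite (ZMod p) (Additive W) := Module.Finite.of_finite
  set d := Module.finrank (ZMod p) (Additive W)
  have hd : d ≤ 2 := by
    have h := Module.natCard_eq_pow_finrank (K := ZMod p) (V := Additive W)
    rw [Nat.card_zmod, Nat.card_congr Additive.toMul] at h
    rw [h] at hW
    exact (Nat.pow_le_pow_iff_right (Fact.out : p.Prime).one_lt).mp hW
  let b : Module.Basis (Fin 2) (ZMod p) (Additive W × (Fin (2 - d) → ZMod p)) :=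
    Module.finBasisOfFinrankEq _ _ (by rw [Module.finrank_prod, Module.finrank_fin_fun]; omega)
  let E : MulAut W →* Module.End (ZMod p) (Additive W × (Fin (2 - d) → ZMod p)) :=
    { toFun := fun g => LinearMap.prodMap
        ((AddMonoidHom.mk' (fun v : Additive W => Additive.ofMul (g v.toMul))
          fun v w => congrArg Additive.ofMul (map_mul g _ _)).toZModLinearMap p) LinearMap.id
      map_one' := LinearMap.ext fun _ => rfl
      map_mul' := fun _ _ => LinearMap.ext fun _ => rfl }
  refine ⟨((LinearMap.toMatrixAlgEquiv b).toAlgHom.toRingHom.toMonoidHom.comp E).toHomUnits,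
    fun g h e => MulEquiv.ext fun w => ?_⟩
  have e1 : E g = E h := (LinearMap.toMatrixAlgEquiv b).injective (congrArg Units.val e)
  exact Additive.ofMul.injective (congrArg (fun T => (T (Additive.ofMul w, 0)).1) e1)

/-- The automorphisms of an elementary abelian group of order at most `p ^ 2` embed in `GL (2, p)`. -/
theorem exists_embedding {W : Type u} [CommGroup W] [Finite W] (hexp : ∀ w : W, w ^ p = 1)
    (hW : Nat.card W ≤ p ^ 2) :
    ∃ f : MulAut W →* GL (Fin 2) (ZMod p), Function.Injective f :=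
  have : Module (ZMod p) (Additive W) := AddCommGroup.zmodModule fun v =>
    Additive.toMul.injective (by rw [toMul_nsmul]; exact hexp _)
  exists_embedding_aux hW

/-- A characteristic subgroup of exponent `p` on which the automorphisms act with `p`-group kernel. -/
theorem exists_char_exponent {R : Type u} [Group R] [Finite R] (hp : p ≠ 2) (hR : IsPGroup p R) :
    ∃ (Q : Subgroup R) (hQ : ∀ g : MulAut R, ∀ x ∈ Q, g x ∈ Q),
      (∀ x ∈ Q, x ^ p = 1) ∧ IsPGroup p (restrictHom Q hQ).ker := by
  classical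
  haveI : Finite (MulAut R) := Finite.of_injective (fun f => (f : R → R)) DFunLike.coe_injective
  obtain ⟨K, hKc, hK1, hK2, hK3⟩ := Cfsg.Agent.S0093.result hR
  have hKp : IsPGroup p K := hR.to_subgroup K
  have hclass : ⁅commutator K, (⊤ : Subgroup K)⁆ = ⊥ := by
    rw [commutator_eq_bot_iff_le_centralizer]
    intro c hc x _
    have h := hK1 ⟨c, Cfsg.Lib.PGroup.commutator_le_frattini hKp hc, rfl⟩
    exact Subtype.ext (h x x.2)
  let Q : Subgroup R :=
    { carrier := {x | x ∈ K ∧ x ^ p = 1}
      one_mem' := ⟨one_mem _, one_pow _⟩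
      mul_mem' := fun {x y} hx hy => by
        refine ⟨mul_mem hx.1 hy.1, ?_⟩
        have := Cfsg.Agent.S0096.result hp hKp hclass (⟨x, hx.1⟩ * ⟨y, hy.1⟩)
          (mul_mem (subset_closure (Subtype.ext hx.2)) (subset_closure (Subtype.ext hy.2)))
        exact congrArg Subtype.val this
      inv_mem' := fun {x} hx => ⟨inv_mem hx.1, by rw [inv_pow, hx.2, inv_one]⟩ }
  have hQ : ∀ g : MulAut R, ∀ x ∈ Q, g x ∈ Q := fun g x hx =>
    ⟨apply_mem_of_char hKc g x hx.1, by rw [← map_pow, hx.2, map_one]⟩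
  have hres : IsPGroup p (restrictHom Q hQ).ker := by
    refine isPGroup_of_forall_coprime fun a ha hcop => ?_
    refine Cfsg.Agent.S0121.result hR K hKc hK1 hK2 hK3 a hcop ?_
    intro x hx
    have h1 : restrictHom K (apply_mem_of_char hKc) a = 1 := by
      refine Cfsg.Agent.S0120.result hp hKp _ (hcop.coprime_dvd_left (orderOf_map_dvd _ a)) ?_
      intro z hz
      have hzQ : (z : R) ∈ Q := ⟨z.2, congrArg Subtype.val hz⟩
      have := DFunLike.congr_fun (MonoidHom.mem_ker.mp ha) (⟨z, hzQ⟩ : Q)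
      exact Subtype.ext (congrArg Subtype.val this :)
    exact congrArg Subtype.val (DFunLike.congr_fun h1 (⟨x, hx⟩ : K))
  exact ⟨Q, hQ, fun x hx => hx.2, hres⟩

/-- The `p`-groups of rank at most two have automorphism groups close to subgroups of `GL (2, p)`. -/
theorem exists_hom {R : Type u} [Group R] [Finite R] (hp : p ≠ 2) (hR : IsPGroup p R)
    (hr : Cfsg.PRankLE p 2 R) :
    ∃ f : MulAut R →* GL (Fin 2) (ZMod p), IsPGroup p f.ker := by
  classical
  have hpp : p.Prime := Fact.out
  haveI : Finite (MulAut R) := Finite.of_injective (fun f => (f : R → R)) DFunLike.coe_injective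
  obtain ⟨Q, hQ, hQe, hres⟩ := exists_char_exponent hp hR
  have hQexp : ∀ x : Q, x ^ p = 1 := fun x => Subtype.ext (hQe x x.2)
  have hQp : IsPGroup p Q := hR.to_subgroup Q
  let W := Q ⧸ frattini Q
  letI : CommGroup W := { (inferInstance : Group W) with
    mul_comm := fun a b => by
      obtain ⟨a, rfl⟩ := QuotientGroup.mk'_surjective _ a
      obtain ⟨b, rfl⟩ := QuotientGroup.mk'_surjective _ b
      rw [← map_mul, ← map_mul]
      refine QuotientGroup.eq.mpr (Cfsg.Lib.PGroup.commutator_le_frattini hQp ?_)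
      rw [show (a * b)⁻¹ * (b * a) = ⁅b⁻¹, a⁻¹⁆ by simp [commutatorElement_def, mul_assoc]]
      exact commutator_mem_commutator (mem_top _) (mem_top _) }
  have hWexp : ∀ w : W, w ^ p = 1 := by
    intro w
    obtain ⟨a, rfl⟩ := QuotientGroup.mk'_surjective _ w
    rw [← map_pow, hQexp, map_one]
  have hW : Nat.card W ≤ p ^ 2 := by
    have hrQ := pRankLE_subgroup hr Q
    by_cases hc : IsMulCommutative Q
    · have := hrQ ⊤ ⟨⟨fun a b => Subtype.ext (hc.is_comm.comm a.1 b.1)⟩⟩ (fun a _ => hQexp a)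
      rw [card_top] at this
      exact (Nat.le_of_dvd Nat.card_pos (card_quotient_dvd_card _)).trans this
    · have h3 := Cfsg.Agent.S3771.result hQp hrQ hQexp
      have hne : frattini Q ≠ ⊥ := by
        intro h
        apply hc
        refine ⟨⟨fun a b => ?_⟩⟩
        have hm : ⁅a, b⁆ ∈ frattini Q := Cfsg.Lib.PGroup.commutator_le_frattini hQp
          (commutator_mem_commutator (mem_top a) (mem_top b))
        rw [h, mem_bot, commutatorElement_eq_one_iff_mul_comm] at hm
        exact hm
      have hge : p ≤ Nat.card (frattini Q) := by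
        obtain ⟨k, hk⟩ := IsPGroup.iff_card.mp (hQp.to_subgroup (frattini Q))
        rw [hk]
        refine Nat.le_self_pow (fun h0 => hne (eq_bot_of_card_eq _ ?_)) p
        rw [hk, h0, pow_zero]
      have := card_eq_card_quotient_mul_card_subgroup (frattini Q)
      refine Nat.le_of_mul_le_mul_right ?_ hpp.pos
      calc Nat.card W * p ≤ Nat.card W * Nat.card (frattini Q) := Nat.mul_le_mul_left _ hge
        _ = Nat.card Q := this.symm
        _ ≤ p ^ 3 := h3
        _ = p ^ 2 * p := pow_succ p 2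
  let bar : MulAut Q →* MulAut W :=
    { toFun := fun g => QuotientGroup.congr (frattini Q) (frattini Q) g
        (characteristic_iff_map_eq.1 frattini_characteristic _)
      map_one' := MulEquiv.ext fun z => by
        obtain ⟨a, rfl⟩ := QuotientGroup.mk'_surjective _ z
        rfl
      map_mul' := fun k l => MulEquiv.ext fun z => by
        obtain ⟨a, rfl⟩ := QuotientGroup.mk'_surjective _ z
        rfl }
  obtain ⟨e, he⟩ := exists_embedding hWexp hW
  refine ⟨(e.comp bar).comp (restrictHom Q hQ), ?_⟩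
  rintro ⟨g, hg⟩
  have h1 : restrictHom Q hQ g ∈ Cfsg.Lib.PGroup.frattiniStab Q := by
    intro x
    have h : bar (restrictHom Q hQ g) = 1 := he (by
      rw [map_one]; exact MonoidHom.mem_ker.mp hg)
    exact QuotientGroup.eq.mp (DFunLike.congr_fun h (QuotientGroup.mk' _ x)).symm
  obtain ⟨i, hi⟩ := Cfsg.Lib.PGroup.isPGroup_frattiniStab hQp ⟨_, h1⟩
  obtain ⟨j, hj⟩ := hres ⟨g ^ p ^ i, by
    rw [MonoidHom.mem_ker, map_pow]
    exact congrArg Subtype.val hi⟩
  refine ⟨i + j, Subtype.ext ?_⟩
  rw [Subgroup.coe_pow, pow_add, pow_mul]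
  exact congrArg Subtype.val hj

/-- The odd prime divisors other than `p` of an operator group on such a `p`-group. -/
theorem prime_dvd {H : Type*} [Group H] [Finite H] (hp : p ≠ 2) (f : H →* GL (Fin 2) (ZMod p))
    (hker : IsPGroup p f.ker) {q : ℕ} (hq : q.Prime) (hqp : q ≠ p) (hdvd : q ∣ Nat.card H) :
    q ∣ p ^ 2 - 1 ∧ q < p := by
  haveI : Fact q.Prime := ⟨hq⟩
  have hpp : p.Prime := Fact.out
  obtain ⟨g, hg⟩ := exists_prime_orderOf_dvd_card' q hdvd
  have hne : f g ≠ 1 := by
    intro h
    obtain ⟨k, hk⟩ := hker ⟨g, h⟩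
    have h' : g ^ p ^ k = 1 := congrArg Subtype.val hk
    have := orderOf_dvd_of_pow_eq_one h'
    rw [hg] at this
    exact hqp ((Nat.prime_dvd_prime_iff_eq hq hpp).mp (hq.dvd_of_dvd_pow this))
  have ho : orderOf (f g) = q := by
    rcases (Nat.dvd_prime hq).mp (hg ▸ orderOf_map_dvd f g) with h | h
    · exact absurd (orderOf_eq_one_iff.mp h) hne
    · exact h
  have hd : q ∣ Nat.card (GL (Fin 2) (ZMod p)) := ho ▸ orderOf_dvd_natCard (f g)
  rw [Matrix.card_GL_field, Fin.prod_univ_two, ZMod.card] at hd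
  simp only [Fin.val_zero, Fin.val_one, pow_zero, pow_one] at hd
  obtain ⟨m, rfl⟩ : ∃ m, p = m + 1 := ⟨p - 1, by have := hpp.pos; omega⟩
  have e1 : (m + 1) ^ 2 - 1 = m * (m + 2) := Nat.sub_eq_of_eq_add (by ring)
  have e2 : (m + 1) ^ 2 - (m + 1) = m * (m + 1) := Nat.sub_eq_of_eq_add (by ring)
  rw [e1] at hd ⊢
  rw [e2] at hd
  have hmain : q ∣ m * (m + 2) := by
    rcases (Nat.Prime.dvd_mul hq).mp hd with h | h
    · exact h
    · rcases (Nat.Prime.dvd_mul hq).mp h with h | h
      · exact h.mul_right _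
      · exact absurd ((Nat.prime_dvd_prime_iff_eq hq hpp).mp h) hqp
  refine ⟨hmain, ?_⟩
  have h3 : 3 ≤ m + 1 := by have := hpp.two_le; omega
  rcases (Nat.Prime.dvd_mul hq).mp hmain with h | h
  · have := Nat.le_of_dvd (by omega) h
    omega
  · have hle := Nat.le_of_dvd (by omega) h
    rcases hq.eq_two_or_odd with h2 | h2
    · omega
    · rcases hpp.eq_two_or_odd with h4 | h4 <;> omega

/-- The derived group of an odd operator group acts as a `p`-group. -/
theorem commutator_isPGroup {R : Type u} [Group R] [Finite R] (hp : p ≠ 2) (hR : IsPGroup p R)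
    (hr : Cfsg.PRankLE p 2 R) {H : Type*} [Group H] [Finite H] (hodd : Odd (Nat.card H))
    (φ : H →* MulAut R) (hker : IsPGroup p φ.ker) : IsPGroup p (commutator H) := by
  obtain ⟨f, hf⟩ := exists_hom hp hR hr
  refine GLTwoOdd.isPGroup_commutator p hp (f.comp φ) hodd ?_
  rintro ⟨g, hg⟩
  obtain ⟨i, hi⟩ := hf ⟨φ g, hg⟩
  obtain ⟨j, hj⟩ := hker ⟨g ^ p ^ i, by
    rw [MonoidHom.mem_ker, map_pow]
    exact congrArg Subtype.val hi⟩
  refine ⟨i + j, Subtype.ext ?_⟩
  rw [Subgroup.coe_pow, pow_add, pow_mul]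
  exact congrArg Subtype.val hj

end Cfsg.Lib.Local.RankTwoAut
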