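import Cfsg.Prelude.Def_Local
import Cfsg.Prelude.Def_OddOrderLocal
import Cfsg.Agent.Lib.Local.RankTwoAut
import Cfsg.Agent.Lib.Core.PSolvable

/-!
Odd soluble groups of `p`-rank at most two, seen modulo `O_{p'}`.
-/

set_option autoImplicit false

namespace Cfsg.Lib.Local.RankTwoAut

open Subgroup
open scoped commutatorElement

universe u

variable {p : ℕ} [Fact p.Prime]

theorem pow_eq_one_of_coprime {G : Type*} [Group G] {x : G} (hx : ∃ k : ℕ, x ^ p ^ k = 1)
    (hc : (orderOf x).Coprime p) : x = 1 := by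
  obtain ⟨k, hk⟩ := hx
  exact orderOf_eq_one_iff.mp ((hc.pow_right k).eq_one_of_dvd (orderOf_dvd_of_pow_eq_one hk))

/-- The rank bound passes to the quotient by a normal subgroup of order prime to `p`. -/
theorem pRankLE_quotient {G : Type*} [Group G] [Finite G] {k : ℕ} (h : Cfsg.PRankLE p k G)
    (N : Subgroup G) [N.Normal] (hN : (Nat.card N).Coprime p) : Cfsg.PRankLE p k (G ⧸ N) := by
  intro A hAc hAp
  have hA : IsPGroup p A := fun a => ⟨1, Subtype.ext (by simpa using hAp a a.2)⟩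
  let M := A.comap (QuotientGroup.mk' N)
  let g : M →* A := ((QuotientGroup.mk' N).comp M.subtype).codRestrict A fun z => z.2
  have hg : Function.Surjective g := by
    rintro ⟨z, hz⟩
    obtain ⟨x, rfl⟩ := QuotientGroup.mk'_surjective N z
    exact ⟨⟨x, hz⟩, rfl⟩
  obtain ⟨T⟩ : Nonempty (Sylow p M) := inferInstance
  have h1 : (T.mapSurjective hg : Subgroup A) = ⊤ := by
    rw [eq_top_iff]
    exact ((T.mapSurjective hg).is_maximal' (hA.to_subgroup ⊤) le_top).le
  let r : (T : Subgroup M) →* A := g.comp (T : Subgroup M).subtype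
  have hrs : Function.Surjective r := by
    intro a
    obtain ⟨t, ht, rfl⟩ := h1.ge (mem_top a)
    exact ⟨⟨t, ht⟩, rfl⟩
  have hri : Function.Injective r := by
    rw [injective_iff_map_eq_one]
    intro t ht
    apply pow_eq_one_of_coprime (T.isPGroup' t)
    have hmem : ((t : M) : G) ∈ N := (QuotientGroup.eq_one_iff _).mp (congrArg Subtype.val ht)
    rw [← orderOf_coe t, ← orderOf_coe (t : M)]
    exact hN.coprime_dvd_left (orderOf_dvd_natCard _ hmem)
  have hcard := Nat.card_congr (Equiv.ofBijective r ⟨hri, hrs⟩)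
  rw [← hcard, ← card_map_of_injective (K := (T : Subgroup M)) (f := M.subtype) M.subtype_injective]
  refine h _ ⟨⟨?_⟩⟩ ?_
  · rintro ⟨_, a, ha, rfl⟩ ⟨_, b, hb, rfl⟩
    have := @hri (⟨a, ha⟩ * ⟨b, hb⟩) (⟨b, hb⟩ * ⟨a, ha⟩) (by
      rw [map_mul, map_mul]; exact hAc.is_comm.comm _ _)
    exact Subtype.ext (congrArg (fun z : (T : Subgroup M) => ((z : M) : G)) this)
  · rintro _ ⟨a, ha, rfl⟩
    have := @hri (⟨a, ha⟩ ^ p) 1 (by
      rw [map_pow, map_one]; exact Subtype.ext (hAp _ (r ⟨a, ha⟩).2))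
    exact congrArg (fun z : (T : Subgroup M) => ((z : M) : G)) this

variable {G : Type u} [Group G] [Finite G] [Group.IsSolvable G]

/-- The operator homomorphism of a soluble group of rank two with trivial `O_{p'}`. -/
theorem exists_hom_solvable (hp : p ≠ 2) (hO : Cfsg.pPrimeCore p G = ⊥) (hr : Cfsg.PRankLE p 2 G) :
    ∃ f : G →* GL (Fin 2) (ZMod p), IsPGroup p f.ker := by
  have hP : IsPGroup p (Cfsg.pCore p G) := Cfsg.Lib.Core.pCore_isPGroup p G
  have hC := Cfsg.Lib.Core.centralizer_pCore_le_of_isPSolvable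
    (Cfsg.Lib.Core.isPSolvable_of_isSolvable (p := p) (G := G)) hO
  obtain ⟨f, hf⟩ := exists_hom hp hP (pRankLE_subgroup hr _)
  refine ⟨f.comp (MulAut.conjNormal (H := Cfsg.pCore p G)), ?_⟩
  rintro ⟨g, hg⟩
  obtain ⟨i, hi⟩ := hf ⟨MulAut.conjNormal g, hg⟩
  have h' : g ^ p ^ i ∈ Cfsg.pCore p G := by
    refine hC (mem_centralizer_iff.mpr fun z hz => ?_)
    have e : MulAut.conjNormal (g ^ p ^ i) (⟨z, hz⟩ : Cfsg.pCore p G) = ⟨z, hz⟩ := by
      rw [map_pow]
      exact DFunLike.congr_fun (congrArg Subtype.val hi) _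
    have e' := congrArg Subtype.val e
    rw [MulAut.conjNormal_apply, mul_inv_eq_iff_eq_mul] at e'
    exact e'.symm
  obtain ⟨j, hj⟩ := hP ⟨_, h'⟩
  refine ⟨i + j, Subtype.ext ?_⟩
  rw [Subgroup.coe_pow, pow_add, pow_mul]
  exact congrArg Subtype.val hj

/-- In an odd soluble group of rank two with `O_{p'} = 1` the `p`-core has abelian `p'`-quotient. -/
theorem commutator_le_pCore (hp : p ≠ 2) (hodd : Odd (Nat.card G)) (hO : Cfsg.pPrimeCore p G = ⊥)
    (hr : Cfsg.PRankLE p 2 G) :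
    commutator G ≤ Cfsg.pCore p G ∧ (Cfsg.pCore p G).index.Coprime p := by
  obtain ⟨f, hf⟩ := exists_hom_solvable hp hO hr
  have hc : commutator G ≤ Cfsg.pCore p G :=
    Cfsg.Lib.Core.le_pCore (GLTwoOdd.isPGroup_commutator p hp f hodd hf)
  refine ⟨hc, ?_⟩
  obtain ⟨T⟩ : Nonempty (Sylow p G) := inferInstance
  have hle : commutator G ≤ (T : Subgroup G) := hc.trans (Cfsg.Lib.Core.pCore_le_sylow T)
  haveI : (T : Subgroup G).Normal := Normal.of_commutator_le _ hle
  rw [le_antisymm (Cfsg.Lib.Core.pCore_le_sylow T) (Cfsg.Lib.Core.le_pCore T.isPGroup'),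
    Nat.coprime_comm, (Fact.out : p.Prime).coprime_iff_not_dvd]
  exact T.not_dvd_index

/-- The structure of an odd soluble group of `p`-rank at most two. -/
theorem structure_mod_core (hp : p ≠ 2) (hodd : Odd (Nat.card G)) (hr : Cfsg.PRankLE p 2 G) :
    commutator G ≤ Cfsg.pPrimePCore p G ∧ (Cfsg.pPrimePCore p G).index.Coprime p ∧
      ∀ q : ℕ, q.Prime → q ∣ (Cfsg.pPrimeCore p G).index → q ≤ p := by
  set O := Cfsg.pPrimeCore p G
  set f := QuotientGroup.mk' O
  have hr' := pRankLE_quotient hr O (Cfsg.Lib.Core.pPrimeCore_coprime p G)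
  have hO' : Cfsg.pPrimeCore p (G ⧸ O) = ⊥ := Cfsg.Lib.Core.pPrimeCore_quotient_eq_bot
  have hodd' : Odd (Nat.card (G ⧸ O)) := hodd.of_dvd_nat (card_quotient_dvd_card O)
  obtain ⟨h1, h2⟩ := commutator_le_pCore hp hodd' hO' hr'
  refine ⟨?_, ?_, fun q hq hdvd => ?_⟩
  · rw [commutator_def, commutator_le]
    intro x _ y _
    show f ⁅x, y⁆ ∈ Cfsg.pCore p (G ⧸ O)
    rw [map_commutatorElement]
    exact h1 (commutator_mem_commutator (mem_top _) (mem_top _))
  · show ((Cfsg.pCore p (G ⧸ O)).comap f).index.Coprime p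
    rw [index_comap_of_surjective _ (QuotientGroup.mk'_surjective O)]
    exact h2
  · obtain ⟨g, hg⟩ := exists_hom_solvable hp hO' hr'
    by_cases hqp : q = p
    · exact hqp.le
    · rw [index_eq_card] at hdvd
      exact (prime_dvd hp g hg hq hqp hdvd).2.le

end Cfsg.Lib.Local.RankTwoAut
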