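import Cfsg.Prelude.Def_CaseTheorems
import Cfsg.Prelude.Def_OddOrderLocal
import Cfsg.Agent.Lib.Local.RankTwoAut
import Cfsg.Agent.Lib.Local.RankTwoSolvable
import Cfsg.Agent.S0126
import Mathlib.GroupTheory.Nilpotent
import Mathlib.GroupTheory.SpecificGroups.Cyclic

/-!
Automorphisms of a `p`-group of rank above two with an element whose centralizer has rank two: they
act with `p`-group kernel on a characteristic series with factors of order at most `p`.
-/

set_option autoImplicit false

namespace Cfsg.Lib.Local.NarrowAut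

open Subgroup RankTwoAut
open scoped commutatorElement

universe u

variable {p : ℕ} [Fact p.Prime] {R : Type u} [Group R]

/-- Automorphisms trivial on every characteristic section of order at most `p`. -/
def smallKer (p : ℕ) (R : Type u) [Group R] : Subgroup (MulAut R) where
  carrier := {g | ∀ X N : Subgroup R, X.Characteristic → N.Characteristic → N ≤ X →
    N.relIndex X ≤ p → ∀ x ∈ X, x⁻¹ * g x ∈ N}
  one_mem' := fun X N _ _ _ _ x _ => by simp [one_mem]
  mul_mem' := fun {a b} ha hb X N hX hN hNX hi x hx => by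
    have h := mul_mem (hb X N hX hN hNX hi x hx)
      (ha X N hX hN hNX hi (b x) (apply_mem_of_char hX b x hx))
    simpa [MulAut.mul_apply, mul_assoc] using h
  inv_mem' := fun {a} ha X N hX hN hNX hi x hx => by
    have h := inv_mem (ha X N hX hN hNX hi (a⁻¹ x) (apply_mem_of_char hX a⁻¹ x hx))
    simpa [MulAut.inv_apply] using h

theorem mem_smallKer_of_pow_or_commutator [Finite R] (hR : IsPGroup p R) :
    (∀ g : MulAut R, g ^ (p - 1) ∈ smallKer p R) ∧ ∀ g h : MulAut R, ⁅g, h⁆ ∈ smallKer p R := by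
  classical
  suffices H : ∀ (X N : Subgroup R), X.Characteristic → N.Characteristic → N ≤ X →
      N.relIndex X ≤ p → ∀ g : MulAut R, (∃ k : MulAut R, g = k ^ (p - 1)) ∨
      (∃ a b : MulAut R, g = ⁅a, b⁆) → ∀ x ∈ X, x⁻¹ * g x ∈ N by
    exact ⟨fun g X N hX hN hNX hi => H X N hX hN hNX hi _ (Or.inl ⟨g, rfl⟩),
      fun g h X N hX hN hNX hi => H X N hX hN hNX hi _ (Or.inr ⟨g, h, rfl⟩)⟩
  intro X N hX hN hNX hi g hg x hx
  haveI := hN
  haveI : N.Normal := inferInstance
  let M : Subgroup X := N.subgroupOf X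
  haveI : M.Normal := inferInstanceAs (N.subgroupOf X).Normal
  have hinv : ∀ k : MulAut R,
      M.map (restrictHom X (apply_mem_of_char hX) k : X →* X) = M := by
    intro k
    ext z
    constructor
    · rintro ⟨y, hy, rfl⟩
      exact mem_subgroupOf.mpr (apply_mem_of_char hN k _ (mem_subgroupOf.mp hy))
    · intro hz
      refine ⟨⟨k⁻¹ z, apply_mem_of_char hX k⁻¹ z z.2⟩,
        mem_subgroupOf.mpr (apply_mem_of_char hN k⁻¹ _ (mem_subgroupOf.mp hz)), ?_⟩
      exact Subtype.ext (k.apply_symm_apply (z : R))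
  let bar : MulAut R →* MulAut (X ⧸ M) :=
    { toFun := fun k => QuotientGroup.congr M M (restrictHom X (apply_mem_of_char hX) k) (hinv k)
      map_one' := MulEquiv.ext fun z => by
        obtain ⟨a, rfl⟩ := QuotientGroup.mk'_surjective _ z
        rfl
      map_mul' := fun k l => MulEquiv.ext fun z => by
        obtain ⟨a, rfl⟩ := QuotientGroup.mk'_surjective _ z
        rfl }
  have hbar : bar g = 1 := by
    have hcard : Nat.card (X ⧸ M) ≤ p := by rw [← index_eq_card]; exact hi
    obtain ⟨i, hi'⟩ := IsPGroup.iff_card.mp ((hR.to_subgroup X).to_quotient M)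
    rcases Nat.eq_zero_or_pos i with rfl | hipos
    · rw [pow_zero] at hi'
      haveI : Subsingleton (X ⧸ M) := (Nat.card_eq_one_iff_unique.mp hi').1
      exact MulEquiv.ext fun z => Subsingleton.elim _ _
    have hp1 : Nat.card (X ⧸ M) = p := by
      refine le_antisymm hcard (hi' ▸ ?_)
      exact Nat.le_self_pow hipos.ne' p
    haveI : IsCyclic (X ⧸ M) := isCyclic_of_prime_card hp1
    let e := IsCyclic.mulAutMulEquiv (X ⧸ M)
    apply e.injective
    rw [map_one]
    have hpow : ∀ u : (ZMod (Nat.card (X ⧸ M)))ˣ, u ^ (p - 1) = 1 := by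
      rw [hp1]; exact ZMod.units_pow_card_sub_one_eq_one p
    rcases hg with ⟨k, rfl⟩ | ⟨a, b, rfl⟩
    · rw [map_pow, map_pow, hpow]
    · rw [map_commutatorElement, map_commutatorElement, commutatorElement_eq_one_iff_mul_comm]
      exact mul_comm _ _
  exact mem_subgroupOf.mp (QuotientGroup.eq.mp
    (DFunLike.congr_fun hbar (QuotientGroup.mk' M ⟨x, hx⟩)).symm)

omit [Fact p.Prime] in
/-- An automorphism of order prime to `p` trivial on a section and on its bottom fixes the top. -/
theorem fix_step [Finite R] (hR : IsPGroup p R) {a : MulAut R} (ha : (orderOf a).Coprime p)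
    {X N : Subgroup R} (hmov : ∀ x ∈ X, x⁻¹ * a x ∈ N) (hfix : ∀ x ∈ N, a x = x) :
    ∀ x ∈ X, a x = x := by
  intro x hx
  set c := x⁻¹ * a x with hc
  have hax : a x = x * c := by rw [hc, mul_inv_cancel_left]
  have hit : ∀ n : ℕ, (a ^ n) x = x * c ^ n := by
    intro n
    induction n with
    | zero => simp
    | succ n ih =>
      rw [pow_succ', MulAut.mul_apply, ih, map_mul, map_pow, hfix c (hmov x hx), hax, mul_assoc,
        ← pow_succ']
  have h := hit (orderOf a)
  rw [pow_orderOf_eq_one, MulAut.one_apply, left_eq_mul] at h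
  obtain ⟨k, hk⟩ := hR c
  have hd1 := orderOf_dvd_of_pow_eq_one h
  have hd2 := orderOf_dvd_of_pow_eq_one hk
  have : c = 1 :=
    orderOf_eq_one_iff.mp (Nat.eq_one_of_dvd_coprimes (ha.pow_right k) hd1 hd2)
  rw [hax, this, mul_one]

/-- A `p`-subgroup that is properly contained in a subgroup of order at most `p ^ 2`. -/
theorem card_le_of_lt [Finite R] (hR : IsPGroup p R) {A B : Subgroup R} (h : A < B)
    (hB : Nat.card B ≤ p ^ 2) : Nat.card A ≤ p := by
  obtain ⟨i, hi⟩ := IsPGroup.iff_card.mp (hR.to_subgroup A)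
  obtain ⟨j, hj⟩ := IsPGroup.iff_card.mp (hR.to_subgroup B)
  have h1 := (Fact.out : p.Prime).one_lt
  have hlt : Nat.card A < Nat.card B :=
    lt_of_le_of_ne (card_le_of_le h.le) fun e => h.ne (eq_of_le_of_card_ge h.le e.ge)
  rw [hi, hj] at hlt
  rw [hj] at hB
  have := (Nat.pow_lt_pow_iff_right h1).mp hlt
  have := (Nat.pow_le_pow_iff_right h1).mp hB
  rw [hi]
  exact (Nat.pow_le_pow_right h1.le (show i ≤ 1 by omega)).trans (pow_one p).le

/-- In a narrow group of rank above two some element of order `p` has centralizer of rank two. -/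
theorem exists_slim_of_narrow [Finite R] (hn : Cfsg.IsNarrow p R) (hr : ¬ Cfsg.PRankLE p 2 R) :
    ∃ x : R, x ^ p = 1 ∧ {y : R | Commute y x ∧ y ^ p = 1}.ncard ≤ p ^ 2 := by
  classical
  rcases hn with h | ⟨R₀, R₁, h0, h1, -, hcomm, hsup⟩
  · exact absurd h hr
  haveI : IsCyclic R₀ := isCyclic_of_prime_card h0
  haveI := h1
  obtain ⟨g, hg⟩ := IsCyclic.exists_generator (α := R₀)
  have hpow : ∀ a ∈ R₀, a ^ p = 1 := by
    intro a ha
    have := pow_card_eq_one' (x := (⟨a, ha⟩ : R₀))
    rw [h0] at this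
    exact congrArg Subtype.val this
  refine ⟨g, hpow _ g.2, ?_⟩
  let P : Subgroup R :=
    { carrier := {y | ∃ a ∈ R₀, ∃ b ∈ R₁, a * b = y}
      one_mem' := ⟨1, one_mem _, 1, one_mem _, one_mul 1⟩
      mul_mem' := by
        rintro _ _ ⟨a, ha, b, hb, rfl⟩ ⟨a', ha', b', hb', rfl⟩
        refine ⟨a * a', mul_mem ha ha', b * b', mul_mem hb hb', ?_⟩
        rw [mul_assoc, mul_assoc, ← mul_assoc a' b b', hcomm a' ha' b hb, mul_assoc]
      inv_mem' := by
        rintro _ ⟨a, ha, b, hb, rfl⟩
        exact ⟨a⁻¹, inv_mem ha, b⁻¹, inv_mem hb, by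
          rw [mul_inv_rev, hcomm a⁻¹ (inv_mem ha) b⁻¹ (inv_mem hb)]⟩ }
  have hPle : R₀ ⊔ R₁ ≤ P := sup_le (fun a ha => ⟨a, ha, 1, one_mem _, mul_one a⟩)
    (fun b hb => ⟨1, one_mem _, b, hb, one_mul b⟩)
  let f : R₀ × {b : R₁ // b ^ p = 1} → R := fun ab => (ab.1 : R) * ((ab.2 : R₁) : R)
  have hsub : {y : R | Commute y g ∧ y ^ p = 1} ⊆ Set.range f := by
    rintro y ⟨hyg, hyp⟩
    have hy : y ∈ centralizer (R₀ : Set R) := by
      rw [mem_centralizer_iff]
      intro a ha
      obtain ⟨i, hi⟩ := mem_zpowers_iff.mp (hg ⟨a, ha⟩)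
      have e : (g : R) ^ i = a := congrArg Subtype.val hi
      rw [← e]
      exact ((hyg.zpow_right i).eq).symm
    obtain ⟨a, ha, b, hb, rfl⟩ := hPle (hsup.ge hy)
    refine ⟨(⟨a, ha⟩, ⟨⟨b, hb⟩, Subtype.ext ?_⟩), rfl⟩
    rw [(show Commute a b from hcomm a ha b hb).mul_pow, hpow a ha, one_mul] at hyp
    exact hyp
  haveI := Fintype.ofFinite R₁
  refine (Set.ncard_le_ncard hsub).trans ?_
  rw [← Nat.card_coe_set_eq]
  refine (Finite.card_range_le f).trans ?_
  rw [Nat.card_prod, h0, sq]
  refine Nat.mul_le_mul_left _ ?_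
  rw [Nat.card_eq_fintype_card, Fintype.card_subtype]
  exact IsCyclic.card_pow_eq_one_le (Fact.out : p.Prime).pos

/-- The second centre and its centralizer, in the presence of such an element `x`. -/
theorem slim_structure [Finite R] (hp : p ≠ 2) (hR : IsPGroup p R) (hr : ¬ Cfsg.PRankLE p 2 R)
    {x : R} (hx : x ^ p = 1) (hS : {y : R | Commute y x ∧ y ^ p = 1}.ncard ≤ p ^ 2) :
    ∃ (Z W E : Subgroup R),
      (∀ z, z ∈ Z ↔ z ∈ center R ∧ z ^ p = 1) ∧ Nat.card Z = p ∧
      (∀ w, w ∈ W ↔ w ∈ Subgroup.upperCentralSeries R 2 ∧ w ^ p = 1) ∧ Nat.card W = p ^ 2 ∧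
      IsMulCommutative W ∧ W.Characteristic ∧ (centralizer (W : Set R)).index = p ∧
      x ∉ centralizer (W : Set R) ∧
      x ∈ E ∧ Nat.card E ≤ p ^ 2 ∧ ∀ y, Commute y x → y ^ p = 1 → y ∈ E := by
  classical
  have hpp : p.Prime := Fact.out
  obtain ⟨A, hAc, hAp, hAbig⟩ : ∃ A : Subgroup R, IsMulCommutative A ∧ (∀ a ∈ A, a ^ p = 1) ∧
      p ^ 2 < Nat.card A := by
    simp only [Cfsg.PRankLE, not_forall, not_le] at hr
    obtain ⟨A, h1, h2, h3⟩ := hr
    exact ⟨A, h1, h2, h3⟩
  have hAS : ¬ ∀ a ∈ A, Commute a x := by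
    intro h
    have hle : ((A : Set R)).ncard ≤ p ^ 2 :=
      (Set.ncard_le_ncard (fun a ha => show a ∈ {y : R | Commute y x ∧ y ^ p = 1} from ⟨h a ha, hAp a ha⟩)).trans hS
    rw [← Nat.card_coe_set_eq] at hle
    exact absurd hle (by simpa using hAbig)
  -- the elements of order dividing `p` of the centre
  let Z : Subgroup R :=
    { carrier := {z | z ∈ center R ∧ z ^ p = 1}
      one_mem' := ⟨one_mem _, one_pow _⟩
      mul_mem' := fun {a b} ha hb => ⟨mul_mem ha.1 hb.1, by
        rw [(show Commute a b from (mem_center_iff.mp hb.1 a)).mul_pow, ha.2, hb.2, one_mul]⟩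
      inv_mem' := fun {a} ha => ⟨inv_mem ha.1, by rw [inv_pow, ha.2, inv_one]⟩ }
  have hxZ : x ∉ Z := fun h => hAS fun a _ => mem_center_iff.mp h.1 a
  let E : Subgroup R :=
    { carrier := {y | ∃ z ∈ Z, ∃ i : ℤ, z * x ^ i = y}
      one_mem' := ⟨1, one_mem _, 0, by simp⟩
      mul_mem' := by
        rintro _ _ ⟨z, hz, i, rfl⟩ ⟨z', hz', j, rfl⟩
        refine ⟨z * z', mul_mem hz hz', i + j, ?_⟩
        rw [zpow_add, mul_assoc, mul_assoc, ← mul_assoc z' (x ^ i), ← mem_center_iff.mp hz'.1 (x ^ i),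
          mul_assoc]
      inv_mem' := by
        rintro _ ⟨z, hz, i, rfl⟩
        exact ⟨z⁻¹, inv_mem hz, -i, by
          rw [zpow_neg, mul_inv_rev, mem_center_iff.mp (inv_mem hz.1) (x ^ i)⁻¹]⟩ }
  have hxE : x ∈ E := ⟨1, one_mem _, 1, by simp⟩
  have hZE : Z ≤ E := fun z hz => ⟨z, hz, 0, by simp⟩
  have hES : (E : Set R) ⊆ {y : R | Commute y x ∧ y ^ p = 1} := by
    rintro _ ⟨z, hz, i, rfl⟩
    have hzx : ∀ w, Commute z w := fun w => (mem_center_iff.mp hz.1 w).symm
    refine ⟨(hzx x).mul_left (Commute.zpow_self x i), ?_⟩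
    rw [(hzx _).mul_pow, hz.2, one_mul, ← zpow_natCast, ← zpow_mul, mul_comm, zpow_mul,
      zpow_natCast, hx, one_zpow]
  have hEle : Nat.card E ≤ p ^ 2 := by
    rw [← SetLike.coe_sort_coe E, Nat.card_coe_set_eq]
    exact (Set.ncard_le_ncard hES).trans hS
  have hlt : Z < E := lt_of_le_of_ne hZE fun e => hxZ (e ▸ hxE)
  have hZcard : Nat.card Z ≤ p := card_le_of_lt hR hlt hEle
  haveI : Nontrivial R := ⟨⟨x, 1, fun e => hxZ (e ▸ one_mem Z)⟩⟩
  obtain ⟨z0, hz0⟩ : ∃ z0 : center R, orderOf z0 = p := by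
    haveI := hR.center_nontrivial
    obtain ⟨n, hn⟩ := IsPGroup.iff_card.mp (hR.to_subgroup (center R))
    refine exists_prime_orderOf_dvd_card' p (hn ▸ dvd_pow_self p ?_)
    rintro rfl
    exact Finite.one_lt_card.ne' (hn.trans (pow_zero p))
  have hZp : p ≤ Nat.card Z := by
    have hmem : (z0 : R) ∈ Z := ⟨z0.2, by rw [← orderOf_coe] at hz0; rw [← hz0, pow_orderOf_eq_one]⟩
    have := Subgroup.orderOf_dvd_natCard Z hmem
    rw [orderOf_coe, hz0] at this
    exact Nat.le_of_dvd Nat.card_pos this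
  have hEbig : p ^ 2 ≤ Nat.card E := by
    obtain ⟨i, hi⟩ := IsPGroup.iff_card.mp (hR.to_subgroup E)
    have h1 : Nat.card Z < Nat.card E :=
      lt_of_le_of_ne (card_le_of_le hlt.le) fun e => hlt.ne (eq_of_le_of_card_ge hlt.le e.ge)
    rw [hi] at h1 ⊢
    refine Nat.pow_le_pow_right hpp.pos (Nat.succ_le_of_lt ?_)
    refine (Nat.pow_lt_pow_iff_right hpp.one_lt).mp ?_
    rw [pow_one]; omega
  have hSE : ∀ y, Commute y x → y ^ p = 1 → y ∈ E := by
    intro y h1 h2
    have e : (E : Set R) = {y : R | Commute y x ∧ y ^ p = 1} :=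
      Set.eq_of_subset_of_ncard_le hES (by
        refine hS.trans ?_
        rw [← Nat.card_coe_set_eq]; exact hEbig)
    exact e.ge ⟨h1, h2⟩
  -- the second centre
  let Z2 : Subgroup R := Subgroup.upperCentralSeries R 2
  have hZ2 : ∀ {w}, w ∈ Z2 ↔ ∀ g, ⁅w, g⁆ ∈ center R := by
    intro w
    show w ∈ Subgroup.upperCentralSeries R (1 + 1) ↔ _
    rw [Subgroup.mem_upperCentralSeries_succ_iff, Subgroup.upperCentralSeries_one]
  have hclass : ⁅commutator Z2, (⊤ : Subgroup Z2)⁆ = ⊥ := by
    rw [commutator_eq_bot_iff_le_centralizer]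
    refine le_trans ?_ (show center Z2 ≤ centralizer ((⊤ : Subgroup Z2) : Set Z2) from
      center_le_centralizer _)
    rw [_root_.commutator_def, commutator_le]
    intro a _ b _
    rw [mem_center_iff]
    intro c
    exact Subtype.ext (mem_center_iff.mp (hZ2.mp a.2 b) c :)
  let W : Subgroup R :=
    { carrier := {w | w ∈ Z2 ∧ w ^ p = 1}
      one_mem' := ⟨one_mem _, one_pow _⟩
      mul_mem' := fun {a b} ha hb => by
        refine ⟨mul_mem ha.1 hb.1, ?_⟩
        have := Cfsg.Agent.S0096.result hp (hR.to_subgroup Z2) hclass (⟨a, ha.1⟩ * ⟨b, hb.1⟩)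
          (mul_mem (subset_closure (Subtype.ext ha.2)) (subset_closure (Subtype.ext hb.2)))
        exact congrArg Subtype.val this
      inv_mem' := fun {a} ha => ⟨inv_mem ha.1, by rw [inv_pow, ha.2, inv_one]⟩ }
  have hWZ : ∀ w ∈ W, ∀ g, ⁅w, g⁆ ∈ Z := by
    intro w hw g
    refine ⟨hZ2.mp hw.1 g, ?_⟩
    have hc : ∀ r, Commute ⁅w, g⁆ r := fun r => (mem_center_iff.mp (hZ2.mp hw.1 g) r).symm
    have e : g * w * g⁻¹ = ⁅w, g⁆⁻¹ * w := by simp [commutatorElement_def, mul_assoc]
    have e2 := congrArg (· ^ p) e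
    simp only [conj_pow, (hc w).inv_left.mul_pow, hw.2, mul_one, mul_inv_cancel, inv_pow] at e2
    exact inv_eq_one.mp e2.symm
  have hZW : Z ≤ W := fun z hz => ⟨hZ2.mpr fun g => by
    rw [commutatorElement_eq_one_iff_mul_comm.mpr (mem_center_iff.mp hz.1 g).symm]
    exact one_mem _, hz.2⟩
  have hxW : x ∉ W := by
    intro hxW
    apply hAS
    let ψ : A → Z := fun a => ⟨⁅x, (a : R)⁆, hWZ x hxW a⟩
    have hfib : ∀ a b : A, ψ a = ψ b → Commute x ((b : R)⁻¹ * a) := by
      intro a b h
      have h' : ⁅x, (a : R)⁆ = ⁅x, (b : R)⁆ := congrArg Subtype.val h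
      simp only [commutatorElement_def, mul_assoc, mul_right_inj] at h'
      have h2 := congrArg (fun u => (b : R)⁻¹ * u * (a : R)) h'
      simp only [mul_assoc, inv_mul_cancel, mul_one, inv_mul_cancel_left] at h2
      have h3 : (b : R)⁻¹ * (a : R) * x⁻¹ = x⁻¹ * ((b : R)⁻¹ * a) := by
        simpa [mul_assoc] using h2
      exact (Commute.inv_right_iff.mp h3).symm
    have hker : p ^ 2 ≤ Nat.card (A ⊓ centralizer ({x} : Set R) : Subgroup R) := by
      let C := centralizer ({x} : Set R)
      have hinj : Function.Injective (fun q : A ⧸ C.subgroupOf A => ψ q.out) := by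
        intro q q' h
        rw [← QuotientGroup.out_eq' q, ← QuotientGroup.out_eq' q', QuotientGroup.eq,
          mem_subgroupOf, mem_centralizer_singleton_iff]
        simpa [mul_assoc] using (hfib q'.out q.out h.symm).symm.eq
      have hle := Nat.card_le_card_of_injective _ hinj
      rw [← index_eq_card] at hle
      have hmul := card_mul_index (C.subgroupOf A)
      have hc2 : Nat.card (C.subgroupOf A) = Nat.card (A ⊓ C : Subgroup R) := by
        rw [← card_map_of_injective (K := C.subgroupOf A) (f := A.subtype) A.subtype_injective,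
          subgroupOf_map_subtype, inf_comm]
      obtain ⟨i, hi⟩ := IsPGroup.iff_card.mp (hR.to_subgroup (A ⊓ C))
      rw [hi]
      refine Nat.pow_le_pow_right hpp.pos ?_
      by_contra hi2
      have : Nat.card (C.subgroupOf A) ≤ p := by
        rw [hc2, hi]
        exact (Nat.pow_le_pow_right hpp.pos (show i ≤ 1 by omega)).trans (pow_one p).le
      have := Nat.mul_le_mul this (hle.trans hZcard)
      rw [hmul, ← sq] at this
      omega
    have hsub : A ⊓ centralizer ({x} : Set R) ≤ E := fun a ha =>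
      hSE a (mem_centralizer_singleton_iff.mp ha.2) (hAp a ha.1)
    have hxA : x ∈ A := (eq_of_le_of_card_ge hsub (hEle.trans hker)).ge hxE |>.1
    exact fun a ha => congrArg Subtype.val (hAc.is_comm.comm ⟨a, ha⟩ ⟨x, hxA⟩)
  have hWC : ∀ w ∈ W, Commute w x → w ∈ Z := by
    intro w hw hc
    by_contra hwZ
    apply hxW
    have hle : E ⊓ W ≤ E := inf_le_left
    have hbig : p ^ 2 ≤ Nat.card (E ⊓ W : Subgroup R) := by
      obtain ⟨i, hi⟩ := IsPGroup.iff_card.mp (hR.to_subgroup (E ⊓ W))
      have hlt' : Z < E ⊓ W := lt_of_le_of_ne (le_inf hZE hZW) fun e =>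
        hwZ (e ▸ ⟨hSE w hc hw.2, hw⟩)
      have h1 : Nat.card Z < Nat.card (E ⊓ W : Subgroup R) :=
        lt_of_le_of_ne (card_le_of_le hlt'.le) fun e => hlt'.ne (eq_of_le_of_card_ge hlt'.le e.ge)
      rw [hi] at h1 ⊢
      refine Nat.pow_le_pow_right hpp.pos (Nat.succ_le_of_lt ?_)
      refine (Nat.pow_lt_pow_iff_right hpp.one_lt).mp ?_
      rw [pow_one]; omega
    exact ((eq_of_le_of_card_ge hle (hEle.trans hbig)).ge hxE).2
  have hWcard : Nat.card W ≤ p ^ 2 := by
    let C := centralizer ({x} : Set R)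
    have hinj : Function.Injective
        (fun q : W ⧸ C.subgroupOf W => (⟨⁅(q.out : R), x⁆, hWZ _ q.out.2 x⟩ : Z)) := by
      intro q q' h
      have h' : ⁅(q.out : R), x⁆ = ⁅(q'.out : R), x⁆ := congrArg Subtype.val h
      simp only [commutatorElement_def, mul_left_inj] at h'
      rw [← QuotientGroup.out_eq' q, ← QuotientGroup.out_eq' q', QuotientGroup.eq,
        mem_subgroupOf, mem_centralizer_singleton_iff]
      have h2 := congrArg (fun u => (q.out : R)⁻¹ * u * (q'.out : R)) h'
      simp only [mul_assoc, inv_mul_cancel, mul_one, inv_mul_cancel_left] at h2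
      simpa [mul_assoc] using h2.symm
    have hle := Nat.card_le_card_of_injective _ hinj
    rw [← index_eq_card] at hle
    have hC : Nat.card (C.subgroupOf W) ≤ Nat.card Z := by
      rw [← card_map_of_injective (K := C.subgroupOf W) (f := W.subtype) W.subtype_injective,
        subgroupOf_map_subtype]
      exact card_le_of_le fun w hw => hWC w hw.2 (mem_centralizer_singleton_iff.mp hw.1)
    rw [← card_mul_index (C.subgroupOf W), sq]
    exact Nat.mul_le_mul (hC.trans hZcard) (hle.trans hZcard)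
  obtain ⟨w₀, hw₀, hw₀Z⟩ : ∃ w₀ ∈ W, w₀ ∉ Z := by
    by_contra hcon
    push Not at hcon
    have hnc : ¬ IsCyclic R := by
      intro hc
      haveI := Fintype.ofFinite R
      have h := IsCyclic.card_pow_eq_one_le (α := R) hpp.pos
      have hle : (A : Set R).ncard ≤ p := by
        refine le_trans ?_ h
        rw [← Set.ncard_coe_finset]
        exact Set.ncard_le_ncard fun a ha => by simpa using hAp a ha
      rw [← Nat.card_coe_set_eq] at hle
      have h' : p ≤ p ^ 2 := Nat.le_self_pow two_ne_zero p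
      exact absurd (hle.trans h') (by simpa using hAbig)
    obtain ⟨E0, hE0n, hE0e, hE0c⟩ := Cfsg.Agent.S0126.result hp hR hnc
    have hne : E0 ≠ ⊥ := by
      intro e
      rw [e, card_bot] at hE0c
      exact absurd hE0c (Nat.one_lt_pow two_ne_zero hpp.one_lt).ne
    have hK : ⁅E0, (⊤ : Subgroup R)⁆ ≤ center R := by
      have hlt1 := Cfsg.Lib.PGroup.commutator_lt_of_isPGroup (hR.to_subgroup E0)
        (hR.to_subgroup ⊤) (by rw [normalizer_eq_top]) hne
      have hKc : Nat.card (⁅E0, (⊤ : Subgroup R)⁆ : Subgroup R) ≤ p := card_le_of_lt hR hlt1 hE0c.le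
      by_cases hK0 : ⁅E0, (⊤ : Subgroup R)⁆ = ⊥
      · rw [hK0]; exact bot_le
      have hlt2 := Cfsg.Lib.PGroup.commutator_lt_of_isPGroup (hR.to_subgroup ⁅E0, (⊤ : Subgroup R)⁆)
        (hR.to_subgroup ⊤) (by rw [normalizer_eq_top]) hK0
      obtain ⟨i, hi⟩ := IsPGroup.iff_card.mp (hR.to_subgroup ⁅⁅E0, (⊤ : Subgroup R)⁆, (⊤ : Subgroup R)⁆)
      have h2 : Nat.card (⁅⁅E0, (⊤ : Subgroup R)⁆, (⊤ : Subgroup R)⁆ : Subgroup R) < Nat.card (⁅E0, (⊤ : Subgroup R)⁆ : Subgroup R) :=
        lt_of_le_of_ne (card_le_of_le hlt2.le) fun e => hlt2.ne (eq_of_le_of_card_ge hlt2.le e.ge)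
      have hi0 : i = 0 := by
        by_contra hi0
        have := Nat.le_self_pow hi0 p
        omega
      have hb : ⁅⁅E0, (⊤ : Subgroup R)⁆, (⊤ : Subgroup R)⁆ = ⊥ :=
        eq_bot_of_card_eq _ (by rw [hi, hi0, pow_zero])
      rw [commutator_eq_bot_iff_le_centralizer, coe_top, centralizer_univ] at hb
      exact hb
    have hE0W : E0 ≤ Z := fun e he => hcon e ⟨hZ2.mpr fun g =>
      hK (commutator_mem_commutator he (mem_top g)), hE0e.2 e he⟩
    have := (card_le_of_le hE0W).trans hZcard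
    rw [hE0c] at this
    exact absurd this (not_le.mpr (by
      rw [sq]; exact lt_mul_of_one_lt_right hpp.pos hpp.one_lt))
  -- the characteristic subgroup of index `p`
  haveI hWchar : W.Characteristic := characteristic_iff_map_le.mpr fun φ => by
    rintro _ ⟨w, hw, rfl⟩
    refine ⟨hZ2.mpr fun g => ?_, by rw [MulEquiv.coe_toMonoidHom, ← map_pow, hw.2, map_one]⟩
    have h := hZ2.mp hw.1 (φ.symm g)
    have h2 : φ ⁅w, φ.symm g⁆ ∈ center R := apply_mem_of_char inferInstance φ _ h
    rw [map_commutatorElement, φ.apply_symm_apply] at h2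
    exact h2
  let T := centralizer (W : Set R)
  haveI : T.Characteristic := inferInstanceAs (centralizer (W : Set R)).Characteristic
  have hxT : x ∉ T := fun h => hw₀Z (hWC w₀ hw₀ (mem_centralizer_iff.mp h w₀ hw₀))
  have hTindex : T.index ≤ p := by
    have hW' : ∀ g, Commute g w₀ → g ∈ T := by
      intro g hg
      refine mem_centralizer_iff.mpr fun w hw => ?_
      let C := centralizer ({g} : Set R)
      have hWle : W ⊓ C = W := by
        refine eq_of_le_of_card_ge inf_le_left (hWcard.trans ?_)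
        obtain ⟨i, hi⟩ := IsPGroup.iff_card.mp (hR.to_subgroup (W ⊓ C))
        have hZle : Z ≤ W ⊓ C := le_inf hZW fun z hz =>
          mem_centralizer_singleton_iff.mpr (mem_center_iff.mp hz.1 g).symm
        have hlt' : Z < W ⊓ C := lt_of_le_of_ne hZle fun e =>
          hw₀Z (e ▸ ⟨hw₀, mem_centralizer_singleton_iff.mpr hg.symm.eq⟩)
        have h1 : Nat.card Z < Nat.card (W ⊓ C : Subgroup R) :=
          lt_of_le_of_ne (card_le_of_le hlt'.le) fun e => hlt'.ne (eq_of_le_of_card_ge hlt'.le e.ge)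
        rw [hi] at h1 ⊢
        refine Nat.pow_le_pow_right hpp.pos (Nat.succ_le_of_lt ?_)
        refine (Nat.pow_lt_pow_iff_right hpp.one_lt).mp ?_
        rw [pow_one]; omega
      exact mem_centralizer_singleton_iff.mp (hWle.ge hw).2
    have hinj : Function.Injective
        (fun q : R ⧸ T => (⟨⁅w₀, q.out⁆, hWZ w₀ hw₀ q.out⟩ : Z)) := by
      intro q q' h
      have h' : ⁅w₀, q.out⁆ = ⁅w₀, q'.out⁆ := congrArg Subtype.val h
      rw [← QuotientGroup.out_eq' q, ← QuotientGroup.out_eq' q', QuotientGroup.eq]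
      apply hW'
      simp only [commutatorElement_def, mul_assoc, mul_right_inj] at h'
      have h2 := congrArg (fun u => q.out⁻¹ * u * q'.out) h'
      simp only [mul_assoc, inv_mul_cancel, mul_one, inv_mul_cancel_left] at h2
      exact Commute.inv_right_iff.mp (show Commute (q.out⁻¹ * q'.out) w₀⁻¹ by
        simpa [Commute, SemiconjBy, mul_assoc] using h2.symm)
    have := Nat.card_le_card_of_injective _ hinj
    rw [← index_eq_card] at this
    exact this.trans hZcard
  have hW2 : Nat.card W = p ^ 2 := by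
    obtain ⟨i, hi⟩ := IsPGroup.iff_card.mp (hR.to_subgroup W)
    have hlt' : Z < W := lt_of_le_of_ne hZW fun e => hw₀Z (e ▸ hw₀)
    have h1 : Nat.card Z < Nat.card W :=
      lt_of_le_of_ne (card_le_of_le hlt'.le) fun e => hlt'.ne (eq_of_le_of_card_ge hlt'.le e.ge)
    refine le_antisymm hWcard ?_
    rw [hi] at h1 ⊢
    refine Nat.pow_le_pow_right hpp.pos (Nat.succ_le_of_lt ?_)
    refine (Nat.pow_lt_pow_iff_right hpp.one_lt).mp ?_
    rw [pow_one]; omega
  refine ⟨Z, W, E, fun z => Iff.rfl, le_antisymm hZcard hZp, fun w => Iff.rfl, hW2, ?_, hWchar, ?_,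
    hxT, hxE, hEle, hSE⟩
  · refine ⟨⟨fun a b => ?_⟩⟩
    exact IsPGroup.commutative_of_card_eq_prime_sq hW2 a b
  · haveI : T.Normal := inferInstance
    obtain ⟨i, hi⟩ := (hR.to_quotient T).exists_card_eq
    rw [← index_eq_card] at hi
    have hi0 : i ≠ 0 := fun h => hxT (by
      rw [index_eq_one.mp (show T.index = 1 by rw [hi, h, pow_zero])]; exact mem_top x)
    refine le_antisymm hTindex ?_
    show p ≤ T.index
    rw [hi]
    exact Nat.le_self_pow hi0 p

/-- The kernel on the small characteristic sections is a `p`-group. -/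
theorem isPGroup_smallKer [Finite R] (hp : p ≠ 2) (hR : IsPGroup p R) (hr : ¬ Cfsg.PRankLE p 2 R)
    {x : R} (hx : x ^ p = 1) (hS : {y : R | Commute y x ∧ y ^ p = 1}.ncard ≤ p ^ 2) :
    IsPGroup p (smallKer p R) := by
  classical
  have hpp : p.Prime := Fact.out
  obtain ⟨Z, W, E, -, -, -, -, -, hWchar, hTi, hxT, hxE, hEle, hSE⟩ := slim_structure hp hR hr hx hS
  haveI := hWchar
  let T := centralizer (W : Set R)
  haveI : T.Characteristic := inferInstanceAs (centralizer (W : Set R)).Characteristic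
  have hTindex : T.index ≤ p := hTi.le
  -- fixed points
  obtain ⟨Q, hQ, hQe, hres⟩ := exists_char_exponent hp hR
  haveI : Q.Characteristic := characteristic_iff_map_le.mpr fun φ => by
    rintro _ ⟨y, hy, rfl⟩
    exact hQ φ y hy
  haveI : Finite (MulAut R) := Finite.of_injective (fun f => (f : R → R)) DFunLike.coe_injective
  refine isPGroup_of_forall_coprime fun a ha hcop => ?_
  have hfixT : ∀ n, ∀ X : Subgroup R, X.Characteristic → Nat.card X = n → X ≤ Q ⊓ T →
      ∀ y ∈ X, a y = y := by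
    intro n
    induction n using Nat.strong_induction_on with
    | _ n IH =>
      intro X hX hn hXle
      by_cases hX0 : X = ⊥
      · intro y hy
        rw [hX0, mem_bot] at hy
        rw [hy, map_one]
      haveI := hX
      have hlt' : ⁅X, (⊤ : Subgroup R)⁆ < X := Cfsg.Lib.PGroup.commutator_lt_of_isPGroup
        (hR.to_subgroup X) (hR.to_subgroup ⊤) (by rw [normalizer_eq_top]) hX0
      set N := ⁅X, (⊤ : Subgroup R)⁆ with hN
      have hi : N.relIndex X ≤ p := by
        let C := centralizer ({x} : Set R)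
        have hinj : Function.Injective
            (fun q : X ⧸ C.subgroupOf X => (⟨⁅(q.out : R), x⁆,
              commutator_mem_commutator q.out.2 (mem_top x)⟩ : N)) := by
          intro q q' h
          have h' : ⁅(q.out : R), x⁆ = ⁅(q'.out : R), x⁆ := congrArg Subtype.val h
          simp only [commutatorElement_def, mul_left_inj] at h'
          rw [← QuotientGroup.out_eq' q, ← QuotientGroup.out_eq' q', QuotientGroup.eq,
            mem_subgroupOf, mem_centralizer_singleton_iff]
          have h2 := congrArg (fun u => (q.out : R)⁻¹ * u * (q'.out : R)) h'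
          simp only [mul_assoc, inv_mul_cancel, mul_one, inv_mul_cancel_left] at h2
          simpa [mul_assoc] using h2.symm
        have hle := Nat.card_le_card_of_injective _ hinj
        rw [← index_eq_card] at hle
        have hC : Nat.card (C.subgroupOf X) ≤ p := by
          rw [← card_map_of_injective (K := C.subgroupOf X) (f := X.subtype) X.subtype_injective,
            subgroupOf_map_subtype]
          refine (card_le_of_le (K := E ⊓ T) fun y hy => ?_).trans
            (card_le_of_lt hR (lt_of_le_of_ne inf_le_left fun e => hxT (e.ge hxE).2) hEle)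
          exact ⟨hSE y (mem_centralizer_singleton_iff.mp hy.1) (hQe y (hXle hy.2).1), (hXle hy.2).2⟩
        have e1 := Cfsg.Lib.Core.card_mul_relIndex hlt'.le
        have e2 := card_mul_index (C.subgroupOf X)
        refine Nat.le_of_mul_le_mul_left ?_ (Nat.card_pos (α := N))
        calc Nat.card N * N.relIndex X = Nat.card X := e1
          _ = Nat.card (C.subgroupOf X) * (C.subgroupOf X).index := e2.symm
          _ ≤ p * Nat.card N := Nat.mul_le_mul hC hle
          _ = Nat.card N * p := mul_comm _ _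
      have hNlt : Nat.card N < n := hn ▸
        lt_of_le_of_ne (card_le_of_le hlt'.le) fun e => hlt'.ne (eq_of_le_of_card_ge hlt'.le e.ge)
      exact fix_step hR hcop (fun y hy => ha X N hX inferInstance hlt'.le hi y hy)
        (IH _ hNlt N inferInstance rfl (hlt'.le.trans hXle))
  have hfixQ : ∀ y ∈ Q, a y = y := by
    have hi : (Q ⊓ T).relIndex Q ≤ p := by
      rw [inf_relIndex_left]
      exact (Nat.le_of_dvd (Nat.pos_of_ne_zero index_ne_zero_of_finite)
        (relIndex_dvd_index_of_normal T Q)).trans hTindex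
    exact fix_step hR hcop (fun y hy => ha Q (Q ⊓ T) inferInstance inferInstance inf_le_left hi y hy)
      (hfixT _ (Q ⊓ T) inferInstance rfl le_rfl)
  refine pow_eq_one_of_coprime ?_ hcop
  have hker : a ∈ (restrictHom Q hQ).ker :=
    MonoidHom.mem_ker.mpr (MulEquiv.ext fun y => Subtype.ext (hfixQ y y.2))
  obtain ⟨k, hk⟩ := hres ⟨a, hker⟩
  exact ⟨k, congrArg Subtype.val hk⟩

/-- The operator groups of such a group: derived group a `p`-group, exponent dividing `p - 1` mod `p`. -/
theorem operator_facts [Finite R] (hp : p ≠ 2) (hR : IsPGroup p R) (hr : ¬ Cfsg.PRankLE p 2 R)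
    {x : R} (hx : x ^ p = 1) (hS : {y : R | Commute y x ∧ y ^ p = 1}.ncard ≤ p ^ 2)
    {H : Type*} [Group H] [Finite H] (φ : H →* MulAut R) (hker : IsPGroup p φ.ker) :
    IsPGroup p (commutator H) ∧ ∀ h : H, (orderOf h).Coprime p → orderOf h ∣ p - 1 := by
  obtain ⟨h1, h2⟩ := mem_smallKer_of_pow_or_commutator (p := p) (R := R) hR
  have hpull : ∀ g : H, φ g ∈ smallKer p R → ∃ k : ℕ, g ^ p ^ k = 1 := by
    intro g hg
    obtain ⟨i, hi⟩ := isPGroup_smallKer hp hR hr hx hS ⟨φ g, hg⟩
    obtain ⟨j, hj⟩ := hker ⟨g ^ p ^ i, by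
      rw [MonoidHom.mem_ker, map_pow]
      exact congrArg Subtype.val hi⟩
    refine ⟨i + j, ?_⟩
    rw [pow_add, pow_mul]
    exact congrArg Subtype.val hj
  refine ⟨fun g => ?_, fun h hh => ?_⟩
  · have hle : commutator H ≤ (smallKer p R).comap φ := by
      rw [_root_.commutator_def, commutator_le]
      intro a _ b _
      rw [mem_comap, map_commutatorElement]
      exact h2 _ _
    obtain ⟨k, hk⟩ := hpull g (hle g.2)
    exact ⟨k, Subtype.ext hk⟩
  · apply orderOf_dvd_of_pow_eq_one
    refine pow_eq_one_of_coprime (hpull _ (by rw [map_pow]; exact h1 _))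
      (hh.coprime_dvd_left ?_)
    rw [orderOf_pow]
    exact Nat.div_dvd_of_dvd (Nat.gcd_dvd_left _ _)

end Cfsg.Lib.Local.NarrowAut
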