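import Cfsg.Agent.Lib.Local.NarrowAut
import Cfsg.Agent.Lib.Local.RankTwoSolvable
import Cfsg.Agent.Lib.Fusion.Basic
import Cfsg.Agent.Lib.PGroup.Elements
import Cfsg.Agent.Lib.Core.Fitting
import Cfsg.Agent.Lib.Core.Layer
import Cfsg.Prelude.Def_Transfer

/-!
Odd soluble groups whose cores have operator groups with `p`-group derived group.
-/

set_option autoImplicit false

namespace Cfsg.Lib.Local.NarrowAut

open Subgroup RankTwoAut
open scoped commutatorElement

variable {G : Type*} [Group G] [Finite G] {p : ℕ} [Fact p.Prime]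

/-- A group with `p`-group derived group has `O_p` of index prime to `p`. -/
theorem commutator_le_pCore_of_isPGroup (h : IsPGroup p (commutator G)) :
    commutator G ≤ Cfsg.pCore p G ∧ (Cfsg.pCore p G).index.Coprime p := by
  have hc : commutator G ≤ Cfsg.pCore p G := Cfsg.Lib.Core.le_pCore h
  refine ⟨hc, ?_⟩
  obtain ⟨T⟩ : Nonempty (Sylow p G) := inferInstance
  have hle : commutator G ≤ (T : Subgroup G) := hc.trans (Cfsg.Lib.Core.pCore_le_sylow T)
  haveI : (T : Subgroup G).Normal := Normal.of_commutator_le _ hle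
  rw [le_antisymm (Cfsg.Lib.Core.pCore_le_sylow T) (Cfsg.Lib.Core.le_pCore T.isPGroup'),
    Nat.coprime_comm, (Fact.out : p.Prime).coprime_iff_not_dvd]
  exact T.not_dvd_index

/-- The `p`-structure of `G` from that of `G ⧸ O_{p'}`. -/
theorem structure_of_quotient (hodd : Odd (Nat.card G))
    (hC : IsPGroup p (commutator (G ⧸ Cfsg.pPrimeCore p G)))
    (hq : ∀ q : ℕ, q.Prime → q ∣ (Cfsg.pPrimeCore p G).index → q ≤ p) :
    (∀ q : ℕ, q.Prime → q ∣ (Cfsg.pPrimeCore p G).index → q ≤ p) ∧
      ((p = 3 ∨ ∀ q : ℕ, q.Prime → q ∣ Nat.card G → p ≤ q) → Cfsg.HasNormalPComplement p G) ∧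
      Cfsg.HasNormalPComplement p ↥(commutator G) ∧
      (∀ L : Subgroup ↥(commutator G), (Nat.card L).Coprime p → L ≤ Cfsg.pPrimeCore p ↥(commutator G)) ∧
      commutator G ≤ Cfsg.pPrimePCore p G ∧ ((Cfsg.pPrimePCore p G).index).Coprime p := by
  obtain ⟨g1, g2⟩ := commutator_le_pCore_of_isPGroup hC
  have hcop := Cfsg.Lib.Core.pPrimeCore_coprime p G
  set O := Cfsg.pPrimeCore p G with hOdef
  have h1 : commutator G ≤ Cfsg.pPrimePCore p G := by
    rw [_root_.commutator_def, commutator_le]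
    intro x _ y _
    show QuotientGroup.mk' O ⁅x, y⁆ ∈ Cfsg.pCore p (G ⧸ O)
    rw [map_commutatorElement]
    exact g1 (commutator_mem_commutator (mem_top _) (mem_top _))
  have h2 : (Cfsg.pPrimePCore p G).index.Coprime p := by
    show ((Cfsg.pCore p (G ⧸ O)).comap (QuotientGroup.mk' O)).index.Coprime p
    rw [index_comap_of_surjective _ (QuotientGroup.mk'_surjective O)]
    exact g2
  let N : Subgroup ↥(commutator G) := O.subgroupOf (commutator G)
  have hNcop : (Nat.card N).Coprime p :=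
    hcop.coprime_dvd_left (Subgroup.card_dvd_of_injective
      (((commutator G).subtype.comp N.subtype).codRestrict O fun z => z.2)
      fun a b hab => Subtype.ext (Subtype.ext (congrArg Subtype.val hab :)))
  have hNq : IsPGroup p (↥(commutator G) ⧸ N) := by
    intro z
    obtain ⟨⟨g, hg⟩, rfl⟩ := QuotientGroup.mk'_surjective N z
    obtain ⟨k, hk⟩ := Cfsg.Lib.Core.pCore_isPGroup p (G ⧸ O) ⟨QuotientGroup.mk' O g, h1 hg⟩
    refine ⟨k, ?_⟩
    rw [← map_pow]
    refine (QuotientGroup.eq_one_iff _).mpr (Subgroup.mem_subgroupOf.mpr ?_)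
    rw [Subgroup.coe_pow, ← QuotientGroup.eq_one_iff, QuotientGroup.mk_pow]
    exact congrArg Subtype.val hk
  refine ⟨hq, fun hcase => ?_, Cfsg.Lib.Fusion.hasNormalPComplement_of_normal N hNcop hNq,
    fun L hL => ?_, h1, h2⟩
  · refine Cfsg.Lib.Fusion.hasNormalPComplement_of_normal O hcop ?_
    rw [IsPGroup.iff_card]
    refine ⟨_, Nat.eq_prime_pow_of_unique_prime_dvd Nat.card_pos.ne' fun {q} hq' hdvd => ?_⟩
    have hle : q ≤ p := hq q hq' (by rw [index_eq_card]; exact hdvd)
    have hqG : q ∣ Nat.card G := hdvd.trans (card_quotient_dvd_card O)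
    rcases hcase with rfl | hmin
    · have hq2 := hq'.two_le
      have hne : q ≠ 2 := by
        rintro rfl
        exact Nat.not_even_iff_odd.mpr hodd (even_iff_two_dvd.mpr hqG)
      omega
    · exact le_antisymm hle (hmin q hq' hqG)
  · refine le_trans ?_ (Cfsg.Lib.Core.le_pPrimeCore hNcop)
    intro l hl
    rw [← QuotientGroup.eq_one_iff]
    exact pow_eq_one_of_coprime (hNq _)
      ((hL.coprime_dvd_left (Subgroup.orderOf_dvd_natCard L hl)).coprime_dvd_left
        (orderOf_map_dvd (QuotientGroup.mk' N) l))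

omit [Fact p.Prime] in
/-- The rank bound pulls back along injective homomorphisms. -/
theorem pRankLE_of_injective {H : Type*} [Group H] {k : ℕ} (f : H →* G) (hf : Function.Injective f)
    (h : Cfsg.PRankLE p k G) : Cfsg.PRankLE p k H := by
  intro A hAc hAp
  rw [← card_map_of_injective hf]
  refine h _ inferInstance ?_
  rintro _ ⟨a, ha, rfl⟩
  rw [← map_pow, hAp a ha, map_one]

/-- A primary element of the Fitting subgroup lies in the corresponding core. -/
theorem mem_pCore_of_fitting {z : G} (hz : z ∈ Cfsg.fittingSubgroup G)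
    (k : ℕ) (ho : orderOf z = p ^ k) : z ∈ Cfsg.pCore p G := by
  set F := Cfsg.fittingSubgroup G with hF
  haveI : Group.IsNilpotent F := Cfsg.Lib.Core.fittingSubgroup_isNilpotent G
  obtain ⟨T⟩ : Nonempty (Sylow p F) := inferInstance
  haveI : (T : Subgroup F).Normal := by
    have h := (Group.isNilpotent_of_finite_tfae (G := F)).out 0 3
    exact h.mp inferInstance p inferInstance T
  haveI : (T : Subgroup F).Characteristic := T.characteristic_of_normal inferInstance
  haveI : F.Normal := Cfsg.Lib.Core.fittingSubgroup_normal' G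
  refine Cfsg.Lib.Core.le_pCore' (N := (T : Subgroup F).map F.subtype) inferInstance
    (T.isPGroup'.map _) ⟨⟨z, hz⟩, ?_, rfl⟩
  have hzp : IsPGroup p (zpowers (⟨z, hz⟩ : F)) := by
    rw [IsPGroup.iff_card]
    exact ⟨k, by rw [Nat.card_zpowers, Subgroup.orderOf_mk, ho]⟩
  obtain ⟨T', hT'⟩ := hzp.exists_le_sylow
  haveI := Sylow.unique_of_normal T inferInstance
  rw [Subsingleton.elim T T']
  exact hT' (mem_zpowers _)

/-- `G' ≤ F (G)` when every `O_s` has operator group with `s`-group derived group. -/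
theorem commutator_le_fitting [Group.IsSolvable G]
    (hops : ∀ (s : ℕ) [Fact s.Prime],
      IsPGroup s (commutator (MulAut.conjNormal (H := Cfsg.pCore s G)).range)) :
    commutator G ≤ Cfsg.fittingSubgroup G := by
  classical
  set F := Cfsg.fittingSubgroup G with hF
  haveI hFn : F.Normal := Cfsg.Lib.Core.fittingSubgroup_normal' G
  have acts : ∀ (s q : ℕ) (y z : G) (k : ℕ), s.Prime → q.Prime → s ≠ q → z ∈ Cfsg.pCore s G →
      orderOf y = q ^ k → y ∈ commutator G → Commute y z := by
    intro s q y z k hs hq hsq hz hy hyc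
    haveI : Fact s.Prime := ⟨hs⟩
    let φ : G →* MulAut (Cfsg.pCore s G) := MulAut.conjNormal
    haveI : Finite φ.range := Finite.of_surjective φ.rangeRestrict φ.rangeRestrict_surjective
    have h : IsPGroup s (commutator φ.range) := hops s
    obtain ⟨i, hi⟩ := h ⟨φ.rangeRestrict y, (map_commutator ⊤ ⊤ φ.rangeRestrict).trans_le
      (commutator_mono le_top le_top) ⟨y, hyc, rfl⟩⟩
    have key : φ y = 1 := by
      refine orderOf_eq_one_iff.mp (Nat.eq_one_of_dvd_coprimes
        ((Nat.coprime_primes hq hs).mpr hsq.symm |>.pow k i)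
        (hy ▸ orderOf_map_dvd φ y) ?_)
      exact orderOf_dvd_of_pow_eq_one (congrArg Subtype.val (congrArg Subtype.val hi))
    have e : ((φ y ⟨z, hz⟩ : Cfsg.pCore s G) : G) = z := by rw [key]; rfl
    rw [MulAut.conjNormal_apply, mul_inv_eq_iff_eq_mul] at e
    exact e
  have hCF : centralizer (F : Set G) ≤ F := Cfsg.Lib.Core.centralizer_fitting_le_of_isSolvable
  intro g hg
  refine Cfsg.Lib.PGroup.mem_of_ordCompl_pow_mem fun r hr' hrd => ?_
  haveI : Fact r.Prime := ⟨hr'⟩
  let C : Subgroup G := centralizer {z : G | z ∈ F ∧ (orderOf z).Coprime r}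
  haveI hCn : C.Normal := by
    refine ⟨fun c hc a => mem_centralizer_iff.mpr fun z hz => ?_⟩
    have hz' : a⁻¹ * z * a ∈ {z : G | z ∈ F ∧ (orderOf z).Coprime r} := by
      refine ⟨by simpa using hFn.conj_mem z hz.1 a⁻¹, ?_⟩
      rw [show a⁻¹ * z * a = MulAut.conj a⁻¹ z by simp, MulEquiv.orderOf_eq]
      exact hz.2
    have h := mem_centralizer_iff.mp hc _ hz'
    calc z * (a * c * a⁻¹) = a * ((a⁻¹ * z * a) * c) * a⁻¹ := by group
      _ = a * c * a⁻¹ * z := by rw [h]; group
  let M : Subgroup G := commutator G ⊓ C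
  haveI : M.Normal := inferInstance
  have hcentral : ∀ y ∈ M, (orderOf y).Coprime r → ∀ c ∈ M, Commute y c := by
    intro y hy hyr c hc
    have hyF : y ∈ F := by
      refine hCF (mem_centralizer_iff.mpr fun z hz => ?_)
      suffices h : y ∈ centralizer ({z} : Set G) from (mem_centralizer_singleton_iff.mp h).symm
      refine Cfsg.Lib.PGroup.mem_of_ordCompl_pow_mem fun q hq hqd => ?_
      rw [mem_centralizer_singleton_iff]
      set y' := y ^ (orderOf y / q ^ (orderOf y).factorization q) with hy'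
      have hy'M : y' ∈ M := pow_mem hy _
      suffices h : z ∈ centralizer ({y'} : Set G) from (mem_centralizer_singleton_iff.mp h).symm
      refine Cfsg.Lib.PGroup.mem_of_ordCompl_pow_mem fun s hs hsd => ?_
      rw [mem_centralizer_singleton_iff]
      haveI : Fact s.Prime := ⟨hs⟩
      by_cases hsq : s = q
      · subst hsq
        refine mem_centralizer_iff.mp hy'M.2 _ ⟨pow_mem hz _, ?_⟩
        rw [Cfsg.Lib.PGroup.orderOf_ordCompl_pow hs]
        refine Nat.Coprime.pow_left _ ((Nat.coprime_primes hs hr').mpr ?_)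
        rintro rfl
        exact Nat.Prime.not_coprime_iff_dvd.mpr ⟨s, hs, hqd, dvd_rfl⟩ hyr
      · exact ((acts s q y' _ _ hs hq hsq
          (mem_pCore_of_fitting (pow_mem hz _) _ (Cfsg.Lib.PGroup.orderOf_ordCompl_pow hs))
          (Cfsg.Lib.PGroup.orderOf_ordCompl_pow hq) hy'M.1).symm).eq
    exact mem_centralizer_iff.mp hc.2 y ⟨hyF, hyr⟩
  have hq : IsPGroup r (M ⧸ Subgroup.center M) := by
    intro w
    obtain ⟨⟨m, hm⟩, rfl⟩ := QuotientGroup.mk'_surjective _ w
    obtain ⟨k, n, hn, hkn⟩ := Nat.exists_eq_pow_mul_and_not_dvd (orderOf_pos m).ne' r hr'.ne_one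
    refine ⟨k, ?_⟩
    rw [← map_pow]
    refine (QuotientGroup.eq_one_iff _).mpr (Subgroup.mem_center_iff.mpr fun c => Subtype.ext ?_)
    refine (hcentral _ (pow_mem hm _) ?_ c c.2).eq.symm
    rw [orderOf_pow, hkn, Nat.gcd_eq_right (dvd_mul_right _ _),
      Nat.mul_div_cancel_left _ (pow_pos hr'.pos k)]
    exact ((hr'.coprime_iff_not_dvd).mpr hn).symm
  haveI : Group.IsNilpotent (M ⧸ Subgroup.center M) := hq.isNilpotent
  have hMnil : Group.IsNilpotent M := Group.of_quotient_center_nilpotent inferInstance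
  refine Cfsg.Lib.Core.le_fittingSubgroup hMnil ⟨pow_mem hg _, mem_centralizer_iff.mpr ?_⟩
  intro z hz
  set x := g ^ (orderOf g / r ^ (orderOf g).factorization r)
  suffices h : z ∈ centralizer ({x} : Set G) from mem_centralizer_singleton_iff.mp h
  refine Cfsg.Lib.PGroup.mem_of_ordCompl_pow_mem fun s hs hsd => ?_
  rw [mem_centralizer_singleton_iff]
  haveI : Fact s.Prime := ⟨hs⟩
  have hsr : s ≠ r := by
    rintro rfl
    exact Nat.Prime.not_coprime_iff_dvd.mpr ⟨s, hs, hsd, dvd_rfl⟩ hz.2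
  exact (acts s r x _ _ hs hr' hsr
    (mem_pCore_of_fitting (pow_mem hz.1 _) _ (Cfsg.Lib.PGroup.orderOf_ordCompl_pow hs))
    (Cfsg.Lib.PGroup.orderOf_ordCompl_pow hr') (pow_mem hg _)).symm.eq

end Cfsg.Lib.Local.NarrowAut
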