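import Cfsg.Prelude.Def_Local
import Cfsg.Agent.Lib.Core.Cores

/-!
Groups of `p`-length at most one: the factorisation `G = O_{p'}(G) N_G(S)`.
-/

set_option autoImplicit false
set_option linter.style.haveILetI false

namespace Cfsg.Lib.Local

open Subgroup

variable {G : Type*} [Group G] [Finite G] {p : ℕ} [Fact p.Prime]

theorem upperPSeries_one : (upperPSeries p G 1).1 = pPrimeCore p G := by
  have hstep : (upperPSeries p G 1).1 =
      (pPrimeCore p (G ⧸ (upperPSeries p G 0).1)).comap (QuotientGroup.mk' _) := rfl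
  rw [hstep]
  refine le_antisymm (Core.le_pPrimeCore' inferInstance ?_) (map_le_iff_le_comap.mp
    (Core.map_pPrimeCore_le _ (QuotientGroup.mk'_surjective _)))
  set H := (pPrimeCore p (G ⧸ (upperPSeries p G 0).1)).comap (QuotientGroup.mk' _)
  have hinj : Function.Injective (QuotientGroup.mk' (upperPSeries p G 0).1) := by
    rw [← MonoidHom.ker_eq_bot_iff, QuotientGroup.ker_mk']
    rfl
  rw [← card_map_of_injective hinj]
  exact Nat.Coprime.coprime_dvd_left (card_dvd_of_le (map_comap_le _ _)) (Core.pPrimeCore_coprime p _)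

/-- In a group of `p`-length at most one, `O_{p'}(G) S` is normal, with image the Sylow `p`-subgroup
of the quotient. -/
theorem pLengthOne_sup_normal (h : PLengthLE p 1 G) (S : Sylow p G) :
    (pPrimeCore p G ⊔ (S : Subgroup G)).Normal := by
  have hT : (upperPSeries p G 3).1 = ⊤ := h
  set N₁ := (upperPSeries p G 1).1 with hN₁
  set N₂ := (upperPSeries p G 2).1 with hN₂
  have h2 : N₂ = (pCore p (G ⧸ N₁)).comap (QuotientGroup.mk' N₁) := rfl
  have h3 : (upperPSeries p G 3).1 = (pPrimeCore p (G ⧸ N₂)).comap (QuotientGroup.mk' N₂) := rfl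
  rw [h3, ← comap_top (QuotientGroup.mk' N₂)] at hT
  have htop := comap_injective (QuotientGroup.mk'_surjective N₂) hT
  have hidx : (Nat.card (G ⧸ N₂)).Coprime p := by
    have := Core.pPrimeCore_coprime p (G ⧸ N₂)
    rwa [htop, card_top] at this
  -- every `p`-subgroup of `G` lies in `N₂`
  have hSN : (S : Subgroup G) ≤ N₂ := by
    intro s hs
    obtain ⟨k, hk⟩ := IsPGroup.iff_orderOf.mp S.isPGroup' ⟨s, hs⟩
    rw [Subgroup.orderOf_mk] at hk
    refine (QuotientGroup.eq_one_iff s).mp (orderOf_eq_one_iff.mp ?_)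
    exact Nat.Coprime.eq_one_of_dvd (Nat.Coprime.coprime_dvd_left (orderOf_dvd_natCard _)
      (hidx.pow_right k)) (hk ▸ orderOf_map_dvd (QuotientGroup.mk' N₂) s)
  have hmap : (S : Subgroup G).map (QuotientGroup.mk' N₁) = pCore p (G ⧸ N₁) := by
    let T := S.mapSurjective (QuotientGroup.mk'_surjective N₁)
    refine le_antisymm (map_le_iff_le_comap.mpr (h2 ▸ hSN)) ?_
    exact Core.pCore_le_sylow T
  have hsup : N₂ = N₁ ⊔ (S : Subgroup G) := by
    rw [h2, ← hmap, comap_map_eq, QuotientGroup.ker_mk', sup_comm]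
  rw [← upperPSeries_one, ← hN₁, ← hsup]
  exact (upperPSeries p G 2).2

theorem pLengthOne_sup_normalizer (h : PLengthLE p 1 G) (S : Sylow p G) :
    pPrimeCore p G ⊔ normalizer ((S : Subgroup G) : Set G) = ⊤ := by
  haveI := pLengthOne_sup_normal h S
  have h1 := Sylow.normalizer_sup_eq_top' S
    (le_sup_right : (S : Subgroup G) ≤ pPrimeCore p G ⊔ (S : Subgroup G))
  rw [eq_top_iff, ← h1]
  exact sup_le le_sup_right (sup_le le_sup_left (le_normalizer.trans le_sup_right))

end Cfsg.Lib.Local
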