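import Cfsg.Agent.Lib.Local.PLengthChain
import Cfsg.Agent.Lib.Coprime.Action
import Cfsg.Agent.Lib.PGroup.Basic
import Mathlib.Algebra.Module.ZMod
import Mathlib.LinearAlgebra.FiniteDimensional.Basic
import Mathlib.RingTheory.Finiteness.Basic

/-!
The Frattini module of `O_p(K)` for a `p`-soluble group with trivial `O_{p'}`, and `q`-subgroups moved by a
`p`-element of `K ⧸ O_p(K)`.
-/

set_option autoImplicit false

namespace Cfsg.Lib.Local

open Subgroup
open scoped commutatorElement

universe u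

theorem exists_zmod_rep_aux {K : Type u} [Group K] {p : ℕ} [Fact p.Prime] {W : Type u} [CommGroup W] [Finite W]
    [Module (ZMod p) (Additive W)] (φ : K →* MulAut W) :
    ∃ (V : Type u) (_ : AddCommGroup V) (_ : Module (ZMod p) V) (_ : FiniteDimensional (ZMod p) V)
      (R : K →* Module.End (ZMod p) V) (e : W ≃* Multiplicative V),
      ∀ g w, R g (e w).toAdd = (e (φ g w)).toAdd := by
  have : Finite (Additive W) := inferInstanceAs (Finite W)
  let R : K →* Module.End (ZMod p) (Additive W) :=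
    { toFun := fun k => (AddMonoidHom.mk' (fun v : Additive W => Additive.ofMul (φ k v.toMul))
        fun v w => congrArg Additive.ofMul (map_mul (φ k) _ _)).toZModLinearMap p
      map_one' := LinearMap.ext fun v => by
        show Additive.ofMul (φ 1 v.toMul) = v
        rw [map_one]; rfl
      map_mul' := fun k l => LinearMap.ext fun v => by
        show Additive.ofMul (φ (k * l) v.toMul) = Additive.ofMul (φ k (φ l v.toMul))
        rw [map_mul]; rfl }
  exact ⟨Additive W, inferInstance, inferInstance, Module.Finite.of_finite, R,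
    { toFun := fun w => Multiplicative.ofAdd (Additive.ofMul w)
      invFun := fun v => v.toAdd.toMul
      left_inv := fun _ => rfl
      right_inv := fun _ => rfl
      map_mul' := fun _ _ => rfl }, fun _ _ => rfl⟩

/-- An action on an abelian group of exponent `p` as a representation over `ZMod p`. -/
theorem exists_zmod_rep {K : Type u} [Group K] {p : ℕ} [Fact p.Prime] {W : Type u} [CommGroup W] [Finite W]
    (hW : ∀ v : W, v ^ p = 1) (φ : K →* MulAut W) :
    ∃ (V : Type u) (_ : AddCommGroup V) (_ : Module (ZMod p) V) (_ : FiniteDimensional (ZMod p) V)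
      (R : K →* Module.End (ZMod p) V) (e : W ≃* Multiplicative V),
      ∀ g w, R g (e w).toAdd = (e (φ g w)).toAdd :=
  have : Module (ZMod p) (Additive W) := AddCommGroup.zmodModule fun v =>
    Additive.toMul.injective (by rw [toMul_nsmul]; exact hW _)
  exists_zmod_rep_aux φ

variable {K : Type u} [Group K] [Finite K] {p : ℕ} [hp : Fact p.Prime]

/-- The module `O_p(K) / Φ(O_p(K))` as a faithful module of `K ⧸ O_p(K)`. -/
theorem exists_top_module (hK : Cfsg.IsPSolvable p K) (hO : Cfsg.pPrimeCore p K = ⊥) :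
    ∃ (V : Type u) (_ : AddCommGroup V) (_ : Module (ZMod p) V) (_ : FiniteDimensional (ZMod p) V)
      (ρ : K ⧸ Cfsg.pCore p K →* Module.End (ZMod p) V)
      (π : Cfsg.pCore p K →* Multiplicative V), Function.Injective ρ ∧ Function.Surjective π ∧
      π.ker = frattini (Cfsg.pCore p K) ∧
      ∀ (g : K) (a : Cfsg.pCore p K),
        ρ (QuotientGroup.mk g) (π a).toAdd = (π (MulAut.conjNormal g a)).toAdd := by
  classical
  set O := Cfsg.pCore p K with hOdef
  have hOp : IsPGroup p O := Core.pCore_isPGroup p K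
  letI : CommGroup (O ⧸ frattini O) := { (inferInstance : Group (O ⧸ frattini O)) with
    mul_comm := fun a b => by
      obtain ⟨a, rfl⟩ := QuotientGroup.mk'_surjective _ a
      obtain ⟨b, rfl⟩ := QuotientGroup.mk'_surjective _ b
      rw [← commutatorElement_eq_one_iff_mul_comm, ← map_commutatorElement]
      exact (QuotientGroup.eq_one_iff _).2 (PGroup.commutator_le_frattini hOp
        (Subgroup.commutator_mem_commutator (mem_top a) (mem_top b))) }
  have hV : ∀ v : Additive (O ⧸ frattini O), p • v = 0 := by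
    intro v
    obtain ⟨a, ha⟩ := QuotientGroup.mk'_surjective _ v.toMul
    refine Additive.toMul.injective ?_
    rw [toMul_nsmul, ← ha, ← map_pow, toMul_zero]
    exact (QuotientGroup.eq_one_iff _).2 (PGroup.pow_mem_frattini hOp a)
  letI : Module (ZMod p) (Additive (O ⧸ frattini O)) := AddCommGroup.zmodModule hV
  let ρ0 : K →* MulAut (O ⧸ frattini O) :=
    { toFun := fun k => QuotientGroup.congr (frattini O) (frattini O) (MulAut.conjNormal k)
        (characteristic_iff_map_eq.1 frattini_characteristic _)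
      map_one' := MulEquiv.ext fun z => by
        obtain ⟨a, rfl⟩ := QuotientGroup.mk'_surjective _ z
        show QuotientGroup.mk' _ (MulAut.conjNormal (1 : K) a) = _
        rw [map_one]; rfl
      map_mul' := fun k l => MulEquiv.ext fun z => by
        obtain ⟨a, rfl⟩ := QuotientGroup.mk'_surjective _ z
        show QuotientGroup.mk' _ (MulAut.conjNormal (k * l) a) =
          QuotientGroup.mk' _ (MulAut.conjNormal k (MulAut.conjNormal l a))
        rw [map_mul]; rfl }
  have hρ0 : ∀ k a, ρ0 k (QuotientGroup.mk' _ a) = QuotientGroup.mk' (frattini O) (MulAut.conjNormal k a) :=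
    fun _ _ => rfl
  have hOker : O ≤ ρ0.ker := by
    intro k hk
    rw [MonoidHom.mem_ker]
    refine MulEquiv.ext fun z => ?_
    obtain ⟨a, rfl⟩ := QuotientGroup.mk'_surjective _ z
    rw [hρ0, show MulAut.conjNormal k a = (⟨k, hk⟩ : O) * a * (⟨k, hk⟩ : O)⁻¹ from
      Subtype.ext (by rw [MulAut.conjNormal_apply]; rfl), map_mul, map_mul, map_inv,
      mul_comm (QuotientGroup.mk' (frattini O) ⟨k, hk⟩), mul_inv_cancel_right, MulAut.one_apply]
  have hkerO : ρ0.ker ≤ O := by
    refine Core.le_pCore' ρ0.normal_ker ?_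
    rintro ⟨k, hk⟩
    obtain ⟨a, b, hb, hab'⟩ := Nat.exists_eq_pow_mul_and_not_dvd (orderOf_pos k).ne' p hp.out.ne_one
    refine ⟨a, Subtype.ext ?_⟩
    show k ^ p ^ a = 1
    set u := k ^ p ^ a with hu
    have huord : orderOf u ∣ b := orderOf_dvd_of_pow_eq_one (by rw [hu, ← pow_mul, ← hab', pow_orderOf_eq_one])
    have hcop : (Nat.card (zpowers u)).Coprime (Nat.card O) := by
      rw [Nat.card_zpowers]
      obtain ⟨e, he⟩ := IsPGroup.iff_card.1 hOp
      rw [he]
      exact ((hp.out.coprime_iff_not_dvd.2 hb).symm.pow_right e).coprime_dvd_left huord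
    have hcomm : ⁅O, zpowers u⁆ ≤ (frattini O).map O.subtype := by
      rw [commutator_le]
      intro a' ha' z hz
      have hzker : z ∈ ρ0.ker := zpowers_le.2 (pow_mem hk _) hz
      have h1 : ρ0 z (QuotientGroup.mk' _ ⟨a', ha'⟩) = QuotientGroup.mk' (frattini O) ⟨a', ha'⟩ := by
        rw [MonoidHom.mem_ker.1 hzker]; rfl
      rw [hρ0] at h1
      have h2 := QuotientGroup.eq.1 h1
      refine ⟨(⟨a', ha'⟩ : O) * (MulAut.conjNormal z ⟨a', ha'⟩)⁻¹, ?_, ?_⟩
      · have h3 := (inferInstance : (frattini O).Normal).conj_mem _ h2 (⟨a', ha'⟩ : O)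
        have h4 : (⟨a', ha'⟩ : O) * ((MulAut.conjNormal z ⟨a', ha'⟩)⁻¹ * ⟨a', ha'⟩) * (⟨a', ha'⟩ : O)⁻¹ =
            (⟨a', ha'⟩ : O) * (MulAut.conjNormal z ⟨a', ha'⟩)⁻¹ := by group
        rwa [h4] at h3
      · show a' * ((MulAut.conjNormal z (⟨a', ha'⟩ : O) : O) : K)⁻¹ = a' * z * a'⁻¹ * z⁻¹
        rw [MulAut.conjNormal_apply]
        group
    have hcent := Coprime.le_centralizer_of_commutator_le_frattini
      (fun z _ => by rw [normalizer_eq_top_iff.2 inferInstance]; exact mem_top z) hcop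
      (Or.inr (have := hOp.isNilpotent; IsNilpotent.to_isSolvable)) hcomm
    have huO := Core.centralizer_pCore_le_of_isPSolvable hK hO (hcent (mem_zpowers u))
    obtain ⟨e, he⟩ := IsPGroup.iff_orderOf.1 hOp ⟨u, huO⟩
    rw [Subgroup.orderOf_mk] at he
    rw [← orderOf_eq_one_iff, he]
    rcases Nat.eq_zero_or_pos e with rfl | he0
    · rw [pow_zero]
    · exact absurd ((dvd_pow_self p he0.ne').trans (he ▸ huord)) hb
  obtain ⟨V, iA, iM, iF, R, e, he⟩ := exists_zmod_rep (p := p) (fun v => Additive.ofMul.injective (by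
      simpa using hV (Additive.ofMul v))) ρ0
  have hR : ∀ g, R g = 1 ↔ ρ0 g = 1 := fun g => by
    refine ⟨fun h => MulEquiv.ext fun v => e.injective (Multiplicative.toAdd.injective ?_),
      fun h => LinearMap.ext fun w => ?_⟩
    · rw [← he, h]; rfl
    · obtain ⟨v, hv⟩ := e.surjective (Multiplicative.ofAdd w)
      rw [show w = (e v).toAdd by rw [hv]; rfl, he, h]; rfl
  refine ⟨V, iA, iM, iF, QuotientGroup.lift O R fun k hk =>
      MonoidHom.mem_ker.2 ((hR k).2 (MonoidHom.mem_ker.1 (hOker hk))),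
    e.toMonoidHom.comp (QuotientGroup.mk' (frattini O)), ?_,
    e.surjective.comp (QuotientGroup.mk'_surjective _), ?_, fun g a => ?_⟩
  · rw [← MonoidHom.ker_eq_bot_iff, eq_bot_iff]
    intro z hz
    obtain ⟨g, rfl⟩ := QuotientGroup.mk'_surjective O z
    exact mem_bot.2 ((QuotientGroup.eq_one_iff g).2 (hkerO (MonoidHom.mem_ker.2 ((hR g).1 hz))))
  · ext a
    rw [MonoidHom.mem_ker, MonoidHom.comp_apply, MulEquiv.coe_toMonoidHom, MulEquiv.map_eq_one_iff]
    exact QuotientGroup.eq_one_iff a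
  · exact (he g _).trans (congrArg (fun w => (e w).toAdd) (hρ0 g a))

/-- A nontrivial element of a `p`-subgroup `X` moves some `X`-invariant `q`-subgroup, when `O_p` is trivial. -/
theorem exists_moved_qGroup (hK : Cfsg.IsPSolvable p K) (hO : Cfsg.pCore p K = ⊥) {X : Subgroup K}
    (hX : IsPGroup p X) {y : K} (hyX : y ∈ X) (hy1 : y ≠ 1) :
    ∃ q : ℕ, q.Prime ∧ q ≠ p ∧ ∃ Q : Subgroup K, IsPGroup q Q ∧ Q ≤ Cfsg.pPrimeCore p K ∧
      (∀ g ∈ X, ∀ a ∈ Q, g * a * g⁻¹ ∈ Q) ∧ ∃ a ∈ Q, y * a * y⁻¹ ≠ a := by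
  classical
  set N := Cfsg.pPrimeCore p K with hN
  have hCN := centralizer_pPrimeCore_le hK hO
  have hyN : y ∉ N := fun h => hy1 (by
    obtain ⟨e, he⟩ := IsPGroup.iff_orderOf.1 hX ⟨y, hyX⟩
    rw [Subgroup.orderOf_mk] at he
    rcases Nat.eq_zero_or_pos e with rfl | he0
    · rw [pow_zero] at he; exact orderOf_eq_one_iff.1 he
    · have h1 := (dvd_pow_self p he0.ne').trans (he ▸ Subgroup.orderOf_dvd_natCard N h)
      exact absurd h1 (hp.out.coprime_iff_not_dvd.1 (Core.pPrimeCore_coprime p K).symm))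
  by_contra hcon
  refine hyN (hCN (mem_centralizer_iff.2 fun z hz => ?_))
  suffices hNC : N ≤ centralizer ({y} : Set K) from mem_centralizer_singleton_iff.1 (hNC hz)
  rw [← subgroupOf_eq_top, ← index_eq_one]
  by_contra hidx
  obtain ⟨q, hq, hqd⟩ := Nat.exists_prime_and_dvd hidx
  have : Fact q.Prime := ⟨hq⟩
  have hqN : q ∣ Nat.card N := hqd.trans (index_dvd_card _)
  have hqp : q ≠ p := by
    rintro rfl
    exact hq.coprime_iff_not_dvd.1 (Core.pPrimeCore_coprime _ K).symm hqN
  letI : MulDistribMulAction X N := MulDistribMulAction.compHom N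
    ((MulAut.conjNormal (H := N)).comp X.subtype)
  obtain ⟨S0⟩ : Nonempty (Sylow q N) := inferInstance
  have hnd : ¬ p ∣ Nat.card (Sylow q N) := fun hd =>
    hp.out.coprime_iff_not_dvd.1 (Core.pPrimeCore_coprime p K).symm
      (hd.trans ((Sylow.card_dvd_index S0).trans (index_dvd_card _)))
  obtain ⟨S, hS⟩ := hX.nonempty_fixed_point_of_prime_not_dvd_card (Sylow q N) hnd
  have hQx : ∀ g ∈ X, ∀ a ∈ (S : Subgroup N).map N.subtype, g * a * g⁻¹ ∈ (S : Subgroup N).map N.subtype := by
    rintro g hg _ ⟨a, ha, rfl⟩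
    have h := congrArg (fun T : Sylow q N => (T : Subgroup N)) (hS ⟨g, hg⟩)
    simp only [Sylow.pointwise_smul_def, Subgroup.pointwise_smul_def] at h
    exact ⟨_, h.le ⟨a, ha, rfl⟩, MulAut.conjNormal_apply _ _⟩
  refine S.not_dvd_index (hqd.trans (index_dvd_of_le fun a ha => ?_))
  rw [mem_subgroupOf, mem_centralizer_singleton_iff]
  by_contra h1
  exact hcon ⟨q, hq, hqp, _, S.isPGroup'.map N.subtype, map_subtype_le _, hQx, a, mem_map_of_mem _ ha,
    fun e => h1 (mul_inv_eq_iff_eq_mul.1 e).symm⟩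

/-- An element normalising a `q`-subgroup modulo a normal `p`-subgroup lifts to one normalising a
`q`-subgroup. -/
theorem exists_lift_normalizer (O : Subgroup K) [O.Normal] (hO : IsPGroup p O) {q : ℕ} [Fact q.Prime]
    (hqp : q ≠ p) (Q : Subgroup (K ⧸ O)) (hQ : IsPGroup q Q) (a : K)
    (ha : QuotientGroup.mk' O a ∈ normalizer (Q : Set (K ⧸ O))) :
    ∃ S : Subgroup K, IsPGroup q S ∧ S.map (QuotientGroup.mk' O) = Q ∧ S ⊓ O = ⊥ ∧
      ∃ v ∈ O, v⁻¹ * a ∈ normalizer (S : Set K) := by
  let f := QuotientGroup.mk' O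
  have hf : Function.Surjective f := QuotientGroup.mk'_surjective O
  set Qh := Q.comap f with hQh
  set M := normalizer (Qh : Set K) with hM
  obtain ⟨S0⟩ : Nonempty (Sylow q Qh) := inferInstance
  set S := (S0 : Subgroup Qh).map Qh.subtype with hS
  have hSp : IsPGroup q S := S0.isPGroup'.map _
  have hSQh : S ≤ Qh := map_subtype_le _
  have hSO : S ⊓ O = ⊥ := (IsPGroup.disjoint_of_ne q p hqp S O hSp hO).eq_bot
  have hSQ : S.map f = Q := by
    let g : Qh →* Q := (f.comp Qh.subtype).codRestrict Q fun z => z.2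
    have hg : Function.Surjective g := by
      rintro ⟨z, hz⟩
      obtain ⟨k, rfl⟩ := hf z
      exact ⟨⟨k, hz⟩, rfl⟩
    have h1 : (S0.mapSurjective hg : Subgroup Q) = ⊤ := by
      rw [eq_top_iff]
      exact ((S0.mapSurjective hg).is_maximal' (hQ.to_subgroup ⊤) le_top).le
    refine le_antisymm (map_le_iff_le_comap.2 hSQh) fun z hz => ?_
    obtain ⟨u, hu, hu'⟩ := h1.ge (mem_top (⟨z, hz⟩ : Q))
    exact ⟨u, mem_map_of_mem _ hu, congrArg Subtype.val hu'⟩
  have hQhM : Qh ≤ M := le_normalizer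
  have hQhsup : Qh ≤ O ⊔ S := fun z hz => by
    obtain ⟨s, hs, hsz⟩ := hSQ.ge hz
    refine (inv_mul_cancel_right z s) ▸ mul_mem (mem_sup_left ?_) (mem_sup_right hs)
    rw [← QuotientGroup.eq_one_iff, QuotientGroup.mk_mul, QuotientGroup.mk_inv]
    exact mul_inv_eq_one.2 hsz.symm
  have haM : a ∈ M := mem_normalizer_iff.2 fun z => by
    rw [hQh, mem_comap, mem_comap, map_mul, map_mul, map_inv]
    exact mem_normalizer_iff.1 ha _
  -- the Frattini argument
  have haS : a ∈ O ⊔ normalizer (S : Set K) := by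
    let S1 : Sylow q (Qh.subgroupOf M) := S0.mapSurjective (f := (subgroupOfEquivOfLe hQhM).symm.toMonoidHom)
      (subgroupOfEquivOfLe hQhM).symm.surjective
    haveI : (Qh.subgroupOf M).Normal := normal_subgroupOf_of_le_normalizer le_rfl
    have h := Sylow.normalizer_sup_eq_top S1
    obtain ⟨n, hn, w, hw, e⟩ := (mem_sup_of_normal_right).1 (h.ge (mem_top (⟨a, haM⟩ : M)))
    have e' : (n : K) * (w : K) = a := congrArg Subtype.val e
    rw [← e']
    refine mul_mem (mem_sup_right ?_) (?_ : (w : K) ∈ O ⊔ normalizer (S : Set K))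
    · refine mem_normalizer_iff_map_conj_eq.2 (eq_of_le_of_card_ge ?_
        (card_map_of_injective (MulAut.conj (n : K)).injective).ge)
      rintro _ ⟨s, hs, rfl⟩
      obtain ⟨t, ht, hts⟩ := hs
      have h1 : (⟨(t : K), hQhM t.2⟩ : M) ∈ (S1 : Subgroup (Qh.subgroupOf M)).map (Qh.subgroupOf M).subtype :=
        ⟨_, ⟨t, ht, rfl⟩, rfl⟩
      obtain ⟨t', ⟨t'', ht'', e2⟩, e3⟩ := (mem_normalizer_iff.1 hn _).1 h1
      refine ⟨t'', ht'', ?_⟩
      rw [← hts]
      have e4 := congrArg (fun z : M => (z : K)) e3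
      rw [← e2] at e4
      exact e4
    · have h2 : (w : K) ∈ O ⊔ S := hQhsup hw
      exact sup_le_sup_left le_normalizer O h2
  obtain ⟨v, hv, n, hn, e⟩ := mem_sup_of_normal_left.1 haS
  exact ⟨S, hSp, hSQ, hSO, v, hv, by rw [← e, inv_mul_cancel_left]; exact hn⟩

end Cfsg.Lib.Local
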