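import Cfsg.Agent.Lib.Local.ShultGross
import Cfsg.Agent.Lib.Local.TopModule

/-!
An operator of prime order without fixed points on an elementary abelian group, moving a `q`-group of
automorphisms of coprime order: the exceptional configuration `q = 2`, `r = 2 ^ m + 1`.
-/

set_option autoImplicit false

namespace Cfsg.Lib.Local

open Subgroup Polynomial
open scoped commutatorElement

universe u

/-- The linear factors of `1 + X + ⋯ + X ^ (P - 1)`. -/
theorem exists_root_list (F : Type*) [Field F] [IsAlgClosed F] {P : ℕ} [NeZero (P : F)] {R : Type*} [Ring R]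
    [Algebra F R] (g : R) :
    ∃ L : List F, L.length = P - 1 ∧ (L.map fun a => g - a • (1 : R)).prod = ∑ i ∈ Finset.range P, g ^ i := by
  classical
  have hPpos : 0 < P := Nat.pos_of_ne_zero fun e => NeZero.ne (P : F) (by rw [e, Nat.cast_zero])
  obtain ⟨ζ, hζ⟩ := HasEnoughRootsOfUnity.exists_primitiveRoot F P
  set s := (nthRootsFinset P (1 : F)).erase 1 with hs
  have h1mem : (1 : F) ∈ nthRootsFinset P (1 : F) := (mem_nthRootsFinset hPpos 1).2 (one_pow _)
  refine ⟨s.toList, by rw [Finset.length_toList, hs, Finset.card_erase_of_mem h1mem, hζ.card_nthRootsFinset], ?_⟩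
  have hpoly : (s.toList.map fun a => (X : F[X]) - C a).prod = ∑ i ∈ Finset.range P, X ^ i := by
    rw [Finset.prod_map_toList]
    refine mul_right_cancel₀ (b := (X : F[X]) - C 1) (X_sub_C_ne_zero 1) ?_
    rw [mul_comm, hs, Finset.mul_prod_erase _ (fun a => (X : F[X]) - C a) h1mem,
      ← X_pow_sub_one_eq_prod hPpos hζ, C_1, geom_sum_mul]
  have h2 := congrArg (aeval g) hpoly
  rw [map_list_prod, List.map_map, map_sum] at h2
  simpa only [Function.comp_def, map_sub, aeval_X, aeval_C, map_pow, Algebra.algebraMap_eq_smul_one] using h2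

/-- The exceptional configuration of an operator of prime order without fixed points. -/
theorem prime_exception {W : Type u} [CommGroup W] [Finite W] {ℓ q r : ℕ} [hl : Fact ℓ.Prime] [hq : Fact q.Prime]
    [hr : Fact r.Prime] (hW : ∀ w : W, w ^ ℓ = 1) {Q : Subgroup (MulAut W)} {y : MulAut W}
    (h : MinimalMoved Q (zpowers y) y q) (hyr : y ^ r = 1) (hlq : ℓ ≠ q) (hlr : ℓ ≠ r) (hqr : q ≠ r)
    (hfpf : ∀ w : W, y w = w → w = 1) :
    (∃ a ∈ Q, ∃ b ∈ Q, a * b ≠ b * a) ∧ q = 2 ∧ ∃ m, 0 < m ∧ r = 2 ^ m + 1 ∧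
      ∃ R : Subgroup (MulAut W), innerCenter Q ≤ R ∧ R ≤ Q ∧ R.relIndex Q = 2 ^ (2 * m) ∧
        (Nat.card (innerCenter Q) = q → R ≤ innerCenter Q) := by
  classical
  obtain ⟨V, _, _, _, R, e, he⟩ := exists_zmod_rep (p := ℓ) hW (MonoidHom.id (MulAut W))
  have hR : Function.Injective R := fun k l hkl => MulEquiv.ext fun w =>
    e.injective (Multiplicative.toAdd.injective ((he k w).symm.trans ((LinearMap.congr_fun hkl _).trans (he l w))))
  have hNsum : ∑ i ∈ Finset.range r, R y ^ i = 0 := by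
    refine LinearMap.ext fun v => ?_
    rw [LinearMap.sum_apply, LinearMap.zero_apply]
    set S0 := ∑ i ∈ Finset.range r, (R y ^ i) v with hS0
    have hfix : R y S0 = S0 := by
      rw [hS0, map_sum, ← sub_eq_zero, ← Finset.sum_sub_distrib]
      calc ∑ i ∈ Finset.range r, (R y ((R y ^ i) v) - (R y ^ i) v)
          = ∑ i ∈ Finset.range r, ((R y ^ (i + 1)) v - (R y ^ i) v) := by
            simp only [pow_succ', Module.End.mul_apply]
        _ = (R y ^ r) v - (R y ^ 0) v := Finset.sum_range_sub (fun i => (R y ^ i) v) _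
        _ = 0 := by rw [← map_pow, hyr, map_one, pow_zero]; exact sub_self _
    obtain ⟨w, hw⟩ := e.surjective (Multiplicative.ofAdd S0)
    have hS0' : S0 = (e w).toAdd := by rw [hw]; rfl
    rw [hS0', he] at hfix
    rw [hS0', hfpf w (e.injective (Multiplicative.toAdd.injective hfix)), map_one]
    rfl
  let K := AlgebraicClosure (ZMod ℓ)
  have : CharP K ℓ := charP_of_injective_algebraMap (algebraMap (ZMod ℓ) K).injective ℓ
  have hcast : ∀ l : ℕ, l.Prime → l ≠ ℓ → (l : K) ≠ 0 := fun l hlp hne => by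
    rw [Ne, CharP.cast_eq_zero_iff K ℓ]
    exact fun hd => hne ((Nat.prime_dvd_prime_iff_eq hl.out hlp).1 hd).symm
  have hqK := hcast q hq.out (Ne.symm hlq)
  have hN : ∑ i ∈ Finset.range (r ^ (0 + 1)), closureRep R y ^ i = 0 := by
    rw [zero_add, pow_one]; exact closureRep_sum_pow hNsum
  have hy0 : y ^ r ^ (0 + 1) = 1 := by rw [zero_add, pow_one, hyr]
  have hy1 : y ^ r ^ 0 = y := by rw [pow_zero, pow_one]
  have hna := nonabelian_of_norm (closureRep_injective hR) h hqK hqr (mem_zpowers y) (n := 0) hy1 hy0 hN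
  obtain ⟨ψ, hc⟩ := exists_isComponent (closureRep R) (closureRep_injective hR) h hna hqK
  have : NeZero ((r : ℕ) : K) := ⟨hcast r hr.out (Ne.symm hlr)⟩
  obtain ⟨L, hL1, hL2⟩ := exists_root_list K (P := r) (closureRep R y)
  obtain ⟨j, hj, -, -, m, hm, hidx, ⟨hdvd, -⟩, hle⟩ := critical_bound (closureRep_injective hR) h hqK hqr
    (mem_zpowers y) (n := 0) hy1 hy0 hN (fun _ => r - 1) (fun j hj => ⟨L, hL1, by
      obtain rfl : j = 0 := by omega
      rw [pow_zero, Finset.sum_range_one, pow_zero, one_mul, pow_one, hL2]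
      exact closureRep_sum_pow hNsum⟩) ψ hc
  obtain rfl : j = 0 := by omega
  rw [Nat.sub_zero, zero_add, pow_one] at hdvd hle
  obtain ⟨A, hA⟩ : ∃ A, q ^ m = A + 1 := ⟨q ^ m - 1, by have := Nat.one_le_pow m q hq.out.pos; omega⟩
  obtain ⟨B, hB⟩ : ∃ B, r = B + 1 := ⟨r - 1, by have := hr.out.pos; omega⟩
  have hq2m : q ^ (2 * m) = (A + 1) * (A + 1) := by rw [← hA, ← pow_add, two_mul]
  rw [hq2m] at hdvd hle
  rw [show r - 1 = B by omega, hB] at hle
  have hAB : A + 1 ≤ B := by
    refine Nat.mul_self_le_mul_self_iff.1 ?_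
    nlinarith
  rw [show (A + 1) * (A + 1) - 1 = A * (A + 2) by
    rw [show (A + 1) * (A + 1) = A * (A + 2) + 1 by ring, Nat.add_sub_cancel]] at hdvd
  have hA0 : 0 < A := by
    have := Nat.one_lt_pow hm.ne' hq.out.one_lt
    omega
  have hrA : r = q ^ m + 1 := by
    rcases hr.out.dvd_mul.1 hdvd with h1 | h1
    · have := Nat.le_of_dvd hA0 h1
      omega
    · have := Nat.le_of_dvd (by omega) h1
      omega
  obtain rfl : q = 2 := by
    by_contra hq2
    have h2 : Even r := by rw [hrA]; exact (hq.out.odd_of_ne_two hq2).pow.add_one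
    have hr2 := hr.out.even_iff.1 h2
    omega
  refine ⟨hna, rfl, m, hm, hrA, radical h hc, center_le_radical h hc, radical_le h hc, hidx, fun hcard a ha => ?_⟩
  refine mem_innerCenter.2 ⟨ha.1, fun d hd => commutatorElement_eq_one_iff_mul_comm.1 ?_⟩
  obtain ⟨u, hu, w, hw, huw⟩ := hc.ne
  have hA' := h.commutator_mem_center ha.1 hd
  set g : innerCenter Q := ⟨⁅u, w⁆, h.commutator_mem_center hu hw⟩ with hg
  have hg1 : g ≠ 1 := fun e1 => huw (by
    rw [show ⁅u, w⁆ = 1 from congrArg Subtype.val e1, eigen_one hc.occurs])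
  haveI : Fact (Nat.Prime 2) := ⟨Nat.prime_two⟩
  obtain ⟨k, hk⟩ : ∃ k : ℕ, g ^ k = ⟨⁅a, d⁆, hA'⟩ := mem_powers_iff_mem_zpowers.2 (mem_zpowers_of_prime_card hcard hg1)
  have hk' : ⁅a, d⁆ = ⁅u, w⁆ ^ k := (congrArg Subtype.val hk).symm.trans (by rw [hg]; rfl)
  have hg2 : ⁅u, w⁆ ^ 2 = 1 := h.commutator_pow_eq_one hu hw
  rcases Nat.even_or_odd' k with ⟨i, rfl | rfl⟩
  · rw [hk', pow_mul, hg2, one_pow]
  · rw [pow_succ, pow_mul, hg2, one_pow, one_mul] at hk'
    exact absurd (hk' ▸ ha.2 d hd) huw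

/-- The action of the normalizer of `V` on `V`. -/
noncomputable def autOf {G : Type u} [Group G] (V : Subgroup G) : normalizer (V : Set G) →* MulAut V where
  toFun g :=
    { toFun := fun v => ⟨(g : G) * v * (g : G)⁻¹, (mem_normalizer_iff.1 g.2 _).1 v.2⟩
      invFun := fun v => ⟨(g : G)⁻¹ * v * g, by simpa using (mem_normalizer_iff.1 (inv_mem g.2) _).1 v.2⟩
      left_inv := fun v => Subtype.ext (by simp [mul_assoc])
      right_inv := fun v => Subtype.ext (by simp [mul_assoc])
      map_mul' := fun v w => Subtype.ext (by simp [mul_assoc]) }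
  map_one' := MulEquiv.ext fun v => Subtype.ext (by simp)
  map_mul' g g' := MulEquiv.ext fun v => Subtype.ext (by simp [mul_assoc])

theorem autOf_eq_one_iff {G : Type u} [Group G] (V : Subgroup G) (g : normalizer (V : Set G)) :
    autOf V g = 1 ↔ (g : G) ∈ centralizer (V : Set G) := by
  rw [mem_centralizer_iff]
  constructor
  · intro h v hv
    have e : (g : G) * v * (g : G)⁻¹ = v := congrArg Subtype.val (DFunLike.congr_fun h (⟨v, hv⟩ : V) : autOf V g ⟨v, hv⟩ = (⟨v, hv⟩ : V))
    rw [mul_inv_eq_iff_eq_mul] at e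
    exact e.symm
  · intro h
    refine MulEquiv.ext fun v => Subtype.ext ?_
    show (g : G) * v * (g : G)⁻¹ = v
    rw [← h v v.2, mul_inv_cancel_right]

end Cfsg.Lib.Local
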