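import Mathlib
import Cfsg.Prelude.Def_OddOrderLocal
import Cfsg.Agent.Lib.Core.Fitting
import Cfsg.Agent.Lib.PGroup.Elements
import Cfsg.Agent.Lib.Coprime.Conjugacy
import Cfsg.Agent.Lib.Invol.Quaternion

/-!
Basic properties of type P data.
-/

set_option autoImplicit false

namespace Cfsg.Lib.Local.TypeP

open Cfsg Subgroup
open scoped commutatorElement

universe u

variable {G : Type u} [Group G] [Finite G]

theorem isNilpotent_sup_normal {M : Type u} [Group M] [Finite M] {A B : Subgroup M} (hA : A.Normal)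
    (hB : B.Normal) (hAn : Group.IsNilpotent A) (hBn : Group.IsNilpotent B) :
    Group.IsNilpotent ↥(A ⊔ B) :=
  Cfsg.Lib.Core.isNilpotent_of_le
    (sup_le (Cfsg.Lib.Core.le_fittingSubgroup' hA hAn) (Cfsg.Lib.Core.le_fittingSubgroup' hB hBn))
    (Cfsg.Lib.Core.fittingSubgroup_isNilpotent M)

/-- The subgroup `M_F` is a nilpotent normal Hall subgroup. -/
theorem fittingHall_spec (M : Type u) [Group M] [Finite M] :
    Group.IsNilpotent (fittingHall M) ∧ (Nat.card (fittingHall M)).Coprime (fittingHall M).index := by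
  have h : fittingHall M ∈
      {N : Subgroup M | N.Normal ∧ Group.IsNilpotent N ∧ (Nat.card N).Coprime N.index} := by
    refine Cfsg.Lib.Core.sSup_mem_of_sup_mem ⟨inferInstance, inferInstance, by simp⟩ ?_
    rintro A ⟨hA, hAn, hAc⟩ B ⟨hB, hBn, hBc⟩
    refine ⟨inferInstance, isNilpotent_sup_normal hA hB hAn hBn, ?_⟩
    refine Nat.coprime_of_dvd' fun p hp h1 h2 => ?_
    have hd : Nat.card ↥(A ⊔ B) ∣ Nat.card A * Nat.card B := Cfsg.Lib.Core.card_sup_dvd_mul A B
    rcases hp.dvd_mul.mp (h1.trans hd) with h3 | h3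
    · exact (hAc.gcd_eq_one ▸ Nat.dvd_gcd h3 (h2.trans (index_dvd_of_le le_sup_left)) :)
    · exact (hBc.gcd_eq_one ▸ Nat.dvd_gcd h3 (h2.trans (index_dvd_of_le le_sup_right)) :)
  exact h.2

theorem fittingHallOf_hall (M : Subgroup G) :
    Group.IsNilpotent (fittingHallOf M) ∧
      (Nat.card (fittingHallOf M)).Coprime ((fittingHallOf M).relIndex M) ∧ fittingHallOf M ≤ M := by
  obtain ⟨h1, h2⟩ := fittingHall_spec M
  have hle : fittingHallOf M ≤ M := map_subtype_le _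
  refine ⟨Cfsg.Lib.Core.isNilpotent_map h1 _, ?_, hle⟩
  have h3 : (fittingHallOf M).subgroupOf M = fittingHall M :=
    comap_map_eq_self_of_injective M.subtype_injective _
  rw [relIndex, h3, fittingHallOf, card_map_of_injective M.subtype_injective]
  exact h2

variable {M W₁ U W₂ : Subgroup G}

theorem le_normalizer_map_normal (N : Subgroup M) [N.Normal] :
    M ≤ normalizer ((N.map M.subtype : Subgroup G) : Set G) := by
  intro g hg
  refine mem_normalizer_iff.mpr fun x => ⟨?_, ?_⟩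
  · rintro ⟨y, hy, rfl⟩
    exact ⟨⟨g, hg⟩ * y * ⟨g, hg⟩⁻¹, ‹N.Normal›.conj_mem y hy _, rfl⟩
  · rintro ⟨y, hy, he⟩
    refine ⟨⟨g, hg⟩⁻¹ * y * ⟨g, hg⟩, by simpa using ‹N.Normal›.conj_mem y hy (⟨g, hg⟩ : M)⁻¹, ?_⟩
    have he' : (y : G) = g * x * g⁻¹ := he
    simp only [map_mul, map_inv, coe_subtype, he']
    group

theorem coprime_U (hP : IsTypePWith M W₁ U W₂) :
    (Nat.card (fittingHallOf M)).Coprime (Nat.card U) := by
  obtain ⟨hH, hcop, hle⟩ := fittingHallOf_hall M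
  obtain ⟨hH', hU', hd, hdec⟩ := hP.U_compl
  refine hcop.coprime_dvd_right ?_
  have hUM : U ≤ M := hU'.trans (commutator_le.mpr fun a ha b hb => by
    rw [commutatorElement_def]; exact mul_mem (mul_mem (mul_mem ha hb) (inv_mem ha)) (inv_mem hb))
  have hn : U ≤ normalizer (fittingHallOf M : Set G) :=
    hUM.trans (le_normalizer_map_normal (fittingHall M))
  have h1 := card_dvd_of_le (sup_le hle hUM : fittingHallOf M ⊔ U ≤ M)
  rw [Cfsg.Lib.Coprime.card_sup_of_disjoint hn (disjoint_iff.mpr hd),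
    ← Cfsg.Lib.Core.card_mul_relIndex hle] at h1
  exact Nat.dvd_of_mul_dvd_mul_left Nat.card_pos h1

theorem commute_of_mem_fitting (hP : IsTypePWith M W₁ U W₂) {u h : G} (hu : u ∈ U)
    (huF : u ∈ fittingOf M) (hh : h ∈ fittingHallOf M) : Commute u h := by
  have hHF : fittingHallOf M ≤ fittingOf M := le_sup_left.trans hP.fitting_eq.le
  have hF : Group.IsNilpotent (fittingOf M) :=
    Cfsg.Lib.Core.isNilpotent_map (Cfsg.Lib.Core.fittingSubgroup_isNilpotent M) _
  have := hF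
  exact (Cfsg.Lib.PGroup.commute_of_coprime_orderOf (⟨u, huF⟩ : fittingOf M) ⟨h, hHF hh⟩ (by
    rw [orderOf_mk, orderOf_mk]
    exact ((coprime_U hP).symm.coprime_dvd_left (U.orderOf_dvd_natCard hu)).coprime_dvd_right
      ((fittingHallOf M).orderOf_dvd_natCard hh))).map (fittingOf M).subtype

theorem fitting_eq_sup (hP : IsTypePWith M W₁ U W₂) :
    fittingOf M = fittingHallOf M ⊔ (U ⊓ centralizer (fittingHallOf M : Set G)) := by
  refine le_antisymm ?_ ?_
  · intro c hc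
    obtain ⟨h, hh, u, hu, rfl⟩ := hP.U_compl.2.2.2 c (hP.fitting_le hc)
    have huF : u ∈ fittingOf M := by
      have h1 : h ∈ fittingOf M := le_sup_left.trans hP.fitting_eq.le hh
      simpa using mul_mem (inv_mem h1) hc
    refine mul_mem (mem_sup_left hh) (mem_sup_right ⟨hu, mem_centralizer_iff.mpr fun y hy => ?_⟩)
    exact (commute_of_mem_fitting hP hu huF hy).eq.symm
  · refine (sup_le_sup_left ?_ _).trans hP.fitting_eq.le
    have hUM : U ≤ M := hP.U_compl.2.1.trans (commutator_le.mpr fun a ha b hb => by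
      rw [commutatorElement_def]; exact mul_mem (mul_mem (mul_mem ha hb) (inv_mem ha)) (inv_mem hb))
    exact inf_le_inf_right _ hUM

theorem derived_U_le_centralizer (hP : IsTypePWith M W₁ U W₂) :
    ⁅U, U⁆ ≤ centralizer (fittingHallOf M : Set G) := by
  intro u hu
  refine mem_centralizer_iff.mpr fun y hy => (commute_of_mem_fitting hP ?_ ?_ hy).eq.symm
  · exact commutator_le.mpr (fun a ha b hb => by
      rw [commutatorElement_def]; exact mul_mem (mul_mem (mul_mem ha hb) (inv_mem ha)) (inv_mem hb)) hu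
  · exact hP.fitting_eq.le (hP.derived_two_le (commutator_mono hP.U_compl.2.1 hP.U_compl.2.1 hu))

theorem U_not_le_centralizer (hP : IsTypePWith M W₁ U W₂) (hU : U ≠ ⊥) :
    ¬ U ≤ centralizer (fittingHallOf M : Set G) := by
  intro hle
  have hF : fittingOf M = ⁅M, M⁆ := by
    refine le_antisymm hP.fitting_le fun c hc => ?_
    obtain ⟨h, hh, u, hu, rfl⟩ := hP.U_compl.2.2.2 c hc
    rw [fitting_eq_sup hP]
    exact mul_mem (mem_sup_left hh) (mem_sup_right ⟨hu, hle hu⟩)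
  set D := ⁅M, M⁆ with hD
  have hDM : D ≤ M := hP.W₁_compl.1
  have hW1M : W₁ ≤ M := hP.W₁_compl.2.1
  have hcard : Nat.card D * Nat.card W₁ = Nat.card M := by
    have hn : W₁ ≤ normalizer (D : Set G) := by
      rw [← hF]
      haveI := Cfsg.Lib.Core.fittingSubgroup_normal' M
      exact hW1M.trans (le_normalizer_map_normal (fittingSubgroup M))
    rw [← Cfsg.Lib.Coprime.card_sup_of_disjoint hn (disjoint_iff.mpr hP.W₁_compl.2.2.1)]
    refine Nat.card_congr (Equiv.setCongr (congrArg SetLike.coe (le_antisymm (sup_le hDM hW1M) ?_)))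
    intro m hm
    obtain ⟨a, ha, b, hb, rfl⟩ := hP.W₁_compl.2.2.2 m hm
    exact mul_mem (mem_sup_left ha) (mem_sup_right hb)
  have hidx : D.relIndex M = Nat.card W₁ :=
    Nat.eq_of_mul_eq_mul_left Nat.card_pos ((Cfsg.Lib.Core.card_mul_relIndex hDM).trans hcard.symm)
  have hidx' : W₁.relIndex M = Nat.card D :=
    Nat.eq_of_mul_eq_mul_left Nat.card_pos ((Cfsg.Lib.Core.card_mul_relIndex hW1M).trans
      (hcard.symm.trans (mul_comm _ _)))
  have hle' : D ≤ fittingHallOf M := by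
    have hsub : D.subgroupOf M ≤ fittingHall M := by
      refine le_sSup ⟨?_, ?_, ?_⟩
      · rw [← hF, show (fittingOf M).subgroupOf M = fittingSubgroup M from
          comap_map_eq_self_of_injective M.subtype_injective _]
        exact Cfsg.Lib.Core.fittingSubgroup_normal' _
      · have hn : Group.IsNilpotent D :=
          hF ▸ Cfsg.Lib.Core.isNilpotent_map (Cfsg.Lib.Core.fittingSubgroup_isNilpotent M) _
        exact Group.nilpotent_of_mulEquiv (subgroupOfEquivOfLe hDM).symm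
      · rw [Nat.card_congr (subgroupOfEquivOfLe hDM).toEquiv, ← hidx']
        exact (hidx.symm ▸ hP.W₁_hall.symm :)
    exact (map_subgroupOf_eq_of_le hDM).ge.trans (map_mono hsub)
  exact hU (eq_bot_iff.mpr fun u hu => hP.U_compl.2.2.1.le ⟨hle' (hP.U_compl.2.1 hu), hu⟩)

theorem W₂_eq {S W₁ W₂ U W₂' : Subgroup G} (hW : IsSelfNormalizingCyclic W₁ W₂)
    (hW₂S : W₂ ≤ S) (hP : IsTypePWith S W₁ U W₂') : W₂' = W₂ := by
  obtain ⟨hW1, hW2, hd, hc, hcyc, hN⟩ := hW
  obtain ⟨x, hx, hx1⟩ := W₁.bot_or_exists_ne_one.resolve_left hW1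
  have hD : ∀ y ∈ W₂', (∀ a ∈ W₁, a * y = y * a) := fun y hy a ha => by
    by_cases ha1 : a = 1
    · simp [ha1]
    · exact (mem_centralizer_singleton_iff.mp ((hP.W₂_centralizer a ha ha1).ge hy).2).symm
  have hsub : W₂ ≤ ⁅S, S⁆ := by
    intro w hw
    obtain ⟨a, ha, b, hb, hab⟩ := hP.W₁_compl.2.2.2 w (hW₂S hw)
    haveI := hcyc
    have hcop : (Nat.card W₁).Coprime (orderOf w) := by
      refine Nat.coprime_of_dvd' fun p hp h1 h2 => ?_
      exfalso
      haveI := Fact.mk hp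
      obtain ⟨y, hy⟩ := exists_prime_orderOf_dvd_card' p h1
      obtain ⟨z, hz⟩ := exists_prime_orderOf_dvd_card' p
        (h2.trans (W₂.orderOf_dvd_natCard hw))
      have hy' : (y : G) ∈ W₁ ⊔ W₂ := mem_sup_left y.2
      have hz' : (z : G) ∈ W₁ ⊔ W₂ := mem_sup_right z.2
      have h3 : zpowers (⟨y, hy'⟩ : ↥(W₁ ⊔ W₂)) = zpowers ⟨z, hz'⟩ :=
        Cfsg.Lib.Invol.zpowers_eq_of_cyclic (by rw [orderOf_mk, orderOf_mk, orderOf_coe, orderOf_coe, hy, hz])
      have h4 : (⟨y, hy'⟩ : ↥(W₁ ⊔ W₂)) ∈ zpowers (⟨z, hz'⟩ : ↥(W₁ ⊔ W₂)) := h3 ▸ mem_zpowers _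
      obtain ⟨k, hk⟩ := mem_zpowers_iff.mp h4
      have h5 : (y : G) ∈ W₂ := by
        have : ((⟨z, hz'⟩ : ↥(W₁ ⊔ W₂)) ^ k : ↥(W₁ ⊔ W₂)).1 ∈ W₂ := by
          rw [SubgroupClass.coe_zpow]; exact zpow_mem z.2 k
        rwa [hk] at this
      have : (y : G) = 1 := mem_bot.mp (hd.le ⟨y.2, h5⟩)
      rw [← orderOf_coe, this, orderOf_one] at hy
      exact hp.ne_one hy.symm
    -- the class of `w` modulo the derived subgroup
    let D' := (⁅S, S⁆).subgroupOf S
    haveI : D'.Normal := by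
      refine (normal_subgroupOf_iff hP.W₁_compl.1).mpr fun h g hh hg => ?_
      have h1 : g * h * g⁻¹ * h⁻¹ ∈ ⁅S, S⁆ := by
        have := commutator_mem_commutator hg (hP.W₁_compl.1 hh)
        rwa [commutatorElement_def] at this
      simpa using mul_mem h1 hh
    have hb1 : b = 1 := by
      have e1 : (QuotientGroup.mk' D' ⟨w, hW₂S hw⟩) = QuotientGroup.mk' D' ⟨b, hP.W₁_compl.2.1 hb⟩ := by
        rw [show (⟨w, hW₂S hw⟩ : S) = ⟨a, hP.W₁_compl.1 ha⟩ * ⟨b, hP.W₁_compl.2.1 hb⟩ from Subtype.ext hab,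
          map_mul, show QuotientGroup.mk' D' ⟨a, hP.W₁_compl.1 ha⟩ = 1 from
            (QuotientGroup.eq_one_iff _).mpr ha, one_mul]
      have e2 : orderOf (QuotientGroup.mk' D' ⟨b, hP.W₁_compl.2.1 hb⟩) = 1 := by
        refine Nat.eq_one_of_dvd_coprimes hcop ((orderOf_map_dvd _ _).trans ?_)
          (e1 ▸ (orderOf_map_dvd _ _).trans ?_)
        · rw [orderOf_mk]; exact W₁.orderOf_dvd_natCard hb
        · rw [orderOf_mk]
      have e3 := (QuotientGroup.eq_one_iff _).mp (orderOf_eq_one_iff.mp e2)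
      exact mem_bot.mp (hP.W₁_compl.2.2.1.le ⟨e3, hb⟩)
    rw [hab, hb1, mul_one]; exact ha
  have hle : W₂ ≤ W₂' := fun w hw => (hP.W₂_centralizer x hx hx1).le
    ⟨hsub hw, mem_centralizer_singleton_iff.mpr (hc x hx w hw).symm⟩
  refine le_antisymm ?_ hle
  obtain ⟨y, hy, hy1⟩ := W₂.bot_or_exists_ne_one.resolve_left hW2
  set X : Set G := {x * y}
  have hX : X ⊆ (↑(W₁ ⊔ W₂) : Set G) \ (↑W₁ ∪ ↑W₂) := by
    rintro _ rfl
    refine ⟨mul_mem (mem_sup_left hx) (mem_sup_right hy), ?_⟩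
    rintro (h | h)
    · exact hy1 (mem_bot.mp (hd.le ⟨(mul_mem_cancel_left hx).mp h, hy⟩))
    · exact hx1 (mem_bot.mp (hd.le ⟨hx, (mul_mem_cancel_right hy).mp h⟩))
  intro z hz
  obtain ⟨-, -, -, -, hcyc', -⟩ := hP.selfNormalizing
  haveI := hcyc'
  have hzy : Commute z y := by
    letI := IsCyclic.commGroup (α := ↥(W₁ ⊔ W₂'))
    exact congrArg Subtype.val (mul_comm (⟨z, mem_sup_right hz⟩ : ↥(W₁ ⊔ W₂'))
      ⟨y, mem_sup_right (hle hy)⟩)
  have hzx : Commute z x := (hD z hz x hx).symm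
  have hzN : z ∈ normalizer X := by
    refine mem_set_normalizer_iff.mpr fun w => ?_
    simp only [X, Set.mem_singleton_iff]
    rw [mul_inv_eq_iff_eq_mul, ← (hzx.mul_right hzy).eq, mul_right_inj]
  rw [hN X hX (Set.singleton_nonempty _)] at hzN
  obtain ⟨a, ha, b, hb, hab⟩ := (Cfsg.Lib.Core.mem_sup_of_commute
    (Cfsg.Lib.Core.commutator_eq_bot_iff_forall.2 hc)).1 hzN
  have ha' : a ∈ ⁅S, S⁆ := by
    have h1 : z ∈ ⁅S, S⁆ := ((hP.W₂_centralizer x hx hx1).ge hz).1
    have h2 : a = z * b⁻¹ := by rw [← hab]; group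
    rw [h2]; exact mul_mem h1 (inv_mem (hsub hb))
  have : a = 1 := mem_bot.mp (hP.W₁_compl.2.2.1.le ⟨ha', ha⟩)
  rw [← hab, this, one_mul]; exact hb

end Cfsg.Lib.Local.TypeP
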