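import Cfsg.Agent.Lib.Local.GlaubermanComplement
import Cfsg.Prelude.Def_LocalEven

/-!
# The `ZJ`-theorem for strongly closed subgroups

* `isPStableOn_of_isNormalizerPStable`.
* `centerThompsonA_normal_of_isStronglyClosed`, `omegaZ_normal_of_isStronglyClosed`.
* `complement_of_centerThompsonA_stronglyClosed`, `complement_of_omegaZ_stronglyClosed`.
-/

set_option autoImplicit false
set_option linter.style.haveILetI false
set_option linter.unusedSectionVars false

universe u

namespace Cfsg.Lib.Local.GlaubermanZJ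

open Subgroup Cfsg Cfsg.Lib.Fusion
open scoped commutatorElement

variable {G : Type u} [Group G] [Finite G] {p : ℕ} [hp : Fact p.Prime]

theorem isPStableOn_of_isNormalizerPStable (hst : IsNormalizerPStable p G) (V : Subgroup G)
    [V.Normal] (hV : IsPGroup p V) : IsPStableOn p V := by
  intro a ha
  have hN : normalizer (V : Set G) = ⊤ := by rw [normalizer_eq_top_iff]; infer_instance
  have hg : a ∈ normalizer (V : Set G) := hN ▸ mem_top a
  have h := hst V hV a hg ha
  let f : (normalizer (V : Set G) ⧸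
      (centralizer (V : Set G)).subgroupOf (normalizer (V : Set G))) →*
        G ⧸ centralizer (V : Set G) :=
    QuotientGroup.map _ _ (normalizer (V : Set G)).subtype le_rfl
  have hf : Function.Surjective f := fun y => by
    obtain ⟨x, rfl⟩ := QuotientGroup.mk_surjective y
    exact ⟨QuotientGroup.mk ⟨x, hN ▸ mem_top x⟩, rfl⟩
  exact Cfsg.Lib.Core.map_pCore_le f hf ⟨_, h, rfl⟩

theorem familyInf_inf {𝒜 : Set (Subgroup G)} {Q D : Subgroup G} (h : ∀ A ∈ 𝒜, A ≤ D) :
    familyInf 𝒜 Q = familyInf 𝒜 (Q ⊓ D) :=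
  le_antisymm (familyInf_anti inf_le_left)
    (le_iInf₂ fun A hA => familyInf_le hA.1 (le_inf hA.2 (h A hA.1)))

/-- A strongly closed subgroup is normal in the Sylow subgroup. -/
theorem le_normalizer_of_isStronglyClosed {P D : Subgroup G} (hD : IsStronglyClosed D P) :
    P ≤ normalizer (D : Set G) := fun g hg =>
  mem_normalizer_fintype fun x hx => hD.2 x hx g (mul_mem (mul_mem hg (hD.1 hx)) (inv_mem hg))

theorem normalizer_le_normalizer_inf {P D Q : Subgroup G} (hD : IsStronglyClosed D P)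
    (hQ : Q ≤ P) : normalizer (Q : Set G) ≤ normalizer ((Q ⊓ D : Subgroup G) : Set G) := fun g hg =>
  mem_normalizer_fintype fun x hx =>
    have h := (mem_normalizer_iff.1 hg x).1 hx.1
    ⟨h, hD.2 x hx.2 g (hQ h)⟩

theorem exists_normalized_maxAbInOf (h2 : p ≠ 2) {P : Subgroup G} (hP : IsPGroup p P)
    {D : Subgroup G} (hDP : D ≤ P) (hPD : P ≤ normalizer (D : Set G))
    {B : Subgroup G} [B.Normal] (hBP : B ≤ P)
    (h : ∃ A, IsMaxAbIn D A ∧ ⁅B, B⁆ ≤ A ∧ ¬ B ≤ A) :
    ∃ A, IsMaxAbIn D A ∧ ⁅B, B⁆ ≤ A ∧ ¬ B ≤ A ∧ B ≤ normalizer (A : Set G) := by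
  obtain ⟨A, ⟨hA, hA', hA''⟩, hmax⟩ := Set.exists_max_image
    {A | IsMaxAbIn D A ∧ ⁅B, B⁆ ≤ A ∧ ¬ B ≤ A}
    (fun A => Nat.card (A ⊓ B : Subgroup G)) (Set.toFinite _) h
  refine ⟨A, hA, hA', hA'', ?_⟩
  by_contra hn
  obtain ⟨A', h1, h3, hlt, hnorm⟩ := exists_replacementIn h2 hP hDP hPD hBP hA hA' hn
  exact absurd (hmax A' ⟨h1, h3, fun hB => hn (hB.trans hnorm)⟩)
    (not_le.2 (Set.Finite.card_lt_card (Set.toFinite _) hlt))

theorem exists_normalized_maxEAInOf (h2 : p ≠ 2) {P : Subgroup G} (hP : IsPGroup p P)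
    {D : Subgroup G} (hDP : D ≤ P) (hPD : P ≤ normalizer (D : Set G))
    {B : Subgroup G} [B.Normal] (hBP : B ≤ P)
    (h : ∃ A, IsMaxEAIn p D A ∧ ⁅B, B⁆ ≤ A ∧ ¬ B ≤ A) :
    ∃ A, IsMaxEAIn p D A ∧ ⁅B, B⁆ ≤ A ∧ ¬ B ≤ A ∧ B ≤ normalizer (A : Set G) := by
  obtain ⟨A, ⟨hA, hA', hA''⟩, hmax⟩ := Set.exists_max_image
    {A | IsMaxEAIn p D A ∧ ⁅B, B⁆ ≤ A ∧ ¬ B ≤ A}
    (fun A => Nat.card (A ⊓ B : Subgroup G)) (Set.toFinite _) h
  refine ⟨A, hA, hA', hA'', ?_⟩
  by_contra hn
  obtain ⟨A', h1, h3, hlt, hnorm⟩ := exists_replacementEAIn h2 hP hDP hPD hBP hA hA' hn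
  exact absurd (hmax A' ⟨h1, h3, fun hB => hn (hB.trans hnorm)⟩)
    (not_le.2 (Set.Finite.card_lt_card (Set.toFinite _) hlt))

/-- The `ZJ`-theorem for a strongly closed subgroup. -/
theorem centerThompsonA_normal_of_isStronglyClosed (h2 : p ≠ 2)
    (hc : centralizer (pCore p G : Set G) ≤ pCore p G)
    (hst : ∀ (V : Subgroup G) [V.Normal], IsPGroup p V → IsPStableOn p V) (P : Sylow p G)
    {D : Subgroup G} (hD : IsStronglyClosed D (P : Subgroup G)) :
    (centerThompsonAOf D).Normal := by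
  obtain ⟨A₀, hA₀⟩ := exists_isMaxAbIn D
  have hsub : ∀ A ∈ {A | IsMaxAbIn D A}, A ≤ D := fun A hA => hA.1
  have he : familyInf {A | IsMaxAbIn D A} (P : Subgroup G) = centerThompsonAOf D := by
    rw [familyInf_inf hsub, inf_eq_right.2 hD.1, familyInf_isMaxAbIn le_rfl ⟨A₀, hA₀, hA₀.1⟩]
  rw [← he]
  refine familyInf_normal hc hst P {A | IsMaxAbIn D A}
    (fun A hA => ⟨hA.1.trans hD.1, hA.2.1⟩) ⟨A₀, hA₀⟩ (fun Q hQ hex => ?_)
    (fun B hBn hBP hcl hex => ?_)
  · rw [familyInf_inf hsub, familyInf_isMaxAbIn inf_le_right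
      (by obtain ⟨A, hA, hAQ⟩ := hex; exact ⟨A, hA, le_inf hAQ hA.1⟩)]
    exact (normalizer_le_normalizer_inf hD hQ).trans
      (normalizer_le_normalizer_centerThompsonAOf _)
  · haveI := hBn
    exact exists_normalized_maxAbInOf h2 P.isPGroup' hD.1 (le_normalizer_of_isStronglyClosed hD)
      hBP hex

/-- The elementary `ZJ`-theorem for a strongly closed subgroup. -/
theorem omegaZ_normal_of_isStronglyClosed (h2 : p ≠ 2)
    (hc : centralizer (pCore p G : Set G) ≤ pCore p G)
    (hst : ∀ (V : Subgroup G) [V.Normal], IsPGroup p V → IsPStableOn p V) (P : Sylow p G)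
    {D : Subgroup G} (hD : IsStronglyClosed D (P : Subgroup G)) :
    (omegaZ p D).Normal := by
  obtain ⟨A₀, hA₀⟩ := exists_isMaxEAIn (p := p) D
  have hsub : ∀ A ∈ {A | IsMaxEAIn p D A}, A ≤ D := fun A hA => hA.1
  have he : familyInf {A | IsMaxEAIn p D A} (P : Subgroup G) = omegaZ p D := by
    rw [familyInf_inf hsub, inf_eq_right.2 hD.1, familyInf_isMaxEAIn le_rfl ⟨A₀, hA₀, hA₀.1⟩]
  rw [← he]
  refine familyInf_normal hc hst P {A | IsMaxEAIn p D A}
    (fun A hA => ⟨hA.1.trans hD.1, hA.2.1.1⟩) ⟨A₀, hA₀⟩ (fun Q hQ hex => ?_)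
    (fun B hBn hBP hcl hex => ?_)
  · rw [familyInf_inf hsub, familyInf_isMaxEAIn inf_le_right
      (by obtain ⟨A, hA, hAQ⟩ := hex; exact ⟨A, hA, le_inf hAQ hA.1⟩)]
    exact (normalizer_le_normalizer_inf hD hQ).trans (normalizer_le_normalizer_omegaZ _)
  · haveI := hBn
    exact exists_normalized_maxEAInOf h2 P.isPGroup' hD.1 (le_normalizer_of_isStronglyClosed hD)
      hBP hex

theorem map_omegaOne_of_injOn {H : Type u} [Group H] (f : G →* H) {K : Subgroup G}
    (hf : Set.InjOn f K) : (omegaOne p K).map f = omegaOne p (K.map f) := by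
  rw [omegaOne, omegaOne, MonoidHom.map_closure]
  congr 1
  ext y
  constructor
  · rintro ⟨x, ⟨hx, hxp⟩, rfl⟩
    exact ⟨mem_map_of_mem f hx, by rw [← map_pow, hxp, map_one]⟩
  · rintro ⟨⟨x, hx, rfl⟩, hy⟩
    exact ⟨x, ⟨hx, hf (pow_mem hx p) (one_mem K) (by rw [map_pow, hy, map_one])⟩, rfl⟩

theorem map_omegaZ_of_injOn {H : Type u} [Group H] (f : G →* H) (S : Subgroup G)
    (hf : Set.InjOn f S) : (omegaZ p S).map f = omegaZ p (S.map f) := by
  have h1 : (centerThompsonOf p S).map f = centerThompsonOf p (S.map f) := by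
    have h1 := Thompson.map_zenter f (thompsonSubgroupOf p S)
      (hf.mono fun x hx => map_subtype_le _ hx)
    rw [Thompson.map_thompsonSubgroupOf f S hf] at h1
    exact h1
  rw [omegaZ, omegaZ, ← h1]
  exact map_omegaOne_of_injOn f (hf.mono fun x hx => map_subtype_le _ (inf_le_left (b := centralizer (thompsonSubgroupOf p S : Set G)) hx))

theorem omegaZ_ne_bot {S : Subgroup G} (hS : IsPGroup p S) (hne : S ≠ ⊥) : omegaZ p S ≠ ⊥ := by
  intro h0
  have h1 := centerThompsonOf_ne_bot hS hne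
  have hle : centerThompsonOf p S ≤ S := inf_le_left.trans (map_subtype_le _)
  haveI : Nontrivial (centerThompsonOf p S) := (nontrivial_iff_ne_bot _).2 h1
  obtain ⟨n, hn0, hn⟩ := (hS.to_le hle).nontrivial_iff_card.1 inferInstance
  obtain ⟨x, hx⟩ := exists_prime_orderOf_dvd_card' (G := centerThompsonOf p S) p
    (hn ▸ dvd_pow_self p (by omega))
  have hxp := pow_orderOf_eq_one x
  rw [hx] at hxp
  have h2 : (x : G) ∈ omegaZ p S := subset_closure ⟨x.2, congrArg Subtype.val hxp⟩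
  rw [h0, mem_bot] at h2
  rw [show x = 1 from Subtype.ext h2, orderOf_one] at hx
  exact hp.out.one_lt.ne hx

/-- Glauberman's normal `p`-complement theorem for a strongly closed subgroup, abelian version. -/
theorem complement_of_centerThompsonA_stronglyClosed (h2 : p ≠ 2) (P : Sylow p G) {D : Subgroup G}
    (hD : IsStronglyClosed D (P : Subgroup G))
    (h : HasNormalPComplement p (normalizer (centerThompsonAOf D : Set G))) :
    HasNormalPComplement p G := by
  refine complement_of_functorIn (c := True) (W := fun G _ S => centerThompsonAOf S) h2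
    (fun A B _ _ _ f S hf => map_centerThompsonAOf' f S hf) (fun A _ S => ?_)
    (fun A _ _ S hS hne => centerThompsonAOf_ne_bot hS hne)
    (fun A _ _ Q E _ hE hc hst _ => centerThompsonA_normal_of_isStronglyClosed h2 hc hst Q hE)
    P (Or.inl trivial) hD h
  exact inf_le_left.trans (map_subtype_le _)

/-- Glauberman's normal `p`-complement theorem for a strongly closed subgroup, elementary
version. -/
theorem complement_of_omegaZ_stronglyClosed (h2 : p ≠ 2) (P : Sylow p G) {D : Subgroup G}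
    (hD : IsStronglyClosed D (P : Subgroup G))
    (h : HasNormalPComplement p (normalizer (omegaZ p D : Set G))) :
    HasNormalPComplement p G :=
  complement_of_functorIn (c := True) (W := fun G _ S => omegaZ p S) h2
    (fun A B _ _ _ f S hf => map_omegaZ_of_injOn f S hf)
    (fun A _ S => (omegaZ_le S).trans (inf_le_left.trans (map_subtype_le _)))
    (fun A _ _ S hS hne => omegaZ_ne_bot hS hne)
    (fun A _ _ Q E _ hE hc hst _ => omegaZ_normal_of_isStronglyClosed h2 hc hst Q hE)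
    P (Or.inl trivial) hD h

end Cfsg.Lib.Local.GlaubermanZJ
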