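import Cfsg.Agent.Lib.Local.PIrreducible
import Mathlib.GroupTheory.Frattini

/-!
Subnormal subgroups of `p`-power index, subnormal closure, `Y`-minimal groups.
-/

namespace Cfsg.Lib.Local

open Subgroup Cfsg.Lib
open scoped commutatorElement

variable {H : Type*} [Group H] {p : ℕ}

/-- A coatom containing `O^p(H)` is normal. -/
theorem normal_of_isCoatom_of_pResidual_le [Finite H] [Fact p.Prime] {M : Subgroup H}
    (hM : IsCoatom M) (h : pResidual p H ≤ M) : M.Normal := by
  set f := QuotientGroup.mk' (pResidual p H)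
  have hf : Function.Surjective f := QuotientGroup.mk'_surjective _
  have e : (M.map f).comap f = M := by
    rw [comap_map_eq, QuotientGroup.ker_mk', sup_eq_left.mpr h]
  have hc : IsCoatom (M.map f) := by
    refine ⟨fun ht => hM.1 (by rw [← e, ht, comap_top]), fun K hK => ?_⟩
    have h1 : M < K.comap f := e ▸ (comap_lt_comap_of_surjective hf).mpr hK
    rw [← map_comap_eq_self_of_surjective hf K, hM.2 _ h1, map_top_of_surjective f hf]
  haveI : Group.IsNilpotent (H ⧸ pResidual p H) :=
    (Fusion.isPGroup_quotient_pResidual (p := p)).isNilpotent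
  have := (Group.normalizerCondition_of_isNilpotent.normal_of_coatom _ hc).comap f
  rwa [e] at this

/-- If the conjugates of `A` generate `H`, then `A` supplements `O^p(H)`. -/
theorem sup_pResidual_eq_top_of_normalClosure [Finite H] [Fact p.Prime] {A : Subgroup H}
    (hA : normalClosure (A : Set H) = ⊤) : A ⊔ pResidual p H = ⊤ := by
  by_contra h
  obtain ⟨M, hM, hle⟩ := (eq_top_or_exists_le_coatom _).resolve_left h
  haveI := normal_of_isCoatom_of_pResidual_le hM (le_sup_right.trans hle)
  exact hM.1 (top_le_iff.mp (hA ▸ normalClosure_le_normal (SetLike.coe_subset_coe.mpr (le_sup_left.trans hle))))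

/-- If the conjugates of the `p`-subgroup `A` generate `H`, then `O^p(H) = [O^p(H), A]`. -/
theorem commutator_pResidual_of_normalClosure [Finite H] [Fact p.Prime] {A : Subgroup H}
    (hA : normalClosure (A : Set H) = ⊤) (hAp : IsPGroup p A) :
    ⁅pResidual p H, A⁆ = pResidual p H := by
  have hn := commutator_normal_of_sup_eq_top (R := pResidual p H) (Y := A)
    (sup_pResidual_eq_top_of_normalClosure hA) le_normalizer
  haveI := hn.1
  haveI := hn.2
  refine le_antisymm (commutator_le_left _ _) (pResidual_le_of_le_sup hAp ?_)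
  have : normalClosure (A : Set H) ≤ ⁅pResidual p H, A⁆ ⊔ A := normalClosure_le_normal (SetLike.coe_subset_coe.mpr le_sup_right)
  exact le_top.trans (hA ▸ this)

/-- A subnormal subgroup of `p`-power index contains every element of order prime to `p`. -/
theorem mem_of_isSubnormal_of_index [Finite H] [hp : Fact p.Prime] {K : Subgroup H}
    (hK : K.IsSubnormal) {k : ℕ} (hk : K.index ∣ p ^ k) {x : H} (hx : (orderOf x).Coprime p) :
    x ∈ K := by
  induction hK with
  | top => trivial
  | step A B hle hB hN ih =>
    have hxB : x ∈ B := ih ((index_dvd_of_le hle).trans hk)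
    have hp' : IsPGroup p (↥B ⧸ A.subgroupOf B) := by
      obtain ⟨j, -, hj⟩ := (Nat.dvd_prime_pow hp.out).mp
        ((Dvd.intro _ (relIndex_mul_index hle)).trans hk)
      exact IsPGroup.of_card (n := j) hj
    have := Fusion.pResidual_le_ker hp' (QuotientGroup.mk' (A.subgroupOf B))
      (Fusion.mem_pResidual_of_coprime (g := (⟨x, hxB⟩ : ↥B))
        (by rwa [← Subgroup.orderOf_coe]))
    rw [QuotientGroup.ker_mk'] at this
    exact this

/-- A subnormal subgroup generated by its `p'`-elements is `O^p` of its join with a subnormal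
`p`-subgroup. -/
theorem map_pResidual_sup_eq [Finite H] [hp : Fact p.Prime] {A B : Subgroup H}
    (hA : A.IsSubnormal) (hB : B.IsSubnormal) (hAp : IsPGroup p A)
    (hBres : (pResidual p ↥B).map B.subtype = B) :
    (pResidual p ↥(A ⊔ B)).map (A ⊔ B).subtype = B := by
  have hAP : A ≤ pCore p H := Core.le_pCore_of_isSubnormal hA hAp
  have hrel : ∃ k, B.relIndex (B ⊔ pCore p H) ∣ p ^ k := by
    obtain ⟨k, hk⟩ := IsPGroup.iff_card.mp (Core.pCore_isPGroup p H)
    refine ⟨k, hk ▸ ?_⟩
    exact (Nat.mul_dvd_mul_iff_left Nat.card_pos).mp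
      ((Core.card_mul_relIndex le_sup_left).dvd.trans (Core.card_sup_dvd_mul B (pCore p H)))
  obtain ⟨k, hk⟩ := hrel
  have hle : A ⊔ B ≤ B ⊔ pCore p H := sup_le (hAP.trans le_sup_right) le_sup_left
  apply le_antisymm
  · rw [map_le_iff_le_comap, pResidual, closure_le]
    intro x hx
    have h1 := mem_of_isSubnormal_of_index (hB.subgroupOf (K := B ⊔ pCore p H)) (k := k) hk
      (x := ⟨x, hle x.2⟩) (by rw [← Subgroup.orderOf_coe]
                              rw [Set.mem_ofPred_eq, ← Subgroup.orderOf_coe] at hx
                              exact hx)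
    exact h1
  · conv_lhs => rw [← hBres]
    rw [map_le_iff_le_comap, pResidual, closure_le]
    intro x hx
    refine ⟨⟨x, mem_sup_right x.2⟩, Fusion.mem_pResidual_of_coprime ?_, rfl⟩
    rw [← Subgroup.orderOf_coe]
    rw [Set.mem_ofPred_eq, ← Subgroup.orderOf_coe] at hx
    exact hx

theorem isSubnormal_sInf [Finite H] (S : Set (Subgroup H)) (h : ∀ K ∈ S, K.IsSubnormal) :
    (sInf S).IsSubnormal := by
  refine S.toFinite.induction_on_subset (motive := fun s _ => (sInf s).IsSubnormal) S ?_ ?_
  · simp
  · intro a s ha hs _ ih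
    rw [sInf_insert]
    exact (h a ha).inf ih

theorem subnormalClosure_isSubnormal [Finite H] (A : Subgroup H) :
    (Cfsg.subnormalClosure A).IsSubnormal :=
  isSubnormal_sInf _ fun _ hK => hK.2

theorem le_subnormalClosure (A : Subgroup H) : A ≤ Cfsg.subnormalClosure A :=
  le_sInf fun _ hK => hK.1

theorem subnormalClosure_le {A K : Subgroup H} (h1 : A ≤ K) (h2 : K.IsSubnormal) :
    Cfsg.subnormalClosure A ≤ K :=
  sInf_le ⟨h1, h2⟩

theorem normalClosure_subgroupOf_subnormalClosure [Finite H] (A : Subgroup H) :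
    normalClosure ((A.subgroupOf (Cfsg.subnormalClosure A) : Subgroup _) :
      Set ↥(Cfsg.subnormalClosure A)) = ⊤ := by
  set K := Cfsg.subnormalClosure A
  set N := normalClosure ((A.subgroupOf K : Subgroup _) : Set ↥K)
  have h1 : (N.map K.subtype).IsSubnormal :=
    (normalClosure_normal (s := ((A.subgroupOf K : Subgroup _) : Set ↥K))).isSubnormal.trans'
      (subnormalClosure_isSubnormal A)
  have h2 : K ≤ N.map K.subtype := subnormalClosure_le
    (fun a ha => ⟨⟨a, le_subnormalClosure A ha⟩, subset_normalClosure ha, rfl⟩) h1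
  refine eq_top_iff.mpr fun x _ => ?_
  obtain ⟨y, hy, hxy⟩ := h2 x.2
  rwa [← Subtype.ext hxy]

theorem normalizer_le_normalizer_subnormalClosure [Finite H] (A : Subgroup H) :
    normalizer (A : Set H) ≤ normalizer (Cfsg.subnormalClosure A : Set H) := by
  intro g hg
  have key : ∀ x ∈ normalizer (A : Set H), (Cfsg.subnormalClosure A).map
      (MulAut.conj x).toMonoidHom ≤ Cfsg.subnormalClosure A := fun x hx => by
    refine le_sInf fun K hK => ?_
    rw [map_le_iff_le_comap]
    refine subnormalClosure_le (fun a ha => ?_) (hK.2.comap _)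
    exact hK.1 ((mem_normalizer_iff.mp hx a).mp ha)
  rw [Core.mem_normalizer_iff_map_conj]
  refine le_antisymm (key g hg) fun x hx => ?_
  refine ⟨g⁻¹ * x * g, ?_, by simp [mul_assoc]⟩
  have := key g⁻¹ (inv_mem hg) ⟨x, hx, rfl⟩
  simpa using this

/-! ### `Y`-minimal groups -/

variable {M Y : Subgroup H}

theorem normalizer_eq_of_minimal (hM : IsCoatom M) (hYM : Y ≤ M)
    (hY : normalClosure (Y : Set H) = ⊤) : normalizer (M : Set H) = M := by
  rcases hM.le_iff.mp le_normalizer with h | h
  · haveI := normalizer_eq_top_iff.mp h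
    exact absurd (top_le_iff.mp (hY ▸ normalClosure_le_normal hYM)) hM.1
  · exact h

theorem pCore_le_of_minimal [Finite H] [Fact p.Prime] (hM : IsCoatom M) (hYM : Y ≤ M)
    (hu : ∀ K : Subgroup H, IsCoatom K → Y ≤ K → K = M)
    (hY : normalClosure (Y : Set H) = ⊤) (hYp : IsPGroup p Y) : pCore p H ≤ M := by
  by_contra hnle
  have htop : Y ⊔ pCore p H = ⊤ := by
    by_contra h
    obtain ⟨K, hK, hle⟩ := (eq_top_or_exists_le_coatom _).resolve_left h
    obtain rfl := hu K hK (le_sup_left.trans hle)
    exact hnle (le_sup_right.trans hle)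
  have hp' : IsPGroup p H :=
    ((Core.isPGroup_sup_of_normal hYp (Core.pCore_isPGroup p H)).of_equiv
      (MulEquiv.subgroupCongr htop)).of_equiv topEquiv
  haveI : Group.IsNilpotent H := hp'.isNilpotent
  haveI := Group.normalizerCondition_of_isNilpotent.normal_of_coatom _ hM
  exact hM.1 (top_le_iff.mp (hY ▸ normalClosure_le_normal hYM))

/-- For a group minimal over `Y` with maximal overgroup `M`, a Sylow subgroup of `M` containing
`Y` is normalized only inside `M`. -/
theorem normalizer_le_of_minimal (hM : IsCoatom M) {S : Subgroup H} (hYS : Y ≤ S) (hSM : S ≤ M)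
    (hu : ∀ K : Subgroup H, IsCoatom K → Y ≤ K → K = M)
    (hY : normalClosure (Y : Set H) = ⊤) [Finite H] : normalizer (S : Set H) ≤ M := by
  rcases eq_top_or_exists_le_coatom (normalizer (S : Set H)) with h | ⟨K, hK, hle⟩
  · haveI := normalizer_eq_top_iff.mp h
    exact absurd (top_le_iff.mp (((hY ▸ normalClosure_le_normal hYS :)).trans hSM)) hM.1
  · obtain rfl := hu K hK (hYS.trans (le_normalizer.trans hle))
    exact hle

theorem exists_sylow_of_minimal [Finite H] [Fact p.Prime] (hM : IsCoatom M) (T : Sylow p ↥M)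
    (hN : normalizer (((T : Subgroup ↥M).map M.subtype : Subgroup H) : Set H) ≤ M) :
    ∃ P : Sylow p H, (P : Subgroup H) = (T : Subgroup ↥M).map M.subtype := by
  set S := (T : Subgroup ↥M).map M.subtype with hS
  obtain ⟨P, hSP⟩ := (T.2.map M.subtype).exists_le_sylow
  refine ⟨P, ?_⟩
  by_contra hne
  have hlt : S < P := lt_of_le_of_ne hSP (Ne.symm hne)
  haveI : Group.IsNilpotent ↥(P : Subgroup H) := P.2.isNilpotent
  have h1 : S.subgroupOf P < ⊤ := by
    rw [lt_top_iff_ne_top, ne_eq, subgroupOf_eq_top]
    exact hlt.not_ge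
  obtain ⟨x, hx, hxS⟩ := SetLike.exists_of_lt (Group.normalizerCondition_of_isNilpotent _ h1)
  have hxn : (x : H) ∈ normalizer (S : Set H) := by
    rw [mem_normalizer_iff]
    intro y
    constructor <;> intro hy
    · exact (mem_normalizer_iff.mp hx ⟨y, hSP hy⟩).mp hy
    · have hyP : y ∈ (P : Subgroup H) := by
        have := mul_mem (mul_mem (inv_mem x.2) (hSP hy)) x.2
        simpa [mul_assoc] using this
      exact (mem_normalizer_iff.mp hx ⟨y, hyP⟩).mpr hy
  have hsub : IsPGroup p ((P : Subgroup H).subgroupOf M) :=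
    P.2.comap_of_injective M.subtype M.subtype_injective
  have heq := T.3 hsub (fun t ht => hSP ⟨t, ht, rfl⟩)
  refine hxS (?_ : (x : H) ∈ S)
  refine ⟨⟨x, hN hxn⟩, ?_, rfl⟩
  rw [← heq]
  exact x.2

theorem sup_conj_eq_top (hM : IsCoatom M) (hYM : Y ≤ M) [Finite H]
    (hu : ∀ K : Subgroup H, IsCoatom K → Y ≤ K → K = M)
    (hY : normalClosure (Y : Set H) = ⊤) {g : H} (hg : g ∉ M) :
    Y ⊔ Y.map (MulAut.conj g).toMonoidHom = ⊤ := by
  by_contra h
  obtain ⟨K, hK, hle⟩ := (eq_top_or_exists_le_coatom _).resolve_left h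
  obtain rfl := hu K hK (le_sup_left.trans hle)
  have h2 : IsCoatom (K.comap (MulAut.conj g).toMonoidHom) :=
    isCoatom_comap_of_surjective (MulAut.conj g).surjective hK
  have h3 := hu _ h2 (map_le_iff_le_comap.mp (le_sup_right.trans hle))
  refine hg ((normalizer_eq_of_minimal hK hYM hY).le ?_)
  rw [Core.mem_normalizer_iff_map_conj]
  conv_lhs => rw [← h3]
  exact map_comap_eq_self_of_surjective (MulAut.conj g).surjective K

theorem inf_conj_eq_inf_center (g : H) (hg : Y ⊔ Y.map (MulAut.conj g).toMonoidHom = ⊤)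
    (hY : IsMulCommutative ↥Y) :
    Y ⊓ Y.map (MulAut.conj g).toMonoidHom = Y ⊓ center H := by
  apply le_antisymm
  · refine le_inf inf_le_left fun z hz => ?_
    rw [mem_center_iff]
    intro w
    have hle : Y ⊔ Y.map (MulAut.conj g).toMonoidHom ≤ centralizer ({z} : Set H) := by
      refine sup_le (fun y hy => ?_) (fun y hy => ?_)
      · rw [mem_centralizer_singleton_iff]
        exact setLike_mul_comm hy hz.1
      · rw [mem_centralizer_singleton_iff]
        obtain ⟨a, ha, rfl⟩ := hy
        obtain ⟨b, hb, rfl⟩ := hz.2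
        simp only [MulEquiv.coe_toMonoidHom, ← map_mul]
        rw [setLike_mul_comm ha hb]
    have := hle (hg ▸ mem_top w)
    rw [mem_centralizer_singleton_iff] at this
    exact this
  · refine le_inf inf_le_left fun z hz => ⟨z, hz.1, ?_⟩
    have hz2 := mem_center_iff.mp hz.2 g
    simp only [MulEquiv.coe_toMonoidHom, MulAut.conj_apply]
    rw [hz2, mul_assoc, mul_inv_cancel, mul_one]

/-- In a `Y`-minimal group the core `D` of the maximal overgroup is `O_p` by the Frattini
subgroup of the quotient. -/
theorem map_normalCore_eq_frattini [Finite H] [hp : Fact p.Prime] (hM : IsCoatom M)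
    (T : Sylow p H) (hYT : Y ≤ T) (hTM : (T : Subgroup H) ≤ M)
    (hu : ∀ K : Subgroup H, IsCoatom K → Y ≤ K → K = M) :
    (M.normalCore).map (QuotientGroup.mk' (pCore p H)) = frattini (H ⧸ pCore p H) := by
  set f := QuotientGroup.mk' (pCore p H) with hfdef
  have hf : Function.Surjective f := QuotientGroup.mk'_surjective _
  have hclosed : IsPClosed p ↥(M.normalCore) :=
    isPClosed_of_le_unique_coatom T hYT hu hM.1 (normalCore_le M)
  have hOD : pCore p H ≤ M.normalCore :=
    normal_le_normalCore.mpr ((Core.pCore_le_sylow T).trans hTM)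
  apply le_antisymm
  · refine le_iInf₂ fun K hK => ?_
    rw [map_le_iff_le_comap]
    have hK' : IsCoatom (K.comap f) := isCoatom_comap_of_surjective hf hK
    by_contra hnle
    have htop : M.normalCore ⊔ K.comap f = ⊤ := hK'.2 _ (right_lt_sup.mpr hnle)
    have hidx : ¬ p ∣ (K.comap f).index := by
      have hnc : (M.normalCore).Normal := normalCore_normal M
      have e1 : M.normalCore.relIndex (K.comap f) = M.normalCore.index := by
        rw [← relIndex_sup_right, sup_comm, htop, relIndex_top_right]
      have e2 : (K.comap f).index = (K.comap f).relIndex M.normalCore := by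
        have h1 := relIndex_mul_index (inf_le_left : K.comap f ⊓ M.normalCore ≤ K.comap f)
        have h2 := relIndex_mul_index (inf_le_right : K.comap f ⊓ M.normalCore ≤ M.normalCore)
        rw [inf_relIndex_left, e1] at h1
        rw [inf_relIndex_right] at h2
        refine Nat.eq_of_mul_eq_mul_left (Nat.pos_of_ne_zero
          (index_ne_zero_of_finite (H := M.normalCore))) ?_
        rw [h1, ← h2, mul_comm]
      rw [e2]
      intro hd
      have hcop : ¬ p ∣ (pCore p H).relIndex M.normalCore := by
        intro hd'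
        refine Solv.not_dvd_relIndex_of_isSubnormal T (normalCore_normal M).isSubnormal
          (hd'.trans ?_)
        rw [← inf_relIndex_right (T : Subgroup H)]
        refine relIndex_dvd_of_le_left M.normalCore ?_
        exact (isPClosed_subnormal_iff (normalCore_normal M).isSubnormal).mp hclosed _
          inf_le_right (T.2.to_le inf_le_left)
      refine hcop (hd.trans (relIndex_dvd_of_le_left _ ?_))
      exact fun x hx => by
        have : f x = 1 := (QuotientGroup.eq_one_iff x).mpr hx
        simp [this]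
    let S : Sylow p ↥(K.comap f) := Classical.arbitrary _
    have hSi : ¬ p ∣ ((S : Subgroup ↥(K.comap f)).map (K.comap f).subtype).index := by
      rw [index_map_subtype]
      exact fun hd => (hp.out.dvd_mul.mp hd).elim S.not_dvd_index hidx
    let S' : Sylow p H := (S.2.map (K.comap f).subtype).toSylow hSi
    obtain ⟨g, hg⟩ := MulAction.exists_smul_eq H T S'
    have hgT : (T : Subgroup H) ≤ (K.comap f).comap (MulAut.conj g).toMonoidHom := by
      intro t ht
      have h2 : g * t * g⁻¹ ∈ (S' : Subgroup H) := by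
        rw [← hg]
        exact ⟨t, ht, rfl⟩
      exact map_subtype_le (S : Subgroup ↥(K.comap f)) h2
    have h3 := hu _ (isCoatom_comap_of_surjective (MulAut.conj g).surjective hK')
      (hYT.trans hgT)
    refine hnle fun x hx => ?_
    have h4 : g⁻¹ * x * g ∈ M.normalCore := by
      simpa using (normalCore_normal M).conj_mem x hx g⁻¹
    have h5 := normalCore_le M h4
    rw [← h3] at h5
    simpa [mul_assoc] using h5
  · intro y hy
    obtain ⟨x, rfl⟩ := hf y
    refine ⟨x, fun g => ?_, rfl⟩
    have hMf : (M.map f).comap f = M := by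
      rw [comap_map_eq, QuotientGroup.ker_mk',
        sup_eq_left.mpr (hOD.trans (normalCore_le M))]
    have hc : IsCoatom (M.map f) := by
      refine ⟨fun ht => hM.1 (by rw [← hMf, ht, comap_top]), fun K hK => ?_⟩
      have h1 : M < K.comap f := hMf ▸ (comap_lt_comap_of_surjective hf).mpr hK
      rw [← map_comap_eq_self_of_surjective hf K, hM.2 _ h1, map_top_of_surjective f hf]
    haveI : (frattini (H ⧸ pCore p H)).Normal := inferInstance
    have h2 : f (g * x * g⁻¹) ∈ frattini (H ⧸ pCore p H) := by
      rw [map_mul, map_mul, map_inv]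
      exact Normal.conj_mem inferInstance _ hy _
    have h3 := frattini_le_coatom hc h2
    rw [← mem_comap, hMf] at h3
    exact h3

end Cfsg.Lib.Local
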