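import Cfsg.Agent.Lib.Core.Layer
import Cfsg.Agent.Lib.Local.YMinimal
import Cfsg.Agent.Lib.Solv.Nilpotent

/-!
The Sylow subgroups of a join of subnormal subgroups.
-/

set_option autoImplicit false

namespace Cfsg.Lib.Local

open Subgroup Cfsg.Lib
open scoped commutatorElement

universe u

variable {G : Type u} [Group G] [Finite G] {p : ℕ} [hp : Fact p.Prime]

omit [Finite G] in
/-- A `p`-subgroup normalizing a Sylow subgroup `X` of `L` inside `L` lies in `X`. -/
theorem le_of_not_dvd_relIndex_of_le_normalizer [Finite G] {X L Q : Subgroup G}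
    (hX : IsPGroup p X) (hXL : X ≤ L) (hnd : ¬ p ∣ X.relIndex L) (hQ : IsPGroup p Q) (hQL : Q ≤ L)
    (hn : Q ≤ normalizer (X : Set G)) : Q ≤ X := by
  obtain ⟨j, hj⟩ := IsPGroup.iff_card.mp (hX.to_sup_of_normal_left' hQ hn)
  have h1 : X.relIndex (X ⊔ Q) ∣ p ^ j := hj ▸ relIndex_dvd_card X (X ⊔ Q)
  have h2 : X.relIndex (X ⊔ Q) ∣ X.relIndex L :=
    Dvd.intro _ (relIndex_mul_relIndex X (X ⊔ Q) L le_sup_left (sup_le hXL hQL))
  have h3 : X.relIndex (X ⊔ Q) = 1 := Nat.eq_one_of_dvd_coprimes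
    ((hp.out.coprime_iff_not_dvd.mpr hnd).pow_left j) h1 h2
  exact le_sup_right.trans (relIndex_eq_one.mp h3)

theorem not_dvd_relIndex_inf (S : Sylow p G) {A : Subgroup G} (hA : A.IsSubnormal) :
    ¬ p ∣ ((S : Subgroup G) ⊓ A).relIndex A := by
  rw [inf_relIndex_right]
  exact Solv.not_dvd_relIndex_of_isSubnormal S hA

/-- Sylow subgroups of a product of commuting subgroups. -/
theorem inf_sup_le_of_commute (S : Sylow p G) {L W : Subgroup G} (hL : L.IsSubnormal)
    (hW : W.IsSubnormal) (hc : ⁅L, W⁆ = ⊥) :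
    (S : Subgroup G) ⊓ (L ⊔ W) ≤ ((S : Subgroup G) ⊓ L) ⊔ ((S : Subgroup G) ⊓ W) := by
  rintro x ⟨hxS, hx⟩
  obtain ⟨l, hl, w, hw, rfl⟩ := (Core.mem_sup_of_commute hc).mp hx
  have hcomm : Commute l w := Core.commutator_eq_bot_iff_forall.mp hc l hl w hw
  obtain ⟨k, hk⟩ := IsPGroup.iff_orderOf.mp S.2 ⟨l * w, hxS⟩
  rw [Subgroup.orderOf_mk] at hk
  obtain ⟨a, m, hm, hlw⟩ := Nat.exists_eq_pow_mul_and_not_dvd
    (Nat.mul_ne_zero (orderOf_pos l).ne' (orderOf_pos w).ne') p hp.out.ne_one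
  obtain ⟨c, hc'⟩ := exists_pow_eq_self_of_coprime (x := l * w) (n := m)
    (by rw [hk]; exact ((hp.out.coprime_iff_not_dvd.mpr hm).pow_left k).symm)
  have hpel : ∀ y : G, orderOf y ∣ orderOf l * orderOf w →
      IsPGroup p (zpowers ((y ^ m) ^ c)) := by
    intro y hy
    have h1 : ((y ^ m) ^ c) ^ (p ^ a) = 1 := by
      rw [← pow_mul, ← pow_mul, ← orderOf_dvd_iff_pow_eq_one]
      exact hy.trans (hlw ▸ ⟨c, by ring⟩)
    obtain ⟨i, -, hi⟩ := (Nat.dvd_prime_pow hp.out).mp (orderOf_dvd_of_pow_eq_one h1)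
    exact IsPGroup.of_card (n := i) (by rw [Nat.card_zpowers, hi])
  set l' := (l ^ m) ^ c
  set w' := (w ^ m) ^ c
  have he : l * w = l' * w' := by
    conv_lhs => rw [← hc', hcomm.mul_pow, (hcomm.pow_pow m m).mul_pow]
  have hl' : l' ∈ L := L.pow_mem (L.pow_mem hl m) c
  have hw' : w' ∈ W := W.pow_mem (W.pow_mem hw m) c
  -- conjugation by `l'` on `L` is conjugation by `l * w`
  have hnorm : zpowers l' ≤ normalizer (((S : Subgroup G) ⊓ L : Subgroup G) : Set G) := by
    rw [zpowers_le, Core.mem_normalizer_iff_map_conj]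
    refine eq_of_le_of_card_ge ?_ (card_map_of_injective (MulAut.conj l').injective).ge
    rintro _ ⟨y, hy, rfl⟩
    refine ⟨?_, L.mul_mem (L.mul_mem hl' hy.2) (L.inv_mem hl')⟩
    have h1 : Commute y w' := Core.commutator_eq_bot_iff_forall.mp hc y hy.2 w' hw'
    have h2 : (MulAut.conj l').toMonoidHom y = l' * w' * y * (l' * w')⁻¹ := by
      simp only [MulEquiv.coe_toMonoidHom, MulAut.conj_apply]
      calc l' * y * l'⁻¹ = l' * (w' * y * w'⁻¹) * l'⁻¹ := by rw [h1.symm.eq, mul_inv_cancel_right]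
        _ = _ := by group
    rw [h2, ← he]
    exact (S : Subgroup G).mul_mem ((S : Subgroup G).mul_mem hxS hy.1) ((S : Subgroup G).inv_mem hxS)
  have hlS : l' ∈ (S : Subgroup G) ⊓ L :=
    le_of_not_dvd_relIndex_of_le_normalizer (S.2.to_le inf_le_left) inf_le_right
      (not_dvd_relIndex_inf S hL) (hpel l (dvd_mul_right _ _)) (zpowers_le.mpr hl') hnorm
      (mem_zpowers l')
  have hwS : w' ∈ (S : Subgroup G) := by
    have : w' = l'⁻¹ * (l * w) := by rw [he]; group
    rw [this]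
    exact (S : Subgroup G).mul_mem ((S : Subgroup G).inv_mem hlS.1) hxS
  rw [he]
  exact mul_mem_sup hlS ⟨hwS, hw'⟩

theorem inf_map_le_map_inf (S : Sylow p G) {A : Subgroup G} (hA : A.IsSubnormal) (N : Subgroup G)
    [N.Normal] : A.map (QuotientGroup.mk' N) ⊓ (S : Subgroup G).map (QuotientGroup.mk' N) ≤
      (A ⊓ (S : Subgroup G)).map (QuotientGroup.mk' N) := by
  set f := QuotientGroup.mk' N
  have hB : IsPGroup p ((A ⊓ (S : Subgroup G)).map f) := (S.2.to_le inf_le_right).map f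
  have hC : IsPGroup p (A.map f ⊓ (S : Subgroup G).map f : Subgroup (G ⧸ N)) :=
    (S.2.map f).to_le inf_le_right
  obtain ⟨j, hj⟩ := IsPGroup.iff_card.mp hC
  have hle : (A ⊓ (S : Subgroup G)).map f ≤ A.map f ⊓ (S : Subgroup G).map f := Subgroup.map_inf_le _ _ f
  have e : ((A ⊓ (S : Subgroup G)).subgroupOf A).map (f.subgroupMap A) =
      ((A ⊓ (S : Subgroup G)).map f).subgroupOf (A.map f) := by
    ext ⟨y, hy⟩
    constructor
    · rintro ⟨a, ha, he⟩
      exact ⟨a, ha, congrArg Subtype.val he⟩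
    · rintro ⟨a, ha, he⟩
      exact ⟨⟨a, ha.1⟩, ha, Subtype.ext he⟩
  have h1 : ((A ⊓ (S : Subgroup G)).map f).relIndex (A.map f ⊓ (S : Subgroup G).map f) ∣ p ^ j :=
    hj ▸ relIndex_dvd_card _ _
  have h2 : ((A ⊓ (S : Subgroup G)).map f).relIndex (A.map f ⊓ (S : Subgroup G).map f) ∣
      (A ⊓ (S : Subgroup G)).relIndex A := by
    refine (Dvd.intro _ (relIndex_mul_relIndex _ _ (A.map f) hle inf_le_left)).trans ?_
    rw [relIndex, ← e]
    exact index_map_dvd _ (f.subgroupMap_surjective A)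
  have hnd : ¬ p ∣ (A ⊓ (S : Subgroup G)).relIndex A := by
    rw [inf_comm]; exact not_dvd_relIndex_inf S hA
  exact relIndex_eq_one.mp
    (Nat.eq_one_of_dvd_coprimes ((hp.out.coprime_iff_not_dvd.mpr hnd).pow_left j) h1 h2)

omit hp in
theorem layer_le_of_forall (S : Sylow p G) [Fact p.Prime] {T : Subgroup G}
    (h : ∀ L : Subgroup G, Cfsg.IsComponent L → (S : Subgroup G) ⊓ L ≤ T) :
    (S : Subgroup G) ⊓ Cfsg.layer G ≤ T := by
  classical
  haveI : Fintype (Subgroup G) := Fintype.ofFinite _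
  have key : ∀ s : Finset (Subgroup G), (∀ L ∈ s, Cfsg.IsComponent L) →
      (S : Subgroup G) ⊓ sSup (s : Set (Subgroup G)) ≤ T := by
    intro s
    induction s using Finset.induction with
    | empty => simp
    | insert L s hLs ih =>
      intro hs
      have hL := hs L (Finset.mem_insert_self L s)
      rw [Finset.coe_insert, sSup_insert]
      refine (inf_sup_le_of_commute S hL.1 (Core.isSubnormal_sSup_components fun K hK =>
        hs K (Finset.mem_insert_of_mem hK)) ?_).trans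
        (sup_le (h L hL) (ih fun K hK => hs K (Finset.mem_insert_of_mem hK)))
      rw [commutator_comm]
      exact Core.commutator_sSup_left_eq_bot fun K hK =>
        Core.component_commute (hs K (Finset.mem_insert_of_mem hK)) hL (fun e => hLs (e ▸ hK))
  have := key ((Finset.univ : Finset (Subgroup G)).filter fun L => Cfsg.IsComponent L)
    fun L hL => (Finset.mem_filter.mp hL).2
  simpa [Cfsg.layer] using this

theorem le_normalizer_of_pResidual {P B : Subgroup G} (hP : P.IsSubnormal) (hPp : IsPGroup p P)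
    (hB : B.IsSubnormal) (hBres : (pResidual p ↥B).map B.subtype = B) :
    P ≤ normalizer (B : Set G) := by
  have h := map_pResidual_sup_eq hP hB hPp hBres
  intro a ha
  rw [Core.mem_normalizer_iff_map_conj]
  conv_rhs => rw [← h, ← Core.normal_iff_map_conj.mp
    (Fusion.pResidual_normal p ↥(P ⊔ B)) ⟨a, mem_sup_left ha⟩]
  conv_lhs => rw [← h]
  rw [Subgroup.map_map, Subgroup.map_map]
  rfl

theorem sylow_le_of_subnormal_generators : ∀ (n : ℕ) (G : Type u) [Group G] [Finite G],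
    Nat.card G ≤ n → ∀ (S : Sylow p G) (𝒜 : Set (Subgroup G)), (∀ A ∈ 𝒜, A.IsSubnormal) →
      sSup 𝒜 = ⊤ → (S : Subgroup G) ≤ ⨆ A ∈ 𝒜, A ⊓ (S : Subgroup G) := by
  intro n
  induction n with
  | zero => intro G _ _ h; exact absurd h (by have := Nat.card_pos (α := G); omega)
  | succ n ih =>
  intro G _ _ hcard S 𝒜 hsn hgen
  classical
  set T := ⨆ A ∈ 𝒜, A ⊓ (S : Subgroup G) with hT
  have hTS : T ≤ (S : Subgroup G) := iSup₂_le fun A _ => inf_le_right
  have hAT : ∀ A ∈ 𝒜, A ⊓ (S : Subgroup G) ≤ T := fun A hA =>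
    le_iSup₂ (f := fun A (_ : A ∈ 𝒜) => A ⊓ (S : Subgroup G)) A hA
  -- reduction modulo a normal subgroup meeting `S` inside `T`
  have hred : ∀ N : Subgroup G, N.Normal → N ≠ ⊥ → (S : Subgroup G) ⊓ N ≤ T →
      (S : Subgroup G) ≤ T := by
    intro N hN hN1 hNT
    have hlt := Core.card_quotient_lt (N := N) hN1
    set f := QuotientGroup.mk' N
    have hf : Function.Surjective f := QuotientGroup.mk'_surjective N
    have h1 := ih (G ⧸ N) (by omega) (S.mapSurjective hf) ((fun A => A.map f) '' 𝒜)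
      (by rintro _ ⟨A, hA, rfl⟩; exact (hsn A hA).map hf)
      (by
        rw [sSup_image, ← map_top_of_surjective f hf, ← hgen, sSup_eq_iSup, Subgroup.map_iSup]
        simp only [Subgroup.map_iSup])
    rw [Sylow.coe_mapSurjective] at h1
    have h2 : (S : Subgroup G).map f ≤ T.map f := by
      refine h1.trans (iSup₂_le ?_)
      rintro _ ⟨A, hA, rfl⟩
      exact (inf_map_le_map_inf S (hsn A hA) N).trans (map_mono (hAT A hA))
    intro x hx
    obtain ⟨t, ht, he⟩ := h2 ⟨x, hx, rfl⟩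
    have h3 : t⁻¹ * x ∈ T := hNT
      ⟨(S : Subgroup G).mul_mem ((S : Subgroup G).inv_mem (hTS ht)) hx, QuotientGroup.eq.mp he⟩
    have e : x = t * (t⁻¹ * x) := by group
    rw [e]
    exact T.mul_mem ht h3
  by_cases hO : pPrimeCore p G ≠ ⊥
  · refine hred _ inferInstance hO ?_
    obtain ⟨j, hj⟩ := IsPGroup.iff_card.mp S.2
    rw [inf_eq_bot_of_coprime (by rw [hj]; exact (Core.pPrimeCore_coprime p G).symm.pow_left j)]
    exact bot_le
  push Not at hO
  by_cases hE : Cfsg.layer G ≠ ⊥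
  · refine hred _ inferInstance hE (layer_le_of_forall S fun L hL => ?_)
    obtain ⟨A, hA, hLA⟩ : ∃ A ∈ 𝒜, L ≤ A := by
      by_contra hcon
      push Not at hcon
      have h1 : ⁅L, (⊤ : Subgroup G)⁆ = ⊥ := by
        rw [commutator_comm, ← hgen]
        refine Core.commutator_sSup_left_eq_bot fun A hA => ?_
        rw [commutator_comm]
        exact (Core.component_le_or_commute hL (hsn A hA)).resolve_left (hcon A hA)
      exact Core.IsComponent.ne_bot hL (le_bot_iff.mp
        ((Core.IsComponent.commutator_eq hL).ge.trans ((commutator_mono le_rfl le_top).trans h1.le)))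
    exact (le_inf (inf_le_right.trans hLA) inf_le_left).trans (hAT A hA)
  push Not at hE
  -- now `C(O_p(G)) ≤ O_p(G)`
  set P := pCore p G
  have hP : P ≤ (S : Subgroup G) := Core.pCore_le_sylow S
  have hPp : IsPGroup p P := Core.pCore_isPGroup p G
  have hPn : P.Normal := inferInstance
  have hconstr : centralizer (P : Set G) ≤ P := by
    have h1 := Core.centralizer_generalizedFitting_le (G := G)
    have h2 : Cfsg.generalizedFittingSubgroup G ≤ P := by
      rw [Core.generalizedFitting_eq_fitting_of_layer_eq_bot hE, Core.fittingSubgroup_eq_iSup_pCore]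
      refine iSup_le fun q => ?_
      rcases eq_or_ne (q : ℕ) p with hq | hq
      · rw [hq]
      · haveI : Fact (q : ℕ).Prime := ⟨q.2⟩
        obtain ⟨i, hi⟩ := IsPGroup.iff_card.mp (Core.pCore_isPGroup (q : ℕ) G)
        refine le_trans (Core.le_pPrimeCore (p := p) ?_) (hO.le.trans bot_le)
        rw [hi]
        exact ((Nat.coprime_primes q.2 hp.out).mpr hq).pow_left i
    exact (centralizer_le (SetLike.coe_subset_coe.mpr h2)).trans (h1.trans h2)
  let 𝓑 : Set (Subgroup G) :=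
    {B | B.IsSubnormal ∧ (pResidual p ↥B).map B.subtype = B ∧ (S : Subgroup G) ⊓ B ≤ T}
  have hPB : ∀ B ∈ 𝓑, P ≤ normalizer (B : Set G) := fun B hB =>
    le_normalizer_of_pResidual hPn.isSubnormal hPp hB.1 hB.2.1
  set W := ⨆ B ∈ 𝓑, ⁅P, B⁆ with hW
  have hPBW : ∀ B ∈ 𝓑, ⁅P, B⁆ ≤ W := fun B hB =>
    le_iSup₂ (f := fun B (_ : B ∈ 𝓑) => ⁅P, B⁆) B hB
  have hWP : W ≤ P := iSup₂_le fun B _ => commutator_le_left P B
  have hWT : W ≤ T := iSup₂_le fun B hB =>
    (le_inf ((commutator_le_left P B).trans hP)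
      ((commutator_comm P B).trans_le (Coprime.commutator_le_of_le_normalizer (hPB B hB)))).trans hB.2.2
  have hBW : ∀ B ∈ 𝓑, B ≤ normalizer (W : Set G) := by
    intro B hB
    rw [Core.le_normalizer_iff_conj_mem]
    intro b hb w hw
    have h1 : ⁅w, b⁆ ∈ W := hPBW B hB (commutator_mem_commutator (hWP hw) hb)
    have e : b * w * b⁻¹ = ⁅w, b⁆⁻¹ * w := by simp [commutatorElement_def, mul_assoc]
    rw [e]
    exact W.mul_mem (W.inv_mem h1) hw
  -- conjugation by elements of `T` permutes `𝓑`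
  have hTB : ∀ t ∈ T, ∀ B ∈ 𝓑, B.map (MulAut.conj t).toMonoidHom ∈ 𝓑 := by
    rintro t ht B ⟨hB1, hB2, hB3⟩
    refine ⟨Core.isSubnormal_map_conj hB1 t, ?_, ?_⟩
    · set e := B.equivMapOfInjective (MulAut.conj t).toMonoidHom (MulAut.conj t).injective
      rw [← Fusion.map_pResidual_equiv (p := p) e]
      conv_rhs => rw [← hB2]
      rw [Subgroup.map_map, Subgroup.map_map]
      rfl
    · rintro x ⟨hxS, y, hy, rfl⟩
      have hyS : y ∈ (S : Subgroup G) := by
        have h1 := (S : Subgroup G).mul_mem ((S : Subgroup G).mul_mem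
          ((S : Subgroup G).inv_mem (hTS ht)) hxS) (hTS ht)
        simpa [mul_assoc] using h1
      exact T.mul_mem (T.mul_mem ht (hB3 ⟨hyS, hy⟩)) (T.inv_mem ht)
  have hTW : T ≤ normalizer (W : Set G) := by
    have key : ∀ t ∈ T, W.map (MulAut.conj t).toMonoidHom ≤ W := by
      intro t ht
      rw [hW, Subgroup.map_iSup]
      refine iSup_le fun B => ?_
      rw [Subgroup.map_iSup]
      refine iSup_le fun hB => ?_
      rw [map_commutator, Core.normal_iff_map_conj.mp hPn t]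
      exact hPBW _ (hTB t ht B hB)
    intro t ht
    rw [Core.mem_normalizer_iff_map_conj]
    exact eq_of_le_of_card_ge (key t ht) (card_map_of_injective (MulAut.conj t).injective).ge
  -- each generator is `(A ⊓ S) O^p(A)`
  have hA : ∀ A ∈ 𝒜, ∃ B ∈ 𝓑, A ≤ T ⊔ B := by
    intro A hA
    set B := (pResidual p ↥A).map A.subtype
    refine ⟨B, ⟨(Fusion.pResidual_normal p ↥A).isSubnormal.trans' (hsn A hA), ?_, ?_⟩, ?_⟩
    · set R := pResidual p ↥A
      set e := R.equivMapOfInjective A.subtype A.subtype_injective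
      rw [← Fusion.map_pResidual_equiv (p := p) e, Subgroup.map_map]
      show (pResidual p ↥R).map (A.subtype.comp R.subtype) = _
      rw [← Subgroup.map_map, Fusion.pResidual_pResidual, ← MonoidHom.range_eq_map, range_subtype]
    · exact (le_inf (inf_le_right.trans (map_subtype_le _)) inf_le_left).trans (hAT A hA)
    · let SA : Sylow p ↥A := (S.2.comap_of_injective A.subtype A.subtype_injective).toSylow
        (Solv.not_dvd_relIndex_of_isSubnormal S (hsn A hA))
      have h1 := congrArg (map A.subtype) (Fusion.sylow_sup_pResidual SA)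
      rw [Subgroup.map_sup, ← MonoidHom.range_eq_map, range_subtype] at h1
      refine h1.ge.trans (sup_le_sup_right ?_ B)
      rintro _ ⟨y, hy, rfl⟩
      exact hAT A hA ⟨y.2, hy⟩
  have hWn : W.Normal := by
    rw [← normalizer_eq_top_iff, eq_top_iff, ← hgen]
    refine sSup_le fun A hA' => ?_
    obtain ⟨B, hB, hle⟩ := hA A hA'
    exact hle.trans (sup_le hTW (hBW B hB))
  by_cases hW1 : W ≠ ⊥
  · exact hred W hWn hW1 (inf_le_right.trans hWT)
  push Not at hW1
  refine le_top.trans (hgen.ge.trans (sSup_le fun A hA' => ?_))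
  obtain ⟨B, hB, hle⟩ := hA A hA'
  refine hle.trans (sup_le le_rfl ?_)
  have hBP : B ≤ P := by
    refine le_trans ?_ hconstr
    rw [← commutator_eq_bot_iff_le_centralizer, commutator_comm]
    exact le_bot_iff.mp ((hPBW B hB).trans hW1.le)
  refine hB.2.1.ge.trans (map_le_iff_le_comap.mpr ?_)
  rw [pResidual, closure_le]
  intro x hx
  have h1 : (x : G) = 1 := orderOf_eq_one_of_coprime_mem hPp (hBP x.2)
    (by rw [Subgroup.orderOf_coe]; exact hx)
  show (x : G) ∈ T
  rw [h1]; exact one_mem T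

/-- `(A₁ ⊔ A₂) ∩ S = (A₁ ∩ S) ⊔ (A₂ ∩ S)` for subnormal `A₁, A₂`. -/
theorem inf_sylow_sup_of_isSubnormal (S : Sylow p G) {A₁ A₂ : Subgroup G}
    (h₁ : A₁.IsSubnormal) (h₂ : A₂.IsSubnormal) :
    (A₁ ⊔ A₂) ⊓ (S : Subgroup G) = (A₁ ⊓ (S : Subgroup G)) ⊔ (A₂ ⊓ (S : Subgroup G)) := by
  set J := A₁ ⊔ A₂
  set T := (A₁ ⊓ (S : Subgroup G)) ⊔ (A₂ ⊓ (S : Subgroup G))
  have hTJ : T ≤ J := sup_le (inf_le_left.trans le_sup_left) (inf_le_left.trans le_sup_right)
  have hTS : T ≤ (S : Subgroup G) := sup_le inf_le_right inf_le_right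
  refine le_antisymm ?_ (le_inf hTJ hTS)
  obtain ⟨R, hR⟩ := ((S.2.to_le hTS : IsPGroup p T).of_equiv
    (subgroupOfEquivOfLe hTJ).symm).exists_le_sylow
  have hgen : sSup ({A₁.subgroupOf J, A₂.subgroupOf J} : Set (Subgroup ↥J)) = ⊤ := by
    rw [sSup_pair]
    apply Subgroup.map_injective J.subtype_injective
    rw [Subgroup.map_sup, map_subgroupOf_eq_of_le le_sup_left,
      map_subgroupOf_eq_of_le le_sup_right, ← MonoidHom.range_eq_map, range_subtype]
  have h := sylow_le_of_subnormal_generators (p := p) _ ↥J le_rfl R {A₁.subgroupOf J, A₂.subgroupOf J}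
    (by rintro A (rfl | rfl); exacts [h₁.subgroupOf, h₂.subgroupOf]) hgen
  have hsyl : ∀ A : Subgroup G, A.IsSubnormal → A ≤ J → A ⊓ (S : Subgroup G) ≤ T →
      A.subgroupOf J ⊓ (R : Subgroup ↥J) ≤ T.subgroupOf J := by
    intro A hA hAJ hAT
    have hq : IsPGroup p ↥((A.subgroupOf J ⊓ (R : Subgroup ↥J)).map J.subtype) :=
      (R.2.to_le inf_le_right).map _
    intro x hx
    refine hAT ?_
    set X := A ⊓ (S : Subgroup G)
    set Y := (A.subgroupOf J ⊓ (R : Subgroup ↥J)).map J.subtype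
    have hXY : X ≤ Y := fun y hy => ⟨⟨y, hAJ hy.1⟩, ⟨hy.1, hR (hAT hy)⟩, rfl⟩
    have hnd : ¬ p ∣ X.relIndex A := by
      show ¬ p ∣ (A ⊓ (S : Subgroup G)).relIndex A
      rw [inf_comm]; exact not_dvd_relIndex_inf S hA
    have hYA : Y ≤ A := by rintro _ ⟨y, hy, rfl⟩; exact hy.1
    obtain ⟨j, hj⟩ := IsPGroup.iff_card.mp hq
    have h3 : X.relIndex Y = 1 := Nat.eq_one_of_dvd_coprimes
      ((hp.out.coprime_iff_not_dvd.mpr hnd).pow_left j) (hj ▸ relIndex_dvd_card X Y)
      (Dvd.intro _ (relIndex_mul_relIndex X Y A hXY hYA))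
    exact relIndex_eq_one.mp h3 ⟨x, hx, rfl⟩
  have hRT : (R : Subgroup ↥J) ≤ T.subgroupOf J := by
    refine h.trans (iSup₂_le ?_)
    rintro A (rfl | rfl)
    · exact hsyl A₁ h₁ le_sup_left le_sup_left
    · exact hsyl A₂ h₂ le_sup_right le_sup_right
  intro x hx
  have hRe : (R : Subgroup ↥J) = ((S : Subgroup G).subgroupOf J) := by
    refine (R.3 (S.2.comap_of_injective J.subtype J.subtype_injective) ?_).symm
    exact fun y hy => hTS (hRT hy)
  exact hRT (show (⟨x, hx.1⟩ : ↥J) ∈ (R : Subgroup ↥J) by rw [hRe]; exact hx.2)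

end Cfsg.Lib.Local
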