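import Cfsg.Agent.Lib.Core.Basic
import Cfsg.Agent.Lib.Fusion.Basic
import Mathlib.GroupTheory.Frattini
import Mathlib.GroupTheory.GroupAction.ConjAct

/-!
A counting form of Gaschütz's theorem: a `p`-group permuting the complements of an abelian normal
`p'`-subgroup fixes one of them.
-/

set_option autoImplicit false

namespace Cfsg.Lib.Local

open Subgroup

variable {H : Type*} [Group H]

/-- The complements of `A` in `N`. -/
def complementsIn (A N : Subgroup H) : Set (Subgroup H) := {L | L ⊓ A = ⊥ ∧ L ⊔ A = N}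

/-- The 1-cocycles of `K` in the abelian normal subgroup `A`. -/
def cocycles (A K : Subgroup H) [A.Normal] [hA : IsMulCommutative A] : Subgroup (↥K → ↥A) where
  carrier := {c | ∀ k l : K, ((c (k * l) : ↥A) : H) = c k * ((k : H) * c l * (k : H)⁻¹)}
  one_mem' k l := by simp
  mul_mem' {c d} hc hd k l := by
    have hcomm : ∀ a b : H, a ∈ A → b ∈ A → a * b = b * a := fun a b ha hb => setLike_mul_comm ha hb
    simp only [Pi.mul_apply, Subgroup.coe_mul, hc k l, hd k l]
    have h1 := hcomm ((k : H) * c l * (k : H)⁻¹) (d k)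
      (‹A.Normal›.conj_mem _ (c l).2 k) (d k).2
    calc (c k : H) * ((k : H) * c l * (k : H)⁻¹) * (d k * ((k : H) * d l * (k : H)⁻¹))
        = c k * (((k : H) * c l * (k : H)⁻¹) * d k) * ((k : H) * d l * (k : H)⁻¹) := by group
      _ = c k * (d k * ((k : H) * c l * (k : H)⁻¹)) * ((k : H) * d l * (k : H)⁻¹) := by rw [h1]
      _ = c k * d k * ((k : H) * (c l * d l) * (k : H)⁻¹) := by group
  inv_mem' {c} hc k l := by
    simp only [Pi.inv_apply, Subgroup.coe_inv, hc k l]
    rw [setLike_mul_comm (c k).2 (‹A.Normal›.conj_mem _ (c l).2 k)]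
    group

theorem mem_cocycles {A K : Subgroup H} [A.Normal] [IsMulCommutative A] {c : ↥K → ↥A} :
    c ∈ cocycles A K ↔
      ∀ k l : K, ((c (k * l) : ↥A) : H) = c k * ((k : H) * c l * (k : H)⁻¹) := Iff.rfl

theorem cocycles_apply_one {A K : Subgroup H} [A.Normal] [IsMulCommutative A] {c : ↥K → ↥A}
    (hc : c ∈ cocycles A K) : (c 1 : H) = 1 := by
  have h := hc 1 1
  simpa using h

/-- The complement attached to a cocycle. -/
def complementOf {A K : Subgroup H} [A.Normal] [IsMulCommutative A] (c : cocycles A K) :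
    Subgroup H :=
  (MonoidHom.mk' (fun k : K => ((c : ↥K → ↥A) k : H) * (k : H)) (by
    intro k l
    have h := c.2 k l
    simp only [Subgroup.coe_mul]
    rw [h]
    group)).range

theorem mem_complementOf {A K : Subgroup H} [A.Normal] [IsMulCommutative A] {c : cocycles A K}
    {x : H} : x ∈ complementOf c ↔ ∃ k : K, ((c : ↥K → ↥A) k : H) * k = x := Iff.rfl

theorem card_complementsIn_dvd [Finite H] {A N K : Subgroup H} [A.Normal] [IsMulCommutative A]
    (hK : K ∈ complementsIn A N) :
    Nat.card (complementsIn A N) ∣ Nat.card ↥A ^ Nat.card ↥K := by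
  obtain ⟨hKA, hKN⟩ := hK
  have hinj : ∀ {k k' : K} {a b : ↥A}, (a : H) * k = b * k' → k = k' ∧ a = b := by
    intro k k' a b h
    have h1 : (k : H) * (k' : H)⁻¹ = (a : H)⁻¹ * b := by
      calc (k : H) * (k' : H)⁻¹ = (a : H)⁻¹ * ((a : H) * k) * (k' : H)⁻¹ := by group
        _ = (a : H)⁻¹ * b := by rw [h]; group
    have h2 : (k : H) * (k' : H)⁻¹ ∈ K ⊓ A :=
      ⟨K.mul_mem k.2 (K.inv_mem k'.2), h1 ▸ A.mul_mem (A.inv_mem a.2) b.2⟩
    rw [hKA, mem_bot, mul_inv_eq_one] at h2
    refine ⟨Subtype.ext h2, Subtype.ext ?_⟩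
    rw [h2] at h
    exact mul_right_cancel h
  have hmem : ∀ c : cocycles A K, complementOf c ∈ complementsIn A N := by
    intro c
    constructor
    · rw [eq_bot_iff]
      rintro x ⟨hx, hxA⟩
      obtain ⟨k, rfl⟩ := mem_complementOf.mp hx
      obtain ⟨hk, -⟩ := hinj (k := k) (k' := 1) (a := (c : ↥K → ↥A) k)
        (b := ⟨_, hxA⟩) (by simp)
      rw [hk, cocycles_apply_one c.2]
      simp
    · apply le_antisymm
      · refine sup_le (fun x hx => ?_) (hKN ▸ le_sup_right)
        obtain ⟨k, rfl⟩ := mem_complementOf.mp hx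
        rw [← hKN]
        exact mul_mem (mem_sup_right ((c : ↥K → ↥A) k).2) (mem_sup_left k.2)
      · rw [← hKN]
        refine sup_le (fun k hk => ?_) le_sup_right
        have e : k = (((c : ↥K → ↥A) ⟨k, hk⟩ : H))⁻¹ * (((c : ↥K → ↥A) ⟨k, hk⟩ : H) * k) := by group
        rw [e]
        exact mul_mem (mem_sup_right (inv_mem ((c : ↥K → ↥A) ⟨k, hk⟩).2))
          (mem_sup_left (mem_complementOf.mpr ⟨⟨k, hk⟩, rfl⟩))
  have hbij : Function.Bijective (fun c : cocycles A K =>
      (⟨complementOf c, hmem c⟩ : complementsIn A N)) := by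
    constructor
    · intro c d h
      have h' : complementOf c = complementOf d := congrArg Subtype.val h
      refine Subtype.ext (funext fun k => ?_)
      obtain ⟨l, hl⟩ := mem_complementOf.mp (h' ▸ mem_complementOf.mpr ⟨k, rfl⟩ :
        ((c : ↥K → ↥A) k : H) * k ∈ complementOf d)
      obtain ⟨rfl, h2⟩ := hinj hl
      exact h2.symm
    · rintro ⟨L, hLA, hLN⟩
      have hex : ∀ k : K, ∃ a : ↥A, (a : H) * k ∈ L := by
        intro k
        have hk : (k : H) ∈ A ⊔ L := by rw [sup_comm, hLN, ← hKN]; exact mem_sup_left k.2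
        obtain ⟨a, ha, l, hl, he⟩ := mem_sup_of_normal_left.mp hk
        exact ⟨⟨a⁻¹, inv_mem ha⟩, by rw [← he]; simpa using hl⟩
      choose f hf using hex
      have huniq : ∀ (k : K) (a : ↥A), (a : H) * k ∈ L → a = f k := by
        intro k a ha
        have h1 : (a : H) * (f k : H)⁻¹ ∈ L ⊓ A := by
          refine ⟨?_, A.mul_mem a.2 (A.inv_mem (f k).2)⟩
          have := L.mul_mem ha (L.inv_mem (hf k))
          simpa [mul_assoc] using this
        rw [hLA, mem_bot, mul_inv_eq_one] at h1
        exact Subtype.ext h1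
      have hc : f ∈ cocycles A K := by
        intro k l
        have h1 := huniq (k * l)
          ⟨(f k : H) * ((k : H) * f l * (k : H)⁻¹),
            A.mul_mem (f k).2 (‹A.Normal›.conj_mem _ (f l).2 k)⟩ (by
            have := L.mul_mem (hf k) (hf l)
            simpa [mul_assoc] using this)
        exact (congrArg Subtype.val h1).symm
      refine ⟨⟨f, hc⟩, Subtype.ext (le_antisymm ?_ ?_)⟩
      · intro x hx
        obtain ⟨k, rfl⟩ := mem_complementOf.mp hx
        exact hf k
      · intro x hx
        have hx' : x ∈ A ⊔ K := by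
          rw [sup_comm, hKN, ← hLN]
          exact mem_sup_left hx
        obtain ⟨a, ha, k, hk, rfl⟩ := mem_sup_of_normal_left.mp hx'
        have h3 : (a : H) = f ⟨k, hk⟩ := congrArg Subtype.val (huniq ⟨k, hk⟩ ⟨a, ha⟩ hx)
        exact mem_complementOf.mpr ⟨⟨k, hk⟩, by rw [h3]⟩
  rw [← Nat.card_eq_of_bijective _ hbij]
  refine (card_subgroup_dvd_card _).trans ?_
  rw [Nat.card_fun]

theorem exists_normalized_complement [Finite H] {p : ℕ} [hp : Fact p.Prime] {A N : Subgroup H}
    [hAn : A.Normal] [IsMulCommutative A] [hNn : N.Normal] (hA : (Nat.card ↥A).Coprime p)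
    (hex : (complementsIn A N).Nonempty) {P : Subgroup H} (hP : IsPGroup p P) :
    ∃ L ∈ complementsIn A N, P ≤ normalizer (L : Set H) := by
  classical
  obtain ⟨K, hK⟩ := hex
  have hstab : ∀ (g : H) (L : Subgroup H), L ∈ complementsIn A N →
      L.map (MulAut.conj g).toMonoidHom ∈ complementsIn A N := by
    rintro g L ⟨h1, h2⟩
    have hA' : A.map (MulAut.conj g).toMonoidHom = A := Core.normal_iff_map_conj.mp hAn g
    have hN' : N.map (MulAut.conj g).toMonoidHom = N := Core.normal_iff_map_conj.mp hNn g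
    constructor
    · conv_lhs => rw [← hA']
      rw [← map_inf _ _ _ (MulAut.conj g).injective, h1, Subgroup.map_bot]
    · conv_lhs => rw [← hA']
      rw [← Subgroup.map_sup, h2, hN']
  letI : MulAction ↥P (complementsIn A N) :=
    { smul := fun g L => ⟨_, hstab (g : H) L L.2⟩
      one_smul := fun L => Subtype.ext (by
        show (L : Subgroup H).map (MulAut.conj ((1 : ↥P) : H)).toMonoidHom = L
        exact Core.map_conj_eq_of_mem_normalizer (by simp))
      mul_smul := fun a b L => Subtype.ext (by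
        show (L : Subgroup H).map (MulAut.conj ((a * b : ↥P) : H)).toMonoidHom = _
        rw [Subgroup.coe_mul, Core.map_conj_mul]
        rfl) }
  have hnd : ¬ p ∣ Nat.card (complementsIn A N) := fun hd => by
    have h := (hA.pow_left (Nat.card ↥K)).coprime_dvd_left
      (hd.trans (card_complementsIn_dvd hK))
    exact hp.out.ne_one (by simpa using h)
  obtain ⟨L, hL⟩ := hP.nonempty_fixed_point_of_prime_not_dvd_card (complementsIn A N) hnd
  refine ⟨L, L.2, fun g hg => Core.mem_normalizer_iff_map_conj.mpr ?_⟩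
  exact congrArg Subtype.val (hL ⟨g, hg⟩)

/-- An abelian normal `p'`-subgroup of `H` inside `Φ(H)` which has a complement in a normal
subgroup of `p`-power index is trivial. -/
theorem eq_bot_of_le_frattini_of_complement [Finite H] {p : ℕ} [hp : Fact p.Prime]
    {A N : Subgroup H} [A.Normal] [IsMulCommutative A] [N.Normal]
    (hidx : ∃ k, N.index = p ^ k) (hA : (Nat.card ↥A).Coprime p) (hAN : A ≤ N)
    (hAΦ : A ≤ frattini H) (hex : (complementsIn A N).Nonempty) : A = ⊥ := by
  let P : Sylow p H := Classical.arbitrary _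
  obtain ⟨L, ⟨hLA, hLN⟩, hPL⟩ := exists_normalized_complement hA hex P.2
  have htop : L ⊔ (P : Subgroup H) = ⊤ := by
    apply frattini_nongenerating
    rw [eq_top_iff, ← Fusion.sylow_sup_eq_top P N hidx, ← hLN]
    exact sup_le (le_sup_right.trans le_sup_left) (sup_le (le_sup_left.trans le_sup_left)
      (hAΦ.trans le_sup_right))
  haveI : L.Normal := by
    rw [← normalizer_eq_top_iff, eq_top_iff, ← htop]
    exact sup_le le_normalizer hPL
  have h1 : Nat.card ↥L * Nat.card ↥A ∣ Nat.card H := by
    have h2 := Core.card_mul_relIndex (le_sup_left : L ≤ L ⊔ A)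
    rw [sup_comm L A, relIndex_sup_right, ← inf_relIndex_right, hLA, relIndex_bot_left,
      sup_comm, hLN] at h2
    rw [h2]
    exact card_subgroup_dvd_card N
  have h3 : Nat.card ↥L * Nat.card ↥A ∣ Nat.card ↥L * Nat.card ↥(P : Subgroup H) := by
    refine h1.trans ?_
    have h4 := Core.card_sup_dvd_mul (P : Subgroup H) L
    rwa [sup_comm, htop, card_top, mul_comm] at h4
  obtain ⟨k, hk⟩ := IsPGroup.iff_card.mp P.2
  rw [hk] at h3
  exact card_eq_one.mp ((hA.pow_right k).eq_one_of_dvd
    ((Nat.mul_dvd_mul_iff_left Nat.card_pos).mp h3))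

end Cfsg.Lib.Local

namespace Cfsg.Lib.Local

open Subgroup

variable {H : Type*} [Group H]

/-- A surjection with kernel in `Φ(G)` maps `Φ(G)` onto the Frattini subgroup. -/
theorem map_frattini_eq {G G' : Type*} [Group G] [Group G'] (f : G →* G')
    (hf : Function.Surjective f) (hker : f.ker ≤ frattini G) :
    (frattini G).map f = frattini G' := by
  apply le_antisymm
  · refine le_iInf₂ fun K hK => ?_
    rw [map_le_iff_le_comap]
    exact frattini_le_coatom (isCoatom_comap_of_surjective hf hK)
  · intro y hy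
    obtain ⟨x, rfl⟩ := hf y
    refine ⟨x, ?_, rfl⟩
    refine mem_iInf.mpr fun M => mem_iInf.mpr fun hM => ?_
    have hMf : (M.map f).comap f = M := by
      rw [comap_map_eq, sup_eq_left.mpr (hker.trans (frattini_le_coatom hM))]
    have hc : IsCoatom (M.map f) := by
      refine ⟨fun ht => hM.1 (by rw [← hMf, ht, comap_top]), fun K hK => ?_⟩
      have h1 : M < K.comap f := hMf ▸ (comap_lt_comap_of_surjective hf).mpr hK
      rw [← map_comap_eq_self_of_surjective hf K, hM.2 _ h1, map_top_of_surjective f hf]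
    have h := frattini_le_coatom hc hy
    rw [← mem_comap, hMf] at h
    exact h

theorem map_frattini_le_of_surjective {G G' : Type*} [Group G] [Group G'] (f : G →* G')
    (hf : Function.Surjective f) : (frattini G).map f ≤ frattini G' := by
  refine le_iInf₂ fun K hK => ?_
  rw [map_le_iff_le_comap]
  exact frattini_le_coatom (isCoatom_comap_of_surjective hf hK)

/-- An abelian normal subgroup avoiding the Frattini subgroup has a complement. -/
theorem exists_complement_of_inf_frattini [Finite H] {A : Subgroup H} [hAn : A.Normal]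
    [IsMulCommutative A] (h : A ⊓ frattini H = ⊥) : (complementsIn A ⊤).Nonempty := by
  obtain ⟨K, hK, hmin⟩ := (Set.toFinite {K : Subgroup H | K ⊔ A = ⊤}).exists_minimal
    ⟨⊤, by simp⟩
  refine ⟨K, ?_, hK⟩
  by_contra hne
  have hKn : (K ⊓ A).Normal := by
    rw [← normalizer_eq_top_iff, eq_top_iff, ← (hK : K ⊔ A = ⊤)]
    refine sup_le ?_ fun a ha => ?_
    · exact (le_inf le_normalizer ((normalizer_eq_top_iff.mpr hAn).ge.trans' le_top)).trans
        inf_normalizer_le_normalizer_inf
    · refine mem_normalizer_iff.mpr fun y => ?_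
      constructor
      · intro hy
        rw [show a * y = y * a from setLike_mul_comm ha hy.2, mul_inv_cancel_right]
        exact hy
      · intro hy
        have h1 : a⁻¹ * (a * y * a⁻¹) = a * y * a⁻¹ * a⁻¹ := by
          rw [setLike_mul_comm (A.inv_mem ha) hy.2]
        have h2 : y = a * y * a⁻¹ := by
          calc y = a⁻¹ * (a * y * a⁻¹) * a := by group
            _ = a * y * a⁻¹ := by rw [h1]; group
        rw [h2]
        exact hy
  have hnΦ : ¬ K ⊓ A ≤ frattini H := fun hle =>
    hne (le_bot_iff.mp (h ▸ le_inf inf_le_right hle))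
  obtain ⟨M, hM, hMK⟩ : ∃ M : Subgroup H, IsCoatom M ∧ ¬ K ⊓ A ≤ M := by
    by_contra hh
    push Not at hh
    exact hnΦ (le_iInf₂ fun M hM => hh M hM)
  haveI := hKn
  have htop : M ⊔ (K ⊓ A) = ⊤ := hM.2 _ (left_lt_sup.mpr hMK)
  have h2 : K ⊓ M ⊔ A = ⊤ := by
    rw [eq_top_iff, ← (hK : K ⊔ A = ⊤)]
    refine sup_le (fun k hk => ?_) le_sup_right
    obtain ⟨m, hm, z, hz, rfl⟩ := mem_sup_of_normal_right.mp (htop ▸ mem_top k :
      k ∈ M ⊔ (K ⊓ A))
    have hmK : m ∈ K := by simpa using K.mul_mem hk (K.inv_mem hz.1)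
    exact mul_mem_sup ⟨hmK, hm⟩ hz.2
  exact hMK (inf_le_left.trans ((hmin h2 inf_le_left).trans inf_le_right))

end Cfsg.Lib.Local
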