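import Cfsg.Prelude.Def_Local
import Cfsg.Agent.Lib.Core.PSolvable
import Cfsg.Agent.Lib.Core.Fitting

/-!
`p`-length at most `k` as the existence of a chain of normal subgroups with alternating factors;
behaviour under quotients, extensions and subdirect products.
-/

set_option autoImplicit false

namespace Cfsg.Lib.Local

open Subgroup

variable {G : Type*} [Group G] {p : ℕ}

/-- A normal chain with factors alternately prime to `p` and of `p`-power order, ending at position `2k+1`. -/
def PChain (p k : ℕ) (G : Type*) [Group G] : Prop :=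
  ∃ N : ℕ → Subgroup G, N 0 = ⊥ ∧ N (2 * k + 1) = ⊤ ∧ Monotone N ∧ (∀ i, (N i).Normal) ∧
    (∀ i, Even i → ((N i).relIndex (N (i + 1))).Coprime p) ∧
    ∀ i, ¬ Even i → ∃ e, (N i).relIndex (N (i + 1)) = p ^ e

theorem relIndex_comap_of_surjective {K : Type*} [Group K] (f : G →* K) (hf : Function.Surjective f)
    (A B : Subgroup K) : (A.comap f).relIndex (B.comap f) = A.relIndex B := by
  rw [relIndex_comap, map_comap_eq_self_of_surjective hf]

theorem relIndex_map_dvd [Finite G] {K : Type*} [Group K] (f : G →* K) {A B : Subgroup G}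
    [hA : A.Normal] (hAB : A ≤ B) : (A.map f).relIndex (B.map f) ∣ A.relIndex B := by
  rw [← relIndex_comap]
  exact relIndex_dvd_of_le_left B (le_comap_map f A)

theorem upper_le_succ (n : ℕ) : (Cfsg.upperPSeries p G n).1 ≤ (Cfsg.upperPSeries p G (n + 1)).1 := by
  conv_rhs => rw [Cfsg.upperPSeries]
  split <;> exact (QuotientGroup.ker_mk' _).ge.trans (comap_mono bot_le)

theorem upper_even [Finite G] (n : ℕ) (hn : Even n) :
    ((Cfsg.upperPSeries p G n).1.relIndex (Cfsg.upperPSeries p G (n + 1)).1).Coprime p := by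
  conv => arg 1; arg 2; rw [Cfsg.upperPSeries]
  rw [if_pos hn]
  have h : ((Cfsg.upperPSeries p G n).1).relIndex
      ((Cfsg.pPrimeCore p (G ⧸ (Cfsg.upperPSeries p G n).1)).comap (QuotientGroup.mk' _)) =
      Nat.card (Cfsg.pPrimeCore p (G ⧸ (Cfsg.upperPSeries p G n).1)) := by
    rw [← relIndex_bot_left, ← relIndex_comap_of_surjective (QuotientGroup.mk' _)
      (QuotientGroup.mk'_surjective _), MonoidHom.comap_bot, QuotientGroup.ker_mk']
  rw [h]
  exact Core.pPrimeCore_coprime p _

theorem upper_odd [Finite G] [Fact p.Prime] (n : ℕ) (hn : ¬ Even n) :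
    ∃ e, (Cfsg.upperPSeries p G n).1.relIndex (Cfsg.upperPSeries p G (n + 1)).1 = p ^ e := by
  conv => arg 1; ext e; arg 1; arg 2; rw [Cfsg.upperPSeries]
  rw [if_neg hn]
  have h : ((Cfsg.upperPSeries p G n).1).relIndex
      ((Cfsg.pCore p (G ⧸ (Cfsg.upperPSeries p G n).1)).comap (QuotientGroup.mk' _)) =
      Nat.card (Cfsg.pCore p (G ⧸ (Cfsg.upperPSeries p G n).1)) := by
    rw [← relIndex_bot_left, ← relIndex_comap_of_surjective (QuotientGroup.mk' _)
      (QuotientGroup.mk'_surjective _), MonoidHom.comap_bot, QuotientGroup.ker_mk']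
  rw [h]
  exact IsPGroup.iff_card.1 (Core.pCore_isPGroup p _)

theorem chain_le_upper [Finite G] [hp : Fact p.Prime] (N : ℕ → Subgroup G) (h0 : N 0 = ⊥)
    (hN : ∀ i, (N i).Normal) (hm : Monotone N)
    (hev : ∀ i, Even i → ((N i).relIndex (N (i + 1))).Coprime p)
    (hod : ∀ i, ¬ Even i → ∃ e, (N i).relIndex (N (i + 1)) = p ^ e) :
    ∀ i, N i ≤ (Cfsg.upperPSeries p G i).1 := by
  intro i
  induction i with
  | zero => rw [h0]; exact bot_le
  | succ i ih =>
    have := hN i
    have := hN (i + 1)
    rw [Cfsg.upperPSeries]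
    set U := (Cfsg.upperPSeries p G i).1
    have hd : Nat.card ((N (i + 1)).map (QuotientGroup.mk' U)) ∣ (N i).relIndex (N (i + 1)) := by
      refine dvd_trans ?_ (relIndex_dvd_of_le_left (N (i + 1)) ih |>.trans dvd_rfl)
      rw [← relIndex_bot_left, ← relIndex_comap, MonoidHom.comap_bot, QuotientGroup.ker_mk']
    have hn' : ((N (i + 1)).map (QuotientGroup.mk' U)).Normal :=
      (hN (i + 1)).map _ (QuotientGroup.mk'_surjective U)
    split
    · rename_i hi
      exact map_le_iff_le_comap.1 (Core.le_pPrimeCore' hn' ((hev i hi).coprime_dvd_left hd))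
    · rename_i hi
      obtain ⟨e, he⟩ := hod i hi
      rw [he] at hd
      obtain ⟨j, -, hj⟩ := (Nat.dvd_prime_pow hp.out).1 hd
      exact map_le_iff_le_comap.1 (Core.le_pCore' hn' (IsPGroup.of_card hj))

theorem pLengthLE_iff [Finite G] [Fact p.Prime] (k : ℕ) : Cfsg.PLengthLE p k G ↔ PChain p k G := by
  constructor
  · intro h
    exact ⟨fun i => (Cfsg.upperPSeries p G i).1, rfl, h, monotone_nat_of_le_succ upper_le_succ,
      fun i => (Cfsg.upperPSeries p G i).2, upper_even, upper_odd⟩
  · rintro ⟨N, h0, htop, hm, hN, hev, hod⟩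
    exact top_le_iff.1 (htop ▸ chain_le_upper N h0 hN hm hev hod _)

theorem PChain.mono [Finite G] {j k : ℕ} (h : PChain p j G) (hjk : j ≤ k) : PChain p k G := by
  obtain ⟨N, h0, htop, hm, hN, hev, hod⟩ := h
  exact ⟨N, h0, top_le_iff.1 (htop ▸ hm (by omega)), hm, hN, hev, hod⟩

theorem PChain.of_surjective [Finite G] [hp : Fact p.Prime] {K : Type*} [Group K] (f : G →* K)
    (hf : Function.Surjective f) {k : ℕ} (h : PChain p k G) : PChain p k K := by
  obtain ⟨N, h0, htop, hm, hN, hev, hod⟩ := h
  refine ⟨fun i => (N i).map f, by simp only [h0, Subgroup.map_bot], ?_, fun i j hij => map_mono (hm hij),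
    fun i => (hN i).map f hf, fun i hi => ?_, fun i hi => ?_⟩
  · simp only [htop, map_top_of_surjective f hf]
  · have := hN i
    exact (hev i hi).coprime_dvd_left (relIndex_map_dvd f (hm i.le_succ))
  · have := hN i
    obtain ⟨e, he⟩ := hod i hi
    obtain ⟨j, -, hj⟩ := (Nat.dvd_prime_pow hp.out).1 (he ▸ relIndex_map_dvd f (hm i.le_succ))
    exact ⟨j, hj⟩

theorem PChain.quotient [Finite G] [Fact p.Prime] {k : ℕ} (h : PChain p k G) (M : Subgroup G) [M.Normal] :
    PChain p k (G ⧸ M) :=
  h.of_surjective _ (QuotientGroup.mk'_surjective M)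

theorem pChain_of_coprime [Finite G] [hp : Fact p.Prime] (h : (Nat.card G).Coprime p) (k : ℕ) :
    PChain p k G := by
  refine PChain.mono ⟨fun i => if i = 0 then ⊥ else ⊤, rfl, rfl, ?_, fun i => ?_, fun i _ => ?_,
    fun i hi => ⟨0, ?_⟩⟩ (Nat.zero_le k)
  · refine monotone_nat_of_le_succ fun i => ?_
    simp
  · by_cases hi : i = 0
    · simp only [hi, if_pos]; exact inferInstanceAs (⊥ : Subgroup G).Normal
    · simp only [hi, if_false]; exact inferInstanceAs (⊤ : Subgroup G).Normal
  · exact h.coprime_dvd_left ((relIndex_dvd_card _ _).trans (card_subgroup_dvd_card _))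
  · have hi0 : i ≠ 0 := fun h => hi (h ▸ Even.zero)
    simp [hi0]

theorem coprime_of_pChain_zero [Finite G] (h : PChain p 0 G) : (Nat.card G).Coprime p := by
  obtain ⟨N, h0, htop, -, -, hev, -⟩ := h
  have := hev 0 Even.zero
  rwa [show N (0 + 1) = ⊤ from htop, h0, relIndex_bot_left, card_top] at this

/-- Extension by a normal subgroup of order prime to `p`. -/
theorem PChain.extension_pPrime [Finite G] [hp : Fact p.Prime] (M : Subgroup G) [hMn : M.Normal]
    (hM : (Nat.card M).Coprime p) {k : ℕ} (h : PChain p k (G ⧸ M)) : PChain p k G := by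
  obtain ⟨N, h0, htop, hm, hN, hev, hod⟩ := h
  let N' : ℕ → Subgroup G := fun i => if i = 0 then ⊥ else (N i).comap (QuotientGroup.mk' M)
  have hcomap : ∀ i, (N i).comap (QuotientGroup.mk' M) = if i = 0 then M else N' i := by
    intro i
    by_cases hi : i = 0
    · rw [hi, if_pos rfl, h0, MonoidHom.comap_bot, QuotientGroup.ker_mk']
    · simp [N', hi]
  refine ⟨N', rfl, ?_, monotone_nat_of_le_succ fun i => ?_, fun i => ?_, fun i hi => ?_, fun i hi => ?_⟩
  · show (if 2 * k + 1 = 0 then _ else _) = ⊤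
    rw [if_neg (by omega), htop, comap_top]
  · simp only [N']
    rw [if_neg (Nat.succ_ne_zero i)]
    by_cases hi : i = 0
    · rw [if_pos hi]; exact bot_le
    · rw [if_neg hi]; exact comap_mono (hm i.le_succ)
  · simp only [N']
    by_cases hi : i = 0
    · rw [if_pos hi]; exact inferInstance
    · rw [if_neg hi]; exact (hN i).comap _
  · simp only [N']
    rw [if_neg (Nat.succ_ne_zero i)]
    by_cases hi0 : i = 0
    · subst hi0
      rw [if_pos rfl, relIndex_bot_left]
      have hle : M ≤ (N (0 + 1)).comap (QuotientGroup.mk' M) := (QuotientGroup.ker_mk' M).ge.trans (comap_mono bot_le)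
      have h1 := relIndex_comap_of_surjective (QuotientGroup.mk' M) (QuotientGroup.mk'_surjective M) ⊥ (N (0 + 1))
      rw [MonoidHom.comap_bot, QuotientGroup.ker_mk'] at h1
      have h2 : Nat.card M * M.relIndex ((N (0 + 1)).comap (QuotientGroup.mk' M)) =
          Nat.card ((N (0 + 1)).comap (QuotientGroup.mk' M)) := by
        rw [← relIndex_bot_left, relIndex_mul_relIndex _ _ _ bot_le hle, relIndex_bot_left]
      rw [← h2, h1]
      refine Nat.Coprime.mul_left hM ?_
      have := hev 0 Even.zero
      rwa [h0] at this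
    · rw [if_neg hi0, relIndex_comap_of_surjective _ (QuotientGroup.mk'_surjective M)]
      exact hev i hi
  · simp only [N']
    rw [if_neg (Nat.succ_ne_zero i), if_neg (show ¬ i = 0 from fun h => hi (h ▸ Even.zero)),
      relIndex_comap_of_surjective _ (QuotientGroup.mk'_surjective M)]
    exact hod i hi

/-- Extension by a normal `p`-subgroup. -/
theorem PChain.extension_p [Finite G] [hp : Fact p.Prime] (M : Subgroup G) [hMn : M.Normal]
    (hM : IsPGroup p M) {k : ℕ} (h : PChain p k (G ⧸ M)) : PChain p (k + 1) G := by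
  obtain ⟨N, h0, htop, hm, hN, hev, hod⟩ := h
  let N' : ℕ → Subgroup G := fun i => if i ≤ 1 then ⊥ else (N (i - 2)).comap (QuotientGroup.mk' M)
  refine ⟨N', rfl, ?_, monotone_nat_of_le_succ fun i => ?_, fun i => ?_, fun i hi => ?_, fun i hi => ?_⟩
  · simp only [N']
    rw [if_neg (by omega), show 2 * (k + 1) + 1 - 2 = 2 * k + 1 by omega, htop, comap_top]
  · simp only [N']
    by_cases hi : i ≤ 1
    · rw [if_pos hi]; exact bot_le
    · rw [if_neg hi, if_neg (by omega)]; exact comap_mono (hm (by omega))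
  · simp only [N']
    by_cases hi : i ≤ 1
    · rw [if_pos hi]; exact inferInstance
    · rw [if_neg hi]; exact (hN _).comap _
  · simp only [N']
    by_cases h1 : i ≤ 1
    · have : i = 0 := by
        rcases hi with ⟨r, hr⟩
        omega
      subst this
      simp
    · rw [if_neg h1, if_neg (by omega), relIndex_comap_of_surjective _ (QuotientGroup.mk'_surjective M),
        show i + 1 - 2 = i - 2 + 1 by omega]
      exact hev _ (by rcases hi with ⟨r, hr⟩; exact ⟨r - 1, by omega⟩)
  · simp only [N']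
    by_cases h1 : i ≤ 1
    · have : i = 1 := by
        rcases Nat.not_even_iff_odd.1 hi with ⟨r, hr⟩
        omega
      subst this
      rw [if_pos le_rfl, if_neg (by omega), relIndex_bot_left, show (1 + 1 - 2) = 0 by omega, h0,
        MonoidHom.comap_bot, QuotientGroup.ker_mk']
      exact IsPGroup.iff_card.1 hM
    · rw [if_neg h1, if_neg (by omega), relIndex_comap_of_surjective _ (QuotientGroup.mk'_surjective M),
        show i + 1 - 2 = i - 2 + 1 by omega]
      refine hod _ fun h => hi ?_
      rcases h with ⟨r, hr⟩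
      exact ⟨r + 1, by omega⟩

/-- Lowering the length: the quotient by `O_p` when `O_{p'}` is trivial. -/
theorem PChain.quotient_pCore [Finite G] [hp : Fact p.Prime] (hO : Cfsg.pPrimeCore p G = ⊥) {k : ℕ}
    (h : PChain p (k + 1) G) : PChain p k (G ⧸ Cfsg.pCore p G) := by
  obtain ⟨N, h0, htop, hm, hN, hev, hod⟩ := h
  have hN1 : N 1 = ⊥ := by
    refine le_bot_iff.1 (hO ▸ Core.le_pPrimeCore' (hN 1) ?_)
    have := hev 0 Even.zero
    rwa [h0, relIndex_bot_left] at this
  have hN2 : N 2 ≤ Cfsg.pCore p G := by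
    obtain ⟨e, he⟩ := hod 1 (by decide)
    rw [hN1, relIndex_bot_left] at he
    exact Core.le_pCore' (hN 2) (IsPGroup.of_card he)
  refine ⟨fun i => (N (i + 2)).map (QuotientGroup.mk' _), ?_, ?_, fun i j hij => map_mono (hm (by omega)),
    fun i => (hN _).map _ (QuotientGroup.mk'_surjective _), fun i hi => ?_, fun i hi => ?_⟩
  · show Subgroup.map _ _ = ⊥
    rw [Subgroup.map_eq_bot_iff, QuotientGroup.ker_mk']
    exact hN2
  · show Subgroup.map _ _ = ⊤
    rw [show 2 * k + 1 + 2 = 2 * (k + 1) + 1 by omega, htop,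
      map_top_of_surjective _ (QuotientGroup.mk'_surjective _)]
  · have := hN (i + 2)
    refine (hev (i + 2) ?_).coprime_dvd_left (relIndex_map_dvd _ (hm (by omega)))
    rcases hi with ⟨r, hr⟩; exact ⟨r + 1, by omega⟩
  · have := hN (i + 2)
    obtain ⟨e, he⟩ := hod (i + 2) (fun h => hi (by rcases h with ⟨r, hr⟩; exact ⟨r - 1, by omega⟩))
    obtain ⟨j, -, hj⟩ := (Nat.dvd_prime_pow hp.out).1
      (he ▸ relIndex_map_dvd (QuotientGroup.mk' (Cfsg.pCore p G)) (hm (show i + 2 ≤ i + 2 + 1 by omega)))
    exact ⟨j, hj⟩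

theorem PChain.reduce [Finite G] [hp : Fact p.Prime] {k : ℕ}
    (h : PChain p k ((G ⧸ Cfsg.pPrimeCore p G) ⧸ Cfsg.pCore p (G ⧸ Cfsg.pPrimeCore p G))) :
    PChain p (k + 1) G :=
  PChain.extension_pPrime _ (Core.pPrimeCore_coprime p G)
    (PChain.extension_p _ (Core.pCore_isPGroup p _) h)

/-- `C(O_{p'}) ≤ O_{p'}` for `p`-solvable groups with trivial `O_p`. -/
theorem centralizer_pPrimeCore_le [Finite G] [hp : Fact p.Prime] (h : Cfsg.IsPSolvable p G)
    (hO : Cfsg.pCore p G = ⊥) :
    centralizer (Cfsg.pPrimeCore p G : Set G) ≤ Cfsg.pPrimeCore p G := by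
  set N := Cfsg.pPrimeCore p G with hNdef
  set C := centralizer (N : Set G) with hCdef
  set Z := C ⊓ N with hZdef
  by_contra hne
  have hZn : Z.Normal := inferInstance
  set f := QuotientGroup.mk' Z with hf
  have hCmap : C.map f ≠ ⊥ := by
    rw [ne_eq, Subgroup.map_eq_bot_iff, hf, QuotientGroup.ker_mk']
    exact fun hle => hne (hle.trans inf_le_right)
  obtain ⟨M, hM, hMC⟩ := Core.exists_isMinNormal
    (Subgroup.Normal.map inferInstance f (QuotientGroup.mk'_surjective Z)) hCmap
  set K := M.comap f with hK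
  have hKn : K.Normal := hM.1.comap f
  have hKC : K ≤ C := by
    refine (comap_mono hMC).trans (le_of_eq ?_)
    rw [comap_map_eq, hf, QuotientGroup.ker_mk', sup_eq_left]
    exact inf_le_left
  have hZcop : (Nat.card Z).Coprime p :=
    (Core.pPrimeCore_coprime p G).coprime_dvd_left (card_dvd_of_le inf_le_right)
  let φ : K →* M := (f.comp K.subtype).codRestrict M fun x => x.2
  have hKcop : (Nat.card K).Coprime p := by
    rcases Core.minimal_normal_of_isPSolvable (Core.isPSolvable_quotient h Z) hM with hp' | hcop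
    · -- `K` is nilpotent, so its Sylow `p`-subgroup is normal, hence trivial
      have hKnil : Group.IsNilpotent K := by
        have := hp'.isNilpotent
        refine Subgroup.isNilpotent_of_ker_le_center φ fun x hx => mem_center_iff.2 fun y => Subtype.ext ?_
        have hxZ : (x : G) ∈ Z := (QuotientGroup.eq_one_iff _).1 (congrArg Subtype.val hx)
        exact (mem_centralizer_iff.1 (hKC y.2) (x : G) (mem_inf.1 hxZ).2).symm
      refine (hp.out.coprime_iff_not_dvd.2 fun hd => ?_).symm
      obtain ⟨x, hx⟩ := exists_prime_orderOf_dvd_card' (G := K) p hd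
      obtain ⟨P, hP⟩ := (IsPGroup.of_card (n := 1) (show Nat.card (zpowers x) = p ^ 1 by
        rw [Nat.card_zpowers, hx, pow_one])).exists_le_sylow
      have hPn : (P : Subgroup K).Normal :=
        P.normal_of_normalizerCondition Group.normalizerCondition_of_isNilpotent
      have h2 : (Cfsg.pCore p K).map K.subtype ≤ Cfsg.pCore p G :=
        Core.pCore_map_le_of_isSubnormal hKn.isSubnormal
      have h3 := h2 (mem_map_of_mem _ (Core.le_pCore' hPn P.isPGroup' (hP (mem_zpowers x))))
      rw [hO, mem_bot] at h3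
      rw [← orderOf_eq_one_iff] at h3
      rw [orderOf_injective K.subtype K.subtype_injective, hx] at h3
      exact hp.out.ne_one h3
    · have h1 : Nat.card K = Nat.card Z * Nat.card M := by
        have h2 := relIndex_comap_of_surjective f (QuotientGroup.mk'_surjective Z) ⊥ M
        rw [MonoidHom.comap_bot, hf, QuotientGroup.ker_mk', relIndex_bot_left] at h2
        rw [← h2, ← relIndex_bot_left (H := Z), relIndex_mul_relIndex _ _ _ bot_le, relIndex_bot_left]
        exact (QuotientGroup.ker_mk' Z).ge.trans (comap_mono bot_le)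
      rw [h1]
      exact hZcop.mul_left hcop
  refine hM.2.1 ?_
  rw [← map_comap_eq_self_of_surjective (QuotientGroup.mk'_surjective Z) M, Subgroup.map_eq_bot_iff,
    QuotientGroup.ker_mk']
  exact le_inf hKC (Core.le_pPrimeCore' hKn hKcop)

end Cfsg.Lib.Local
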