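import Cfsg.Agent.Lib.Core.Cores
import Cfsg.Agent.Lib.Fusion.Abelian
import Cfsg.Agent.Lib.Local.Sylow
import Cfsg.Prelude.Def_Local

/-!
A normal `p`-subgroup `H` of `L` is Sylow in the preimage of `O_p(L / C(H))` iff it is centric and
`O_{p',p}(L) = H C(H)`.
-/

set_option autoImplicit false

namespace Cfsg.Lib.Local

open Subgroup Cfsg.Lib

variable {L : Type*} [Group L] [Finite L] {p : ℕ} [hp : Fact p.Prime]

theorem map_pResidual_normal (C : Subgroup L) [hC : C.Normal] :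
    ((pResidual p ↥C).map C.subtype).Normal := by
  refine ⟨fun x hx g => ?_⟩
  obtain ⟨c, hc, rfl⟩ := hx
  exact ⟨MulAut.conjNormal g c, (Fusion.map_pResidual_equiv (MulAut.conjNormal g)).le ⟨c, hc, rfl⟩,
    MulAut.conjNormal_apply g c⟩

theorem isPGroup_map_of_pow_mem {C : Subgroup L} [C.Normal] {K : Subgroup L}
    (h : ∀ x ∈ K, ∃ k : ℕ, x ^ p ^ k ∈ C) : IsPGroup p ↥(K.map (QuotientGroup.mk' C)) := by
  rintro ⟨_, ⟨x, hx, rfl⟩⟩
  obtain ⟨k, hk⟩ := h x hx
  refine ⟨k, Subtype.ext ?_⟩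
  show QuotientGroup.mk' C x ^ p ^ k = 1
  rw [← map_pow]
  exact (QuotientGroup.eq_one_iff _).mpr hk

theorem exists_pow_mem_of_map_le {C : Subgroup L} [C.Normal] {x : L}
    (hx : QuotientGroup.mk' C x ∈ pCore p (L ⧸ C)) : ∃ k : ℕ, x ^ p ^ k ∈ C := by
  obtain ⟨k, hk⟩ := Core.pCore_isPGroup p (L ⧸ C) ⟨_, hx⟩
  refine ⟨k, (QuotientGroup.eq_one_iff _).mp ?_⟩
  exact congrArg Subtype.val hk

theorem sylow_in_pCore_preimage_iff (H : Subgroup L) [hHn : H.Normal] (hH : IsPGroup p H)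
    (P : Sylow p L) (hHP : H ≤ (P : Subgroup L))
    (C : Subgroup L) [hC : C.Normal] (hCdef : C = centralizer (H : Set L)) :
    (H ≤ (pCore p (L ⧸ C)).comap (QuotientGroup.mk' C) ∧
      ¬ p ∣ H.relIndex ((pCore p (L ⧸ C)).comap (QuotientGroup.mk' C))) ↔
    ((P : Subgroup L) ⊓ C ≤ H ∧ pPrimePCore p L = H ⊔ C) := by
  set K := (pCore p (L ⧸ C)).comap (QuotientGroup.mk' C)
  set O := pPrimeCore p L
  haveI : O.Normal := inferInstance
  have hHK : H ≤ K := by
    refine map_le_iff_le_comap.mp (Core.le_pCore' (hHn.map _ (QuotientGroup.mk'_surjective C)) ?_)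
    exact hH.map _
  have hCK : C ≤ K := fun x hx => by
    show QuotientGroup.mk' C x ∈ pCore p (L ⧸ C)
    rw [show QuotientGroup.mk' C x = 1 from (QuotientGroup.eq_one_iff x).mpr hx]
    exact one_mem _
  have hOC : O ≤ C := by
    intro o ho
    rw [hCdef]
    intro h hh
    have h1 : o * h * o⁻¹ * h⁻¹ ∈ H ⊓ O :=
      ⟨H.mul_mem (hHn.conj_mem h hh o) (H.inv_mem hh), by
        rw [show o * h * o⁻¹ * h⁻¹ = o * (h * o⁻¹ * h⁻¹) by group]
        exact O.mul_mem ho ((inferInstance : O.Normal).conj_mem _ (O.inv_mem ho) h)⟩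
    have h2 : H ⊓ O = ⊥ := by
      obtain ⟨n, hn⟩ := IsPGroup.iff_card.mp hH
      exact inf_eq_bot_of_coprime (by rw [hn]; exact (Core.pPrimeCore_coprime p L).symm.pow_left n)
    rw [h2, mem_bot, mul_inv_eq_one, mul_inv_eq_iff_eq_mul] at h1
    exact h1.symm
  have hPK : pPrimePCore p L ≤ K := by
    refine map_le_iff_le_comap.mp (Core.le_pCore'
      ((inferInstance : ((pCore p (L ⧸ O)).comap (QuotientGroup.mk' O)).Normal).map _
        (QuotientGroup.mk'_surjective C)) (isPGroup_map_of_pow_mem fun x hx => ?_))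
    obtain ⟨k, hk⟩ := exists_pow_mem_of_map_le (C := O) hx
    exact ⟨k, hOC hk⟩
  have hcentric : (P : Subgroup L) ⊓ C ≤ H →
      (∀ x ∈ C, ∃ k : ℕ, x ^ p ^ k ∈ O) ∧ H ⊔ C ≤ pPrimePCore p L := by
    intro hc
    obtain ⟨S, hS⟩ := exists_sylow_inf P C
    have hSC : normalizer ((S : Subgroup ↥C) : Set ↥C) ≤ centralizer ((S : Subgroup ↥C) : Set ↥C) := by
      intro x _ y hy
      rw [hS] at hy
      have hyH : (y : L) ∈ H := hc ⟨hy, y.2⟩
      exact Subtype.ext (hCdef.le x.2 _ hyH)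
    have hnc := Fusion.hasNormalPComplement_of_normalizer_le_centralizer S hSC
    have hle : (pResidual p ↥C).map C.subtype ≤ O := by
      refine Core.le_pPrimeCore' (map_pResidual_normal C) ?_
      rw [card_map_of_injective C.subtype_injective]
      exact Fusion.hasNormalPComplement_iff_coprime.mp hnc
    have hpow : ∀ x ∈ C, ∃ k : ℕ, x ^ p ^ k ∈ O := by
      intro x hx
      obtain ⟨k, hk⟩ := Fusion.exists_pow_mem_pResidual (p := p) (⟨x, hx⟩ : ↥C)
      exact ⟨k, hle ⟨_, hk, by simp⟩⟩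
    refine ⟨hpow, sup_le ?_ ?_⟩
    · exact map_le_iff_le_comap.mp (Core.le_pCore' (hHn.map _ (QuotientGroup.mk'_surjective O))
        (hH.map _))
    · exact map_le_iff_le_comap.mp (Core.le_pCore' (hC.map _ (QuotientGroup.mk'_surjective O))
        (isPGroup_map_of_pow_mem hpow))
  constructor
  · rintro ⟨-, hnd⟩
    have hle : ∀ Q : Subgroup L, Q ≤ K → IsPGroup p Q → Q ≤ H := by
      intro Q hQK hQ
      obtain ⟨j, hj⟩ := IsPGroup.iff_card.mp (Core.isPGroup_sup_of_normal hQ hH)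
      have h1 : H.relIndex (Q ⊔ H) ∣ p ^ j := hj ▸ relIndex_dvd_card H (Q ⊔ H)
      have h2 : H.relIndex (Q ⊔ H) ∣ H.relIndex K :=
        Dvd.intro _ (relIndex_mul_relIndex H (Q ⊔ H) K le_sup_right (sup_le hQK hHK))
      have h3 : H.relIndex (Q ⊔ H) = 1 := Nat.eq_one_of_dvd_coprimes
        ((hp.out.coprime_iff_not_dvd.mpr hnd).pow_left j) h1 h2
      exact le_sup_left.trans (relIndex_eq_one.mp h3)
    have hc : (P : Subgroup L) ⊓ C ≤ H :=
      hle _ (inf_le_right.trans hCK) (P.2.to_le inf_le_left)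
    refine ⟨hc, le_antisymm (hPK.trans ?_) (hcentric hc).2⟩
    let S : Sylow p ↥K := (hH.of_equiv (subgroupOfEquivOfLe hHK).symm).toSylow hnd
    have hidx : ∃ k : ℕ, (C.subgroupOf K).index = p ^ k := by
      refine IsPGroup.iff_card.mp (?_ : IsPGroup p (↥K ⧸ C.subgroupOf K))
      intro c
      obtain ⟨x, rfl⟩ := QuotientGroup.mk_surjective c
      obtain ⟨k, hk⟩ := exists_pow_mem_of_map_le (C := C) x.2
      exact ⟨k, (QuotientGroup.eq_one_iff _).mpr hk⟩
    have h := congrArg (map K.subtype) (Fusion.sylow_sup_eq_top S _ hidx)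
    rw [Subgroup.map_sup, ← MonoidHom.range_eq_map, range_subtype,
      map_subgroupOf_eq_of_le hCK] at h
    refine h.ge.trans (sup_le_sup_right ?_ C)
    rintro _ ⟨y, hy, rfl⟩
    exact hy
  · rintro ⟨hc, he⟩
    refine ⟨hHK, ?_⟩
    have hKP : K ≤ pPrimePCore p L := by
      refine map_le_iff_le_comap.mp (Core.le_pCore'
        ((inferInstance : ((pCore p (L ⧸ C)).comap (QuotientGroup.mk' C)).Normal).map _
          (QuotientGroup.mk'_surjective O)) (isPGroup_map_of_pow_mem fun x hx => ?_))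
      obtain ⟨k, hk⟩ := exists_pow_mem_of_map_le (C := C) hx
      obtain ⟨j, hj⟩ := (hcentric hc).1 _ hk
      exact ⟨k + j, by rw [pow_add, pow_mul]; exact hj⟩
    have hKeq : K = C ⊔ H := le_antisymm (hKP.trans (he.le.trans (sup_comm H C).le))
      (sup_le hCK hHK)
    rw [hKeq, relIndex_sup_right]
    intro hd
    refine not_dvd_relIndex_of_normal P C (hd.trans ?_)
    rw [← inf_relIndex_right (P : Subgroup L) C]
    exact relIndex_dvd_of_le_left C hc

end Cfsg.Lib.Local
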