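import Cfsg.Agent.Lib.Local.YMinimal
import Cfsg.Agent.Lib.PGroup.Basic

/-!
Weakly closed and large `p`-subgroups.
-/

namespace Cfsg.Lib.Local

open Subgroup Cfsg.Lib
open scoped commutatorElement

variable {H : Type*} [Group H] {p : ℕ}

theorem map_conj_one (Q : Subgroup H) : Q.map (MulAut.conj (1 : H)).toMonoidHom = Q :=
  Core.map_conj_eq_of_mem_normalizer (one_mem _)

theorem map_conj_inv_cancel (Q : Subgroup H) (g : H) :
    (Q.map (MulAut.conj g).toMonoidHom).map (MulAut.conj g⁻¹).toMonoidHom = Q := by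
  rw [← Core.map_conj_mul, inv_mul_cancel, map_conj_one]

theorem map_conj_cancel_inv (Q : Subgroup H) (g : H) :
    (Q.map (MulAut.conj g⁻¹).toMonoidHom).map (MulAut.conj g).toMonoidHom = Q := by
  rw [← Core.map_conj_mul, mul_inv_cancel, map_conj_one]

theorem normalizer_map_conj (Q : Subgroup H) (g : H) :
    normalizer ((Q.map (MulAut.conj g).toMonoidHom : Subgroup H) : Set H) =
      (normalizer (Q : Set H)).map (MulAut.conj g).toMonoidHom :=
  (map_equiv_normalizer_eq Q (MulAut.conj g)).symm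

theorem centralizer_map_conj (Q : Subgroup H) (g : H) :
    centralizer ((Q.map (MulAut.conj g).toMonoidHom : Subgroup H) : Set H) =
      (centralizer (Q : Set H)).map (MulAut.conj g).toMonoidHom := by
  ext x
  rw [Core.mem_map_conj]
  simp only [mem_centralizer_iff, SetLike.mem_coe]
  constructor
  · intro h q hq
    have h1 := h (g * q * g⁻¹) ⟨q, hq, rfl⟩
    calc q * (g⁻¹ * x * g) = g⁻¹ * (g * q * g⁻¹ * x) * g := by group
      _ = g⁻¹ * (x * (g * q * g⁻¹)) * g := by rw [h1]
      _ = g⁻¹ * x * g * q := by group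
  · rintro h _ ⟨q, hq, rfl⟩
    have h1 := h q hq
    simp only [MulEquiv.coe_toMonoidHom, MulAut.conj_apply]
    calc g * q * g⁻¹ * x = g * (q * (g⁻¹ * x * g)) * g⁻¹ := by group
      _ = g * (g⁻¹ * x * g * q) * g⁻¹ := by rw [h1]
      _ = x * (g * q * g⁻¹) := by group

/-- A weakly closed `Q` is the only conjugate of itself inside any `p`-subgroup. -/
theorem wc_eq [Finite H] [Fact p.Prime] {Q : Subgroup H} (hwc : IsWeaklyClosedSubgroup p Q)
    {R : Subgroup H} (hR : IsPGroup p R) {a b : H}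
    (ha : Q.map (MulAut.conj a).toMonoidHom ≤ R) (hb : Q.map (MulAut.conj b).toMonoidHom ≤ R) :
    Q.map (MulAut.conj a).toMonoidHom = Q.map (MulAut.conj b).toMonoidHom := by
  obtain ⟨T, hQT, hT⟩ := hwc
  obtain ⟨S, hS⟩ := hR.exists_le_sylow
  obtain ⟨g, rfl⟩ := MulAction.exists_smul_eq H T S
  have key : ∀ c, Q.map (MulAut.conj c).toMonoidHom ≤ R →
      Q.map (MulAut.conj c).toMonoidHom = Q.map (MulAut.conj g).toMonoidHom := by
    intro c hc
    have h1 : Q.map (MulAut.conj (g⁻¹ * c)).toMonoidHom ≤ (T : Subgroup H) := by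
      rw [Core.map_conj_mul]
      refine (map_mono (hc.trans hS)).trans ?_
      rintro _ ⟨_, ⟨t, ht, rfl⟩, rfl⟩
      simp only [MulEquiv.coe_toMonoidHom, MulAut.conj_apply, MulDistribMulAction.toMonoidEnd_apply,
        MulDistribMulAction.toMonoidHom_apply, inv_inv, MulAut.smul_def]
      have e : g⁻¹ * (g * t * g⁻¹) * g = t := by group
      rw [e]
      exact ht
    have h2 := hT _ h1
    rw [Core.map_conj_mul] at h2
    conv_rhs => rw [← h2, map_conj_cancel_inv]
  rw [key a ha, key b hb]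

theorem wc_conj_eq [Finite H] [Fact p.Prime] {Q : Subgroup H} (hwc : IsWeaklyClosedSubgroup p Q)
    {R : Subgroup H} (hR : IsPGroup p R) (hQR : Q ≤ R) {g : H}
    (hg : Q.map (MulAut.conj g).toMonoidHom ≤ R) : Q.map (MulAut.conj g).toMonoidHom = Q := by
  have := wc_eq hwc hR hg (b := 1) (by rwa [map_conj_one])
  rwa [map_conj_one] at this

theorem wc_normalizer_le [Finite H] [Fact p.Prime] {Q : Subgroup H}
    (hwc : IsWeaklyClosedSubgroup p Q) {R : Subgroup H} (hR : IsPGroup p R) (hQR : Q ≤ R) :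
    normalizer (R : Set H) ≤ normalizer (Q : Set H) := by
  intro g hg
  rw [Core.mem_normalizer_iff_map_conj]
  exact wc_conj_eq hwc hR hQR ((map_mono hQR).trans (Core.map_conj_eq_of_mem_normalizer hg).le)

theorem wc_map_conj [Finite H] [Fact p.Prime] {Q : Subgroup H}
    (hwc : IsWeaklyClosedSubgroup p Q) (g : H) :
    IsWeaklyClosedSubgroup p (Q.map (MulAut.conj g).toMonoidHom) := by
  obtain ⟨T, hQT, hT⟩ := hwc
  obtain ⟨S, hS⟩ := (T.2.map (MulAut.conj g).toMonoidHom).exists_le_sylow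
  refine ⟨S, (map_mono hQT).trans hS, fun c hc => ?_⟩
  rw [← Core.map_conj_mul] at hc ⊢
  exact wc_eq ⟨T, hQT, hT⟩ S.2 hc ((map_mono hQT).trans hS)

/-- The normalizer criterion for weak closure. -/
theorem wc_of_forall_normalizer_le [Finite H] [hp : Fact p.Prime] {Q : Subgroup H}
    (hQ : IsPGroup p Q) (h : ∀ R : Subgroup H, IsPGroup p R → Q ≤ R →
      normalizer (R : Set H) ≤ normalizer (Q : Set H)) : IsWeaklyClosedSubgroup p Q := by
  obtain ⟨T, hT⟩ := hQ.exists_le_sylow
  refine ⟨T, hT, fun g hg => ?_⟩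
  set P := Q.map (MulAut.conj g).toMonoidHom
  have hTP : (T : Subgroup H) ≤ normalizer (P : Set H) := by
    have h1 := h _ (T.2.map (MulAut.conj g⁻¹).toMonoidHom) (by
      have := map_mono (f := (MulAut.conj g⁻¹).toMonoidHom) hg
      rwa [map_conj_inv_cancel] at this)
    rw [normalizer_map_conj] at h1
    have h2 := map_mono (f := (MulAut.conj g).toMonoidHom) h1
    rw [map_conj_cancel_inv, ← normalizer_map_conj] at h2
    exact le_normalizer.trans h2
  set S : Sylow p H := g • T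
  have hS : (S : Subgroup H) ≤ normalizer (P : Set H) := by
    rw [normalizer_map_conj]
    exact map_mono (le_normalizer.trans (h _ T.2 hT))
  obtain ⟨n, hn⟩ := MulAction.exists_smul_eq (normalizer (P : Set H))
    (S.subtype hS) (T.subtype hTP)
  rw [Sylow.smul_subtype] at hn
  have hn' : (n : H) • S = T := Sylow.subtype_injective hn
  have hgn : (n : H) * g ∈ normalizer ((T : Subgroup H) : Set H) := by
    refine (Sylow.smul_eq_iff_mem_normalizer (P := T)).mp ?_
    rw [mul_smul]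
    exact hn'
  have hQ' := Core.map_conj_eq_of_mem_normalizer (h _ T.2 hT hgn)
  rw [Core.map_conj_mul] at hQ'
  have hn2 : P.map (MulAut.conj (n : H)).toMonoidHom = P := Core.map_conj_eq_of_mem_normalizer n.2
  exact hn2.symm.trans hQ'

theorem wc_iff_normalizer [Finite H] [Fact p.Prime] {Q : Subgroup H} (hQ : IsPGroup p Q) :
    IsWeaklyClosedSubgroup p Q ↔ ∀ R : Subgroup H, IsPGroup p R → Q ≤ R →
      normalizer (R : Set H) ≤ normalizer (Q : Set H) :=
  ⟨fun h _ hR hQR => wc_normalizer_le h hR hQR, wc_of_forall_normalizer_le hQ⟩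

theorem wc_eq_of_le_normalizer [Finite H] [Fact p.Prime] {Q : Subgroup H} (hQ : IsPGroup p Q)
    (hwc : IsWeaklyClosedSubgroup p Q) {g : H}
    (h : Q.map (MulAut.conj g).toMonoidHom ≤ normalizer (Q : Set H)) :
    Q.map (MulAut.conj g).toMonoidHom = Q :=
  wc_conj_eq hwc (isPGroup_sup_of_le_normalizer (hQ.map _) hQ h) le_sup_right le_sup_left

/-- In a `p`-group containing `Q`, `Q` is normal if `Q` commutes only with itself among its
conjugates. -/
theorem le_normalizer_of_forall_commutator [Finite H] [Fact p.Prime] {Q : Subgroup H}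
    (h : ∀ g : H, ⁅Q, Q.map (MulAut.conj g).toMonoidHom⁆ ≤ Q ⊓ Q.map (MulAut.conj g).toMonoidHom →
      Q.map (MulAut.conj g).toMonoidHom = Q)
    {R : Subgroup H} (hR : IsPGroup p R) (hQR : Q ≤ R) : R ≤ normalizer (Q : Set H) := by
  by_contra hne
  set N := R ⊓ normalizer (Q : Set H) with hN
  haveI : Group.IsNilpotent ↥R := hR.isNilpotent
  have h1 : N.subgroupOf R < ⊤ := by
    rw [lt_top_iff_ne_top, ne_eq, subgroupOf_eq_top]
    exact fun hle => hne (hle.trans inf_le_right)
  obtain ⟨x, hx, hxN⟩ := SetLike.exists_of_lt (Group.normalizerCondition_of_isNilpotent _ h1)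
  have hQN : Q ≤ N := le_inf hQR le_normalizer
  have hconj : ∀ y ∈ N, (x : H) * y * (x : H)⁻¹ ∈ N := fun y hy =>
    (mem_normalizer_iff.mp hx ⟨y, hy.1⟩).mp hy
  have hconj' : ∀ y ∈ N, (x : H)⁻¹ * y * (x : H) ∈ N := fun y hy =>
    (mem_normalizer_iff''.mp hx ⟨y, hy.1⟩).mp hy
  have hP : Q.map (MulAut.conj (x : H)).toMonoidHom ≤ N := by
    rintro _ ⟨q, hq, rfl⟩
    exact hconj q (hQN hq)
  have hQP : Q ≤ normalizer ((Q.map (MulAut.conj (x : H)).toMonoidHom : Subgroup H) : Set H) := by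
    intro q hq
    rw [normalizer_map_conj, Core.mem_map_conj]
    exact (hconj' q (hQN hq)).2
  have hfix := h x (le_inf (Coprime.commutator_le_of_le_normalizer (hP.trans inf_le_right))
    ((commutator_comm _ _).trans_le (Coprime.commutator_le_of_le_normalizer hQP)))
  exact hxN (⟨x.2, Core.mem_normalizer_iff_map_conj.mpr hfix⟩ : (x : H) ∈ N)

theorem wc_iff_commutator [Finite H] [Fact p.Prime] {Q : Subgroup H} (hQ : IsPGroup p Q) :
    IsWeaklyClosedSubgroup p Q ↔ ∀ g : H,
      ⁅Q, Q.map (MulAut.conj g).toMonoidHom⁆ ≤ Q ⊓ Q.map (MulAut.conj g).toMonoidHom →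
      Q.map (MulAut.conj g).toMonoidHom = Q := by
  constructor
  · intro hwc g hg
    refine wc_eq_of_le_normalizer hQ hwc ?_
    intro x hx
    rw [mem_normalizer_iff]
    have key : ∀ x ∈ Q.map (MulAut.conj g).toMonoidHom, ∀ q ∈ Q, x * q * x⁻¹ ∈ Q := by
      intro x hx q hq
      have h1 := (hg (commutator_mem_commutator hq hx)).1
      have e : x * q * x⁻¹ = ⁅q, x⁆⁻¹ * q := by simp [commutatorElement_def, mul_assoc]
      rw [e]
      exact mul_mem (inv_mem h1) hq
    intro q
    refine ⟨key x hx q, fun h => ?_⟩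
    have := key _ (inv_mem hx) _ h
    simpa [mul_assoc] using this
  · intro h
    obtain ⟨T, hT⟩ := hQ.exists_le_sylow
    refine ⟨T, hT, fun g hg => h g ?_⟩
    have h1 := le_normalizer_of_forall_commutator h T.2 hT
    have h2 : (T : Subgroup H) ≤
        normalizer ((Q.map (MulAut.conj g).toMonoidHom : Subgroup H) : Set H) := by
      have h3 := le_normalizer_of_forall_commutator h (T.2.map (MulAut.conj g⁻¹).toMonoidHom) (by
        have := map_mono (f := (MulAut.conj g⁻¹).toMonoidHom) hg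
        rwa [map_conj_inv_cancel] at this)
      have h4 := map_mono (f := (MulAut.conj g).toMonoidHom) h3
      rwa [map_conj_cancel_inv, ← normalizer_map_conj] at h4
    exact le_inf (Coprime.commutator_le_of_le_normalizer (hg.trans h1))
      ((commutator_comm _ _).trans_le (Coprime.commutator_le_of_le_normalizer (hT.trans h2)))

theorem exists_conj_mem_of_le [Finite H] [Fact p.Prime] {Q : Subgroup H} (hQ : IsPGroup p Q)
    (hwc : IsWeaklyClosedSubgroup p Q) {K : Subgroup H} (hQK : Q ≤ K) {g : H}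
    (hg : Q.map (MulAut.conj g).toMonoidHom ≤ K) :
    ∃ k ∈ K, Q.map (MulAut.conj g).toMonoidHom = Q.map (MulAut.conj k).toMonoidHom := by
  obtain ⟨S, hS⟩ := (hQ.of_equiv (subgroupOfEquivOfLe hQK).symm).exists_le_sylow
  obtain ⟨R, hR⟩ := ((hQ.map (MulAut.conj g).toMonoidHom).of_equiv
    (subgroupOfEquivOfLe hg).symm).exists_le_sylow
  obtain ⟨k, rfl⟩ := MulAction.exists_smul_eq (↥K) S R
  refine ⟨k, k.2, wc_eq hwc ((k • S).2.map K.subtype) ?_ ?_⟩
  · intro x hx
    exact ⟨⟨x, hg hx⟩, hR hx, rfl⟩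
  · rintro _ ⟨q, hq, rfl⟩
    exact ⟨k * ⟨q, hQK hq⟩ * k⁻¹, ⟨⟨q, hQK hq⟩, hS hq, rfl⟩, rfl⟩

theorem wc_subgroupOf [Finite H] [Fact p.Prime] {Q : Subgroup H} (hQ : IsPGroup p Q)
    (hwc : IsWeaklyClosedSubgroup p Q) {K : Subgroup H} (hQK : Q ≤ K) :
    IsWeaklyClosedSubgroup p (Q.subgroupOf K) := by
  obtain ⟨S, hS⟩ := (hQ.of_equiv (subgroupOfEquivOfLe hQK).symm).exists_le_sylow
  refine ⟨S, hS, fun k hk => ?_⟩
  apply map_injective K.subtype_injective
  have e : ((Q.subgroupOf K).map (MulAut.conj k).toMonoidHom).map K.subtype =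
      Q.map (MulAut.conj (k : H)).toMonoidHom := by
    conv_rhs => rw [← map_subgroupOf_eq_of_le hQK]
    rw [map_map, map_map]
    rfl
  rw [e, map_subgroupOf_eq_of_le hQK]
  exact wc_conj_eq hwc (S.2.map K.subtype)
    (fun q hq => ⟨⟨q, hQK hq⟩, hS hq, rfl⟩) (e ▸ map_mono hk)

theorem isParabolic_normalizer_subgroupOf [Finite H] [Fact p.Prime] {Q : Subgroup H}
    (hQ : IsPGroup p Q) (hwc : IsWeaklyClosedSubgroup p Q) {K : Subgroup H} (hQK : Q ≤ K) :
    IsParabolic p ((normalizer (Q : Set H)).subgroupOf K) := by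
  obtain ⟨S, hS⟩ := (hQ.of_equiv (subgroupOfEquivOfLe hQK).symm).exists_le_sylow
  refine ⟨S, fun s hs => ?_⟩
  exact (le_normalizer.trans (wc_normalizer_le hwc (S.2.map K.subtype)
    (fun q hq => ⟨⟨q, hQK hq⟩, hS hq, rfl⟩))) ⟨s, hs, rfl⟩

theorem inf_normalizer_sup_pResidual [Finite H] [Fact p.Prime] {Q : Subgroup H}
    (hwc : IsWeaklyClosedSubgroup p Q) (N : Subgroup H) [hN : N.Normal] :
    (N ⊓ normalizer (Q : Set H)) ⊔ (pResidual p ↥N).map N.subtype = N := by
  obtain ⟨T, hQT, hT⟩ := hwc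
  refine le_antisymm (sup_le inf_le_left (map_subtype_le _)) ?_
  let S : Sylow p ↥N := (T.2.comap_of_injective N.subtype N.subtype_injective).toSylow
    (Solv.not_dvd_relIndex_of_isSubnormal T hN.isSubnormal)
  have h := congrArg (map N.subtype) (Fusion.sylow_sup_pResidual S)
  rw [Subgroup.map_sup, ← MonoidHom.range_eq_map, range_subtype] at h
  refine h.ge.trans (sup_le_sup_right (le_inf (map_subtype_le _) ?_) _)
  exact (map_comap_le _ _).trans (le_normalizer.trans
    (wc_normalizer_le ⟨T, hQT, hT⟩ T.2 hQT))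

theorem wc_map_mk [Finite H] [Fact p.Prime] {Q : Subgroup H} (hQ : IsPGroup p Q)
    (hwc : IsWeaklyClosedSubgroup p Q) (N : Subgroup H) [N.Normal] :
    IsWeaklyClosedSubgroup p (Q.map (QuotientGroup.mk' N)) := by
  obtain ⟨T, hQT, hT⟩ := hwc
  have hf := QuotientGroup.mk'_surjective N
  refine ⟨T.mapSurjective hf, map_mono hQT, fun c hc => ?_⟩
  obtain ⟨g, rfl⟩ := hf c
  have e : ∀ x : H, (Q.map (QuotientGroup.mk' N)).map
      (MulAut.conj (QuotientGroup.mk' N x)).toMonoidHom =
      (Q.map (MulAut.conj x).toMonoidHom).map (QuotientGroup.mk' N) := by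
    intro x
    rw [map_map, map_map]
    rfl
  rw [e] at hc
  rw [Sylow.coe_mapSurjective, map_le_iff_le_comap, comap_map_eq, QuotientGroup.ker_mk'] at hc
  obtain ⟨k, hk, he⟩ := exists_conj_mem_of_le hQ ⟨T, hQT, hT⟩
    (hQT.trans (le_sup_left : (T : Subgroup H) ≤ (T : Subgroup H) ⊔ N)) hc
  obtain ⟨t, ht, n, hn, rfl⟩ := mem_sup_of_normal_right.mp hk
  rw [e, he, ← e, map_mul]
  have hn1 : QuotientGroup.mk' N n = 1 := (QuotientGroup.eq_one_iff n).mpr hn
  rw [hn1, mul_one, e]
  rw [hT t ((map_mono hQT).trans (Core.map_conj_eq_of_mem_normalizer (le_normalizer ht)).le)]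

/-- Every subnormal subgroup containing a weakly closed `Q` contains all conjugates of `Q`. -/
theorem conj_le_of_isSubnormal [Finite H] [Fact p.Prime] {Q : Subgroup H} (hQ : IsPGroup p Q)
    (hwc : IsWeaklyClosedSubgroup p Q) {A : Subgroup H} (hA : A.IsSubnormal) (hQA : Q ≤ A)
    (g : H) : Q.map (MulAut.conj g).toMonoidHom ≤ A := by
  induction hA with
  | top => exact le_top
  | step A B hle hB hN ih =>
    obtain ⟨b, hb, he⟩ := exists_conj_mem_of_le hQ hwc (hQA.trans hle) (ih (hQA.trans hle))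
    rw [he]
    rintro _ ⟨q, hq, rfl⟩
    exact hN.conj_mem ⟨q, hle (hQA hq)⟩ (hQA hq) ⟨b, hb⟩

theorem weakClosure_eq_iSup [Finite H] [Fact p.Prime] {Q : Subgroup H} (hQ : IsPGroup p Q)
    (hwc : IsWeaklyClosedSubgroup p Q) {K : Subgroup H} (hQK : Q ≤ K) :
    weakClosure Q K = ⨆ k : ↥K, Q.map (MulAut.conj (k : H)).toMonoidHom := by
  apply le_antisymm
  · refine iSup_le fun g => ?_
    obtain ⟨k, hk, he⟩ := exists_conj_mem_of_le hQ hwc hQK g.2
    rw [he]
    exact le_iSup (fun k : ↥K => Q.map (MulAut.conj (k : H)).toMonoidHom) ⟨k, hk⟩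
  · refine iSup_le fun k => ?_
    have h : Q.map (MulAut.conj (k : H)).toMonoidHom ≤ K := by
      rintro _ ⟨q, hq, rfl⟩
      exact mul_mem (mul_mem k.2 (hQK hq)) (inv_mem k.2)
    exact le_iSup (fun g : {g : H // Q.map (MulAut.conj g).toMonoidHom ≤ K} =>
      Q.map (MulAut.conj (g : H)).toMonoidHom) ⟨k, h⟩

theorem weakClosure_eq_subnormalClosure [Finite H] [Fact p.Prime] {Q : Subgroup H}
    (hQ : IsPGroup p Q) (hwc : IsWeaklyClosedSubgroup p Q) {K : Subgroup H} (hQK : Q ≤ K) :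
    weakClosure Q K = (Cfsg.subnormalClosure (Q.subgroupOf K)).map K.subtype := by
  rw [weakClosure_eq_iSup hQ hwc hQK]
  apply le_antisymm
  · refine iSup_le fun k => ?_
    have h := map_mono (f := K.subtype) (conj_le_of_isSubnormal
      (hQ.of_equiv (subgroupOfEquivOfLe hQK).symm) (wc_subgroupOf hQ hwc hQK)
      (subnormalClosure_isSubnormal _) (le_subnormalClosure _) k)
    refine le_trans (le_of_eq ?_) h
    conv_lhs => rw [← map_subgroupOf_eq_of_le hQK]
    rw [map_map, map_map]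
    rfl
  · set W := ⨆ k : ↥K, Q.map (MulAut.conj (k : H)).toMonoidHom
    rw [map_le_iff_le_comap]
    refine subnormalClosure_le (fun q hq => ?_) (Subgroup.Normal.isSubnormal ⟨fun x hx c => ?_⟩)
    · refine (le_iSup (fun k : ↥K => Q.map (MulAut.conj (k : H)).toMonoidHom) 1) ?_
      exact ⟨q, hq, by simp⟩
    · have hle : W.map (MulAut.conj (c : H)).toMonoidHom ≤ W := by
        rw [Subgroup.map_iSup]
        refine iSup_le fun k => ?_
        rw [← Core.map_conj_mul]
        exact le_iSup (fun k : ↥K => Q.map (MulAut.conj (k : H)).toMonoidHom) (c * k)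
      exact hle ⟨x, hx, rfl⟩

/-- Frattini argument for a weakly closed `Q` acting on `N`. -/
theorem exists_mul_of_wc [Finite H] [Fact p.Prime] {Q : Subgroup H} (hQ : IsPGroup p Q)
    (hwc : IsWeaklyClosedSubgroup p Q) {N : Subgroup H} (hQN : Q ≤ normalizer (N : Set H))
    {n : H} (hn : n ∈ N) :
    ∃ a ∈ N ⊓ normalizer (Q : Set H), ∃ b ∈ ⁅N, Q⁆, n = a * b := by
  have hWN : ⁅N, Q⁆ ≤ N := Coprime.commutator_le_of_le_normalizer hQN
  have hQW : Q ≤ normalizer ((⁅N, Q⁆ : Subgroup H) : Set H) := by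
    intro q hq
    rw [Core.mem_normalizer_iff_map_conj, map_commutator,
      Core.map_conj_eq_of_mem_normalizer (hQN hq),
      Core.map_conj_eq_of_mem_normalizer (le_normalizer hq)]
  have hg : Q.map (MulAut.conj n⁻¹).toMonoidHom ≤ ⁅N, Q⁆ ⊔ Q := by
    rintro _ ⟨q, hq, rfl⟩
    have e : (MulAut.conj n⁻¹).toMonoidHom q = ⁅n⁻¹, q⁆ * q := by
      simp [commutatorElement_def, mul_assoc]
    rw [e]
    exact mul_mem (mem_sup_left (commutator_mem_commutator (inv_mem hn) hq)) (mem_sup_right hq)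
  obtain ⟨k, hk, he⟩ := exists_conj_mem_of_le hQ hwc le_sup_right hg
  rw [sup_comm] at hk
  obtain ⟨q, hq, w, hw, rfl⟩ := (Core.mem_sup_of_le_normalizer hQW).mp hk
  set w' := q * w * q⁻¹ with hw'
  have hw'W : w' ∈ ⁅N, Q⁆ := (mem_normalizer_iff.mp (hQW hq) w).mp hw
  have he' : Q.map (MulAut.conj n⁻¹).toMonoidHom = Q.map (MulAut.conj w').toMonoidHom := by
    rw [he, show q * w = w' * q by rw [hw']; group, Core.map_conj_mul,
      Core.map_conj_eq_of_mem_normalizer (le_normalizer hq)]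
  refine ⟨n * w', ⟨mul_mem hn (hWN hw'W), ?_⟩, w'⁻¹, inv_mem hw'W, by group⟩
  have h2 := congrArg (map (MulAut.conj n).toMonoidHom) he'
  rw [map_conj_cancel_inv, ← Core.map_conj_mul] at h2
  exact Core.mem_normalizer_iff_map_conj.mpr h2.symm

/-- `[N, Q] = (Q ∩ [N, Q]) [N, Q, Q]` for a weakly closed `Q`. -/
theorem exists_mul_commutator_of_wc [Finite H] [Fact p.Prime] {Q : Subgroup H}
    (hQ : IsPGroup p Q) (hwc : IsWeaklyClosedSubgroup p Q) {N : Subgroup H}
    (hQN : Q ≤ normalizer (N : Set H)) {c : H} (hc : c ∈ ⁅N, Q⁆) :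
    ∃ a ∈ Q ⊓ ⁅N, Q⁆, ∃ b ∈ ⁅⁅N, Q⁆, Q⁆, c = a * b := by
  set W := ⁅N, Q⁆ with hW
  have hQW : Q ≤ normalizer (W : Set H) := by
    intro q hq
    rw [Core.mem_normalizer_iff_map_conj, hW, map_commutator,
      Core.map_conj_eq_of_mem_normalizer (hQN hq),
      Core.map_conj_eq_of_mem_normalizer (le_normalizer hq)]
  have hQW2 : Q ≤ normalizer ((⁅W, Q⁆ : Subgroup H) : Set H) := by
    intro q hq
    rw [Core.mem_normalizer_iff_map_conj, map_commutator,
      Core.map_conj_eq_of_mem_normalizer (hQW hq),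
      Core.map_conj_eq_of_mem_normalizer (le_normalizer hq)]
  have hS : W ≤ Q ⊓ W ⊔ ⁅W, Q⁆ := by
    conv_lhs => rw [hW]
    rw [Subgroup.commutator_le]
    intro n hn q hq
    obtain ⟨a, ha, b, hb, rfl⟩ := exists_mul_of_wc hQ hwc hQN hn
    have e : ⁅a * b, q⁆ = (a * ⁅b, q⁆ * a⁻¹) * ⁅a, q⁆ := by
      simp only [commutatorElement_def]; group
    rw [e]
    refine mul_mem (mem_sup_right ?_) (mem_sup_left ⟨?_, commutator_mem_commutator ha.1 hq⟩)
    · have h1 : a ∈ normalizer ((⁅W, Q⁆ : Subgroup H) : Set H) := by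
        rw [Core.mem_normalizer_iff_map_conj, map_commutator, hW, map_commutator,
          Core.map_conj_eq_of_mem_normalizer (le_normalizer ha.1),
          Core.map_conj_eq_of_mem_normalizer ha.2]
      exact (mem_normalizer_iff.mp h1 _).mp (commutator_mem_commutator hb hq)
    · rw [commutatorElement_def]
      exact Q.mul_mem ((mem_normalizer_iff.mp ha.2 q).mp hq) (Q.inv_mem hq)
  obtain ⟨a, ha, b, hb, he⟩ := (Core.mem_sup_of_le_normalizer (inf_le_left.trans hQW2)).mp (hS hc)
  exact ⟨a, ha, b, hb, he.symm⟩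

/-! ### Large subgroups -/

/-- A large `p`-subgroup is weakly closed. -/
theorem wc_of_isLarge [Finite H] [Fact p.Prime] {Q : Subgroup H} (hQ : IsPGroup p Q)
    (hQ1 : Q ≠ ⊥) (hL : IsLarge Q) : IsWeaklyClosedSubgroup p Q := by
  refine wc_of_forall_normalizer_le hQ fun R hR hQR => ?_
  haveI : Nontrivial ↥R := (nontrivial_iff_ne_bot R).mpr fun h => hQ1 (le_bot_iff.mp (h ▸ hQR))
  have hZ : (Subgroup.center ↥R).map R.subtype ≠ ⊥ := by
    rw [ne_eq, map_eq_bot_iff_of_injective _ R.subtype_injective]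
    exact (nontrivial_iff_ne_bot _).mp hR.center_nontrivial
  refine (Core.normalizer_le_normalizer_map_char (Subgroup.center ↥R)).trans (hL.2 _ ?_ hZ)
  rintro _ ⟨z, hz, rfl⟩ q hq
  exact congrArg Subtype.val (mem_center_iff.mp hz ⟨q, hQR hq⟩)

theorem isLarge_map_conj {Q : Subgroup H} (hL : IsLarge Q) (g : H) :
    IsLarge (Q.map (MulAut.conj g).toMonoidHom) := by
  refine ⟨?_, fun U hU hU1 => ?_⟩
  · rw [centralizer_map_conj]
    exact map_mono hL.1
  · rw [centralizer_map_conj] at hU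
    have hU' : U.map (MulAut.conj g⁻¹).toMonoidHom ≤ centralizer (Q : Set H) := by
      have := map_mono (f := (MulAut.conj g⁻¹).toMonoidHom) hU
      rwa [map_conj_inv_cancel] at this
    have h1 := hL.2 _ hU' (fun h => hU1 (by rw [← map_conj_cancel_inv U g, h, Subgroup.map_bot]))
    rw [normalizer_map_conj] at h1
    have h2 := map_mono (f := (MulAut.conj g).toMonoidHom) h1
    rwa [map_conj_cancel_inv, ← normalizer_map_conj] at h2

/-- Centralizers of two distinct conjugates of a large `Q` meet trivially. -/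
theorem inf_centralizer_eq_bot_of_isLarge [Finite H] [Fact p.Prime] {Q : Subgroup H}
    (hQ : IsPGroup p Q) (hQ1 : Q ≠ ⊥) (hL : IsLarge Q) {g : H}
    (hg : g ∉ normalizer (Q : Set H)) :
    centralizer (Q : Set H) ⊓
      centralizer ((Q.map (MulAut.conj g).toMonoidHom : Subgroup H) : Set H) = ⊥ := by
  by_contra hU
  refine hg (Core.mem_normalizer_iff_map_conj.mpr
    (wc_eq_of_le_normalizer hQ (wc_of_isLarge hQ hQ1 hL) ?_))
  refine le_trans ?_ (hL.2 _ inf_le_left hU)
  exact ((le_centralizer_iff).mp inf_le_right).trans (centralizer_le_normalizer _)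

/-- Properties of an overgroup `L` of a large subgroup with `O_p(L) ≠ 1`. -/
theorem isPGroup_centralizer_pCoreOf [Finite H] [hp : Fact p.Prime] {Q : Subgroup H}
    (hQ : IsPGroup p Q) (hQ1 : Q ≠ ⊥) (hL : IsLarge Q) {L : Subgroup H} (hQL : Q ≤ L)
    (hP1 : pCoreOf p L ≠ ⊥) : IsPGroup p (centralizer (pCoreOf p L : Set H)) := by
  set P := pCoreOf p L
  have hPp : IsPGroup p P := pCoreOf_isPGroup L
  set R := P ⊔ Q
  have hR : IsPGroup p ↥(P ⊔ Q) := by
    rw [sup_comm]
    exact isPGroup_sup_of_le_normalizer hQ hPp (hQL.trans (le_normalizer_pCoreOf L))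
  haveI hPn : (P.subgroupOf R).Normal := (normal_subgroupOf_iff_le_normalizer le_sup_left).mpr
    (sup_le le_normalizer (hQL.trans (le_normalizer_pCoreOf L)))
  have hU : P ⊓ centralizer (Q : Set H) ≠ ⊥ := by
    intro h
    refine PGroup.inf_center_ne_bot hR (N := P.subgroupOf R) (fun hb => hP1 ?_) ?_
    · rw [← map_subgroupOf_eq_of_le (le_sup_left : P ≤ R), hb, Subgroup.map_bot]
    · rw [eq_bot_iff]
      intro z hz
      have h1 : (z : H) ∈ P ⊓ centralizer (Q : Set H) :=
        ⟨hz.1, fun q hq => congrArg Subtype.val (mem_center_iff.mp hz.2 ⟨q, mem_sup_right hq⟩)⟩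
      rw [h, mem_bot] at h1
      exact Subtype.ext h1
  have hCN : centralizer (P : Set H) ≤ normalizer (Q : Set H) := by
    refine le_trans ?_ (hL.2 _ inf_le_right hU)
    exact (centralizer_le (SetLike.coe_subset_coe.mpr inf_le_left)).trans (centralizer_le_normalizer _)
  have hD : Q ⊓ centralizer (P : Set H) ≤ P := by
    set C := (centralizer (P : Set H)).subgroupOf L with hC
    have hCn : C.Normal :=
      (normal_subgroupOf_iff_le_normalizer_inf).mpr (by
        refine le_normalizer_inf ?_ le_normalizer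
        exact (le_normalizer_pCoreOf L).trans (normalizer_le_normalizer_centralizer _))
    set D := (Q ⊓ centralizer (P : Set H)).subgroupOf L
    have hDn : (D.subgroupOf C).Normal := by
      refine ⟨fun x hx c => ?_⟩
      refine ⟨?_, (centralizer (P : Set H)).mul_mem ((centralizer (P : Set H)).mul_mem c.2 x.2)
        ((centralizer (P : Set H)).inv_mem c.2)⟩
      exact (mem_normalizer_iff.mp (hCN c.2) _).mp hx.1
    have h1 := Core.le_pCore_of_isSubnormal (p := p)
      (IsSubnormal.step D C (comap_mono inf_le_right) hCn.isSubnormal hDn)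
      ((hQ.to_le inf_le_left).comap_of_injective L.subtype L.subtype_injective)
    intro x hx
    exact ⟨⟨x, hQL hx.1⟩, h1 hx, rfl⟩
  refine isPGroup_of_forall_coprime fun x hx hxc => ?_
  refine orderOf_eq_one_of_coprime_mem hQ (hL.1 ?_) hxc
  refine mem_centralizer_of_two_step hQ (hCN hx) hxc (N := Q ⊓ centralizer (P : Set H)) ?_ ?_
  · refine le_inf (Coprime.commutator_le_of_le_normalizer (zpowers_le.mpr (hCN hx))) ?_
    rw [commutator_comm]
    refine (commutator_mono (zpowers_le.mpr hx) le_rfl).trans ?_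
    exact Coprime.commutator_le_of_le_normalizer
      ((hQL.trans (le_normalizer_pCoreOf L)).trans (normalizer_le_normalizer_centralizer _))
  · intro d hd
    rw [mem_centralizer_singleton_iff]
    exact hx d (hD hd)

/-- An overgroup of a large subgroup with `O_p ≠ 1` has characteristic `p`. -/
theorem isCharP_of_isLarge [Finite H] [hp : Fact p.Prime] {Q : Subgroup H}
    (hQ : IsPGroup p Q) (hQ1 : Q ≠ ⊥) (hL : IsLarge Q) {L : Subgroup H} (hQL : Q ≤ L)
    (hP1 : pCoreOf p L ≠ ⊥) :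
    centralizer (pCore p ↥L : Set ↥L) ≤ pCore p ↥L := by
  have h := isPGroup_centralizer_pCoreOf hQ hQ1 hL hQL hP1
  haveI hn : ((centralizer (pCoreOf p L : Set H)).subgroupOf L).Normal :=
    (normal_subgroupOf_iff_le_normalizer_inf).mpr (le_normalizer_inf
      ((le_normalizer_pCoreOf L).trans (normalizer_le_normalizer_centralizer _)) le_normalizer)
  refine le_trans ?_ (Core.le_pCore' hn (h.comap_of_injective L.subtype L.subtype_injective))
  rintro x hx _ ⟨y, hy, rfl⟩
  exact congrArg Subtype.val (hx y hy)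

theorem pCoreOf_map_conj [Finite H] [Fact p.Prime] (L : Subgroup H) (g : H) :
    pCoreOf p (L.map (MulAut.conj g).toMonoidHom) =
      (pCoreOf p L).map (MulAut.conj g).toMonoidHom := by
  have key : ∀ (L : Subgroup H) (g : H), (pCoreOf p L).map (MulAut.conj g).toMonoidHom ≤
      pCoreOf p (L.map (MulAut.conj g).toMonoidHom) := fun L g => by
    refine le_pCoreOf (map_mono (map_subtype_le _)) ?_ ((pCoreOf_isPGroup L).map _)
    rw [normalizer_map_conj]
    exact map_mono (le_normalizer_pCoreOf L)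
  refine le_antisymm ?_ (key L g)
  have h := map_mono (f := (MulAut.conj g).toMonoidHom) (key (L.map (MulAut.conj g).toMonoidHom) g⁻¹)
  rwa [map_conj_cancel_inv, map_conj_inv_cancel] at h

/-- For a large `Q`, a parabolic `R` with `O_p(R) ≠ 1` has `C_H(O_p(R)) ≤ O_p(R)`. -/
theorem centralizer_le_of_isParabolic [Finite H] [hp : Fact p.Prime] {Q : Subgroup H}
    (hQ : IsPGroup p Q) (hQ1 : Q ≠ ⊥) (hL : IsLarge Q) {R : Subgroup H} (hR : IsParabolic p R)
    (hP1 : pCoreOf p R ≠ ⊥) : centralizer (pCoreOf p R : Set H) ≤ pCoreOf p R := by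
  obtain ⟨T, hT⟩ := hR
  obtain ⟨T₀, hT₀⟩ := hQ.exists_le_sylow
  obtain ⟨g, hg⟩ := MulAction.exists_smul_eq H T₀ T
  have hQR : Q.map (MulAut.conj g).toMonoidHom ≤ R := by
    refine le_trans ?_ hT
    rw [← hg]
    exact map_mono hT₀
  have hC := isPGroup_centralizer_pCoreOf (hQ.map (MulAut.conj g).toMonoidHom)
    (fun h => hQ1 (by rw [← map_conj_inv_cancel Q g, h, Subgroup.map_bot]))
    (isLarge_map_conj hL g) hQR hP1
  have hTC : (T : Subgroup H) ≤ normalizer (centralizer (pCoreOf p R : Set H) : Set H) :=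
    (hT.trans (le_normalizer_pCoreOf R)).trans (normalizer_le_normalizer_centralizer _)
  have hsup := sylow_eq_of_le T (isPGroup_sup_of_le_normalizer T.2 hC hTC) le_sup_left
  have hCR : centralizer (pCoreOf p R : Set H) ≤ R := (le_sup_right.trans hsup.le).trans hT
  exact le_pCoreOf hCR ((le_normalizer_pCoreOf R).trans (normalizer_le_normalizer_centralizer _)) hC

/-- `C_R(x) = 1` for a `p'`-group `R` normalized by `Q` and `x ∈ Z(Q)` nontrivial. -/
theorem inf_centralizer_eq_bot_of_mem_center [Finite H] [hp : Fact p.Prime] {Q : Subgroup H}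
    (hQ : IsPGroup p Q) (hL : IsLarge Q) {R : Subgroup H} (hR : (Nat.card ↥R).Coprime p)
    (hQR : Q ≤ normalizer (R : Set H)) {z : H} (hz : z ∈ Q ⊓ centralizer (Q : Set H))
    (hz1 : z ≠ 1) : R ⊓ centralizer ({z} : Set H) = ⊥ := by
  rw [eq_bot_iff]
  intro r hr
  have hrc : (orderOf r).Coprime p :=
    Nat.Coprime.coprime_dvd_left (Subgroup.orderOf_dvd_natCard R hr.1) hR
  refine (mem_bot).mpr (orderOf_eq_one_of_coprime_mem hQ (hL.1 ?_) hrc)
  have hrN : r ∈ normalizer (Q : Set H) := by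
    refine hL.2 (zpowers z) (zpowers_le.mpr hz.2) (by simpa using hz1) ?_
    refine centralizer_le_normalizer _ ?_
    rintro _ ⟨i, rfl⟩
    exact (Commute.zpow_left ((mem_centralizer_singleton_iff.mp hr.2).symm) i).eq
  intro q hq
  have h1 : ⁅q, r⁆ ∈ Q ⊓ R := by
    constructor
    · rw [commutatorElement_def, mul_assoc, mul_assoc]
      exact Q.mul_mem hq (by simpa [mul_assoc] using (mem_normalizer_iff.mp hrN _).mp (Q.inv_mem hq))
    · rw [commutatorElement_def]
      exact R.mul_mem ((mem_normalizer_iff.mp (hQR hq) r).mp hr.1) (R.inv_mem hr.1)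
  have hqr : q * r * q⁻¹ * r⁻¹ = 1 := orderOf_eq_one_of_coprime_mem hQ h1.1
    (Nat.Coprime.coprime_dvd_left (Subgroup.orderOf_dvd_natCard R h1.2) hR)
  calc q * r = (q * r * q⁻¹ * r⁻¹) * (r * q) := by group
    _ = r * q := by rw [hqr, one_mul]

end Cfsg.Lib.Local
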