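import Cfsg.Agent.Lib.Core.Layer
import Cfsg.Agent.Lib.Core.Cores
import Cfsg.Agent.Lib.QuasiCentral
import Cfsg.Agent.Lib.Fusion.Basic
import Cfsg.Agent.Lib.Sig.PComponent
import Cfsg.Agent.Lib.Sig.LayerLocal
import Cfsg.Agent.Lib.Local.WeaklyClosed
import Cfsg.Agent.Lib.Local.CentricRadical
import Cfsg.Agent.Lib.Fusion.Tate
import Cfsg.Agent.Lib.PGroup.Basic
import Mathlib.GroupTheory.Nilpotent

/-!
Groups generated by `p`-subgroups normalized by the kernel of an action with quasisimple
`p`-residual.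
-/

set_option autoImplicit false
set_option linter.style.haveILetI false

namespace Cfsg.Lib.Local.LargeQS

open Subgroup Cfsg.Lib.Fusion
open scoped commutatorElement Pointwise

variable {X : Type*} [Group X] [Finite X] {p : ℕ} [hp : Fact p.Prime]

omit [Finite X] in
theorem le_normalizer_commutator_left [Finite X] (A Y : Subgroup X) : A ≤ normalizer ((⁅A, Y⁆ : Subgroup X) : Set X) := by
  intro a ha
  refine mem_normalizer_fintype fun x hx => ?_
  suffices hle : ⁅A, Y⁆ ≤ ⁅A, Y⁆.comap (MulAut.conj a).toMonoidHom by simpa using hle hx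
  rw [commutator_le]
  intro b hb y hy
  rw [mem_comap]
  have e : (MulAut.conj a).toMonoidHom ⁅b, y⁆ = ⁅a * b, y⁆ * ⁅a, y⁆⁻¹ := by
    simp [commutatorElement_def, mul_assoc]
  rw [e]
  exact mul_mem (commutator_mem_commutator (A.mul_mem ha hb) hy) (inv_mem (commutator_mem_commutator ha hy))

/-- The commutator with a perfect subgroup generated by two steps. -/
theorem perfect_eq_top_of_pgroup {Y : Type*} [Group Y] [Finite Y] (hperf : commutator Y = ⊤)
    (h : IsPGroup p Y) : Subsingleton Y := by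
  by_contra hn
  haveI : Nontrivial Y := not_subsingleton_iff_nontrivial.1 hn
  haveI := h.isNilpotent
  exact Cfsg.Lib.PGroup.frattini_ne_top
    (top_le_iff.1 (hperf.ge.trans (Cfsg.Lib.Fusion.commutator_le_frattini_of_isPGroup h)))

theorem eq_bot_of_perfect_quotient {Y : Type*} [Group Y] [Finite Y] (hperf : commutator Y = ⊤)
    (N : Subgroup Y) [N.Normal] (h : IsPGroup p (Y ⧸ N)) : N = ⊤ := by
  have hq : commutator (Y ⧸ N) = ⊤ := by
    rw [_root_.commutator_def, ← map_top_of_surjective _ (QuotientGroup.mk'_surjective N), ← map_commutator,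
      ← _root_.commutator_def, hperf]
  haveI := perfect_eq_top_of_pgroup hq h
  exact (QuotientGroup.subsingleton_iff).1 inferInstance

/-- No `p`-element outside the trivial one centralizes the residual. -/
theorem eq_one_of_centralizes {Y : Type*} [Group Y] [Finite Y] (hred : Cfsg.pCore p Y = ⊥)
    (hK : Cfsg.IsQuasisimple ↥(Cfsg.pResidual p Y)) {y : Y} (hy : ∃ k, orderOf y = p ^ k)
    (hc : y ∈ centralizer (Cfsg.pResidual p Y : Set Y)) : y = 1 := by
  classical
  haveI := hK.1
  set K := Cfsg.pResidual p Y with hKdef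
  set C := centralizer (K : Set Y) with hC
  haveI : C.Normal := by rw [hC]; infer_instance
  set Z := K.subgroupOf C with hZ
  have hZc : Z ≤ center ↥C := fun z hz => mem_center_iff.2 fun c =>
    Subtype.ext (mem_centralizer_iff.1 c.2 (z : Y) (mem_subgroupOf.1 hz)).symm
  haveI : Group.IsNilpotent ↥C := by
    let f : ↥C →* Y ⧸ K := (QuotientGroup.mk' K).comp C.subtype
    have hp' : IsPGroup p (Y ⧸ K) := isPGroup_quotient_pResidual
    haveI : Group.IsNilpotent ↥f.range := (hp'.to_subgroup f.range).isNilpotent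
    refine Subgroup.isNilpotent_of_ker_le_center f.rangeRestrict (fun z hz => hZc ?_)
    rw [MonoidHom.ker_rangeRestrict] at hz
    exact mem_subgroupOf.2 ((QuotientGroup.eq_one_iff _).1 hz)
  obtain ⟨P⟩ : Nonempty (Sylow p ↥C) := inferInstance
  haveI hPn : (P : Subgroup ↥C).Normal :=
    Sylow.normal_of_normalizerCondition Group.normalizerCondition_of_isNilpotent P
  have hPbot : (P : Subgroup ↥C) = ⊥ := by
    have h1 : (P : Subgroup ↥C) ≤ Cfsg.pCore p ↥C := Cfsg.Lib.Core.le_pCore P.2
    have h2 := Cfsg.Lib.Core.pCore_map_le_of_isSubnormal (p := p) (Subgroup.Normal.isSubnormal (H := C) inferInstance)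
    rw [hred, le_bot_iff, Subgroup.map_eq_bot_iff_of_injective _ C.subtype_injective] at h2
    exact le_bot_iff.1 (h1.trans h2.le)
  obtain ⟨k, hk⟩ := hy
  have hzp : IsPGroup p (zpowers (⟨y, hc⟩ : ↥C)) :=
    IsPGroup.of_card (n := k) (by rw [Nat.card_zpowers, Subgroup.orderOf_mk, hk])
  obtain ⟨P', hP'⟩ := hzp.exists_le_sylow
  obtain ⟨c, hc'⟩ := MulAction.exists_smul_eq ↥C P P'
  have h3 : (P' : Subgroup ↥C) = ⊥ := by
    rw [← hc', Sylow.coe_subgroup_smul, hPbot]
    simp
  have h4 := hP' (mem_zpowers _)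
  rw [h3, mem_bot] at h4
  exact congrArg Subtype.val h4

variable {C W : Subgroup X} [C.Normal] [W.Normal]

/-- The structure of the residual of the group generated by the `p`-subgroups. -/
theorem main {ι : Type*} (R : ι → Subgroup X) (hR : ∀ i, IsPGroup p ↥(R i)) (hW : W = ⨆ i, R i)
    (hCR : ∀ i, C ≤ normalizer (R i : Set X)) (hred : Cfsg.pCore p (X ⧸ C) = ⊥)
    (hqs : Cfsg.IsQuasisimple ↥((Cfsg.pResidual p X ⊔ C).map (QuotientGroup.mk' C))) (hWC : ∃ i, ¬ R i ≤ C) :
    let Er := (Cfsg.pResidual p ↥W).map W.subtype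
    Cfsg.pResidual p X ⊔ C = Er ⊔ C ∧ ⁅Er, Er⁆ = Er ∧ Cfsg.pResidual p ↥Er = ⊤ ∧
      Cfsg.IsQuasisimple (↥Er ⧸ C.subgroupOf Er) ∧ Cfsg.IsQuasisimple (↥Er ⧸ Cfsg.pCore p ↥Er) ∧
      ∀ Y : Subgroup X, IsPGroup p ↥Y → ¬ Y ≤ C → ⁅Er, Y⁆ = Er := by
  classical
  intro Er
  set π := QuotientGroup.mk' C with hπ
  have hπs : Function.Surjective π := QuotientGroup.mk'_surjective C
  have hπk : π.ker = C := QuotientGroup.ker_mk' C
  set K := Cfsg.pResidual p (X ⧸ C) with hKdef
  have hKe : (Cfsg.pResidual p X ⊔ C).map π = K := by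
    rw [Subgroup.map_sup, map_pResidual_of_surjective π hπs, hπ, QuotientGroup.map_mk'_self, sup_bot_eq]
  rw [hKe] at hqs
  have hKperf : ⁅K, K⁆ = K := isPerfect_iff.1 hqs.1
  -- normal subgroups below `K`
  have hnormal : ∀ N : Subgroup (X ⧸ C), N ≤ K → (N.subgroupOf K).Normal → N ≠ K → ⁅N, K⁆ = ⊥ := by
    intro N hNK hN hne
    haveI := hN
    rcases Cfsg.Lib.Core.quasisimple_normal hqs (N := N.subgroupOf K) with h | h
    · refine commutator_eq_bot_iff_le_centralizer.2 fun x hx => mem_centralizer_iff.2 fun k hk => ?_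
      exact congrArg Subtype.val (mem_center_iff.1 (h (mem_subgroupOf.2 (show ((⟨x, hNK hx⟩ : ↥K) : X ⧸ C) ∈ N from hx))) ⟨k, hk⟩)
    · exact absurd (le_antisymm hNK fun k hk => (h ▸ mem_top (⟨k, hk⟩ : ↥K) : (⟨k, hk⟩ : ↥K) ∈ N.subgroupOf K)) hne
  -- the commutator with a `p`-subgroup outside the kernel
  have hKY : ∀ Y : Subgroup (X ⧸ C), IsPGroup p ↥Y → Y ≠ ⊥ → ⁅K, Y⁆ = K := by
    intro Y hY hY0
    have hle : ⁅K, Y⁆ ≤ K := commutator_le_left K Y
    have hn : (⁅K, Y⁆.subgroupOf K).Normal := by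
      rw [normal_subgroupOf_iff_le_normalizer hle]
      exact le_normalizer_commutator_left K Y
    by_contra hne
    have h1 := hnormal _ hle hn hne
    have h2 : ⁅K, Y⁆ = ⊥ := by
      rw [commutator_comm K Y] at h1 ⊢
      exact Cfsg.Lib.Core.commutator_eq_bot_of_perfect hKperf h1
    rw [commutator_comm, commutator_eq_bot_iff_le_centralizer] at h2
    refine hY0 (le_bot_iff.1 fun y hy => ?_)
    obtain ⟨k, hk⟩ := hY ⟨y, hy⟩
    obtain ⟨j, -, hj⟩ := (Nat.dvd_prime_pow hp.out).1
      (orderOf_dvd_of_pow_eq_one (congrArg Subtype.val hk : y ^ p ^ k = 1))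
    exact mem_bot.2 (eq_one_of_centralizes hred hqs ⟨j, hj⟩ (h2 hy))
  -- images
  obtain ⟨i₀, hi₀⟩ := hWC
  haveI hWq : (W.map π).Normal := Subgroup.Normal.map inferInstance π hπs
  have hKW : K ≤ W.map π := by
    have h := hKY ((R i₀).map π) ((hR i₀).map π) (fun h0 => hi₀ (by
      rwa [Subgroup.map_eq_bot_iff, hπk] at h0))
    refine h.ge.trans ((commutator_mono le_rfl (map_mono (hW ▸ le_iSup R i₀))).trans (commutator_le_right _ _))
  have hErπ : Er.map π = K := by
    haveI : Finite (X ⧸ C) := inferInstance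
    refine le_antisymm ?_ ?_
    · rw [show Er.map π = (Cfsg.pResidual p ↥W).map (π.comp W.subtype) from map_map _ _ _]
      exact map_pResidual_le _
    · let g : ↥W →* ↥(W.map π) := π.subgroupMap W
      have hg : (Cfsg.pResidual p ↥W).map g = Cfsg.pResidual p ↥(W.map π) :=
        map_pResidual_of_surjective g (π.subgroupMap_surjective W)
      have h2 : K ≤ (Cfsg.pResidual p ↥(W.map π)).map (W.map π).subtype := by
        intro k hk
        have h3 : (⟨k, hk⟩ : ↥K) ∈ Cfsg.pResidual p ↥K :=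
          (pResidual_pResidual p (X ⧸ C)).ge (mem_top _)
        obtain h4 := map_pResidual_le (p := p) (Subgroup.inclusion hKW) ⟨_, h3, rfl⟩
        exact ⟨_, h4, rfl⟩
      rw [← hg, map_map] at h2
      exact h2.trans_eq (by rw [show Er.map π = _ from map_map _ _ _]; rfl)
  -- normality
  haveI hErn : Er.Normal := Cfsg.Lib.Local.map_pResidual_normal W
  have hErW : Er ≤ W := map_subtype_le _
  have hErtop : Cfsg.pResidual p ↥Er = ⊤ := by
    have e : (Cfsg.pResidual p ↥(Cfsg.pResidual p ↥W)).map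
        (equivMapOfInjective _ W.subtype W.subtype_injective).toMonoidHom = Cfsg.pResidual p ↥Er :=
      map_pResidual_equiv _
    rw [← e, pResidual_pResidual, map_top_of_surjective _ (MulEquiv.surjective _)]
  -- the kernel acts trivially modulo the core
  set M := Cfsg.pCore p X with hM
  have hCW : ⁅C, W⁆ ≤ M := by
    rw [hW, commutator_comm, commutator_le]
    intro w hw c hc
    have hker : ∀ i, R i ≤ (centralizer ((C.map (QuotientGroup.mk' M) : Subgroup (X ⧸ M)) : Set (X ⧸ M))).comap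
        (QuotientGroup.mk' M) := by
      intro i r hr
      rw [mem_comap, mem_centralizer_iff]
      rintro _ ⟨c, hc, rfl⟩
      have hCRi : c * r * c⁻¹ * r⁻¹ ∈ C ⊓ R i :=
        ⟨by
          rw [mul_assoc, mul_assoc]
          exact C.mul_mem hc (by simpa [mul_assoc] using (inferInstance : C.Normal).conj_mem _ (C.inv_mem hc) r),
         (R i).mul_mem ((mem_normalizer_iff.1 (hCR i hc) r).1 hr) ((R i).inv_mem hr)⟩
      have hsub : C ⊓ R i ≤ M := by
        have hn : ((C ⊓ R i).subgroupOf C).Normal := by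
          rw [normal_subgroupOf_iff_le_normalizer inf_le_left]
          exact (le_inf le_normalizer (hCR i)).trans (inf_normalizer_le_normalizer_inf)
        exact Cfsg.Lib.Core.le_pCore_of_isSubnormal
          (Cfsg.Lib.Core.isSubnormal_of_normal_subgroupOf inf_le_left
            (Subgroup.Normal.isSubnormal (H := C) inferInstance) hn) ((hR i).to_le inf_le_right)
      have h5 : QuotientGroup.mk' M (c * r * c⁻¹ * r⁻¹) = 1 := (QuotientGroup.eq_one_iff _).2 (hsub hCRi)
      rw [← map_mul, ← map_mul]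
      have h6 : c * r = c * r * c⁻¹ * r⁻¹ * (r * c) := by group
      rw [h6, map_mul, h5, one_mul]
    have h7 : w ∈ (centralizer ((C.map (QuotientGroup.mk' M) : Subgroup (X ⧸ M)) : Set (X ⧸ M))).comap
        (QuotientGroup.mk' M) := iSup_le hker hw
    rw [mem_comap, mem_centralizer_iff] at h7
    refine (QuotientGroup.eq_one_iff _).1 (show QuotientGroup.mk' M ⁅w, c⁆ = 1 from ?_)
    rw [map_commutatorElement, commutatorElement_eq_one_iff_mul_comm]
    exact (h7 _ ⟨c, hc, rfl⟩).symm
  -- perfectness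
  set D := ⁅Er, Er⁆ with hD
  haveI : D.Normal := by rw [hD]; infer_instance
  have hDπ : D.map π = K := by rw [hD, map_commutator, hErπ, hKperf]
  have hdec : ∀ {N : Subgroup X}, N.map π = K → N ≤ Er → ∀ e ∈ Er, ∃ n ∈ N, ∃ c ∈ Er ⊓ C, e = n * c := by
    intro N hN hNE e he
    obtain ⟨n, hn, hne⟩ := (hN.trans hErπ.symm).ge ⟨e, he, rfl⟩
    have : n⁻¹ * e ∈ π.ker := by rw [MonoidHom.mem_ker, map_mul, map_inv, hne, inv_mul_cancel]
    rw [hπk] at this
    exact ⟨n, hn, _, ⟨Er.mul_mem (Er.inv_mem (hNE hn)) he, this⟩, (mul_inv_cancel_left n e).symm⟩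
  have hMEr : ∀ x ∈ Er, x ∈ M → x ∈ D := by
    intro x hx hxM
    -- the abelianization of a group equal to its residual has no `p`-part
    have hA : Cfsg.pResidual p (Abelianization ↥Er) = ⊤ := by
      refine top_le_iff.1 (le_trans ?_ (map_pResidual_le (p := p) (Abelianization.of : ↥Er →* _)))
      rw [hErtop, map_top_of_surjective (Abelianization.of : ↥Er →* _) (QuotientGroup.mk_surjective)]
    have hcop : (Nat.card (Abelianization ↥Er)).Coprime p := by
      refine (Cfsg.Lib.Core.coprime_iff_not_dvd' (p := p)).2 fun hd => ?_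
      obtain ⟨a, ha⟩ := exists_prime_orderOf_dvd_card' p hd
      let P : Subgroup (Abelianization ↥Er) :=
        { carrier := {b | (orderOf b).Coprime p}
          one_mem' := by simp
          mul_mem' := fun {b c} hb hc => Nat.Coprime.coprime_dvd_left
            (((Commute.all b c).orderOf_mul_dvd_lcm).trans (Nat.lcm_dvd_mul _ _)) (hb.mul_left hc)
          inv_mem' := fun {b} hb => by simpa using hb }
      have hP : Cfsg.pResidual p (Abelianization ↥Er) ≤ P := (closure_le _).2 fun b hb => hb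
      have : (orderOf a).Coprime p := hP (hA ▸ mem_top a)
      rw [ha, Nat.coprime_self] at this
      exact hp.out.ne_one this
    obtain ⟨k, hk⟩ := Cfsg.Lib.Core.pCore_isPGroup p X ⟨x, hxM⟩
    have h1 : Abelianization.of (⟨x, hx⟩ : ↥Er) = 1 := by
      refine orderOf_eq_one_iff.1 (Nat.Coprime.eq_one_of_dvd ?_ (orderOf_dvd_natCard _))
      refine Nat.Coprime.coprime_dvd_left (orderOf_dvd_of_pow_eq_one (n := p ^ k) ?_) (hcop.pow_right k).symm
      rw [← map_pow, show (⟨x, hx⟩ : ↥Er) ^ p ^ k = 1 from Subtype.ext (congrArg Subtype.val hk :), map_one]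
    have h2 : (⟨x, hx⟩ : ↥Er) ∈ commutator ↥Er := (QuotientGroup.eq_one_iff _).1 h1
    have h3 := mem_map_of_mem Er.subtype h2
    rwa [map_subtype_commutator, ← hD] at h3
  have hperf : D = Er := by
    have hDle : D ≤ Er := commutator_le_self Er
    refine le_antisymm hDle fun e he => ?_
    set q := QuotientGroup.mk' D with hq
    set Wq := W.map q with hWq'
    have hcentral : ∀ w ∈ W, ∀ x ∈ Er, Commute (q w) (q x) := by
      intro w hw x hx
      obtain ⟨d, hd, c, hc, rfl⟩ := hdec hDπ hDle x hx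
      have hd1 : q d = 1 := (QuotientGroup.eq_one_iff _).2 hd
      rw [map_mul, hd1, one_mul]
      refine commutatorElement_eq_one_iff_commute.1 ?_
      rw [← map_commutatorElement]
      refine (QuotientGroup.eq_one_iff _).2 (hMEr _ ?_ ?_)
      · rw [commutatorElement_def, mul_assoc, mul_assoc]
        have := hErn.conj_mem c hc.1 w
        simpa [mul_assoc] using Er.mul_mem this (Er.inv_mem hc.1)
      · have := hCW (commutator_mem_commutator hc.2 hw)
        rw [← commutatorElement_inv] at this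
        exact (M.inv_mem_iff).1 this
    let h : ↥W →* ↥Wq := q.subgroupMap W
    have hWr : (Er.map q).subgroupOf Wq ≤ center ↥Wq := by
      intro z hz
      rw [mem_center_iff]
      rintro ⟨_, w, hw, rfl⟩
      obtain ⟨x, hx, hxz⟩ := mem_subgroupOf.1 hz
      exact Subtype.ext (by
        show q w * (z : X ⧸ D) = (z : X ⧸ D) * q w
        rw [← hxz]; exact (hcentral w hw x hx).eq)
    haveI : Group.IsNilpotent ↥Wq := by
      haveI : ((Er.map q).subgroupOf Wq).Normal :=
        ⟨fun z hz g => by rw [mem_center_iff.1 (hWr hz) g, mul_inv_cancel_right]; exact hz⟩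
      have hpq : IsPGroup p (↥Wq ⧸ (Er.map q).subgroupOf Wq) := by
        refine (isPGroup_quotient_pResidual (p := p) (G := ↥W)).of_surjective
          (QuotientGroup.map _ _ h fun x hx => ?_) ?_
        · show (h x : X ⧸ D) ∈ Er.map q
          exact ⟨(x : X), ⟨x, hx, rfl⟩, rfl⟩
        · intro y
          obtain ⟨z, rfl⟩ := QuotientGroup.mk_surjective y
          obtain ⟨w, rfl⟩ := q.subgroupMap_surjective W z
          exact ⟨(w : ↥W ⧸ Cfsg.pResidual p ↥W), rfl⟩
      haveI := hpq.isNilpotent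
      exact Subgroup.isNilpotent_of_ker_le_center (QuotientGroup.mk' ((Er.map q).subgroupOf Wq))
        (by rw [QuotientGroup.ker_mk']; exact hWr)
    obtain ⟨P⟩ : Nonempty (Sylow p ↥Wq) := inferInstance
    haveI : (P : Subgroup ↥Wq).Normal :=
      Sylow.normal_of_normalizerCondition Group.normalizerCondition_of_isNilpotent P
    have hPtop : Wq ≤ (P : Subgroup ↥Wq).map Wq.subtype := by
      have hWmap : W.map q = ⨆ i, (R i).map q := by rw [hW, Subgroup.map_iSup]
      refine hWmap.trans_le (iSup_le fun i z hz => ?_)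
      have hle : (R i).map q ≤ Wq := map_mono (hW ▸ le_iSup R i)
      obtain ⟨P', hP'⟩ := (((hR i).map q).of_equiv (subgroupOfEquivOfLe hle).symm).exists_le_sylow
      have hPP : P' = P := by
        haveI := Sylow.unique_of_normal P inferInstance
        exact Subsingleton.elim _ _
      exact ⟨⟨z, hle hz⟩, hPP ▸ hP' (mem_subgroupOf.2 hz), rfl⟩
    have hWp : IsPGroup p ↥Wq := (P.2.map Wq.subtype).to_le hPtop
    have hres : Cfsg.pResidual p ↥Wq = ⊥ := by
      rw [Cfsg.pResidual, closure_eq_bot_iff]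
      intro y hy
      obtain ⟨k, hk⟩ := hWp y
      exact orderOf_eq_one_iff.1 (Nat.Coprime.eq_one_of_dvd (Nat.Coprime.pow_right k hy)
        (orderOf_dvd_of_pow_eq_one hk))
    obtain ⟨x, hx, rfl⟩ := he
    have := map_pResidual_le (p := p) h ⟨x, hx, rfl⟩
    rw [hres, mem_bot] at this
    exact (QuotientGroup.eq_one_iff _).1 (congrArg Subtype.val this)
  have hEperf : commutator ↥Er = ⊤ := by
    apply map_injective Er.subtype_injective
    rw [map_subtype_commutator, ← MonoidHom.range_eq_map, range_subtype, ← hD, hperf]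
  -- quasisimplicity
  have hq1 : Cfsg.IsQuasisimple (↥Er ⧸ C.subgroupOf Er) := by
    let g : ↥Er →* ↥K := (π.comp Er.subtype).codRestrict K fun x => hErπ ▸ ⟨x, x.2, rfl⟩
    have hg : Function.Surjective g := by
      rintro ⟨k, hk⟩
      obtain ⟨x, hx, rfl⟩ := hErπ.ge hk
      exact ⟨⟨x, hx⟩, rfl⟩
    have hgk : g.ker = C.subgroupOf Er := by
      ext x
      rw [MonoidHom.mem_ker, mem_subgroupOf]
      constructor
      · exact fun h => (QuotientGroup.eq_one_iff _).1 (congrArg Subtype.val h)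
      · exact fun h => Subtype.ext ((QuotientGroup.eq_one_iff _).2 h)
    exact Cfsg.Lib.Core.quasisimple_congr hqs
      ((QuotientGroup.quotientMulEquivOfEq hgk.symm).trans
        (QuotientGroup.quotientKerEquivOfSurjective g hg)).symm
  have hcore : Cfsg.pCore p ↥Er ≤ C.subgroupOf Er := by
    intro x hx
    have h1 : (x : X) ∈ M :=
      Cfsg.Lib.Core.pCore_map_le_of_isSubnormal (Subgroup.Normal.isSubnormal (H := Er) hErn) ⟨x, hx, rfl⟩
    have h2 : π x ∈ Cfsg.pCore p (X ⧸ C) := Cfsg.Lib.Core.map_pCore_le π hπs ⟨_, h1, rfl⟩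
    rw [hred, mem_bot] at h2
    exact mem_subgroupOf.2 ((QuotientGroup.eq_one_iff _).1 h2)
  have hq2 : Cfsg.IsQuasisimple (↥Er ⧸ Cfsg.pCore p ↥Er) := by
    refine Cfsg.Lib.Core.quasisimple_of_central (f := QuotientGroup.map (Cfsg.pCore p ↥Er) (C.subgroupOf Er)
      (MonoidHom.id ↥Er) hcore) ?_ ?_ ?_ hq1
    · intro y
      obtain ⟨x, rfl⟩ := QuotientGroup.mk_surjective y
      exact ⟨(x : ↥Er ⧸ Cfsg.pCore p ↥Er), rfl⟩
    · haveI : Group.IsPerfect ↥Er := Group.isPerfect_def.2 hEperf
      exact Group.IsPerfect.ofSurjective (f := QuotientGroup.mk' _) (QuotientGroup.mk'_surjective _)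
    · intro y hy
      obtain ⟨x, rfl⟩ := QuotientGroup.mk_surjective y
      have hxC : (x : X) ∈ C := mem_subgroupOf.1 ((QuotientGroup.eq_one_iff x).1 hy)
      rw [mem_center_iff]
      intro z
      obtain ⟨z, rfl⟩ := QuotientGroup.mk_surjective z
      refine (commutatorElement_eq_one_iff_mul_comm.1 ?_).symm
      show ⁅QuotientGroup.mk' (Cfsg.pCore p ↥Er) x, QuotientGroup.mk' _ z⁆ = 1
      rw [← map_commutatorElement]
      refine (QuotientGroup.eq_one_iff _).2 ?_
      have h1 : (⁅x, z⁆ : ↥Er).1 ∈ M := hCW (commutator_mem_commutator hxC (hErW z.2))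
      obtain ⟨y', hy', hye⟩ := Cfsg.Lib.Core.inf_pCore_le (p := p) Er ⟨h1, (⁅x, z⁆ : ↥Er).2⟩
      rwa [show y' = ⁅x, z⁆ from Subtype.ext hye] at hy'
  refine ⟨?_, hperf, hErtop, hq1, hq2, ?_⟩
  · have h1 := congrArg (Subgroup.comap π) (hKe.trans hErπ.symm)
    rw [comap_map_eq, comap_map_eq, hπk, sup_assoc, sup_idem] at h1
    exact h1
  · intro Y hY hYC
    set N := ⁅Er, Y⁆ with hN
    have hNE : N ≤ Er := commutator_le_left Er Y
    haveI hNn : (N.subgroupOf Er).Normal := by
      rw [normal_subgroupOf_iff_le_normalizer hNE]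
      exact le_normalizer_commutator_left Er Y
    have hNπ : N.map π = K := by
      rw [hN, map_commutator, hErπ]
      exact hKY _ (hY.map π) fun h0 => hYC (by rwa [Subgroup.map_eq_bot_iff, hπk] at h0)
    refine le_antisymm hNE ?_
    set q := QuotientGroup.mk' (N.subgroupOf Er) with hq
    have hqc : ∀ x : ↥Er, ∃ c : ↥Er, (c : X) ∈ C ∧ q x = q c := by
      intro x
      obtain ⟨n, hn, c, hc, e⟩ := hdec hNπ hNE x x.2
      refine ⟨⟨c, hc.1⟩, hc.2, ?_⟩
      have he : x = ⟨n, hNE hn⟩ * ⟨c, hc.1⟩ := Subtype.ext e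
      rw [he, map_mul]
      have : q ⟨n, hNE hn⟩ = 1 := (QuotientGroup.eq_one_iff _).2 (mem_subgroupOf.2 hn)
      rw [this, one_mul]
    have hMq : ∀ a b : ↥Er, q ⁅a, b⁆ ∈ (M.subgroupOf Er).map q := by
      intro a b
      obtain ⟨c, hc, hac⟩ := hqc a
      refine ⟨⁅c, b⁆, mem_subgroupOf.2 (hCW (commutator_mem_commutator hc (hErW b.2))), ?_⟩
      rw [map_commutatorElement, map_commutatorElement, hac]
    haveI : ((M.subgroupOf Er).map q).Normal :=
      Subgroup.Normal.map inferInstance q (QuotientGroup.mk'_surjective _)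
    have hall : (⊤ : Subgroup ↥Er) ≤ ((M.subgroupOf Er).map q).comap q := by
      rw [← hEperf, _root_.commutator_def, commutator_le]
      exact fun a _ b _ => hMq a b
    have hp' : IsPGroup p (↥Er ⧸ N.subgroupOf Er) := by
      refine ((Cfsg.Lib.Core.pCore_isPGroup p X).comap_subtype.map q).to_le ?_ |>.of_equiv topEquiv
      intro y _
      obtain ⟨x, rfl⟩ := QuotientGroup.mk_surjective y
      exact hall (mem_top x)
    exact subgroupOf_eq_top.1 (eq_bot_of_perfect_quotient hEperf _ hp')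

end Cfsg.Lib.Local.LargeQS
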