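import Cfsg.Agent.Lib.PGroup.ClassTwo
import Cfsg.Agent.Lib.PGroup.Huppert
import Cfsg.Agent.Lib.PGroup.OmegaTwo
import Cfsg.Agent.Lib.Local.PrimeOrderOperator
import Cfsg.Agent.Lib.Coprime.Action
import Mathlib.GroupTheory.SpecificGroups.Cyclic
import Mathlib.Data.Nat.Choose.Dvd
import Mathlib.Algebra.BigOperators.Group.Finset.Basic

/-!
Coprime operators on metacyclic `p`-groups, `p` odd.
-/

set_option autoImplicit false

namespace Cfsg.Lib.Local.MetacyclicOperator

open Subgroup
open scoped commutatorElement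

universe u v

variable {p : ℕ} [Fact p.Prime]

/-- Two commuting operators of a cyclic normalized subgroup: `[R, A]` centralizes it. -/
theorem commutator_le_centralizer_cyclic {G : Type u} [Group G] (R A D : Subgroup G) [IsCyclic D]
    (hR : R ≤ normalizer (D : Set G)) (hA : A ≤ normalizer (D : Set G)) :
    ⁅R, A⁆ ≤ centralizer (D : Set G) := by
  rw [commutator_le]
  intro r hr a ha
  have h : Cfsg.Lib.Local.autOf D ⁅(⟨r, hR hr⟩ : normalizer (D : Set G)), ⟨a, hA ha⟩⁆ = 1 := by
    rw [map_commutatorElement, commutatorElement_eq_one_iff_mul_comm]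
    apply (IsCyclic.mulAutMulEquiv D).injective
    rw [map_mul, map_mul, mul_comm]
  exact (Cfsg.Lib.Local.autOf_eq_one_iff D _).mp h

/-- A subgroup strictly above a subgroup of prime index is the whole group. -/
theorem eq_top_of_lt_of_index {P : Type u} [Group P] [Finite P] {L M : Subgroup P}
    (hL : L.index = p) (h : L < M) : M = ⊤ := by
  have h1 := relIndex_mul_index h.le
  rw [hL] at h1
  rcases (Nat.dvd_prime (Fact.out : p.Prime)).mp ⟨_, by rw [mul_comm]; exact h1.symm⟩ with h2 | h2
  · exact index_eq_one.mp h2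
  · exfalso
    rw [h2] at h1
    have h3 : L.relIndex M = 1 := Nat.eq_of_mul_eq_mul_right (Fact.out : p.Prime).pos (h1.trans (one_mul p).symm)
    exact h.not_ge (relIndex_eq_one.mp h3)

/-- No operator group of order prime to `p` acts without trivial quotient on a class two metacyclic group
with derived group of order `p`. -/
theorem class_two_prime {P : Type u} [Group P] [Finite P] (hp2 : p ≠ 2) (hP : IsPGroup p P)
    (hm : Cfsg.IsMetacyclic P) {A : Type v} [Group A] [Finite A] (φ : A →* MulAut P)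
    (hcop : (Nat.card A).Coprime p)
    (hgen : ∀ N : Subgroup P, N.Normal → (∀ (a : A) (x : P), x⁻¹ * φ a x ∈ N) → N = ⊤)
    (hcent : commutator P ≤ center P) (hc : Nat.card (commutator P) = p) : False := by
  classical
  have hpp : p.Prime := Fact.out
  have hcp : ∀ u ∈ commutator P, u ^ p = 1 := by
    intro u hu
    have h := pow_card_eq_one' (x := (⟨u, hu⟩ : commutator P))
    rw [hc] at h
    exact congrArg Subtype.val h
  have hcm : ∀ x y : P, ⁅x, y⁆ ∈ commutator P := fun x y =>
    commutator_mem_commutator (mem_top x) (mem_top y)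
  obtain ⟨c, hcC, hc1⟩ : ∃ c ∈ commutator P, c ≠ 1 := by
    by_contra h
    push Not at h
    have : commutator P = ⊥ := eq_bot_iff.mpr fun x hx => mem_bot.mpr (h x hx)
    rw [this, card_bot] at hc
    exact hpp.one_lt.ne hc
  have hgenc : ∀ u ∈ commutator P, ∃ i : ℕ, c ^ i = u := by
    intro u hu
    haveI : Fact p.Prime := ⟨hpp⟩
    have h := mem_zpowers_of_prime_card (g := (⟨c, hcC⟩ : commutator P)) (g' := ⟨u, hu⟩) hc
      (fun e => hc1 (congrArg Subtype.val e))
    obtain ⟨i, hi⟩ := mem_powers_iff_mem_zpowers.mpr h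
    exact ⟨i, congrArg Subtype.val hi⟩
  -- the power maps
  have hpow : ∀ (k : ℕ) (x y : P), (x * y) ^ p ^ (k + 1) = x ^ p ^ (k + 1) * y ^ p ^ (k + 1) := by
    intro k x y
    obtain ⟨t, ht⟩ : p ∣ (p ^ (k + 1)).choose 2 := by
      refine hpp.dvd_choose_pow (by norm_num) fun e => ?_
      have h2 : p ∣ 2 := e ▸ dvd_pow_self p (Nat.succ_ne_zero k)
      exact hp2 ((Nat.prime_dvd_prime_iff_eq hpp Nat.prime_two).mp h2)
    rw [Cfsg.Lib.PGroup.mul_pow_of_class_two hcent, ht, pow_mul, hcp _ (hcm y x), one_pow, mul_one]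
  let π : ℕ → P →* P := fun k => MonoidHom.mk' (fun x => x ^ p ^ (k + 1)) (hpow k)
  have hrange : (π 0).range ≤ center P := by
    rintro _ ⟨x, rfl⟩
    rw [mem_center_iff]
    intro y
    show y * x ^ p ^ (0 + 1) = x ^ p ^ (0 + 1) * y
    rw [zero_add, pow_one, eq_comm, ← commutatorElement_eq_one_iff_mul_comm,
      Cfsg.Lib.PGroup.commutatorElement_pow_left hcent, hcp _ (hcm x y)]
  have hidx2 : p ^ 2 ≤ (center P).index := by
    obtain ⟨i, hi⟩ := IsPGroup.iff_card.mp (hP.to_quotient (center P))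
    rw [← index_eq_card] at hi
    rw [hi]
    refine Nat.pow_le_pow_right hpp.pos ?_
    by_contra hlt
    haveI : IsCyclic (P ⧸ center P) := by
      rcases Nat.eq_zero_or_pos i with rfl | hpos
      · haveI : Subsingleton (P ⧸ center P) :=
          (Nat.card_eq_one_iff_unique.mp (by rw [← index_eq_card, hi, pow_zero])).1
        exact isCyclic_of_subsingleton
      · exact isCyclic_of_prime_card (p := p) (by rw [← index_eq_card, hi, show i = 1 by omega, pow_one])
    have hcomm : ∀ a b : P, a * b = b * a :=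
      commutative_of_cyclic_center_quotient (QuotientGroup.mk' (center P))
        (by rw [QuotientGroup.ker_mk'])
    exact hc1 (by
      have hb : commutator P = ⊥ := by
        rw [_root_.commutator_def, commutator_eq_bot_iff_le_centralizer]
        exact fun x _ y _ => hcomm y x
      rw [hb] at hcC
      exact mem_bot.mp hcC)
  have hker : Nat.card (π 0).ker ≤ p ^ 2 := by
    obtain ⟨E, hE, -, hEc⟩ := Cfsg.Lib.PGroup.exists_omega_of_metacyclic hp2 hP hm
    refine (card_le_of_le fun x (hx : x ∈ (π 0).ker) => (hE x).mpr ?_).trans hEc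
    have h : x ^ p ^ (0 + 1) = 1 := hx
    rwa [zero_add, pow_one] at h
  have hri : (π 0).range.index ≤ p ^ 2 := by
    have e1 := card_mul_index (π 0).range
    have e2 := card_mul_index (π 0).ker
    rw [index_ker] at e2
    have : (π 0).range.index = Nat.card (π 0).ker := by
      refine Nat.eq_of_mul_eq_mul_left (Nat.card_pos (α := (π 0).range)) ?_
      rw [e1, ← e2, mul_comm]
    omega
  have hZeq : center P = (π 0).range := by
    symm
    refine eq_of_le_of_card_ge hrange ?_
    refine Nat.le_of_mul_le_mul_right ?_ (show 0 < p ^ 2 from pow_pos hpp.pos 2)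
    calc Nat.card (center P) * p ^ 2 ≤ Nat.card (center P) * (center P).index :=
          Nat.mul_le_mul_left _ hidx2
      _ = Nat.card P := card_mul_index _
      _ = Nat.card (π 0).range * (π 0).range.index := (card_mul_index _).symm
      _ ≤ Nat.card (π 0).range * p ^ 2 := Nat.mul_le_mul_left _ hri
  have hZidx : (center P).index = p ^ 2 := le_antisymm (hZeq ▸ hri) hidx2
  have hroot : ∀ z ∈ center P, ∃ v : P, v ^ p = z := by
    intro z hz
    rw [hZeq] at hz
    obtain ⟨v, hv⟩ := hz
    exact ⟨v, by rw [← hv]; show v ^ p = v ^ p ^ (0 + 1); rw [zero_add, pow_one]⟩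
  -- a deepest root of `c`
  let Pr : ℕ → Prop := fun m => ∃ v : P, v ^ p ^ m = c
  have hbd : ∀ m, Pr m → m ≤ Nat.card P := by
    rintro m ⟨v, hv⟩
    have h1 : orderOf v ≠ 0 := (orderOf_pos v).ne'
    by_contra hlt
    obtain ⟨j, hj⟩ := IsPGroup.iff_orderOf.mp hP v
    have hjle : j ≤ m := by
      have h2 : j < p ^ j := Nat.lt_pow_self hpp.one_lt
      have h3 := Nat.le_of_dvd Nat.card_pos (hj ▸ orderOf_dvd_natCard v)
      omega
    refine hc1 (hv ▸ ?_)
    exact orderOf_dvd_iff_pow_eq_one.mp (hj ▸ Nat.pow_dvd_pow p hjle)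
  have hP1 : Pr 1 := by
    obtain ⟨v, hv⟩ := hroot c (hcent hcC)
    exact ⟨v, by rw [pow_one]; exact hv⟩
  set m := Nat.findGreatest Pr (Nat.card P) with hmdef
  have hm1 : 1 ≤ m := Nat.le_findGreatest (hbd 1 hP1) hP1
  obtain ⟨w, hw⟩ : Pr m := Nat.findGreatest_spec (hbd 1 hP1) hP1
  have hmax : ∀ v : P, v ^ p ^ (m + 1) ≠ c := fun v hv => by
    have := Nat.le_findGreatest (P := Pr) (hbd _ ⟨v, hv⟩) ⟨v, hv⟩
    omega
  have hwZ : w ∉ center P := by
    intro h
    obtain ⟨v, rfl⟩ := hroot w h
    exact hmax v (by rw [pow_succ', pow_mul]; exact hw)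
  obtain ⟨m', hm'⟩ : ∃ m', m = m' + 1 := ⟨m - 1, by omega⟩
  set K := (π m').ker with hK
  have hKmem : ∀ {x}, x ∈ K ↔ x ^ p ^ m = 1 := fun {x} => by rw [hm']; exact Iff.rfl
  have hφC : ∀ (a : A) (u : P), u ∈ commutator P → φ a u ∈ commutator P := fun a u hu =>
    ((inferInstance : (commutator P).Characteristic).fixed (φ a)).symm.le hu
  -- the effect of an operator on the root and on commutators
  have hop : ∀ a : A, ∃ k : ℕ, k.Coprime p ∧ (∀ u ∈ commutator P, φ a u = u ^ k) ∧
      ∃ o ∈ K, φ a w = w ^ k * o := by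
    intro a
    obtain ⟨k, hk⟩ := hgenc _ (hφC a c hcC)
    have hkp : k.Coprime p := by
      rw [Nat.coprime_comm, hpp.coprime_iff_not_dvd]
      rintro ⟨t, rfl⟩
      rw [pow_mul, hcp c hcC, one_pow] at hk
      exact hc1 ((φ a).injective (hk.symm.trans (map_one _).symm))
    refine ⟨k, hkp, fun u hu => ?_, (w ^ k)⁻¹ * φ a w, ?_, by group⟩
    · obtain ⟨i, rfl⟩ := hgenc u hu
      rw [map_pow, ← hk, ← pow_mul, ← pow_mul, mul_comm]
    · rw [hKmem]
      have h := hpow m' (w ^ k)⁻¹ (φ a w)
      rw [← hm'] at h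
      rw [h, inv_pow, ← map_pow, ← pow_mul, mul_comm k, pow_mul, hw, hk, inv_mul_cancel]
  have hcancel : ∀ (k : ℕ) (x y : P), k.Coprime p → ⁅w, x⁆ ^ k = ⁅w, y⁆ ^ k → ⁅w, x⁻¹ * y⁆ = 1 := by
    intro k x y hk h
    have e := Cfsg.Lib.PGroup.commutatorElement_mul_right hcent w x (x⁻¹ * y)
    rw [mul_inv_cancel_left] at e
    set u := ⁅w, x⁻¹ * y⁆
    have hcomm : Commute ⁅w, x⁆ u :=
      (mem_center_iff.mp (hcent (hcm w x)) u).symm
    rw [e, hcomm.mul_pow, left_eq_mul] at h
    exact orderOf_eq_one_iff.mp (Nat.eq_one_of_dvd_coprimes hk (orderOf_dvd_of_pow_eq_one h)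
      (orderOf_dvd_of_pow_eq_one (hcp u (hcm _ _))))
  by_cases hKZ : K ≤ center P
  · let N := centralizer ({w} : Set P)
    have hN : N.Normal := Normal.of_commutator_le _ (hcent.trans (center_le_centralizer _))
    have htop : N = ⊤ := hgen N hN fun a x => by
      obtain ⟨k, hkp, hku, o, ho, hao⟩ := hop a
      have h1 : ⁅φ a w, φ a x⁆ = ⁅w, x⁆ ^ k := by rw [← map_commutatorElement, hku _ (hcm w x)]
      have h2 : ⁅o, φ a x⁆ = 1 :=
        commutatorElement_eq_one_iff_mul_comm.mpr (mem_center_iff.mp (hKZ ho) _).symm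
      rw [hao, Cfsg.Lib.PGroup.commutatorElement_mul_left hcent, h2, mul_one,
        Cfsg.Lib.PGroup.commutatorElement_pow_left hcent] at h1
      rw [mem_centralizer_singleton_iff]
      exact (commutatorElement_eq_one_iff_mul_comm.mp (hcancel k x _ hkp h1.symm)).symm
    refine hwZ (mem_center_iff.mpr fun x => ?_)
    exact mem_centralizer_singleton_iff.mp (htop.ge (mem_top x))
  -- the kernel of the power map gives a fixed line
  obtain ⟨o₀, ho₀, ho₀Z⟩ := SetLike.not_le_iff_exists.mp hKZ
  let L := K ⊔ center P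
  have hwL : w ∉ L := by
    intro h
    obtain ⟨o, ho, z, hz, rfl⟩ := mem_sup_of_normal_right.mp h
    obtain ⟨v, rfl⟩ := hroot z hz
    refine hmax v ?_
    have h' := hpow m' o (v ^ p)
    rw [← hm', hw, hKmem.mp ho, one_mul, ← pow_mul] at h'
    rw [pow_succ']
    exact h'.symm
  have hLlt : center P < L := lt_of_le_of_ne le_sup_right fun e =>
    ho₀Z (e.ge (mem_sup_left ho₀))
  have hLidx : L.index = p := by
    have h1 := relIndex_mul_index hLlt.le
    rw [hZidx] at h1
    obtain ⟨i, hi, hi'⟩ := (Nat.dvd_prime_pow hpp).mp (Dvd.intro_left _ h1)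
    have hne2 : i ≠ 2 := by
      rintro rfl
      rw [hi'] at h1
      have : (center P).relIndex L = 1 :=
        Nat.eq_of_mul_eq_mul_right (pow_pos hpp.pos 2) (h1.trans (one_mul _).symm)
      exact hLlt.not_ge (relIndex_eq_one.mp this)
    have hne0 : i ≠ 0 := fun h => hwL (by
      rw [index_eq_one.mp (show L.index = 1 by rw [hi', h, pow_zero])]; exact mem_top w)
    rw [hi', show i = 1 by omega, pow_one]
  have hLcomm : ∀ x ∈ L, ∀ y ∈ L, Commute x y := by
    have hoL : o₀ ∈ L := mem_sup_left ho₀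
    have h0 : center P ⊔ zpowers o₀ = L := by
      by_contra hne
      have hle : center P ⊔ zpowers o₀ ≤ L := sup_le le_sup_right (zpowers_le.mpr hoL)
      have h1 := relIndex_mul_index hle
      rw [hLidx] at h1
      have h2 := relIndex_mul_index (le_sup_left : center P ≤ center P ⊔ zpowers o₀)
      rw [hZidx, ← h1, mul_comm ((center P ⊔ zpowers o₀).relIndex L) p, ← mul_assoc, sq] at h2
      obtain ⟨i, -, hi⟩ := (Nat.dvd_prime_pow hpp).mp
        (show (center P).relIndex (center P ⊔ zpowers o₀) ∣ p ^ 1 by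
          refine Dvd.intro ((center P ⊔ zpowers o₀).relIndex L) ?_
          refine Nat.eq_of_mul_eq_mul_right hpp.pos ?_
          rw [pow_one]
          linarith)
      rcases i with - | i
      · rw [pow_zero, relIndex_eq_one] at hi
        exact ho₀Z (hi (mem_sup_right (mem_zpowers o₀)))
      · have h3 : (center P ⊔ zpowers o₀).relIndex L = 1 := by
          rw [hi] at h2
          have h4 : p ^ (i + 1) * ((center P ⊔ zpowers o₀).relIndex L) = p := by
            refine Nat.eq_of_mul_eq_mul_right hpp.pos ?_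
            linarith
          have h5 : p ≤ p ^ (i + 1) := Nat.le_self_pow (Nat.succ_ne_zero i) p
          have h6 : 0 < (center P ⊔ zpowers o₀).relIndex L := by
            by_contra h7
            rw [Nat.eq_zero_of_not_pos h7, mul_zero] at h4
            exact hpp.ne_zero h4.symm
          nlinarith [hpp.two_le]
        exact hne (le_antisymm hle (relIndex_eq_one.mp h3))
    intro x hx y hy
    rw [← h0] at hx hy
    have hle : center P ⊔ zpowers o₀ ≤ centralizer ((center P ⊔ zpowers o₀ : Subgroup P) : Set P) := by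
      refine sup_le (center_le_centralizer _) (zpowers_le.mpr (mem_centralizer_iff.mpr fun z hz => ?_))
      have : center P ⊔ zpowers o₀ ≤ centralizer ({o₀} : Set P) :=
        sup_le (center_le_centralizer _) (zpowers_le.mpr (mem_centralizer_singleton_iff.mpr rfl))
      exact mem_centralizer_singleton_iff.mp (this hz)
    exact mem_centralizer_iff.mp (hle hy) x hx
  have hLφ : ∀ (a : A), ∀ x ∈ L, φ a x ∈ L := by
    intro a x hx
    obtain ⟨o, ho, z, hz, rfl⟩ := mem_sup_of_normal_right.mp hx
    rw [map_mul]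
    refine mul_mem_sup ?_ (((inferInstance : (center P).Characteristic).fixed (φ a)).symm.le hz)
    rw [hKmem, ← map_pow, hKmem.mp ho, map_one]
  have hfix : ∀ (a : A), ∀ y ∈ L, y⁻¹ * φ a y ∈ center P := by
    intro a y hy
    obtain ⟨k, hkp, hku, o, ho, hao⟩ := hop a
    have h1 : ⁅φ a w, φ a y⁆ = ⁅w, y⁆ ^ k := by rw [← map_commutatorElement, hku _ (hcm w y)]
    have h2 : ⁅o, φ a y⁆ = 1 :=
      commutatorElement_eq_one_iff_mul_comm.mpr (hLcomm o (mem_sup_left ho) _ (hLφ a y hy)).eq
    rw [hao, Cfsg.Lib.PGroup.commutatorElement_mul_left hcent, h2, mul_one,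
      Cfsg.Lib.PGroup.commutatorElement_pow_left hcent] at h1
    have hu : Commute w (y⁻¹ * φ a y) := commutatorElement_eq_one_iff_mul_comm.mp (hcancel k y _ hkp h1.symm)
    have huL : y⁻¹ * φ a y ∈ L := mul_mem (inv_mem hy) (hLφ a y hy)
    have htop : centralizer ({y⁻¹ * φ a y} : Set P) = ⊤ := by
      refine eq_top_of_lt_of_index hLidx (lt_of_le_of_ne ?_ fun e => hwL (e.ge ?_))
      · exact fun z hz => mem_centralizer_singleton_iff.mpr (hLcomm z hz _ huL).eq
      · exact mem_centralizer_singleton_iff.mpr hu.eq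
    exact mem_center_iff.mpr fun z => mem_centralizer_singleton_iff.mp (htop.ge (mem_top z))
  letI : CommGroup (P ⧸ center P) := { (inferInstance : Group (P ⧸ center P)) with
    mul_comm := fun s t => by
      obtain ⟨s, rfl⟩ := QuotientGroup.mk'_surjective _ s
      obtain ⟨t, rfl⟩ := QuotientGroup.mk'_surjective _ t
      rw [← commutatorElement_eq_one_iff_mul_comm, ← map_commutatorElement]
      exact (QuotientGroup.eq_one_iff _).mpr (hcent (hcm s t)) }
  letI := Fintype.ofFinite A
  let Nm : P →* P ⧸ center P := MonoidHom.mk' (fun x => ∏ a : A, QuotientGroup.mk' (center P) (φ a x))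
    (fun x y => by simp only [map_mul, Finset.prod_mul_distrib])
  have htop : Nm.ker = ⊤ := hgen _ inferInstance fun b x => by
    rw [MonoidHom.mem_ker, map_mul, map_inv, inv_mul_eq_one]
    show ∏ a : A, QuotientGroup.mk' (center P) (φ a x) = ∏ a : A, QuotientGroup.mk' (center P) (φ a (φ b x))
    refine Fintype.prod_equiv (Equiv.mulRight b⁻¹) _ _ fun a => ?_
    show QuotientGroup.mk' (center P) (φ a x) = QuotientGroup.mk' (center P) (φ (a * b⁻¹) (φ b x))
    rw [← MulAut.mul_apply, ← map_mul, inv_mul_cancel_right]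
  have hN0 : Nm o₀ = 1 := MonoidHom.mem_ker.mp (htop.ge (mem_top o₀))
  have hconst : Nm o₀ = QuotientGroup.mk' (center P) o₀ ^ Nat.card A := by
    show ∏ a : A, QuotientGroup.mk' (center P) (φ a o₀) = _
    rw [Nat.card_eq_fintype_card, ← Finset.card_univ, ← Finset.prod_const]
    refine Finset.prod_congr rfl fun a _ => (QuotientGroup.eq.mpr ?_).symm
    exact hfix a o₀ (mem_sup_left ho₀)
  rw [hconst] at hN0
  apply ho₀Z
  rw [← QuotientGroup.eq_one_iff]
  obtain ⟨j, hj⟩ := hP o₀
  refine orderOf_eq_one_iff.mp (Nat.eq_one_of_dvd_coprimes (hcop.pow_right j)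
    (orderOf_dvd_of_pow_eq_one hN0) (orderOf_dvd_of_pow_eq_one ?_))
  rw [← QuotientGroup.mk_pow, hj, QuotientGroup.mk_one]

/-- A metacyclic group of class two without trivial quotient under a coprime operator group is abelian. -/
theorem class_two {P : Type u} [Group P] [Finite P] (hp2 : p ≠ 2) (hP : IsPGroup p P)
    (hm : Cfsg.IsMetacyclic P) {A : Type v} [Group A] [Finite A] (φ : A →* MulAut P)
    (hcop : (Nat.card A).Coprime p)
    (hgen : ∀ N : Subgroup P, N.Normal → (∀ (a : A) (x : P), x⁻¹ * φ a x ∈ N) → N = ⊤)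
    (hcent : commutator P ≤ center P) : commutator P = ⊥ := by
  classical
  have hpp : p.Prime := Fact.out
  by_contra hne
  haveI hcyc := Cfsg.Lib.PGroup.Huppert.isCyclic_commutator_of_metacyclic hP hm
  obtain ⟨⟨c, hcC⟩, hgenc⟩ := IsCyclic.exists_generator (α := commutator P)
  have hc1 : c ≠ 1 := by
    rintro rfl
    refine hne (eq_bot_iff.mpr fun x hx => ?_)
    obtain ⟨i, hi⟩ := mem_zpowers_iff.mp (hgenc ⟨x, hx⟩)
    rw [mem_bot, ← show ((⟨1, hcC⟩ : commutator P) ^ i : P) = x from congrArg Subtype.val hi]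
    simp
  have hcomm_eq : commutator P = zpowers c := by
    refine le_antisymm (fun x hx => ?_) (zpowers_le.mpr hcC)
    obtain ⟨i, hi⟩ := mem_zpowers_iff.mp (hgenc ⟨x, hx⟩)
    exact mem_zpowers_iff.mpr ⟨i, congrArg Subtype.val hi⟩
  let M := zpowers (c ^ p)
  haveI : M.Normal := ⟨fun u hu g => by
    have : u ∈ center P := (zpowers_le.mpr (pow_mem (hcent hcC) p)) hu
    rw [mem_center_iff.mp this g, mul_inv_cancel_right]
    exact hu⟩
  have hMφ : ∀ a : A, M.map (φ a : P →* P) = M := by
    intro a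
    refine eq_of_le_of_card_ge ?_ (card_map_of_injective (φ a).injective).ge
    rw [map_le_iff_le_comap, zpowers_le, mem_comap]
    have h : φ a c ∈ zpowers c := hcomm_eq ▸
      ((inferInstance : (commutator P).Characteristic).fixed (φ a)).symm.le hcC
    obtain ⟨i, hi⟩ := mem_zpowers_iff.mp h
    refine mem_zpowers_iff.mpr ⟨i, ?_⟩
    show (c ^ p) ^ i = φ a (c ^ p)
    rw [map_pow, ← hi, ← zpow_natCast, ← zpow_natCast, ← zpow_mul, ← zpow_mul, mul_comm]
  let bar : A →* MulAut (P ⧸ M) :=
    { toFun := fun a => QuotientGroup.congr M M (φ a) (hMφ a)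
      map_one' := MulEquiv.ext fun z => by
        obtain ⟨x, rfl⟩ := QuotientGroup.mk'_surjective _ z
        show QuotientGroup.mk' M (φ 1 x) = _
        rw [map_one]; rfl
      map_mul' := fun a b => MulEquiv.ext fun z => by
        obtain ⟨x, rfl⟩ := QuotientGroup.mk'_surjective _ z
        show QuotientGroup.mk' M (φ (a * b) x) = QuotientGroup.mk' M (φ a (φ b x))
        rw [map_mul]; rfl }
  let f := QuotientGroup.mk' M
  have hf : Function.Surjective f := QuotientGroup.mk'_surjective M
  have hcm' : commutator (P ⧸ M) = zpowers (f c) := by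
    rw [_root_.commutator_def, ← map_top_of_surjective f hf, ← map_commutator, ← _root_.commutator_def,
      hcomm_eq, MonoidHom.map_zpowers]
  refine class_two_prime hp2 (hP.to_quotient M) (Cfsg.Lib.PGroup.Huppert.isMetacyclic_map f hf hm)
    bar hcop ?_ ?_ ?_
  · intro N hN h
    have := hgen (N.comap f) (hN.comap f) fun a x => by
      have := h a (f x)
      rw [mem_comap, map_mul, map_inv]
      exact this
    rw [← map_comap_eq_self_of_surjective hf N, this, map_top_of_surjective f hf]
  · rw [hcm', zpowers_le, mem_center_iff]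
    intro z
    obtain ⟨x, rfl⟩ := hf z
    rw [← map_mul, ← map_mul, mem_center_iff.mp (hcent hcC) x]
  · rw [hcm', Nat.card_zpowers]
    have hdiv : orderOf (f c) ∣ p := orderOf_dvd_of_pow_eq_one (by
      rw [← map_pow]; exact (QuotientGroup.eq_one_iff _).mpr (mem_zpowers _))
    refine ((Nat.dvd_prime hpp).mp hdiv).resolve_left fun h => ?_
    obtain ⟨i, hi⟩ := mem_zpowers_iff.mp ((QuotientGroup.eq_one_iff c).mp (orderOf_eq_one_iff.mp h))
    obtain ⟨j, hj⟩ := IsPGroup.iff_orderOf.mp hP c
    have h1 : c ^ ((p : ℤ) * i - 1) = 1 := by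
      rw [zpow_sub, zpow_one, zpow_mul, zpow_natCast, hi, mul_inv_cancel]
    rw [← orderOf_dvd_iff_zpow_eq_one, hj] at h1
    rcases j with - | j
    · rw [pow_zero, orderOf_eq_one_iff] at hj; exact hc1 hj
    have h2 : (p : ℤ) ∣ (p : ℤ) * i - 1 := (Int.natCast_dvd_natCast.mpr (dvd_pow_self p (Nat.succ_ne_zero j))).trans h1
    have h3 : (p : ℤ) ∣ 1 := by simpa using (dvd_mul_right (p : ℤ) i).sub h2
    exact hpp.one_lt.ne' (Nat.dvd_one.mp (Int.natCast_dvd_natCast.mp (by exact_mod_cast h3)))

/-- In subgroup form: `[R, A] = R` and `R` metacyclic force `R` to be abelian. -/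
theorem isMulCommutative_of_commutator_eq {G : Type u} [Group G] [Finite G] (hp2 : p ≠ 2)
    (R A : Subgroup G) (hR : IsPGroup p R) (hm : Cfsg.IsMetacyclic R)
    (hA : A ≤ normalizer (R : Set G)) (hcop : (Nat.card A).Coprime p) (hRA : ⁅R, A⁆ = R) :
    IsMulCommutative R := by
  let φ : A →* MulAut R := (Cfsg.Lib.Local.autOf R).comp (Subgroup.inclusion hA)
  let D := (commutator R).map R.subtype
  haveI : IsCyclic (commutator R) := Cfsg.Lib.PGroup.Huppert.isCyclic_commutator_of_metacyclic hR hm
  haveI : IsCyclic D := isCyclic_of_surjective (R.subtype.subgroupMap (commutator R))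
    (R.subtype.subgroupMap_surjective _)
  have hnorm : normalizer (R : Set G) ≤ normalizer (D : Set G) := by
    intro g hg
    rw [mem_normalizer_iff_map_conj_eq] at hg ⊢
    show ((commutator R).map R.subtype).map _ = (commutator R).map R.subtype
    rw [map_subtype_commutator, Subgroup.map_commutator, hg]
  have hDc : R ≤ centralizer (D : Set G) := by
    conv_lhs => rw [← hRA]
    exact commutator_le_centralizer_cyclic R A D (le_normalizer.trans hnorm) (hA.trans hnorm)
  have hcent : commutator R ≤ center R := fun u hu => mem_center_iff.mpr fun x =>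
    Subtype.ext (mem_centralizer_iff.mp (hDc x.2) u ⟨u, hu, rfl⟩).symm
  have h := class_two hp2 hR hm φ hcop ?_ hcent
  · refine ⟨⟨fun a b => ?_⟩⟩
    have hmem : ⁅a, b⁆ ∈ commutator R := commutator_mem_commutator (mem_top a) (mem_top b)
    rwa [h, mem_bot, commutatorElement_eq_one_iff_mul_comm] at hmem
  · intro N _ hN
    have hle : ⁅R, A⁆ ≤ N.map R.subtype := by
      rw [Subgroup.commutator_le]
      intro r hr α hα
      refine ⟨_, hN ⟨α, hα⟩ (⟨r, hr⟩ : R)⁻¹, ?_⟩
      simp [φ, Cfsg.Lib.Local.autOf, commutatorElement_def, mul_assoc]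
    rw [eq_top_iff]
    intro x _
    obtain ⟨y, hy, e⟩ := hle (hRA.ge x.2)
    exact Subtype.ext (e : (y : G) = x) ▸ hy

end Cfsg.Lib.Local.MetacyclicOperator
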