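import Cfsg.Agent.Lib.Local.GlaubermanZJ
import Cfsg.Agent.Lib.Thompson.Transport

/-!
# The `ZJ`-theorem for the elementary abelian version of the Thompson subgroup

`omegaZ p Q` is `Ω₁(Z(J(Q)))` for the Thompson subgroup generated by the elementary abelian
subgroups of largest order.
-/

set_option autoImplicit false
set_option linter.style.haveILetI false

universe u

namespace Cfsg.Lib.Local.GlaubermanZJ

open Subgroup Cfsg
open scoped commutatorElement

variable {G : Type u} [Group G] {p : ℕ}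

/-- `A` is an elementary abelian subgroup of `P` of largest order. -/
def IsMaxEAIn (p : ℕ) (P A : Subgroup G) : Prop :=
  A ≤ P ∧ IsElementaryAbelian p A ∧ ∀ C ≤ P, IsElementaryAbelian p C → Nat.card C ≤ Nat.card A

/-- `Ω₁(Z(J(Q)))`. -/
def omegaZ (p : ℕ) (Q : Subgroup G) : Subgroup G :=
  omegaOne p (centerThompsonOf p Q)

theorem isMaxEAIn_iff {P A : Subgroup G} :
    IsMaxEAIn p P A ↔ A ≤ P ∧ A.subgroupOf P ∈ maxElementaryAbelianSubgroups p P := by
  constructor
  · rintro ⟨hAP, hA, hmax⟩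
    refine ⟨hAP, Thompson.isEA_subgroupOf hA P, fun C hC => ?_⟩
    rw [Nat.card_congr (subgroupOfEquivOfLe hAP).toEquiv, ← card_map_of_injective P.subtype_injective]
    exact hmax _ (map_subtype_le C) (Thompson.isEA_map _ hC)
  · rintro ⟨hAP, hA, hmax⟩
    refine ⟨hAP, ?_, fun C hC hCe => ?_⟩
    · have h := Thompson.isEA_map P.subtype hA
      rwa [map_subgroupOf_eq_of_le hAP] at h
    · have h := hmax (C.subgroupOf P) (Thompson.isEA_subgroupOf hCe P)
      rwa [Nat.card_congr (subgroupOfEquivOfLe hAP).toEquiv,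
        Nat.card_congr (subgroupOfEquivOfLe hC).toEquiv] at h

theorem thompsonSubgroupOf_eq_sSup (P : Subgroup G) :
    thompsonSubgroupOf p P = sSup {A | IsMaxEAIn p P A} := by
  apply le_antisymm
  · rw [thompsonSubgroupOf, thompsonSubgroup, Subgroup.map_le_iff_le_comap, sSup_le_iff]
    intro B hB
    rw [← Subgroup.map_le_iff_le_comap]
    refine le_sSup (isMaxEAIn_iff.2 ⟨map_subtype_le B, ?_⟩)
    rwa [subgroupOf, comap_map_eq_self_of_injective P.subtype_injective]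
  · rw [sSup_le_iff]
    intro A hA
    obtain ⟨hAP, hA'⟩ := isMaxEAIn_iff.1 hA
    rw [← map_subgroupOf_eq_of_le hAP]
    exact Subgroup.map_mono (le_sSup hA')

theorem exists_isMaxEAIn [Finite G] (P : Subgroup G) : ∃ A, IsMaxEAIn p P A := by
  obtain ⟨A, hA, hmax⟩ := Set.exists_max_image {A : Subgroup G | A ≤ P ∧ IsElementaryAbelian p A}
    (fun A => Nat.card A) (Set.toFinite _) ⟨⊥, bot_le, Thompson.isElementaryAbelian_bot⟩
  exact ⟨A, hA.1, hA.2, fun C hC hCc => hmax C ⟨hC, hCc⟩⟩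

theorem IsMaxEAIn.mem_of_commute [Finite G] {P A : Subgroup G} (hA : IsMaxEAIn p P A) {x : G}
    (hx : x ∈ P) (hxp : x ^ p = 1) (h : ∀ a ∈ A, Commute x a) : x ∈ A := by
  obtain ⟨hAP, hAe, hmax⟩ := hA
  have hC : IsElementaryAbelian p (closure ((A : Set G) ∪ {x})) := by
    refine Thompson.isEA_closure ?_ ?_
    · rintro s (hs | rfl) t (ht | rfl)
      · exact Thompson.isEA_commute hAe hs ht
      · exact (h s hs).symm
      · exact h t ht
      · exact Commute.refl _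
    · rintro s (hs | rfl)
      · exact hAe.2 s hs
      · exact hxp
  have hle : closure ((A : Set G) ∪ {x}) ≤ P :=
    (closure_le _).2 (Set.union_subset hAP (Set.singleton_subset_iff.2 hx))
  have he := Subgroup.eq_of_le_of_card_ge (fun a ha => subset_closure (Or.inl ha)) (hmax _ hle hC)
  exact he.ge (subset_closure (Or.inr rfl))

theorem omegaZ_le (Q : Subgroup G) : omegaZ p Q ≤ centerThompsonOf p Q :=
  (closure_le _).2 fun _ hx => hx.1

theorem omegaZ_le_of_isMaxEAIn [Finite G] {P A : Subgroup G} (hA : IsMaxEAIn p P A) :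
    omegaZ p P ≤ A := by
  refine (closure_le _).2 fun x hx => ?_
  refine hA.mem_of_commute (map_subtype_le _ hx.1.1) hx.2 fun a ha => ?_
  have haJ : a ∈ thompsonSubgroupOf p P := by
    rw [thompsonSubgroupOf_eq_sSup]
    exact le_sSup (show A ∈ {A | IsMaxEAIn p P A} from hA) ha
  exact (mem_centralizer_iff.1 hx.1.2 a haJ).symm

theorem map_omegaOne {H : Type u} [Group H] (f : G →* H) (hf : Function.Injective f)
    (K : Subgroup G) : (omegaOne p K).map f = omegaOne p (K.map f) := by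
  rw [omegaOne, omegaOne, MonoidHom.map_closure]
  congr 1
  ext y
  constructor
  · rintro ⟨x, ⟨hxK, hxp⟩, rfl⟩
    exact ⟨⟨x, hxK, rfl⟩, by rw [← map_pow, hxp, map_one]⟩
  · rintro ⟨⟨x, hxK, rfl⟩, hxp⟩
    exact ⟨x, ⟨hxK, hf (by rw [map_pow, hxp, map_one])⟩, rfl⟩

theorem map_centerThompsonOf {H : Type u} [Group H] (f : G →* H) (hf : Function.Injective f)
    (Q : Subgroup G) : (centerThompsonOf p Q).map f = centerThompsonOf p (Q.map f) := by
  have h := Thompson.map_zenter f (thompsonSubgroupOf p Q) hf.injOn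
  rw [Thompson.map_thompsonSubgroupOf f Q hf.injOn] at h
  exact h

theorem map_omegaZ {H : Type u} [Group H] (f : G →* H) (hf : Function.Injective f)
    (Q : Subgroup G) : (omegaZ p Q).map f = omegaZ p (Q.map f) := by
  rw [omegaZ, omegaZ, map_omegaOne f hf, map_centerThompsonOf f hf]

theorem normalizer_le_normalizer_omegaZ [Finite G] (Q : Subgroup G) :
    normalizer (Q : Set G) ≤ normalizer (omegaZ p Q : Set G) := fun g hg => by
  refine mem_normalizer_fintype fun x hx => ?_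
  have hQ : Q.map (MulAut.conj g).toMonoidHom = Q := by
    refine Subgroup.eq_of_le_of_card_ge ?_ (le_of_eq
      (Nat.card_congr (Q.equivMapOfInjective _ (MulAut.conj g).injective).toEquiv))
    rintro _ ⟨y, hy, rfl⟩
    exact (mem_normalizer_iff.1 hg y).1 hy
  have h := map_omegaZ (p := p) (MulAut.conj g).toMonoidHom (MulAut.conj g).injective Q
  rw [hQ] at h
  exact h.le ⟨x, hx, rfl⟩

/-- `omegaZ` is the image of `omegaCenterThompson`. -/
theorem map_omegaCenterThompson (Q : Subgroup G) :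
    (omegaCenterThompson p Q).map Q.subtype = omegaZ p Q := by
  rw [omegaCenterThompson, map_omegaOne _ Q.subtype_injective, omegaZ]
  congr 1
  exact Thompson.map_zenter Q.subtype (thompsonSubgroup p Q) Q.subtype_injective.injOn

theorem familyInf_isMaxEAIn [Finite G] {P Q : Subgroup G} (hQP : Q ≤ P)
    (h : ∃ A ∈ {A | IsMaxEAIn p P A}, A ≤ Q) :
    familyInf {A | IsMaxEAIn p P A} Q = omegaZ p Q := by
  obtain ⟨A₀, hA₀, hA₀Q⟩ := h
  have hiff : ∀ A, (IsMaxEAIn p P A ∧ A ≤ Q) ↔ IsMaxEAIn p Q A := fun A => by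
    constructor
    · exact fun hA => ⟨hA.2, hA.1.2.1, fun C hC hCc => hA.1.2.2 C (hC.trans hQP) hCc⟩
    · exact fun hA => ⟨⟨hA.1.trans hQP, hA.2.1, fun C hC hCc =>
        (hA₀.2.2 C hC hCc).trans (hA.2.2 A₀ hA₀Q hA₀.2.1)⟩, hA.1⟩
  refine le_antisymm (fun x hx => ?_) (le_iInf₂ fun A hA => omegaZ_le_of_isMaxEAIn ((hiff A).1 hA))
  have hxA : x ∈ A₀ := familyInf_le (𝒜 := {A | IsMaxEAIn p P A}) hA₀ hA₀Q hx
  refine subset_closure ⟨⟨?_, ?_⟩, hA₀.2.1.2 x hxA⟩
  · rw [thompsonSubgroupOf_eq_sSup]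
    exact le_sSup (show A₀ ∈ {A | IsMaxEAIn p Q A} from (hiff A₀).1 ⟨hA₀, hA₀Q⟩) hxA
  · have h1 : thompsonSubgroupOf p Q ≤ centralizer {x} := by
      rw [thompsonSubgroupOf_eq_sSup, sSup_le_iff]
      intro A hA a ha
      exact mem_centralizer_singleton_iff.2 (Thompson.isEA_commute hA.2.1 ha
        (familyInf_le (𝒜 := {A | IsMaxEAIn p P A}) ((hiff A).2 hA).1 hA.1 hx))
    exact fun y hy => mem_centralizer_singleton_iff.1 (h1 hy)

variable [Finite G] [hp : Fact p.Prime]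

/-- Glauberman's replacement for elementary abelian subgroups. -/
theorem exists_replacementEAIn (h2 : p ≠ 2) {P : Subgroup G} (hP : IsPGroup p P)
    {D : Subgroup G} (hDP : D ≤ P) (hPD : P ≤ normalizer (D : Set G))
    {B : Subgroup G} [B.Normal] (hBP : B ≤ P) {A : Subgroup G} (hA : IsMaxEAIn p D A)
    (hBA : ⁅B, B⁆ ≤ A) (hnot : ¬ B ≤ normalizer (A : Set G)) :
    ∃ A', IsMaxEAIn p D A' ∧ ⁅B, B⁆ ≤ A' ∧ A ⊓ B < A' ⊓ B ∧ A' ≤ normalizer (A : Set G) := by
  have hAc : IsMulCommutative A := hA.2.1.1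
  set N := normalizer (A : Set G) ⊓ P with hN
  have hNlt : N < N ⊔ B := lt_of_le_not_ge le_sup_left fun h =>
    hnot ((le_sup_right.trans h).trans inf_le_left)
  have hNBp : IsPGroup p (N ⊔ B : Subgroup G) := hP.to_le (sup_le inf_le_right hBP)
  obtain ⟨g, ⟨hgM, hgN⟩, hgnot⟩ := SetLike.exists_of_lt (Cfsg.Lib.Fusion.lt_inf_normalizer hNBp hNlt)
  obtain ⟨n, hn, b, hb, rfl⟩ := mem_sup_of_normal_right.1 hgM
  have hbN : b ∈ normalizer (N : Set G) := by
    simpa using mul_mem (inv_mem (le_normalizer hn)) hgN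
  have hbA : b ∉ normalizer (A : Set G) := fun h => hgnot (mul_mem hn ⟨h, hBP hb⟩)
  have hAN : A ≤ N := le_inf le_normalizer (hA.1.trans hDP)
  have h1 : A.map (MulAut.conj b).toMonoidHom ≤ normalizer (A : Set G) := by
    rintro _ ⟨a, ha, rfl⟩
    exact ((mem_normalizer_iff.1 hbN a).1 (hAN ha)).1
  have h2' : A ≤ normalizer ((A.map (MulAut.conj b).toMonoidHom : Subgroup G) : Set G) := fun a ha => by
    have h3 : b⁻¹ * a * b ∈ normalizer (A : Set G) := by
      have := ((mem_normalizer_iff.1 (inv_mem hbN) a).1 (hAN ha)).1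
      simpa using this
    refine mem_normalizer_fintype fun x hx => ?_
    obtain ⟨y, hy, rfl⟩ := hx
    exact ⟨_, (mem_normalizer_iff.1 h3 y).1 hy, by simp [mul_assoc]⟩
  have hodd : ∀ x ∈ ⁅B, B⁆, b * x * b⁻¹ = x⁻¹ → x = 1 := fun x hx h =>
    eq_one_of_conj_eq_inv h2 hP (hBP hb) (hDP (hA.1 (hBA hx))) h
  obtain ⟨r1, r2, r3, r4, r5, -⟩ := repl_spec hAc hBA hodd hb h1 h2' hbA
  have hrP : repl A b ≤ D := sup_le (inf_le_left.trans hA.1) ((closure_le _).2 (by
    rintro _ ⟨a, ha, rfl⟩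
    exact mul_mem ((mem_normalizer_iff.1 (hPD (hBP hb)) a).1 (hA.1 ha)) (inv_mem (hA.1 ha))))
  have hr : IsMaxEAIn p D (repl A b) :=
    ⟨hrP, ⟨r1, repl_pow_eq_one hAc r1 h1 h2' (hp.out.odd_of_ne_two h2) hA.2.1.2⟩,
      fun C hC hCc => (hA.2.2 C hC hCc).trans r2⟩
  exact ⟨repl A b, hr, r3, r4, r5⟩

theorem exists_replacementEA (h2 : p ≠ 2) {P : Subgroup G} (hP : IsPGroup p P)
    {B : Subgroup G} [B.Normal] (hBP : B ≤ P) {A : Subgroup G} (hA : IsMaxEAIn p P A)
    (hBA : ⁅B, B⁆ ≤ A) (hnot : ¬ B ≤ normalizer (A : Set G)) :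
    ∃ A', IsMaxEAIn p P A' ∧ ⁅B, B⁆ ≤ A' ∧ A ⊓ B < A' ⊓ B ∧ A' ≤ normalizer (A : Set G) :=
  exists_replacementEAIn h2 hP le_rfl le_normalizer hBP hA hBA hnot

theorem exists_normalized_maxEAIn (h2 : p ≠ 2) {P : Subgroup G} (hP : IsPGroup p P)
    {B : Subgroup G} [B.Normal] (hBP : B ≤ P)
    (h : ∃ A, IsMaxEAIn p P A ∧ ⁅B, B⁆ ≤ A ∧ ¬ B ≤ A) :
    ∃ A, IsMaxEAIn p P A ∧ ⁅B, B⁆ ≤ A ∧ ¬ B ≤ A ∧ B ≤ normalizer (A : Set G) := by
  obtain ⟨A, ⟨hA, hBA, hA''⟩, hmax⟩ := Set.exists_max_image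
    {A | IsMaxEAIn p P A ∧ ⁅B, B⁆ ≤ A ∧ ¬ B ≤ A}
    (fun A => Nat.card (A ⊓ B : Subgroup G)) (Set.toFinite _) h
  refine ⟨A, hA, hBA, hA'', ?_⟩
  by_contra hnot
  obtain ⟨A', h1, h3, hlt, hnorm⟩ := exists_replacementEA h2 hP hBP hA hBA hnot
  exact absurd (hmax A' ⟨h1, h3, fun hB => hnot (hB.trans hnorm)⟩)
    (not_le.2 (Set.Finite.card_lt_card (Set.toFinite _) hlt))

/-- The `ZJ`-theorem for elementary abelian subgroups. -/
theorem omegaZ_normal (h2 : p ≠ 2) (hc : centralizer (pCore p G : Set G) ≤ pCore p G)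
    (hst : ∀ (V : Subgroup G) [V.Normal], IsPGroup p V → IsPStableOn p V) (P : Sylow p G) :
    (omegaZ p (P : Subgroup G)).Normal := by
  obtain ⟨A₀, hA₀⟩ := exists_isMaxEAIn (p := p) (P : Subgroup G)
  rw [← familyInf_isMaxEAIn le_rfl ⟨A₀, hA₀, hA₀.1⟩]
  refine familyInf_normal hc hst P {A | IsMaxEAIn p (P : Subgroup G) A}
    (fun A hA => ⟨hA.1, hA.2.1.1⟩) ⟨A₀, hA₀⟩ (fun Q hQ hex => ?_) (fun B hBn hBP hcl hex => ?_)
  · rw [familyInf_isMaxEAIn hQ hex]
    exact normalizer_le_normalizer_omegaZ Q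
  · haveI := hBn
    exact exists_normalized_maxEAIn h2 P.isPGroup' hBP hex

theorem omegaZ_characteristic (h2 : p ≠ 2) (hc : centralizer (pCore p G : Set G) ≤ pCore p G)
    (hst : ∀ (V : Subgroup G) [V.Normal], IsPGroup p V → IsPStableOn p V) (P : Sylow p G) :
    (omegaZ p (P : Subgroup G)).Characteristic := by
  refine characteristic_iff_map_eq.2 fun e => ?_
  rw [map_omegaZ e.toMonoidHom e.injective]
  let P' : Sylow p G := P.mapSurjective (f := e.toMonoidHom) e.surjective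
  obtain ⟨g, hg⟩ := MulAction.exists_smul_eq G P P'
  have hP' : (P' : Subgroup G) = (P : Subgroup G).map (MulAut.conj g).toMonoidHom := by
    rw [← hg, Sylow.coe_subgroup_smul]
    rfl
  rw [show (P : Subgroup G).map e.toMonoidHom = (P : Subgroup G).map (MulAut.conj g).toMonoidHom from
    hP', ← map_omegaZ _ (MulAut.conj g).injective]
  haveI := omegaZ_normal h2 hc hst P
  exact Subgroup.eq_of_le_of_card_ge (by
      rintro _ ⟨z, hz, rfl⟩
      exact this.conj_mem z hz g)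
    (le_of_eq (Nat.card_congr ((omegaZ p (P : Subgroup G)).equivMapOfInjective _
      (MulAut.conj g).injective).toEquiv))

theorem le_pCore_of_abelian_normalized
    (hc : centralizer (pCore p G : Set G) ≤ pCore p G)
    (hst : ∀ (V : Subgroup G) [V.Normal], IsPGroup p V → IsPStableOn p V) (P : Sylow p G)
    {Y : Subgroup G} (hY : IsMulCommutative Y) (hPY : (P : Subgroup G) ≤ normalizer (Y : Set G)) :
    Y ≤ pCore p G := by
  intro z hz
  have hO : IsPGroup p (pCore p G) := Cfsg.Lib.Core.pCore_isPGroup p G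
  have hOP : pCore p G ≤ (P : Subgroup G) := le_sylow_of_normal hO P
  have hq := hst (pCore p G) hO z (by
    rw [commutator_eq_bot_iff_le_centralizer, commutator_le]
    intro x hx y hy w hw
    have hyY : y ∈ Y := zpowers_le.2 hz hy
    have h1 : ⁅x, y⁆ ∈ Y :=
      Y.mul_mem ((mem_normalizer_iff.1 (hPY (hOP hx)) y).1 hyY) (Y.inv_mem hyY)
    exact congrArg Subtype.val (hY.is_comm.comm ⟨w, zpowers_le.2 hz hw⟩ ⟨_, h1⟩))
  haveI : (centralizer (pCore p G : Set G)).Normal := inferInstance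
  have hker : IsPGroup p (QuotientGroup.mk' (centralizer (pCore p G : Set G))).ker := by
    rw [QuotientGroup.ker_mk']
    exact hO.to_le hc
  have h1 := (Cfsg.Lib.Core.pCore_isPGroup p (G ⧸ centralizer (pCore p G : Set G))).comap_of_ker_isPGroup
    (QuotientGroup.mk' _) hker
  exact Cfsg.Lib.Core.le_pCore' (Subgroup.Normal.comap inferInstance _) h1 hq

end Cfsg.Lib.Local.GlaubermanZJ
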