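import Cfsg.Prelude.Def_BaumannBlocks
import Cfsg.Agent.Lib.Local.GlaubermanElementary
import Cfsg.Agent.Lib.Local.Basic
import Cfsg.Agent.Lib.Fusion.Basic
import Mathlib.LinearAlgebra.Matrix.SpecialLinearGroup
import Mathlib.LinearAlgebra.Projectivization.PSL.PSL2

/-!
# Elementary facts on blocks relative to the Baumann subgroup

Weak closure of `B(T)`, invariant `p`-subgroups normalize blocks, the module `W_E` is irreducible
modulo `C(E)`, central in `O_p(G)`, and is moved by `J(T)`.
-/

set_option autoImplicit false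
set_option linter.style.haveILetI false

namespace Cfsg.Lib.Local.BaumannBlock

open Subgroup Cfsg Cfsg.Lib Cfsg.Lib.Local.GlaubermanZJ
open scoped commutatorElement

universe u

variable {G : Type u} [Group G] {p : ℕ}

/-! ### Weak closure of `B(T)` -/

theorem baumann_le (T : Subgroup G) : baumannSubgroupOf p T ≤ T := inf_le_left

theorem thompson_le_baumann (T : Subgroup G) :
    thompsonSubgroupOf p T ≤ baumannSubgroupOf p T := fun x hx =>
  ⟨map_subtype_le _ hx, mem_centralizer_iff.2 fun z hz =>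
    (mem_centralizer_iff.1 (omegaZ_le T hz).2 x hx).symm⟩

theorem map_baumann (e : G ≃* G) (T : Subgroup G) :
    (baumannSubgroupOf p T).map e.toMonoidHom = baumannSubgroupOf p (T.map e.toMonoidHom) := by
  have h := map_omegaZ (p := p) e.toMonoidHom e.injective T
  unfold baumannSubgroupOf omegaZ at *
  rw [Subgroup.map_inf _ _ _ e.injective, ← h]
  congr 1
  ext x
  simp only [mem_map, mem_centralizer_iff, MulEquiv.coe_toMonoidHom, SetLike.mem_coe]
  constructor
  · rintro ⟨y, hy, rfl⟩ _ ⟨z, hz, rfl⟩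
    rw [← map_mul, hy z hz, map_mul]
  · intro hx
    refine ⟨e.symm x, fun z hz => e.injective ?_, e.apply_symm_apply x⟩
    rw [map_mul, map_mul, e.apply_symm_apply]
    exact hx _ ⟨z, hz, rfl⟩

theorem card_map_mulEquiv (e : G ≃* G) (H : Subgroup G) :
    Nat.card (H.map e.toMonoidHom) = Nat.card H :=
  Nat.card_congr (H.equivMapOfInjective _ e.injective).toEquiv.symm

/-- `B(T)` is weakly closed. -/
theorem baumann_eq [Finite G] [Fact p.Prime] (T S : Sylow p G)
    (h : baumannSubgroupOf p (T : Subgroup G) ≤ S) :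
    baumannSubgroupOf p (S : Subgroup G) = baumannSubgroupOf p (T : Subgroup G) := by
  obtain ⟨g, hg⟩ := MulAction.exists_smul_eq G T S
  have hS : (S : Subgroup G) = (T : Subgroup G).map (MulAut.conj g).toMonoidHom := by
    rw [← hg]; exact Sylow.coe_subgroup_smul
  have hJle : thompsonSubgroupOf p (T : Subgroup G) ≤ thompsonSubgroupOf p (S : Subgroup G) := by
    rw [thompsonSubgroupOf_eq_sSup, thompsonSubgroupOf_eq_sSup, sSup_le_iff]
    intro A hA
    refine le_sSup ⟨fun a ha => h (thompson_le_baumann _ ?_), hA.2.1, fun C hC hCe => ?_⟩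
    · rw [thompsonSubgroupOf_eq_sSup]; exact le_sSup (show A ∈ {A | IsMaxEAIn p _ A} from hA) ha
    · rw [← card_map_mulEquiv (MulAut.conj g).symm C]
      refine hA.2.2 _ ?_ (Thompson.isEA_map _ hCe)
      rintro _ ⟨c, hc, rfl⟩
      obtain ⟨t, ht, rfl⟩ := hS.le (hC hc)
      show (MulAut.conj g).symm (MulAut.conj g t) ∈ (T : Subgroup G)
      rwa [MulEquiv.symm_apply_apply]
  have hJ : thompsonSubgroupOf p (T : Subgroup G) = thompsonSubgroupOf p (S : Subgroup G) := by
    refine Subgroup.eq_of_le_of_card_ge hJle (le_of_eq ?_)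
    rw [hS, ← Thompson.map_thompsonSubgroupOf _ _ (MulAut.conj g).injective.injOn]
    exact card_map_mulEquiv _ _
  symm
  refine Subgroup.eq_of_le_of_card_ge (fun x hx => ⟨h hx, ?_⟩) (le_of_eq ?_)
  · have h2 := hx.2
    unfold centerThompsonOf at h2 ⊢
    rwa [← hJ]
  · rw [hS, ← map_baumann]
    exact card_map_mulEquiv _ _

/-! ### `O^p` -/

theorem pResidualOf_le (p : ℕ) (E : Subgroup G) : pResidualOf p E ≤ E := map_subtype_le _

theorem mem_pResidualOf {E : Subgroup G} {x : G} (hx : x ∈ E) (hc : (orderOf x).Coprime p) :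
    x ∈ pResidualOf p E :=
  ⟨⟨x, hx⟩, Fusion.mem_pResidual_of_coprime (by rwa [Subgroup.orderOf_mk]), rfl⟩

theorem pResidualOf_le_iff {E K : Subgroup G} :
    pResidualOf p E ≤ K ↔ ∀ x ∈ E, (orderOf x).Coprime p → x ∈ K := by
  refine ⟨fun h x hx hc => h (mem_pResidualOf hx hc), fun h => ?_⟩
  rw [pResidualOf, pResidual, MonoidHom.map_closure, closure_le]
  rintro _ ⟨y, hy, rfl⟩
  exact h y y.2 (by rwa [Subgroup.orderOf_coe])

theorem conj_sup_mem {E K : Subgroup G} (hK : K ≤ normalizer (E : Set G)) {e x : G} (he : e ∈ E)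
    (hx : x ∈ E ⊔ K) : e * x * e⁻¹ ∈ E ⊔ K :=
  mul_mem (mul_mem (mem_sup_left he) hx) (inv_mem (mem_sup_left he))

/-- A `p'`-element of `E ⊔ K`, `K` a `p`-group normalizing `E`, lies in `E`. -/
theorem mem_of_coprime [Finite G] [Fact p.Prime] {E K : Subgroup G} (hK : K ≤ normalizer (E : Set G))
    (hKp : IsPGroup p K) {x : G} (hx : x ∈ E ⊔ K) (hc : (orderOf x).Coprime p) : x ∈ E := by
  have hEn : E ⊔ K ≤ normalizer (E : Set G) := sup_le le_normalizer hK
  haveI : (E.subgroupOf (E ⊔ K)).Normal :=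
    (normal_subgroupOf_iff_le_normalizer le_sup_left).2 hEn
  set π := QuotientGroup.mk' (E.subgroupOf (E ⊔ K)) with hπ
  set y : ↥(E ⊔ K) := ⟨x, hx⟩ with hy
  have h1 : (orderOf (π y)).Coprime p :=
    Nat.Coprime.coprime_dvd_left ((orderOf_map_dvd π y).trans (by rw [Subgroup.orderOf_mk])) hc
  -- the quotient is covered by `K`
  have hsurj : Function.Surjective (π.comp (Subgroup.inclusion (le_sup_right : K ≤ E ⊔ K))) := by
    intro q
    obtain ⟨z, rfl⟩ := QuotientGroup.mk'_surjective _ q
    have hz := z.2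
    replace hz : (z : G) ∈ K ⊔ E := sup_comm E K ▸ hz
    obtain ⟨k, hk, e, he, hek⟩ := (Core.mem_sup_of_le_normalizer hK).1 hz
    refine ⟨⟨k, hk⟩, ?_⟩
    simp only [MonoidHom.comp_apply, hπ, QuotientGroup.mk'_apply]
    refine (QuotientGroup.eq.2 ?_)
    rw [Subgroup.mem_subgroupOf]
    show (k : G)⁻¹ * (z : G) ∈ E
    rw [← hek, inv_mul_cancel_left]
    exact he
  obtain ⟨k, hk⟩ := hsurj (π y)
  obtain ⟨j, hj⟩ := IsPGroup.iff_orderOf.1 hKp k
  have h2 : orderOf (π y) ∣ p ^ j := hk ▸ hj ▸ orderOf_map_dvd _ k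
  have h3 : orderOf (π y) = 1 := Nat.eq_one_of_dvd_coprimes (Nat.Coprime.pow_right j h1)
    dvd_rfl h2
  rw [orderOf_eq_one_iff, hπ, QuotientGroup.mk'_apply, QuotientGroup.eq_one_iff,
    Subgroup.mem_subgroupOf] at h3
  exact h3

/-- An element of order prime to `p` acting trivially on `D` and on `W / D` (abelian `W` of
exponent `p`) fixes `W`. -/
theorem commute_of_coprime {e w : G} (hc : (orderOf e).Coprime p)
    (hz : (⁅e, w⁆) ^ p = 1) (h1 : Commute e ⁅e, w⁆) (h2 : Commute w ⁅e, w⁆) : Commute e w := by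
  set z := ⁅e, w⁆ with hzdef
  have hew : e * w * e⁻¹ = z * w := by simp [hzdef, commutatorElement_def]
  have hk : ∀ k : ℕ, e ^ k * w * (e ^ k)⁻¹ = z ^ k * w := by
    intro k
    induction k with
    | zero => simp
    | succ k ih =>
      have hcz : e * z ^ k * e⁻¹ = z ^ k := by rw [(h1.pow_right k).eq]; group
      calc e ^ (k + 1) * w * (e ^ (k + 1))⁻¹ = e * (e ^ k * w * (e ^ k)⁻¹) * e⁻¹ := by group
        _ = (e * z ^ k * e⁻¹) * (e * w * e⁻¹) := by rw [ih]; group
        _ = z ^ (k + 1) * w := by rw [hcz, hew, pow_succ, mul_assoc]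
  have := hk (orderOf e)
  rw [pow_orderOf_eq_one, inv_one, mul_one, one_mul, eq_comm, mul_eq_right] at this
  have hz1 : z = 1 := by
    have := pow_gcd_eq_one.2 ⟨this, hz⟩
    rwa [Nat.Coprime.gcd_eq_one hc, pow_one] at this
  exact commutatorElement_eq_one_iff_mul_comm.1 hz1

/-! ### The modules of a block -/

/-- the subgroup of `u ∈ U` sent into the additive subgroup `D` -/
theorem sl2_invariant {F : Type*} [Field F] [Fintype F] {q : ℕ} [Fact q.Prime] {m : ℕ}
    (hF : Fintype.card F = q ^ m) (D : AddSubgroup (Fin 2 → F))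
    (hD : ∀ g ∈ commutator (Matrix.SpecialLinearGroup (Fin 2) F), ∀ v ∈ D,
      (g : Matrix (Fin 2) (Fin 2) F).mulVec v ∈ D)
    (hne : ∃ v ∈ D, v ≠ 0) : ∀ v, v ∈ D := by
  classical
  obtain ⟨v, hvD, hv⟩ := hne
  let U : F → Matrix.SpecialLinearGroup (Fin 2) F := fun t =>
    ⟨!![1, t; 0, 1], by simp [Matrix.det_fin_two]⟩
  let L : F → Matrix.SpecialLinearGroup (Fin 2) F := fun t =>
    ⟨!![1, 0; t, 1], by simp [Matrix.det_fin_two]⟩
  by_cases hbig : ∃ a : F, a ≠ 0 ∧ a ^ 2 ≠ 1
  · -- the commutator is everything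
    obtain ⟨a, ha, ha2⟩ := hbig
    have htop : commutator (Matrix.SpecialLinearGroup (Fin 2) F) = ⊤ :=
      Matrix.SL2.commutator_eq_top ha ha2
    have hu : ∀ (t : F) (w : Fin 2 → F), w ∈ D → ![t * w 1, 0] ∈ D := by
      intro t w hw
      have h1 := sub_mem (hD (U t) (htop ▸ mem_top _) w hw) hw
      convert h1 using 1
      ext i
      fin_cases i <;> simp [U, Matrix.mulVec, dotProduct, Fin.sum_univ_two]
    have hl : ∀ (t : F) (w : Fin 2 → F), w ∈ D → ![0, t * w 0] ∈ D := by
      intro t w hw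
      have h1 := sub_mem (hD (L t) (htop ▸ mem_top _) w hw) hw
      convert h1 using 1
      ext i
      fin_cases i <;> simp [L, Matrix.mulVec, dotProduct, Fin.sum_univ_two]
    obtain ⟨c, hc, w, hw, hwc⟩ : ∃ c : F, c ≠ 0 ∧ ∃ w ∈ D, w 0 = c := by
      by_cases h1 : v 1 = 0
      · refine ⟨v 0, fun h0 => hv ?_, v, hvD, rfl⟩
        ext i; fin_cases i <;> simp [h0, h1]
      · exact ⟨1, one_ne_zero, ![(v 1)⁻¹ * v 1, 0], hu _ v hvD, by simp [h1]⟩
    have hsec : ∀ t, ![0, t] ∈ D := fun t => by
      have := hl (t * c⁻¹) w hw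
      rwa [hwc, mul_assoc, inv_mul_cancel₀ hc, mul_one] at this
    have hfst : ∀ t, ![t, 0] ∈ D := fun t => by
      have := hu t _ (hsec 1)
      simpa using this
    intro x
    have := add_mem (hfst (x 0)) (hsec (x 1))
    convert this using 1
    ext i; fin_cases i <;> simp
  · -- two or three elements
    push Not at hbig
    have hcard : Fintype.card F ≤ 3 := by
      have hsub : (Finset.univ : Finset F) ⊆ {0, 1, -1} := by
        intro a _
        by_cases ha : a = 0
        · simp [ha]
        · have := hbig a ha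
          rcases sq_eq_one_iff.1 this with h | h <;> simp [h]
      exact le_trans (Finset.card_le_card hsub) Finset.card_le_three
    set g : Matrix.SpecialLinearGroup (Fin 2) F := ⁅U 1, L 1⁆ with hgdef
    have hg : g ∈ commutator (Matrix.SpecialLinearGroup (Fin 2) F) :=
      commutator_mem_commutator (mem_top _) (mem_top _)
    have hgv : ∀ w : Fin 2 → F, (g : Matrix (Fin 2) (Fin 2) F).mulVec w = ![3 * w 0 - w 1, w 0] := by
      have hval : (g : Matrix (Fin 2) (Fin 2) F) = !![3, -1; 1, 0] := by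
        have hU : ∀ t, (U t : Matrix (Fin 2) (Fin 2) F) = !![1, t; 0, 1] := fun _ => rfl
        have hL : ∀ t, (L t : Matrix (Fin 2) (Fin 2) F) = !![1, 0; t, 1] := fun _ => rfl
        rw [hgdef, commutatorElement_def, Matrix.SpecialLinearGroup.coe_mul,
          Matrix.SpecialLinearGroup.coe_mul, Matrix.SpecialLinearGroup.coe_mul,
          Matrix.SpecialLinearGroup.coe_inv, Matrix.SpecialLinearGroup.coe_inv, hU, hL]
        ext i j
        fin_cases i <;> fin_cases j <;>
          simp [Matrix.adjugate_fin_two] <;> ring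
      intro w
      rw [hval]
      ext i
      fin_cases i <;> simp [Matrix.mulVec, dotProduct, Fin.sum_univ_two, sub_eq_add_neg]
    have hneq : ∀ k : F, k ^ 2 - 3 * k + 1 ≠ 0 := by
      intro k hk
      by_cases hk0 : k = 0
      · simp [hk0] at hk
      have h2 := hbig k hk0
      have h3 : (3 : F) * k = 2 := by linear_combination h2 - hk
      have h4 : (9 : F) = 4 := by
        linear_combination (3 * k + 2) * h3 - 9 * h2
      have h5 : (5 : F) = 0 := by linear_combination h4
      haveI : CharP F q := by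
        refine charP_of_card_eq_prime_pow (f := m) ?_
        exact hF
      have h6 : q ∣ 5 := (CharP.cast_eq_zero_iff F q 5).1 (by exact_mod_cast h5)
      have hq5 : q = 5 := (Nat.prime_dvd_prime_iff_eq Fact.out (by norm_num)).1 h6
      have hm : 1 ≤ m := by
        by_contra hm
        have : m = 0 := by omega
        rw [this, pow_zero] at hF
        have := Fintype.one_lt_card (α := F)
        omega
      have : 5 ≤ q ^ m := by rw [hq5]; exact Nat.le_self_pow (by omega) 5
      rw [hF] at hcard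
      omega
    have hind : ∀ s t : F, s • v + t • (g : Matrix (Fin 2) (Fin 2) F).mulVec v = 0 → s = 0 ∧ t = 0 := by
      intro s t h
      rw [hgv] at h
      have e0 := congrFun h 0
      have e1 := congrFun h 1
      simp at e0 e1
      by_cases ht : t = 0
      · subst ht
        refine ⟨?_, rfl⟩
        by_contra hs
        refine hv (funext fun i => ?_)
        fin_cases i
        · simpa [hs] using e0
        · simpa [hs] using e1
      · exfalso
        set k := -(s / t) with hk
        have hs : s = -(k * t) := by rw [hk]; field_simp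
        have e1' : v 0 = k * v 1 := by
          have : t * (v 0 - k * v 1) = 0 := by rw [hs] at e1; linear_combination e1
          exact sub_eq_zero.1 ((mul_eq_zero.1 this).resolve_left ht)
        have e0' : t * (v 1 * (k ^ 2 - 3 * k + 1)) = 0 := by
          rw [hs, e1'] at e0; linear_combination -e0
        have hv1 : v 1 = 0 :=
          (mul_eq_zero.1 ((mul_eq_zero.1 e0').resolve_left ht)).resolve_right (hneq k)
        exact hv (funext fun i => by fin_cases i <;> simp [e1', hv1])
    -- scalars are integers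
    have hsmul : ∀ (s : F) (w : Fin 2 → F), w ∈ D → s • w ∈ D := by
      intro s w hw
      by_cases hs : s = 0
      · simp [hs]
      rcases sq_eq_one_iff.1 (hbig s hs) with h | h
      · simp [h, hw]
      · subst h
        rw [neg_one_smul]
        exact neg_mem hw
    have hinj : Function.Injective (fun st : F × F =>
        st.1 • v + st.2 • (g : Matrix (Fin 2) (Fin 2) F).mulVec v) := by
      intro a b hab
      have h0 := hind (a.1 - b.1) (a.2 - b.2) (by
        simp only [sub_smul] at hab ⊢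
        have := sub_eq_zero.2 hab
        rw [← this]; abel)
      exact Prod.ext (sub_eq_zero.1 h0.1) (sub_eq_zero.1 h0.2)
    have hb := (Fintype.bijective_iff_injective_and_card _).2 ⟨hinj, by simp [pow_two]⟩
    intro x
    obtain ⟨st, rfl⟩ := hb.2 x
    exact add_mem (hsmul _ _ hvD) (hsmul _ _ (hD g hg v hvD))

theorem alt_invariant {n : ℕ} (hn : 3 ≤ n) (hodd : Odd n) (D : AddSubgroup (Fin n → ZMod 2))
    (hD : ∀ σ ∈ alternatingGroup (Fin n), ∀ v ∈ D, (fun i => v ((σ : Equiv.Perm (Fin n))⁻¹ i)) ∈ D)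
    (heven : ∀ v ∈ D, ∑ i, v i = 0) (hne : ∃ v ∈ D, v ≠ 0) :
    ∀ v : Fin n → ZMod 2, ∑ i, v i = 0 → v ∈ D := by
  classical
  obtain ⟨v, hvD, hv⟩ := hne
  have h01 : ∀ x : ZMod 2, x = 0 ∨ x = 1 := by decide
  let pr : Fin n → Fin n → (Fin n → ZMod 2) := fun i j => Pi.single i 1 + Pi.single j 1
  obtain ⟨i, hi⟩ : ∃ i, v i = 1 := by
    by_contra hc; push Not at hc
    exact hv (funext fun i => (h01 (v i)).resolve_right (hc i))
  obtain ⟨j, hji, hj⟩ : ∃ j, j ≠ i ∧ v j = 1 := by
    by_contra hc; push Not at hc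
    have := heven v hvD
    rw [Finset.sum_eq_single i (fun b _ hb => (h01 (v b)).resolve_right (hc b hb))
      (fun h => absurd (Finset.mem_univ i) h), hi] at this
    exact one_ne_zero this
  -- a vector of weight two
  obtain ⟨a, b, hab, hp⟩ : ∃ a b, a ≠ b ∧ pr a b ∈ D := by
    by_cases hall : ∃ k, v k = 0
    · obtain ⟨k, hk⟩ := hall
      have hki : k ≠ i := fun e => by rw [e, hi] at hk; exact one_ne_zero hk
      have hkj : k ≠ j := fun e => by rw [e, hj] at hk; exact one_ne_zero hk
      refine ⟨j, k, hkj.symm, ?_⟩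
      have hσ : Equiv.swap i j * Equiv.swap i k ∈ alternatingGroup (Fin n) := by
        rw [Equiv.Perm.mem_alternatingGroup, map_mul, Equiv.Perm.sign_swap hji.symm,
          Equiv.Perm.sign_swap hki.symm]; rfl
      have := add_mem hvD (hD _ hσ v hvD)
      convert this using 1
      ext l
      simp only [pr, Pi.add_apply, mul_inv_rev, Equiv.swap_inv, Equiv.Perm.mul_apply]
      by_cases hli : l = i
      · subst hli
        rw [Equiv.swap_apply_left, Equiv.swap_apply_of_ne_of_ne hji hkj.symm, hi, hj]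
        simp [Pi.single_apply, hji.symm, hki.symm]
        exact (CharTwo.add_self_eq_zero (1 : ZMod 2)).symm
      by_cases hlk : l = k
      · subst hlk
        rw [Equiv.swap_apply_of_ne_of_ne hki hkj, Equiv.swap_apply_right, hi, hk]
        simp [Pi.single_apply, hkj]
      by_cases hlj : l = j
      · subst hlj
        rw [Equiv.swap_apply_right, Equiv.swap_apply_left, hj, hk]
        simp [Pi.single_apply, hkj.symm]
      rw [Equiv.swap_apply_of_ne_of_ne hli hlj, Equiv.swap_apply_of_ne_of_ne hli hlk,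
        CharTwo.add_self_eq_zero]
      simp [Pi.single_apply, hlk, hlj]
    · push Not at hall
      exfalso
      -- weight `n`: odd degree is excluded by parity, so `n` is even; use a transposition pair
      have h1 : ∀ l, v l = 1 := fun l => (h01 (v l)).resolve_left (hall l)
      have h2 := heven v hvD
      simp only [h1, Finset.sum_const, Finset.card_univ, Fintype.card_fin, nsmul_eq_mul, mul_one] at h2
      obtain ⟨r, rfl⟩ := hodd
      rw [Nat.cast_add, Nat.cast_mul, show ((2 : ℕ) : ZMod 2) = 0 from rfl, zero_mul, zero_add] at h2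
      exact one_ne_zero (α := ZMod 2) (by simpa using h2)
  -- all vectors of weight two
  have hpr : ∀ c d, c ≠ d → pr c d ∈ D := by
    have hmove : ∀ (σ : Equiv.Perm (Fin n)), σ ∈ alternatingGroup (Fin n) → ∀ c d, pr c d ∈ D →
        pr (σ c) (σ d) ∈ D := by
      intro σ hσ c d h
      have := hD σ hσ _ h
      convert this using 1
      ext l
      simp [pr, Pi.single_apply, Equiv.symm_apply_eq]
    have hsymm : ∀ c d, pr c d = pr d c := fun c d => add_comm _ _
    have hstep : ∀ c d e, c ≠ d → pr c d ∈ D → e ≠ c → pr c e ∈ D := by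
      intro c d e hcd h hec
      by_cases hed : e = d
      · rwa [hed]
      have hσ : Equiv.swap c e * Equiv.swap c d ∈ alternatingGroup (Fin n) := by
        rw [Equiv.Perm.mem_alternatingGroup, map_mul, Equiv.Perm.sign_swap hec.symm,
          Equiv.Perm.sign_swap hcd]; rfl
      -- `c ↦ d ↦ e ↦ c`
      have h2 := hmove _ hσ _ _ h
      have e1 : (Equiv.swap c e * Equiv.swap c d) c = d := by
        rw [Equiv.Perm.mul_apply, Equiv.swap_apply_left, Equiv.swap_apply_of_ne_of_ne hcd.symm (Ne.symm hed)]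
      have e2 : (Equiv.swap c e * Equiv.swap c d) d = e := by
        rw [Equiv.Perm.mul_apply, Equiv.swap_apply_right, Equiv.swap_apply_left]
      rw [e1, e2] at h2
      have h3 := add_mem h h2
      convert h3 using 1
      ext l
      simp only [pr, Pi.add_apply, add_assoc]
      rw [← add_assoc (Pi.single (M := fun _ => ZMod 2) d 1 l), CharTwo.add_self_eq_zero, zero_add]
    intro c d hcd
    by_cases hca : c = a
    · subst hca; exact hstep c b d hab hp hcd.symm
    · have h1 := hstep a b c hab hp hca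
      rw [hsymm] at h1
      exact hstep c a d hca h1 hcd.symm
  intro x hx
  let z : Fin n := ⟨0, by omega⟩
  have hxe : x = ∑ l, x l • pr l z := by
    have : ∀ l, x l • pr l z = Pi.single l (x l) + Pi.single z (x l) := fun l => by
      ext k; simp [pr, Pi.single_apply, mul_add]
    rw [Finset.sum_congr rfl fun l _ => this l, Finset.sum_add_distrib, Finset.univ_sum_single,
      show ∑ l, Pi.single (M := fun _ => ZMod 2) z (x l) = 0 from funext fun k => by
        rw [Finset.sum_apply]
        by_cases hk : k = z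
        · subst hk; simp [Pi.single_eq_same, hx]
        · simp [Pi.single_apply, hk], add_zero]
  rw [hxe]
  refine sum_mem fun l _ => ?_
  rcases h01 (x l) with h | h
  · simp [h]
  · rw [h, one_smul]
    by_cases hlz : l = z
    · subst hlz
      convert zero_mem D
      ext k; simp [pr, CharTwo.add_self_eq_zero]
    · exact hpr l z hlz

/-! ### Facts on a block -/

section Block

variable {T E : Subgroup G}

theorem omegaOneCenter_le (p : ℕ) (Q : Subgroup G) : omegaOneCenter p Q ≤ Q :=
  (closure_le _).2 fun _ hx => hx.1.1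

theorem omegaOneCenter_commute {Q : Subgroup G} {w q : G} (hw : w ∈ omegaOneCenter p Q)
    (hq : q ∈ Q) : Commute w q := by
  have h : omegaOneCenter p Q ≤ centralizer (Q : Set G) := (closure_le _).2 fun _ hx => hx.1.2
  exact (mem_centralizer_iff.1 (h hw) q hq).symm

theorem omegaOneCenter_pow {Q : Subgroup G} {w : G} (hw : w ∈ omegaOneCenter p Q) : w ^ p = 1 := by
  induction hw using Subgroup.closure_induction with
  | mem x hx => exact hx.2
  | one => exact one_pow p
  | mul x y hx hy ihx ihy =>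
    rw [(omegaOneCenter_commute hx (omegaOneCenter_le p Q hy)).mul_pow, ihx, ihy, one_mul]
  | inv x hx ih => rw [inv_pow, ih, inv_one]

theorem normalizer_le_omegaOneCenter (Q : Subgroup G) :
    normalizer (Q : Set G) ≤ normalizer (omegaOneCenter p Q : Set G) := by
  refine Core.le_normalizer_iff_conj_mem.2 fun g hg z hz => ?_
  suffices h : omegaOneCenter p Q ≤ (omegaOneCenter p Q).comap (MulAut.conj g).toMonoidHom from h hz
  refine (closure_le _).2 fun x hx => ?_
  refine subset_closure ⟨⟨(mem_normalizer_iff.1 hg x).1 hx.1.1, ?_⟩, ?_⟩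
  · refine mem_centralizer_iff.2 fun q hq => ?_
    have h := mem_centralizer_iff.1 hx.1.2 (g⁻¹ * q * g) ((mem_normalizer_iff''.1 hg q).1 hq)
    show q * (g * x * g⁻¹) = g * x * g⁻¹ * q
    calc q * (g * x * g⁻¹) = g * ((g⁻¹ * q * g) * x) * g⁻¹ := by group
      _ = g * (x * (g⁻¹ * q * g)) * g⁻¹ := by rw [h]
      _ = g * x * g⁻¹ * q := by group
  · show (g * x * g⁻¹) ^ p = 1
    rw [conj_pow, hx.2, mul_one, mul_inv_cancel]

theorem baumann_le_normalizer (hE : IsBaumannBlock p T E) :
    baumannSubgroupOf p T ≤ normalizer (E : Set G) := by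
  refine Core.le_normalizer_iff_conj_mem.2 fun b hb e he => ?_
  have h : ⁅e, b⁆ ∈ E := hE.2.1.le (commutator_mem_commutator he hb)
  rw [show b * e * b⁻¹ = ⁅e, b⁆⁻¹ * e by simp [commutatorElement_def]; group]
  exact mul_mem (inv_mem h) he

theorem block_ne_bot (hE : IsBaumannBlock p T E) : E ≠ ⊥ := fun h => by
  apply hE.2.2.2.1
  rw [h, commutator_bot_left]

theorem not_isPGroup [Finite G] [Fact p.Prime] (hE : IsBaumannBlock p T E) : ¬ IsPGroup p E := by
  intro hp
  refine block_ne_bot hE (le_bot_iff.1 ?_)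
  refine le_trans hE.1.ge (pResidualOf_le_iff.2 fun x hx hc => ?_)
  obtain ⟨k, hk⟩ := IsPGroup.iff_orderOf.1 hp ⟨x, hx⟩
  rw [Subgroup.orderOf_mk] at hk
  rw [mem_bot, ← orderOf_eq_one_iff]
  exact Nat.eq_one_of_dvd_coprimes (Nat.Coprime.pow_right k hc) dvd_rfl (hk ▸ dvd_rfl)

/-- `W₀ / C_{W₀}(E)` is a nontrivial irreducible `E`-module. -/
theorem irreducible [Finite G] [Fact p.Prime] (hE : IsBaumannBlock p T E) :
    ¬ omegaOneCenter p (pCoreOf p E) ≤ centralizer (E : Set G) ∧
    ∀ U : Subgroup G, omegaOneCenter p (pCoreOf p E) ⊓ centralizer (E : Set G) ≤ U →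
      U ≤ omegaOneCenter p (pCoreOf p E) → E ≤ normalizer (U : Set G) →
      U ≤ centralizer (E : Set G) ∨ U = omegaOneCenter p (pCoreOf p E) := by
  set W0 := omegaOneCenter p (pCoreOf p E) with hW0
  rcases hE.2.2.2.2 with ⟨F, _, _, k, hF, -, ⟨-, -, ρ, ψ, hρ, hψ, hker, hact⟩, -⟩ |
    ⟨rfl, m, ⟨e⟩, ⟨-, -, ρ, ψ, hρ, heven, hsurj, hker, hact⟩, -⟩
  · refine ⟨fun hle => ?_, fun U hZU hU hEU => ?_⟩
    · obtain ⟨u, hu⟩ := hψ (Multiplicative.ofAdd ![1, 0])
      rw [(hker u).2 ⟨u.2, hle u.2⟩] at hu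
      have := congrFun (congrArg Multiplicative.toAdd hu) 0
      simp at this
    · let D : AddSubgroup (Fin 2 → F) :=
        { carrier := {v | ∃ u : W0, (u : G) ∈ U ∧ Multiplicative.toAdd (ψ u) = v}
          zero_mem' := ⟨1, one_mem U, by simp⟩
          add_mem' := by
            rintro _ _ ⟨a, ha, rfl⟩ ⟨b, hb, rfl⟩
            exact ⟨a * b, mul_mem ha hb, by simp⟩
          neg_mem' := by
            rintro _ ⟨a, ha, rfl⟩
            exact ⟨a⁻¹, inv_mem ha, by simp⟩ }
      by_cases hne : ∃ v ∈ D, v ≠ 0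
      · right
        refine le_antisymm hU fun w hw => ?_
        have hall := sl2_invariant hF D (fun g hg v hv => ?_) hne (Multiplicative.toAdd (ψ ⟨w, hw⟩))
        · obtain ⟨u, huU, hu⟩ := hall
          have h1 : ψ (u⁻¹ * ⟨w, hw⟩) = 1 := by
            rw [map_mul, map_inv, Multiplicative.toAdd.injective hu, inv_mul_cancel]
          have h2 := mul_mem huU (hZU ((hker _).1 h1))
          simpa using h2
        · obtain ⟨u, huU, rfl⟩ := hv
          obtain ⟨x, rfl⟩ : ∃ x, ρ x = g := hρ.ge hg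
          obtain ⟨w', hw', hw''⟩ := hact x u
          exact ⟨w', hw' ▸ (mem_normalizer_iff.1 (hEU x.2) _).1 huU, hw''⟩
      · left
        push Not at hne
        intro u hu
        have h1 : Multiplicative.toAdd (ψ ⟨u, hU hu⟩) = 0 := hne _ ⟨⟨u, hU hu⟩, hu, rfl⟩
        exact ((hker ⟨u, hU hu⟩).1 (Multiplicative.toAdd.injective (by simpa using h1))).2
  · have hm : 1 ≤ m := by
      by_contra hm
      obtain rfl : m = 0 := by omega
      apply not_isPGroup hE
      haveI : Subsingleton (Fin (2 * 0 + 1)) := Fin.subsingleton_one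
      haveI : Subsingleton (Equiv.Perm (Fin (2 * 0 + 1))) :=
        ⟨fun a b => Equiv.ext fun _ => Subsingleton.elim _ _⟩
      have htop : pCore 2 ↥E = ⊤ := eq_top_iff.2 fun x _ =>
        (QuotientGroup.eq_one_iff x).1 (e.injective (Subsingleton.elim _ _))
      have hp := Core.pCore_isPGroup 2 ↥E
      rw [htop] at hp
      exact hp.of_surjective (Subgroup.topEquiv : (⊤ : Subgroup E) ≃* E).toMonoidHom
        (Subgroup.topEquiv : (⊤ : Subgroup E) ≃* E).surjective
    refine ⟨fun hle => ?_, fun U hZU hU hEU => ?_⟩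
    · let i0 : Fin (2 * m + 1) := ⟨0, by omega⟩
      let i1 : Fin (2 * m + 1) := ⟨1, by omega⟩
      have h01 : i0 ≠ i1 := by simp [i0, i1, Fin.ext_iff]
      obtain ⟨u, hu⟩ := hsurj (Pi.single i0 1 + Pi.single i1 1) (by
        simp only [Pi.add_apply, Finset.sum_add_distrib]
        simp [CharTwo.add_self_eq_zero])
      rw [(hker u).2 ⟨u.2, hle u.2⟩] at hu
      have := congrFun hu i0
      simp [h01] at this
    · let D : AddSubgroup (Fin (2 * m + 1) → ZMod 2) :=
        { carrier := {v | ∃ u : W0, (u : G) ∈ U ∧ Multiplicative.toAdd (ψ u) = v}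
          zero_mem' := ⟨1, one_mem U, by simp⟩
          add_mem' := by
            rintro _ _ ⟨a, ha, rfl⟩ ⟨b, hb, rfl⟩
            exact ⟨a * b, mul_mem ha hb, by simp⟩
          neg_mem' := by
            rintro _ ⟨a, ha, rfl⟩
            exact ⟨a⁻¹, inv_mem ha, by simp⟩ }
      by_cases hne : ∃ v ∈ D, v ≠ 0
      · right
        refine le_antisymm hU fun w hw => ?_
        have hall := alt_invariant (by omega) ⟨m, rfl⟩ D (fun σ hσ v hv => ?_)
          (fun v hv => by obtain ⟨u, -, rfl⟩ := hv; exact heven u) hne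
          (Multiplicative.toAdd (ψ ⟨w, hw⟩)) (heven _)
        · obtain ⟨u, huU, hu⟩ := hall
          have h1 : ψ (u⁻¹ * ⟨w, hw⟩) = 1 := by
            rw [map_mul, map_inv, Multiplicative.toAdd.injective hu, inv_mul_cancel]
          have h2 := mul_mem huU (hZU ((hker _).1 h1))
          simpa using h2
        · obtain ⟨u, huU, rfl⟩ := hv
          obtain ⟨x, rfl⟩ : ∃ x, ρ x = σ := hρ.ge hσ
          obtain ⟨w', hw', hw''⟩ := hact x u
          exact ⟨w', hw' ▸ (mem_normalizer_iff.1 (hEU x.2) _).1 huU, funext hw''⟩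
      · left
        push Not at hne
        intro u hu
        have h1 : Multiplicative.toAdd (ψ ⟨u, hU hu⟩) = 0 := hne _ ⟨⟨u, hU hu⟩, hu, rfl⟩
        exact ((hker ⟨u, hU hu⟩).1 (Multiplicative.toAdd.injective (by simpa using h1))).2

/-- A `p`-subgroup normalized by `B(T)` and `E` normalizes `E`. -/
theorem le_normalizer_block [Finite G] [Fact p.Prime] (T : Sylow p G) {E Q : Subgroup G}
    (hE : IsBaumannBlock p (T : Subgroup G) E) (hQ : IsPGroup p Q)
    (hBQ : baumannSubgroupOf p (T : Subgroup G) ≤ normalizer (Q : Set G))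
    (hEQ : E ≤ normalizer (Q : Set G)) : Q ≤ normalizer (E : Set G) := by
  set B := baumannSubgroupOf p (T : Subgroup G) with hB
  have hBp : IsPGroup p B := T.isPGroup'.to_le (baumann_le _)
  obtain ⟨S, hS⟩ := (IsPGroup.to_sup_of_normal_right' hBp hQ hBQ).exists_le_sylow
  have hBS : baumannSubgroupOf p (S : Subgroup G) = B := baumann_eq T S (le_sup_left.trans hS)
  -- `Q` normalizes `B(T)`
  have hQB : Q ≤ normalizer (B : Set G) := by
    refine Core.le_normalizer_iff_conj_mem.2 fun q hq b hb => ?_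
    have hq' : (MulAut.conj q).toMonoidHom = (MulAut.conj q : G ≃* G).toMonoidHom := rfl
    have hmap : (S : Subgroup G).map (MulAut.conj q).toMonoidHom = S :=
      Core.map_conj_eq_of_mem_normalizer (le_normalizer (hS (mem_sup_right hq)))
    have h1 := map_baumann (p := p) (MulAut.conj q) (S : Subgroup G)
    rw [hmap, hBS] at h1
    exact h1.le ⟨b, hb, rfl⟩
  have hBE := baumann_le_normalizer hE
  set K := Q ⊓ B with hK
  have hKE : K ≤ normalizer (E : Set G) := inf_le_right.trans hBE
  refine Core.le_normalizer_iff_conj_mem.2 fun q hq => ?_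
  -- `E^q ≤ E ⊔ K`
  have hconj : E.map (MulAut.conj q).toMonoidHom ≤ E ⊔ K := by
    have h1 := congrArg (Subgroup.map (MulAut.conj q).toMonoidHom) hE.2.1
    rw [map_commutator, Core.map_conj_eq_of_mem_normalizer (hQB hq)] at h1
    rw [← h1, commutator_le]
    rintro _ ⟨e, he, rfl⟩ b hb
    -- `q e q⁻¹ = e q'` with `q' ∈ Q`
    set q' := e⁻¹ * (MulAut.conj q) e with hq'def
    have hq' : q' ∈ Q := by
      have h2 : e⁻¹ * q * e ∈ Q := (mem_normalizer_iff''.1 (hEQ he) q).1 hq
      have : q' = (e⁻¹ * q * e) * q⁻¹ := by simp [hq'def]; group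
      rw [this]; exact mul_mem h2 (inv_mem hq)
    have hqb : ⁅q', b⁆ ∈ K := by
      refine ⟨?_, ?_⟩
      · rw [commutatorElement_def, show q' * b * q'⁻¹ * b⁻¹ = q' * (b * q'⁻¹ * b⁻¹) by group]
        exact mul_mem hq' ((mem_normalizer_iff.1 (hBQ hb) _).1 (inv_mem hq'))
      · rw [commutatorElement_def]
        exact B.mul_mem ((mem_normalizer_iff.1 (hQB hq') b).1 hb) (B.inv_mem hb)
    have heb : ⁅e, b⁆ ∈ E := hE.2.1.le (commutator_mem_commutator he hb)
    have : (MulAut.conj q).toMonoidHom e = e * q' := by rw [hq'def, mul_inv_cancel_left]; rfl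
    rw [this, show ⁅e * q', b⁆ = e * ⁅q', b⁆ * e⁻¹ * ⁅e, b⁆ by simp [commutatorElement_def]; group]
    exact mul_mem (conj_sup_mem hKE he (mem_sup_right hqb)) (mem_sup_left heb)
  have hcop : E.map (MulAut.conj q).toMonoidHom ≤ E := by
    refine map_le_iff_le_comap.2 (hE.1.ge.trans (pResidualOf_le_iff.2 fun y hy hc => ?_))
    refine mem_of_coprime hKE (hQ.to_le inf_le_left) (hconj ⟨y, hy, rfl⟩) ?_
    show (orderOf (MulAut.conj q y)).Coprime p
    rwa [MulEquiv.orderOf_eq]
  intro e he
  exact hcop ⟨e, he, rfl⟩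

theorem pCore_le_normalizer [Finite G] [Fact p.Prime] (T : Sylow p G) {E : Subgroup G}
    (hE : IsBaumannBlock p (T : Subgroup G) E) : pCore p G ≤ normalizer (E : Set G) := by
  haveI : (pCore p G).Normal := inferInstance
  exact le_normalizer_block T hE (Core.pCore_isPGroup p G)
    (le_trans le_top (normalizer_eq_top (pCore p G)).ge) (le_trans le_top (normalizer_eq_top (pCore p G)).ge)

theorem residual_eq [Finite G] [Fact p.Prime] (T : Sylow p G) {E : Subgroup G}
    (hE : IsBaumannBlock p (T : Subgroup G) E) : pResidualOf p (E ⊔ pCore p G) = E := by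
  refine le_antisymm (pResidualOf_le_iff.2 fun x hx hc =>
    mem_of_coprime (pCore_le_normalizer T hE) (Core.pCore_isPGroup p G) hx hc) ?_
  refine hE.1.ge.trans (pResidualOf_le_iff.2 fun x hx hc => mem_pResidualOf (mem_sup_left hx) hc)

/-- `W_E` is central in `O_p(G)`. -/
theorem module_le [Finite G] [Fact p.Prime]
    (hG : centralizer (pCore p G : Set G) ≤ pCore p G) (T : Sylow p G) {E : Subgroup G}
    (hE : IsBaumannBlock p (T : Subgroup G) E) :
    ⁅omegaOneCenter p (pCoreOf p E), E⁆ ≤ omegaOneCenter p (pCore p G) := by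
  set W0 := omegaOneCenter p (pCoreOf p E) with hW0
  set Z := W0 ⊓ centralizer (E : Set G) with hZ
  set P := pCore p G with hP
  have hPn : (P : Subgroup G).Normal := inferInstance
  have hPE := pCore_le_normalizer T hE
  have hPW : P ≤ normalizer (W0 : Set G) :=
    hPE.trans ((normalizer_le_normalizer_pCoreOf E).trans (normalizer_le_omegaOneCenter _))
  have hEW : E ≤ normalizer (W0 : Set G) :=
    (le_normalizer_pCoreOf E).trans (normalizer_le_omegaOneCenter _)
  have hWQ : W0 ≤ pCoreOf p E := omegaOneCenter_le p _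
  have hPp : IsPGroup p P := Core.pCore_isPGroup p G
  have hW0p : IsPGroup p W0 := ((Core.pCore_isPGroup p _).map _).to_le hWQ
  have hPC : P ≤ normalizer (centralizer (E : Set G) : Set G) := by
    refine Core.le_normalizer_iff_conj_mem.2 fun x hx c hc => mem_centralizer_iff.2 fun e he => ?_
    have h := mem_centralizer_iff.1 hc _ ((mem_normalizer_iff''.1 (hPE hx) e).1 he)
    calc e * (x * c * x⁻¹) = x * ((x⁻¹ * e * x) * c) * x⁻¹ := by group
      _ = x * (c * (x⁻¹ * e * x)) * x⁻¹ := by rw [h]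
      _ = x * c * x⁻¹ * e := by group
  have hWcomm : ∀ a ∈ W0, ∀ b ∈ W0, Commute a b := fun a ha b hb =>
    omegaOneCenter_commute ha (hWQ hb)
  -- the fixed points of `P` on `W₀ / Z`
  let U : Subgroup G :=
    { carrier := {w | w ∈ W0 ∧ ∀ x ∈ P, ⁅w, x⁆ ∈ Z}
      one_mem' := ⟨one_mem _, fun x _ => by simp⟩
      mul_mem' := by
        rintro a b ⟨ha, ha'⟩ ⟨hb, hb'⟩
        refine ⟨mul_mem ha hb, fun x hx => ?_⟩
        rw [show ⁅a * b, x⁆ = a * ⁅b, x⁆ * a⁻¹ * ⁅a, x⁆ by simp [commutatorElement_def]; group]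
        refine mul_mem ?_ (ha' x hx)
        rw [(hWcomm a ha _ (hb' x hx).1).eq, mul_inv_cancel_right]
        exact hb' x hx
      inv_mem' := by
        rintro a ⟨ha, ha'⟩
        refine ⟨inv_mem ha, fun x hx => ?_⟩
        rw [show ⁅a⁻¹, x⁆ = a⁻¹ * ⁅a, x⁆⁻¹ * a by simp [commutatorElement_def]; group,
          mul_assoc, (hWcomm _ (inv_mem (ha' x hx).1) a ha).eq, inv_mul_cancel_left]
        exact inv_mem (ha' x hx) }
  have hZU : Z ≤ U := by
    intro z hz
    refine ⟨hz.1, fun x hx => ⟨?_, ?_⟩⟩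
    · rw [commutatorElement_def, show z * x * z⁻¹ * x⁻¹ = z * (x * z⁻¹ * x⁻¹) by group]
      exact mul_mem hz.1 ((mem_normalizer_iff.1 (hPW hx) _).1 (inv_mem hz.1))
    · rw [commutatorElement_def, show z * x * z⁻¹ * x⁻¹ = z * (x * z⁻¹ * x⁻¹) by group]
      exact mul_mem hz.2 ((mem_normalizer_iff.1 (hPC hx) _).1 (inv_mem hz.2))
  have hEU : E ≤ normalizer (U : Set G) := by
    refine Core.le_normalizer_iff_conj_mem.2 fun e he w hw => ⟨(mem_normalizer_iff.1 (hEW he) w).1 hw.1, fun x hx => ?_⟩
    have h1 := hw.2 (e⁻¹ * x * e) (by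
      have := hPn.conj_mem x hx e⁻¹
      simpa using this)
    have h2 : ⁅e * w * e⁻¹, x⁆ = e * ⁅w, e⁻¹ * x * e⁆ * e⁻¹ := by
      simp [commutatorElement_def]; group
    rw [h2]
    refine ⟨(mem_normalizer_iff.1 (hEW he) _).1 h1.1, ?_⟩
    have h3 : ⁅w, e⁻¹ * x * e⁆ ∈ centralizer (E : Set G) := h1.2
    rw [mem_centralizer_iff.1 h3 e he, mul_inv_cancel_right]
    exact h3
  obtain ⟨hne, hirr⟩ := irreducible hE
  have hU : U = W0 := by
    rcases hirr U hZU (fun w hw => hw.1) hEU with h | h
    · exfalso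
      -- `W₀ P` is nilpotent
      haveI := (IsPGroup.to_sup_of_normal_left' hW0p hPp hPW).isNilpotent
      obtain ⟨j, hj⟩ := Subgroup.nilpotent_iff_lowerCentralSeries.1
        (inferInstance : Group.IsNilpotent ↥(W0 ⊔ P))
      suffices key : ∀ i, ∀ w : ↥(W0 ⊔ P), (w : G) ∈ W0 →
          w ∈ Subgroup.lowerCentralSeries (⊤ : Subgroup ↥(W0 ⊔ P)) (j - i) → (w : G) ∈ Z by
        refine hne fun w hw => (key j ⟨w, mem_sup_left hw⟩ hw (by simp)).2
      intro i
      induction i with
      | zero =>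
        intro w _ hw
        rw [Nat.sub_zero, hj, mem_bot] at hw
        rw [hw]; exact one_mem _
      | succ i ih =>
        intro w hwW hw
        rcases Nat.eq_zero_or_pos (j - i) with h0 | hpos
        · exact ih w hwW (by rw [h0]; simp)
        have e : j - i = j - (i + 1) + 1 := by omega
        have hwU : (w : G) ∈ U := by
          refine ⟨hwW, fun x hx => ih ⁅w, ⟨x, mem_sup_right hx⟩⁆ ?_ ?_⟩
          · show ⁅(w : G), x⁆ ∈ W0
            rw [commutatorElement_def, show (w : G) * x * (w : G)⁻¹ * x⁻¹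
              = (w : G) * (x * (w : G)⁻¹ * x⁻¹) by group]
            exact mul_mem hwW ((mem_normalizer_iff.1 (hPW hx) _).1 (inv_mem hwW))
          · rw [e]
            exact commutator_mem_commutator hw (mem_top _)
        exact ⟨hwW, h hwU⟩
    · exact h
  -- three subgroups
  have hWP : ⁅⁅W0, E⁆, P⁆ = ⊥ := by
    refine commutator_commutator_eq_bot_of_rotate ?_ ?_
    · rw [eq_bot_iff, commutator_le]
      intro y hy w hw
      have hy' : y ∈ pCoreOf p E := by
        refine le_pCoreOf (p := p) (H := E) (N := E ⊓ P) inf_le_left ?_ (hPp.to_le inf_le_right) ?_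
        · exact Core.le_normalizer_iff_conj_mem.2 fun e he z hz =>
            ⟨E.mul_mem (E.mul_mem he hz.1) (E.inv_mem he), hPn.conj_mem z hz.2 e⟩
        · refine (le_inf ?_ ?_ : ⁅E, P⁆ ≤ E ⊓ P) hy
          · rw [commutator_le]
            intro e he x hx
            rw [commutatorElement_def, show e * x * e⁻¹ * x⁻¹ = e * (x * e⁻¹ * x⁻¹) by group]
            exact mul_mem he ((mem_normalizer_iff.1 (hPE hx) _).1 (inv_mem he))
          · exact commutator_le_right E P
      rw [mem_bot, commutatorElement_eq_one_iff_mul_comm]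
      exact (omegaOneCenter_commute hw hy').symm.eq
    · rw [eq_bot_iff]
      refine (commutator_mono (?_ : ⁅P, W0⁆ ≤ Z) le_rfl).trans ?_
      · rw [commutator_le]
        intro x hx w hw
        rw [← hU] at hw
        rw [← commutatorElement_inv]
        exact inv_mem (hw.2 x hx)
      · rw [commutator_le]
        intro z hz e he
        rw [mem_bot, commutatorElement_eq_one_iff_mul_comm]
        exact (mem_centralizer_iff.1 hz.2 e he).symm
  have hWW0 : ⁅W0, E⁆ ≤ W0 := by
    rw [commutator_le]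
    intro w hw e he
    rw [commutatorElement_def, show w * e * w⁻¹ * e⁻¹ = w * (e * w⁻¹ * e⁻¹) by group]
    exact mul_mem hw ((mem_normalizer_iff.1 (hEW he) _).1 (inv_mem hw))
  intro x hx
  have hxC : x ∈ centralizer (P : Set G) := by
    refine mem_centralizer_iff.2 fun y hy => ?_
    exact (commutatorElement_eq_one_iff_mul_comm.1 (mem_bot.1
      (hWP.le (commutator_mem_commutator hx hy)))).symm
  exact subset_closure ⟨⟨hG hxC, hxC⟩, omegaOneCenter_pow (hWW0 hx)⟩

/-- `J(T)` moves `W_E`. -/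
theorem module_thompson_ne_bot [Finite G] [Fact p.Prime]
    (hG : centralizer (pCore p G : Set G) ≤ pCore p G) (T : Sylow p G) {E : Subgroup G}
    (hE : IsBaumannBlock p (T : Subgroup G) E) :
    ⁅⁅omegaOneCenter p (pCoreOf p E), E⁆, thompsonSubgroupOf p (T : Subgroup G)⁆ ≠ ⊥ := by
  intro hbot
  set W0 := omegaOneCenter p (pCoreOf p E) with hW0
  set W := ⁅W0, E⁆ with hW
  have hWΩ : W ≤ omegaOneCenter p (pCore p G) := module_le hG T hE
  have hWJ : ∀ w ∈ W, ∀ a ∈ thompsonSubgroupOf p (T : Subgroup G), Commute w a := fun w hw a ha =>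
    commutatorElement_eq_one_iff_mul_comm.1 (mem_bot.1 (hbot.le (commutator_mem_commutator hw ha)))
  obtain ⟨A, hA⟩ := exists_isMaxEAIn (p := p) (T : Subgroup G)
  have hAJ : A ≤ thompsonSubgroupOf p (T : Subgroup G) := by
    rw [thompsonSubgroupOf_eq_sSup]; exact le_sSup hA
  have hWB : ∀ w ∈ W, ∀ b ∈ baumannSubgroupOf p (T : Subgroup G), Commute w b := by
    intro w hw b hb
    have hwp : w ^ p = 1 := omegaOneCenter_pow (hWΩ hw)
    have hwT : w ∈ (T : Subgroup G) := Core.pCore_le_sylow T (omegaOneCenter_le p _ (hWΩ hw))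
    have hwA : w ∈ A := hA.mem_of_commute hwT hwp fun a ha => hWJ w hw a (hAJ ha)
    have hwz : w ∈ omegaOne p (centerThompsonOf p (T : Subgroup G)) :=
      subset_closure ⟨⟨hAJ hwA, mem_centralizer_iff.2 fun a ha => (hWJ w hw a ha).eq.symm⟩, hwp⟩
    exact mem_centralizer_iff.1 hb.2 w hwz
  have hEW : E ≤ normalizer (W0 : Set G) :=
    (le_normalizer_pCoreOf E).trans (normalizer_le_omegaOneCenter _)
  have hWW0 : W ≤ W0 := by
    rw [hW, commutator_le]
    intro w hw e he
    rw [commutatorElement_def, show w * e * w⁻¹ * e⁻¹ = w * (e * w⁻¹ * e⁻¹) by group]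
    exact mul_mem hw ((mem_normalizer_iff.1 (hEW he) _).1 (inv_mem hw))
  have hWconj : ∀ e ∈ E, ∀ w ∈ W, e * w * e⁻¹ ∈ W := by
    intro e he w hw
    have h1 : (⁅W0, E⁆).map (MulAut.conj e).toMonoidHom = ⁅W0, E⁆ := by
      rw [map_commutator, Core.map_conj_eq_of_mem_normalizer (hEW he),
        Core.map_conj_eq_of_mem_normalizer (le_normalizer he)]
    exact h1.le ⟨w, hw, rfl⟩
  -- `E = [E, B(T)]` centralizes `W`
  have hEC : E ≤ centralizer (W : Set G) := by
    refine hE.2.1.ge.trans ?_
    rw [commutator_le]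
    intro e he b hb
    refine mem_centralizer_iff.2 fun w hw => ?_
    have h1 : Commute (e⁻¹ * w * e) b := hWB _ (by simpa using hWconj e⁻¹ (inv_mem he) w hw) b hb
    have h2 : Commute w b := hWB w hw b hb
    have h3 : Commute w (e * b * e⁻¹) := by
      have h4 := h1.map (MulAut.conj e)
      simpa [mul_assoc] using h4
    exact (h3.mul_right h2.inv_right).eq
  refine (irreducible hE).1 fun w hw => mem_centralizer_iff.2 fun x hx => ?_
  suffices h : E ≤ centralizer ({w} : Set G) from
    mem_centralizer_singleton_iff.1 (h hx)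
  refine hE.1.ge.trans (pResidualOf_le_iff.2 fun e he hc => mem_centralizer_singleton_iff.2 ?_)
  have hwe : ⁅e, w⁆ ∈ W := by
    rw [hW, commutator_comm]; exact commutator_mem_commutator he hw
  have h1 : Commute e ⁅e, w⁆ := (mem_centralizer_iff.1 (hEC he) _ hwe).symm
  have h2 : Commute w ⁅e, w⁆ := omegaOneCenter_commute hw (omegaOneCenter_le p _ (hWW0 hwe))
  exact commute_of_coprime hc (omegaOneCenter_pow (hWW0 hwe)) h1 h2

end Block

end Cfsg.Lib.Local.BaumannBlock
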