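import Mathlib
import Cfsg.Agent.Lib.Dickson.Orders

/-!
Products of two conjugates of an element of order `p` of `PSL₂(q)`, `q` a power of an odd prime `p`,
of a given odd prime order dividing `q + 1`.
-/

set_option autoImplicit false

namespace Cfsg.Lib.Local.ModuleBound

open Matrix

variable {F : Type*} [Field F] [Fintype F]

local notation "SL2" => Matrix.SpecialLinearGroup (Fin 2) F
local notation "PSL2" => Matrix.ProjectiveSpecialLinearGroup (Fin 2) F

theorem center_cases {z : SL2} (hz : z ∈ Subgroup.center SL2) : ∃ c : F, c * c = 1 ∧ z.1 = c • 1 := by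
  obtain ⟨h1, h2, h3⟩ := Cfsg.Lib.Dickson.mem_center_sl hz
  have hd : z.1.det = 1 := z.2
  rw [Matrix.det_fin_two, h1, h2, h3] at hd
  refine ⟨z.1 0 0, by linear_combination hd, ?_⟩
  ext i j
  fin_cases i <;> fin_cases j <;> simp [h1, h2, h3]

/-- An element of order `p` of `PSL₂(q)` is the image of an upper unitriangular matrix, up to conjugation. -/
theorem exists_conj_unitriangular (p : ℕ) [Fact p.Prime] [CharP F p] (hp : p ≠ 2) {u : PSL2} (hu : u ^ p = 1)
    (hu1 : u ≠ 1) : ∃ (g A : SL2) (a : F), a ≠ 0 ∧ (A : SL2).1 = !![1, a; 0, 1] ∧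
      u = (g : PSL2) * (A : PSL2) * (g : PSL2)⁻¹ := by
  obtain ⟨g₀, hg₀⟩ := QuotientGroup.mk_surjective u
  have hz : g₀ ^ p ∈ Subgroup.center SL2 := (QuotientGroup.eq_one_iff _).1 (by
    rw [QuotientGroup.mk_pow, hg₀, hu])
  obtain ⟨c, hc, hcz⟩ := center_cases hz
  have hzz : g₀ ^ p * g₀ ^ p = 1 := Subtype.ext (by
    rw [Matrix.SpecialLinearGroup.coe_mul, hcz, Matrix.smul_mul, Matrix.mul_smul, Matrix.one_mul, smul_smul,
      hc, one_smul, Matrix.SpecialLinearGroup.coe_one])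
  obtain ⟨h, hhdef⟩ : ∃ h, h = g₀ * g₀ ^ p := ⟨_, rfl⟩
  have hhu : (h : PSL2) = u := by rw [hhdef, QuotientGroup.mk_mul, QuotientGroup.mk_pow, hg₀, hu, mul_one]
  obtain ⟨j, hj⟩ := (Fact.out : p.Prime).odd_of_ne_two hp
  have hhp : h ^ p = 1 := by
    rw [hhdef, (Commute.self_pow g₀ p).mul_pow, hj, show g₀ ^ (2 * j + 1) = g₀ ^ p by rw [hj],
      pow_succ (g₀ ^ p), pow_mul, pow_two, hzz, one_pow, one_mul, hzz]
  have hdet : (h.1 - 1).det = 0 := by
    have e : (h.1 - 1) ^ p = 0 := by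
      rw [sub_pow_char_of_commute _ (Commute.one_right _), ← Matrix.SpecialLinearGroup.coe_pow, hhp,
        Matrix.SpecialLinearGroup.coe_one, one_pow, sub_self]
    have e' := congrArg Matrix.det e
    rw [Matrix.det_pow, Matrix.det_zero] at e'
    exact (pow_eq_zero_iff (Fact.out : p.Prime).ne_zero).1 e'
  obtain ⟨v, hv0, hv⟩ := Matrix.exists_mulVec_eq_zero_iff.2 hdet
  rw [Matrix.sub_mulVec, Matrix.one_mulVec, sub_eq_zero] at hv
  obtain ⟨P, hP⟩ : ∃ P : SL2, P.1 *ᵥ ![1, 0] = v := by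
    by_cases h0 : v 0 = 0
    · have h1 : v 1 ≠ 0 := fun h1 => hv0 (funext fun i => by fin_cases i <;> assumption)
      refine ⟨⟨!![0, -(v 1)⁻¹; v 1, 0], by rw [Matrix.det_fin_two_of]; field_simp; ring⟩, funext fun i => ?_⟩
      fin_cases i <;> simp [Matrix.mulVec, dotProduct, Fin.sum_univ_two, h0]
    · refine ⟨⟨!![v 0, 0; v 1, (v 0)⁻¹], by rw [Matrix.det_fin_two_of]; field_simp; ring⟩, funext fun i => ?_⟩
      fin_cases i <;> simp [Matrix.mulVec, dotProduct, Fin.sum_univ_two]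
  obtain ⟨A, hA⟩ : ∃ A, A = P⁻¹ * h * P := ⟨_, rfl⟩
  have hA1 : A.1 *ᵥ ![1, 0] = ![1, 0] := by
    rw [hA, Matrix.SpecialLinearGroup.coe_mul, Matrix.SpecialLinearGroup.coe_mul, ← Matrix.mulVec_mulVec, hP,
      ← Matrix.mulVec_mulVec, hv, ← hP, Matrix.mulVec_mulVec, ← Matrix.SpecialLinearGroup.coe_mul,
      inv_mul_cancel, Matrix.SpecialLinearGroup.coe_one, Matrix.one_mulVec]
  have h00 : A.1 0 0 = 1 := by
    simpa [Matrix.mulVec, dotProduct, Fin.sum_univ_two] using congrFun hA1 0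
  have h10 : A.1 1 0 = 0 := by
    simpa [Matrix.mulVec, dotProduct, Fin.sum_univ_two] using congrFun hA1 1
  have h11 : A.1 1 1 = 1 := by
    have hd : A.1.det = 1 := A.2
    rw [Matrix.det_fin_two, h00, h10, one_mul, mul_zero, sub_zero] at hd
    exact hd
  have huA : u = (P : PSL2) * (A : PSL2) * (P : PSL2)⁻¹ := by
    rw [hA, QuotientGroup.mk_mul, QuotientGroup.mk_mul, QuotientGroup.mk_inv, hhu]
    group
  refine ⟨P, A, A.1 0 1, fun h01 => hu1 ?_, ?_, huA⟩
  · have hA' : A = 1 := Subtype.ext (by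
      ext i j
      fin_cases i <;> fin_cases j <;> simp [h00, h10, h11, h01])
    rw [huA, hA', QuotientGroup.mk_one]
    group
  · ext i j
    fin_cases i <;> fin_cases j <;> simp [h00, h10, h11]

/-- Two conjugates of an element of order `p` with product of order divisible by `r`. -/
theorem psl_two_real (p : ℕ) [Fact p.Prime] [CharP F p] (hp : p ≠ 2) {r : ℕ} (hr : r.Prime) (hr2 : r ≠ 2)
    (hrp : r ≠ p) (hN : r ∣ Fintype.card F + 1) (u : PSL2) (hu : u ^ p = 1) (hu1 : u ≠ 1) :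
    ∃ c : PSL2, r ∣ orderOf (u * (c⁻¹ * u * c)) := by
  classical
  haveI := Fact.mk hr
  haveI : CharP (AlgebraicClosure F) p := charP_of_injective_algebraMap (algebraMap F _).injective p
  haveI : NeZero ((r : ℕ) : AlgebraicClosure F) := ⟨fun h => by
    rw [CharP.cast_eq_zero_iff (AlgebraicClosure F) p] at h
    exact hrp ((Nat.prime_dvd_prime_iff_eq Fact.out hr).1 h).symm⟩
  obtain ⟨g, A, a, ha, hA, huA⟩ := exists_conj_unitriangular p hp hu hu1
  obtain ⟨η, hη⟩ := HasEnoughRootsOfUnity.exists_primitiveRoot (AlgebraicClosure F) r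
  have hη0 : η ≠ 0 := hη.ne_zero hr.ne_zero
  obtain ⟨m, -, hcard⟩ := FiniteField.card F p
  have hq : η ^ Fintype.card F = η⁻¹ := by
    obtain ⟨k, hk⟩ := hN
    refine eq_inv_of_mul_eq_one_left ?_
    rw [← pow_succ, hk, pow_mul, hη.pow_eq_one, one_pow]
  obtain ⟨x, hx⟩ : ∃ x, x = η + η⁻¹ := ⟨_, rfl⟩
  have hfix : x ^ Fintype.card F = x := by
    rw [hx, hcard, add_pow_char_pow, ← hcard, inv_pow, hq, inv_inv, add_comm]
  obtain ⟨k, hk⟩ : ∃ c : F, algebraMap F (AlgebraicClosure F) c = x := by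
    by_contra hne
    push Not at hne
    have hne0 : (Polynomial.X ^ Fintype.card F - Polynomial.X : Polynomial (AlgebraicClosure F)) ≠ 0 :=
      FiniteField.X_pow_card_sub_X_ne_zero _ Fintype.one_lt_card
    have hdeg : (Polynomial.X ^ Fintype.card F - Polynomial.X : Polynomial (AlgebraicClosure F)).natDegree =
        Fintype.card F := FiniteField.X_pow_card_sub_X_natDegree_eq _ Fintype.one_lt_card
    have hsub : insert x (Finset.univ.image (algebraMap F (AlgebraicClosure F))) ⊆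
        (Polynomial.X ^ Fintype.card F - Polynomial.X : Polynomial (AlgebraicClosure F)).roots.toFinset := by
      intro y hy
      rw [Multiset.mem_toFinset, Polynomial.mem_roots hne0]
      rcases Finset.mem_insert.1 hy with rfl | hy
      · simp [hfix]
      · obtain ⟨b, -, rfl⟩ := Finset.mem_image.1 hy
        simp [← map_pow, FiniteField.pow_card]
    have h1 := (Finset.card_le_card hsub).trans ((Multiset.toFinset_card_le _).trans (Polynomial.card_roots' _))
    rw [Finset.card_insert_of_notMem (by simpa using hne),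
      Finset.card_image_of_injective _ (algebraMap F (AlgebraicClosure F)).injective, hdeg,
      Finset.card_univ] at h1
    omega
  have hr2' : ¬ r ∣ 2 := fun h => hr2 ((Nat.prime_dvd_prime_iff_eq hr Nat.prime_two).1 h)
  have hk0 : k ≠ 0 := by
    rintro rfl
    rw [map_zero, hx] at hk
    have h2 : η ^ 4 = 1 := by
      linear_combination (-(η ^ 2 - 1) * η) * hk - (η ^ 2 - 1) * mul_inv_cancel₀ hη0
    have h4 : r ∣ 2 ^ 2 := by simpa using (hη.pow_eq_one_iff_dvd 4).1 h2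
    exact hr2' (hr.dvd_of_dvd_pow h4)
  obtain ⟨l, hl⟩ : ∃ l, l = a / k := ⟨_, rfl⟩
  have hl0 : l ≠ 0 := hl ▸ div_ne_zero ha hk0
  obtain ⟨C, hC⟩ : ∃ C : SL2, C.1 = !![0, l; -l⁻¹, 0] :=
    ⟨⟨!![0, l; -l⁻¹, 0], by rw [Matrix.det_fin_two_of]; field_simp; ring⟩, rfl⟩
  obtain ⟨M, hM⟩ : ∃ M : SL2, M = A * (C * A * C⁻¹) := ⟨_, rfl⟩
  refine ⟨((g * C⁻¹ * g⁻¹ : SL2) : PSL2), ?_⟩
  have he : u * (((g * C⁻¹ * g⁻¹ : SL2) : PSL2)⁻¹ * u * ((g * C⁻¹ * g⁻¹ : SL2) : PSL2)) =
      MulAut.conj (g : PSL2) (M : PSL2) := by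
    rw [MulAut.conj_apply, hM, huA]
    simp only [QuotientGroup.mk_mul, QuotientGroup.mk_inv, _root_.mul_inv_rev, inv_inv]
    group
  rw [he, MulEquiv.orderOf_eq]
  have hmem : M ^ orderOf (M : PSL2) ∈ Subgroup.center SL2 := (QuotientGroup.eq_one_iff _).1 (by
    rw [QuotientGroup.mk_pow, pow_orderOf_eq_one])
  obtain ⟨c, hc, hcM⟩ := center_cases hmem
  let φ := algebraMap F (AlgebraicClosure F)
  have hM1 : M.1 = !![1 - k ^ 2, a; -(a / l ^ 2), 1] := by
    have hCi : (C⁻¹).1 = !![0, -l; l⁻¹, 0] := by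
      rw [Matrix.SpecialLinearGroup.coe_inv, hC, Matrix.adjugate_fin_two_of]
      simp
    rw [hM, Matrix.SpecialLinearGroup.coe_mul, Matrix.SpecialLinearGroup.coe_mul,
      Matrix.SpecialLinearGroup.coe_mul, hA, hC, hCi]
    ext i j
    fin_cases i <;> fin_cases j <;> simp [Matrix.mul_apply, Fin.sum_univ_two, hl] <;> field_simp <;> ring
  let w : Fin 2 → AlgebraicClosure F := ![φ a, -η ^ 2 - (1 - x ^ 2)]
  have hw : (M.1.map φ) *ᵥ w = (-η ^ 2) • w := by
    have hal : φ a * (φ a / φ l ^ 2) = x ^ 2 := by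
      rw [hl, map_div₀, hk]
      have hφa : φ a ≠ 0 := (map_ne_zero φ).2 ha
      field_simp
    rw [hM1]
    funext i
    fin_cases i <;> simp [Matrix.mulVec, dotProduct, Fin.sum_univ_two, w, φ, hk]
    · ring
    · have hmul := mul_inv_cancel₀ hη0
      rw [hx] at hal ⊢
      linear_combination -hal + (2 * η ^ 2 + η * η⁻¹ + 1) * hmul
  have hpow : ∀ j : ℕ, (M.1.map φ) ^ j *ᵥ w = (-η ^ 2) ^ j • w := by
    intro j
    induction j with
    | zero => simp
    | succ j ih => rw [pow_succ, ← Matrix.mulVec_mulVec, hw, Matrix.mulVec_smul, ih, smul_smul, ← pow_succ']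
  have h1 := congrFun (hpow (orderOf (M : PSL2))) 0
  rw [← Matrix.map_pow, ← Matrix.SpecialLinearGroup.coe_pow, hcM] at h1
  simp [w, Matrix.mulVec, dotProduct, Fin.sum_univ_two] at h1
  have h2 : φ c = (-η ^ 2) ^ orderOf (M : PSL2) :=
    h1.resolve_right ha
  have h3 : η ^ (4 * orderOf (M : PSL2)) = 1 := by
    calc η ^ (4 * orderOf (M : PSL2)) = ((-η ^ 2) ^ orderOf (M : PSL2)) ^ 2 := by
          rw [← pow_mul (-η ^ 2), mul_comm _ 2, pow_mul (-η ^ 2), neg_sq, ← pow_mul η, ← pow_mul η]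
      _ = 1 := by rw [← h2, ← map_pow, pow_two, hc, map_one]
  have h4 := (hη.pow_eq_one_iff_dvd _).1 h3
  refine (hr.dvd_mul.1 h4).resolve_left fun h => hr2' (hr.dvd_of_dvd_pow (n := 2) ?_)
  simpa using h

end Cfsg.Lib.Local.ModuleBound
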