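import Cfsg.Prelude.Def_PLocal
import Cfsg.Agent.Lib.Core.Cores
import Cfsg.Agent.Lib.Solv.Nilpotent
import Cfsg.Agent.Lib.Fusion.Alperin

/-!
# The replacement theorem and the `ZJ`-theorem of Glauberman

* `repl A b`: the subgroup `(A ∩ A^b) [A, b]`.
* `exists_replacement`: Glauberman's replacement (for `B` normal with `[B, B] ≤ A`).
* `inf_familyInf_normal`, `familyInf_normal`: the axiomatic form, for a family of abelian
  subgroups of a Sylow subgroup of a group which is `p`-stable on its normal `p`-subgroups.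
* `repl_pow_eq_one`: the exponent of `A*`.
* `centerThompsonA_normal`, `centerThompsonA_characteristic`: the `ZJ`-theorem.
-/

set_option autoImplicit false
set_option linter.style.haveILetI false

universe u

namespace Cfsg.Lib.Local.GlaubermanZJ

open Subgroup Cfsg
open scoped commutatorElement

variable {G : Type u} [Group G]

/-- `(A ∩ A^b) [A, b]`. -/
def repl (A : Subgroup G) (b : G) : Subgroup G :=
  (A ⊓ A.map (MulAut.conj b).toMonoidHom) ⊔
    closure {x : G | ∃ a ∈ A, x = b * a * b⁻¹ * a⁻¹}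

theorem conj_commutator (g x y : G) :
    g * ⁅x, y⁆ * g⁻¹ = ⁅g * x * g⁻¹, g * y * g⁻¹⁆ := by
  simp only [commutatorElement_def]; group


section Replacement

variable {A B : Subgroup G} {b : G}

/-- `a ↦ [a, b]` values in `B`. -/
theorem repl_gen_mem [B.Normal] (hb : b ∈ B) (a : G) : b * a * b⁻¹ * a⁻¹ ∈ B := by
  rw [mul_assoc b a, mul_assoc b]
  exact mul_mem hb (‹B.Normal›.conj_mem _ (inv_mem hb) a)

/-- Properties of Glauberman's `A*`. -/
theorem repl_spec [Finite G] [B.Normal] (hA : IsMulCommutative A) (hBA : ⁅B, B⁆ ≤ A)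
    (hodd : ∀ x ∈ ⁅B, B⁆, b * x * b⁻¹ = x⁻¹ → x = 1) (hb : b ∈ B)
    (hA₁ : A.map (MulAut.conj b).toMonoidHom ≤ normalizer (A : Set G))
    (hA₁' : A ≤ normalizer ((A.map (MulAut.conj b).toMonoidHom : Subgroup G) : Set G))
    (hbA : b ∉ normalizer (A : Set G)) :
    IsMulCommutative (repl A b) ∧ Nat.card A ≤ Nat.card (repl A b) ∧ ⁅B, B⁆ ≤ repl A b ∧
      A ⊓ B < repl A b ⊓ B ∧ repl A b ≤ normalizer (A : Set G) ∧
      A ≤ normalizer ((repl A b : Subgroup G) : Set G) := by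
  classical
  set A₁ := A.map (MulAut.conj b).toMonoidHom with hA₁def
  set D := A ⊓ A₁ with hD
  set X := {x : G | ∃ a ∈ A, x = b * a * b⁻¹ * a⁻¹} with hX
  have cA : ∀ {s t : G}, s ∈ A → t ∈ A → Commute s t := fun hs ht =>
    congrArg Subtype.val (hA.is_comm.comm ⟨_, hs⟩ ⟨_, ht⟩)
  have hmem₁ : ∀ {a : G}, a ∈ A → b * a * b⁻¹ ∈ A₁ := fun ha => ⟨_, ha, rfl⟩
  have cA₁ : ∀ {s t : G}, s ∈ A₁ → t ∈ A₁ → Commute s t := by
    rintro _ _ ⟨s, hs, rfl⟩ ⟨t, ht, rfl⟩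
    exact (cA hs ht).map _
  have hDcent : ∀ {d : G}, d ∈ D → ∀ {a : G}, a ∈ A →
      Commute d a ∧ Commute d (b * a * b⁻¹) := fun hd _ ha =>
    ⟨cA hd.1 ha, cA₁ hd.2 (hmem₁ ha)⟩
  let f : G → G → G := fun a c => a * (b * c * b⁻¹) * a⁻¹ * (b * c * b⁻¹)⁻¹
  have hf : ∀ {a c : G}, a ∈ A → c ∈ A → f a c ∈ D := fun {a c} ha hc => by
    refine ⟨?_, ?_⟩
    · show a * (b * c * b⁻¹) * a⁻¹ * (b * c * b⁻¹)⁻¹ ∈ A
      rw [mul_assoc a, mul_assoc a]
      exact mul_mem ha ((mem_normalizer_iff.1 (hA₁ (hmem₁ hc)) _).1 (inv_mem ha))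
    · exact A₁.mul_mem ((mem_normalizer_iff.1 (hA₁' ha) _).1 (hmem₁ hc)) (A₁.inv_mem (hmem₁ hc))
  -- conjugates of the generators
  have hconj : ∀ {a c : G}, a ∈ A → c ∈ A →
      a * (b * c * b⁻¹ * c⁻¹) * a⁻¹ = f a c * (b * c * b⁻¹ * c⁻¹) := fun {a c} ha hc => by
    have h : c⁻¹ * a⁻¹ = a⁻¹ * c⁻¹ := ((cA hc ha).inv_left.inv_right).eq
    calc a * (b * c * b⁻¹ * c⁻¹) * a⁻¹ = a * (b * c * b⁻¹) * (c⁻¹ * a⁻¹) := by group
      _ = a * (b * c * b⁻¹) * (a⁻¹ * c⁻¹) := by rw [h]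
      _ = _ := by simp only [f]; group
  -- the generators commute
  have hcomm : ∀ a ∈ A, ∀ c ∈ A,
      (b * a * b⁻¹ * a⁻¹) * (b * c * b⁻¹ * c⁻¹) = (b * c * b⁻¹ * c⁻¹) * (b * a * b⁻¹ * a⁻¹) := by
    intro a ha c hc
    set a' := b * a * b⁻¹ with ha'
    set c' := b * c * b⁻¹ with hc'
    have hinner : ∀ {s t : G}, s ∈ A → t ∈ A →
        s⁻¹ * (b * t * b⁻¹) = (f s t)⁻¹ * ((b * t * b⁻¹) * s⁻¹) := fun {s t} hs ht => by
      have h1 := ((hDcent (hf hs ht) hs).1).inv_left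
      calc s⁻¹ * (b * t * b⁻¹) = s⁻¹ * (f s t)⁻¹ * (s * ((b * t * b⁻¹) * s⁻¹)) := by
            simp only [f]; group
        _ = (f s t)⁻¹ * s⁻¹ * (s * ((b * t * b⁻¹) * s⁻¹)) := by rw [h1.inv_right.eq]
        _ = _ := by group
    have hprod : ∀ {s t : G}, s ∈ A → t ∈ A →
        (b * s * b⁻¹ * s⁻¹) * (b * t * b⁻¹ * t⁻¹) =
          (f s t)⁻¹ * ((b * s * b⁻¹) * (b * t * b⁻¹) * (s⁻¹ * t⁻¹)) := fun {s t} hs ht => by
      have h1 := ((hDcent (hf hs ht) hs).2).inv_left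
      calc (b * s * b⁻¹ * s⁻¹) * (b * t * b⁻¹ * t⁻¹)
          = (b * s * b⁻¹) * (s⁻¹ * (b * t * b⁻¹)) * t⁻¹ := by group
        _ = (b * s * b⁻¹) * (f s t)⁻¹ * ((b * t * b⁻¹) * s⁻¹ * t⁻¹) := by
            rw [hinner hs ht]; group
        _ = _ := by rw [← h1.eq]; group
    have e1 := hprod ha hc
    have e2 := hprod hc ha
    rw [← ha', ← hc'] at e1 e2
    rw [show c' * a' = a' * c' from (cA₁ (hmem₁ hc) (hmem₁ ha)).eq, ((cA hc ha).inv_left.inv_right).eq] at e2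
    -- two expressions for the commutator
    set xa := a' * a⁻¹ with hxa
    set xc := c' * c⁻¹ with hxc
    set t := ⁅xa, xc⁆ with ht
    have hcd : Commute (f a c)⁻¹ (f c a) := (cA (hf ha hc).1 (hf hc ha).1).inv_left
    have t1 : t = f c a * (f a c)⁻¹ := by
      rw [← hcd.eq, ht, commutatorElement_def,
        show xa * xc * xa⁻¹ * xc⁻¹ = xa * xc * (xc * xa)⁻¹ by group, e1, e2]
      group
    have hBn : B.Normal := inferInstance
    have hB'D : ⁅B, B⁆ ≤ D := fun d hd => by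
      have h1 : b⁻¹ * d * b ∈ ⁅B, B⁆ := by
        simpa using (inferInstance : (⁅B, B⁆).Normal).conj_mem d hd b⁻¹
      exact ⟨hBA hd, _, hBA h1, by simp [mul_assoc]⟩
    have hxB : ∀ r, b * r * b⁻¹ * r⁻¹ ∈ B := fun r => repl_gen_mem hb r
    have hDx : ∀ {d r : G}, d ∈ D → r ∈ A → Commute d (b * r * b⁻¹ * r⁻¹) := fun hd hr =>
      (hDcent hd hr).2.mul_right (hDcent hd hr).1.inv_right
    -- conjugation of `[b, x⁻¹]`
    have hstep : ∀ {r s : G}, r ∈ A → s ∈ A →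
        ⁅b, (f r s)⁻¹⁆ * ⁅(b * r * b⁻¹ * r⁻¹)⁻¹, (b * s * b⁻¹ * s⁻¹)⁻¹⁆ = 1 := fun {r s} hr hs => by
      set x := b * r * b⁻¹ * r⁻¹ with hx
      set y := b * s * b⁻¹ * s⁻¹ with hy
      set g := (f r s)⁻¹ with hg
      have hgD : g ∈ D := D.inv_mem (hf hr hs)
      have hgB : g ∈ B := by
        have he : g = (r * y * r⁻¹ * y⁻¹)⁻¹ := by
          rw [hg, hy, hconj hr hs, mul_inv_cancel_right]
        rw [he]
        exact B.inv_mem (B.mul_mem (hBn.conj_mem _ (hxB s) r) (B.inv_mem (hxB s)))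
      have he : ⁅b, y⁻¹⁆ ∈ ⁅B, B⁆ := commutator_mem_commutator hb (B.inv_mem (hxB s))
      have hry : r * y⁻¹ * r⁻¹ = y⁻¹ * g := by
        rw [hg, ← mul_inv_rev, ← hconj hr hs, ← hy]; group
      have hrb : r * b * r⁻¹ = x⁻¹ * b := by rw [hx]; group
      have h1 : ⁅x⁻¹ * b, y⁻¹ * g⁆ = ⁅b, y⁻¹⁆ := by
        rw [← hrb, ← hry, ← conj_commutator, ← ((hDcent (hB'D he) hr).1).eq, mul_inv_cancel_right]
      have h3 : x⁻¹ * ⁅b, y⁻¹ * g⁆ * x = ⁅b, y⁻¹ * g⁆ := by
        have hcm : Commute ⁅b, y⁻¹ * g⁆ x := hDx (hB'D (commutator_mem_commutator hb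
          (B.mul_mem (B.inv_mem (hxB s)) hgB))) hr
        rw [mul_assoc, hcm.eq, inv_mul_cancel_left]
      have h4 : ⁅b, y⁻¹ * g⁆ = ⁅b, y⁻¹⁆ * ⁅b, g⁆ := by
        calc ⁅b, y⁻¹ * g⁆ = ⁅b, y⁻¹⁆ * (y⁻¹ * ⁅b, g⁆ * y) := by
              simp only [commutatorElement_def]; group
          _ = _ := by
            rw [mul_assoc y⁻¹, (hDx (hB'D (commutator_mem_commutator hb hgB)) hs).eq,
              inv_mul_cancel_left]
      have h5 : ⁅x⁻¹, y⁻¹ * g⁆ = ⁅x⁻¹, y⁻¹⁆ := by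
        have hgx : ⁅x⁻¹, g⁆ = 1 :=
          commutatorElement_eq_one_iff_commute.2 (hDx hgD hr).symm.inv_left
        calc ⁅x⁻¹, y⁻¹ * g⁆ = ⁅x⁻¹, y⁻¹⁆ * (y⁻¹ * ⁅x⁻¹, g⁆ * y) := by
              simp only [commutatorElement_def]; group
          _ = _ := by rw [hgx]; group
      have h6 : ⁅x⁻¹ * b, y⁻¹ * g⁆ = x⁻¹ * ⁅b, y⁻¹ * g⁆ * x * ⁅x⁻¹, y⁻¹ * g⁆ := by
        simp only [commutatorElement_def]; group
      rw [h1, h3, h4, h5, mul_assoc] at h6
      exact mul_eq_left.1 h6.symm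
    have htB : t ∈ ⁅B, B⁆ :=
      commutator_mem_commutator (by rw [hxa, ha']; exact hxB a) (by rw [hxc, hc']; exact hxB c)
    have htx : ∀ {r : G}, r ∈ A → Commute t (b * r * b⁻¹ * r⁻¹) := fun hr => hDx (hB'D htB) hr
    have hinv : ⁅xa⁻¹, xc⁻¹⁆ = t := by
      have h1 : ⁅xa⁻¹, xc⁻¹⁆ = xa⁻¹ * (xc⁻¹ * t * xc) * xa := by
        simp only [ht, commutatorElement_def]; group
      have hca : Commute t xa := by rw [hxa, ha']; exact htx ha
      have hcc : Commute t xc := by rw [hxc, hc']; exact htx hc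
      rw [h1, mul_assoc xc⁻¹, hcc.eq, inv_mul_cancel_left, mul_assoc, hca.eq, inv_mul_cancel_left]
    have s1 : ⁅b, (f a c)⁻¹⁆ = t⁻¹ := by
      have h := hstep ha hc
      rw [show b * a * b⁻¹ * a⁻¹ = xa by rw [hxa, ha'],
        show b * c * b⁻¹ * c⁻¹ = xc by rw [hxc, hc'], hinv] at h
      exact eq_inv_of_mul_eq_one_left h
    have s2 : ⁅b, (f c a)⁻¹⁆ = t := by
      have h := hstep hc ha
      rw [show b * a * b⁻¹ * a⁻¹ = xa by rw [hxa, ha'],
        show b * c * b⁻¹ * c⁻¹ = xc by rw [hxc, hc'], ← commutatorElement_inv xa⁻¹ xc⁻¹, hinv] at h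
      exact mul_inv_eq_one.1 h
    have hfca : Commute t (f c a) := cA (hB'D htB).1 (hf hc ha).1
    have s3 : ⁅b, f c a⁆ = t⁻¹ := by
      have h : ⁅b, f c a⁆ = (f c a * ⁅b, (f c a)⁻¹⁆ * (f c a)⁻¹)⁻¹ := by
        simp only [commutatorElement_def]; group
      rw [h, s2, ← hfca.eq, mul_inv_cancel_right]
    have hbt : b * t * b⁻¹ = t⁻¹ := by
      have h : ⁅b, t⁆ = t⁻¹ * t⁻¹ := by
        calc ⁅b, t⁆ = ⁅b, f c a * (f a c)⁻¹⁆ := by rw [← t1]
          _ = ⁅b, f c a⁆ * (f c a * ⁅b, (f a c)⁻¹⁆ * (f c a)⁻¹) := by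
            simp only [commutatorElement_def]; group
          _ = _ := by rw [s3, s1, ← hfca.inv_left.eq, mul_inv_cancel_right]
      calc b * t * b⁻¹ = ⁅b, t⁆ * t := by simp only [commutatorElement_def]; group
        _ = t⁻¹ := by rw [h, inv_mul_cancel_right]
    exact commutatorElement_eq_one_iff_mul_comm.1 (hodd t htB hbt)
  have hDle : D ≤ repl A b := le_sup_left
  have hXle : ∀ a ∈ A, b * a * b⁻¹ * a⁻¹ ∈ repl A b := fun a ha =>
    mem_sup_right (subset_closure ⟨a, ha, rfl⟩)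
  have hrepl : repl A b = closure ((D : Set G) ∪ X) := by
    rw [Subgroup.closure_union, Subgroup.closure_eq]
    rfl
  -- abelian
  have hab : IsMulCommutative (repl A b) := by
    rw [hrepl]
    refine isMulCommutative_closure ?_
    have hDX : ∀ d ∈ D, ∀ a ∈ A, d * (b * a * b⁻¹ * a⁻¹) = (b * a * b⁻¹ * a⁻¹) * d := fun d hd a ha =>
      ((hDcent hd ha).2.mul_right (hDcent hd ha).1.inv_right).eq
    rintro x (hx | ⟨a, ha, rfl⟩) y (hy | ⟨c, hc, rfl⟩)
    · exact (cA hx.1 hy.1).eq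
    · exact hDX x hx c hc
    · exact (hDX y hy a ha).symm
    · exact hcomm a ha c hc
  -- normalizes
  have hnA : repl A b ≤ normalizer (A : Set G) := by
    refine sup_le (inf_le_left.trans le_normalizer) ((closure_le _).2 ?_)
    rintro _ ⟨a, ha, rfl⟩
    exact mul_mem (hA₁ (hmem₁ ha)) (le_normalizer (inv_mem ha))
  have hAn : A ≤ normalizer ((repl A b : Subgroup G) : Set G) := fun a ha => by
    refine mem_normalizer_fintype fun x hx => ?_
    have h : (repl A b).map (MulAut.conj a).toMonoidHom ≤ repl A b := by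
      rw [repl, Subgroup.map_sup, sup_le_iff, Subgroup.map_le_iff_le_comap,
        Subgroup.map_le_iff_le_comap, closure_le]
      refine ⟨fun d hd => ?_, ?_⟩
      · show a * d * a⁻¹ ∈ repl A b
        rw [← (hDcent hd ha).1.eq, mul_inv_cancel_right]
        exact hDle hd
      · rintro _ ⟨c, hc, rfl⟩
        show a * (b * c * b⁻¹ * c⁻¹) * a⁻¹ ∈ repl A b
        rw [hconj ha hc]
        exact mul_mem (hDle (hf ha hc)) (hXle c hc)
    exact h ⟨x, hx, rfl⟩
  -- the intersection with `B`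
  have hAB : A ⊓ B ≤ D := by
    have hle : (A ⊓ B).map (MulAut.conj b).toMonoidHom ≤ A ⊓ B := by
      rintro _ ⟨y, ⟨hyA, hyB⟩, rfl⟩
      show b * y * b⁻¹ ∈ A ⊓ B
      rw [show b * y * b⁻¹ = ⁅b, y⁆ * y by simp only [commutatorElement_def]; group]
      exact ⟨mul_mem (hBA (commutator_mem_commutator hb hyB)) hyA,
        B.mul_mem (B.mul_mem (B.mul_mem (B.mul_mem hb hyB) (B.inv_mem hb)) (B.inv_mem hyB)) hyB⟩
    have he := Subgroup.eq_of_le_of_card_ge hle
      (le_of_eq (Nat.card_congr ((A ⊓ B).equivMapOfInjective _ (MulAut.conj b).injective).toEquiv))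
    rw [← he]
    exact le_inf (hle.trans inf_le_left) (Subgroup.map_mono inf_le_left)
  have hlt : A ⊓ B < repl A b ⊓ B := by
    refine lt_of_le_not_ge (le_inf (hAB.trans hDle) inf_le_right) fun hge => hbA ?_
    refine mem_normalizer_fintype fun a ha => ?_
    have h := (hge ⟨hXle a ha, repl_gen_mem hb a⟩).1
    show b * a * b⁻¹ ∈ A
    simpa using mul_mem h ha
  -- the order
  have hcard : Nat.card A ≤ Nat.card (repl A b) := by
    haveI := hab
    let φ : A →* repl A b ⧸ D.subgroupOf (repl A b) :=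
      MonoidHom.mk' (fun a => QuotientGroup.mk ⟨b * a * b⁻¹ * (a : G)⁻¹, hXle a a.2⟩) fun a c => by
        rw [← QuotientGroup.mk_mul, QuotientGroup.eq, mem_subgroupOf]
        simp only [coe_mul, coe_inv]
        have h : b * ((a : G) * c) * b⁻¹ * ((a : G) * c)⁻¹ =
            (b * a * b⁻¹ * (a : G)⁻¹) * ((a : G) * (b * c * b⁻¹ * (c : G)⁻¹) * (a : G)⁻¹) := by
          group
        rw [h, hconj a.2 c.2]
        have h1 := ((hDcent (hf a.2 c.2) c.2).2.mul_right (hDcent (hf a.2 c.2) c.2).1.inv_right).eq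
        rw [h1, ← mul_assoc]
        group
        exact zpow_mem (hf a.2 c.2) _
    have hker : φ.ker.map A.subtype ≤ D := by
      rintro _ ⟨a, ha, rfl⟩
      have h := (QuotientGroup.eq_one_iff _).1 (MonoidHom.mem_ker.1 ha)
      rw [mem_subgroupOf] at h
      have h' : b * a * b⁻¹ * (a : G)⁻¹ ∈ D := h
      refine ⟨a.2, ?_⟩
      have := A₁.mul_mem (A₁.inv_mem h'.2) (hmem₁ a.2)
      show (a : G) ∈ A₁
      simpa [mul_assoc] using this
    rw [← φ.ker.card_mul_index, Subgroup.index_ker,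
      Subgroup.card_eq_card_quotient_mul_card_subgroup (D.subgroupOf (repl A b)),
      Nat.card_congr (subgroupOfEquivOfLe hDle).toEquiv, mul_comm _ (Nat.card D)]
    refine Nat.mul_le_mul ?_ (Nat.card_le_card_of_injective _ Subtype.val_injective)
    rw [← card_map_of_injective A.subtype_injective]
    exact Subgroup.card_le_of_le hker
  refine ⟨hab, hcard, ?_, hlt, hnA, hAn⟩
  exact (le_inf hBA (commutator_le.2 fun x hx y hy =>
    mul_mem (mul_mem (mul_mem hx hy) (inv_mem hx)) (inv_mem hy))).trans (hAB.trans hDle)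

/-- An odd exponent of `A` is an exponent of `A*`. -/
theorem repl_pow_eq_one (hA : IsMulCommutative A) (hab : IsMulCommutative (repl A b))
    (hA₁ : A.map (MulAut.conj b).toMonoidHom ≤ normalizer (A : Set G))
    (hA₁' : A ≤ normalizer ((A.map (MulAut.conj b).toMonoidHom : Subgroup G) : Set G))
    {n : ℕ} (hn : Odd n) (hpow : ∀ a ∈ A, a ^ n = 1) : ∀ x ∈ repl A b, x ^ n = 1 := by
  set A₁ := A.map (MulAut.conj b).toMonoidHom with hA₁def
  have cA : ∀ {s t : G}, s ∈ A → t ∈ A → Commute s t := fun hs ht =>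
    congrArg Subtype.val (hA.is_comm.comm ⟨_, hs⟩ ⟨_, ht⟩)
  have hgen : ∀ a ∈ A, (b * a * b⁻¹ * a⁻¹) ^ n = 1 := by
    intro a ha
    set u := b * a * b⁻¹ with hu
    have hu₁ : u ∈ A₁ := ⟨a, ha, rfl⟩
    set z := a⁻¹ * u * a * u⁻¹ with hz
    have hzA : z ∈ A := by
      rw [hz, mul_assoc a⁻¹, mul_assoc a⁻¹]
      exact A.mul_mem (A.inv_mem ha) ((mem_normalizer_iff.1 (hA₁ hu₁) a).1 ha)
    have hzA₁ : z ∈ A₁ := by
      refine A₁.mul_mem ?_ (A₁.inv_mem hu₁)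
      simpa using (mem_normalizer_iff.1 (inv_mem (hA₁' ha)) u).1 hu₁
    have hzu : Commute z u := by
      obtain ⟨y, hy, hye⟩ := hzA₁
      rw [← hye]
      exact (cA hy ha).map (MulAut.conj b).toMonoidHom
    have hzv : Commute z a⁻¹ := (cA hzA ha).inv_right
    have hvu : ∀ k : ℕ, a⁻¹ * u ^ k = z ^ k * (u ^ k * a⁻¹) := by
      intro k
      induction k with
      | zero => simp
      | succ k ih =>
        calc a⁻¹ * u ^ (k + 1) = a⁻¹ * u * u ^ k := by rw [pow_succ', ← mul_assoc]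
          _ = z * u * (a⁻¹ * u ^ k) := by
            rw [show a⁻¹ * u = z * u * a⁻¹ by rw [hz]; group, mul_assoc]
          _ = z * (u * z ^ k) * (u ^ k * a⁻¹) := by rw [ih]; group
          _ = z ^ (k + 1) * (u ^ (k + 1) * a⁻¹) := by
            rw [← (hzu.pow_left k).eq, pow_succ', pow_succ']; group
    have hexp : ∀ k : ℕ, (u * a⁻¹) ^ k = z ^ (k.choose 2) * (u ^ k * (a⁻¹) ^ k) := by
      intro k
      induction k with
      | zero => simp
      | succ k ih =>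
        have e : (k + 1).choose 2 = k.choose 2 + k := by
          rw [Nat.choose_succ_succ', Nat.choose_one_right, add_comm]
        have h1 : Commute (z ^ k.choose 2) (u * a⁻¹) := (hzu.mul_right hzv).pow_left _
        calc (u * a⁻¹) ^ (k + 1) = u * a⁻¹ * (z ^ k.choose 2 * (u ^ k * (a⁻¹) ^ k)) := by
              rw [pow_succ', ih]
          _ = z ^ k.choose 2 * (u * (a⁻¹ * u ^ k) * (a⁻¹) ^ k) := by
              rw [← mul_assoc, ← h1.eq]; group
          _ = z ^ k.choose 2 * ((u * z ^ k) * (u ^ k * a⁻¹) * (a⁻¹) ^ k) := by rw [hvu]; group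
          _ = z ^ (k + 1).choose 2 * (u ^ (k + 1) * (a⁻¹) ^ (k + 1)) := by
              rw [← (hzu.pow_left k).eq, e, pow_add, pow_succ' u, pow_succ' a⁻¹]; group
    have hzn : z ^ n.choose 2 = 1 := by
      obtain ⟨m, hm⟩ := hn
      have : n.choose 2 = n * m := by
        rw [Nat.choose_two_right, hm, show 2 * m + 1 - 1 = 2 * m by omega,
          show (2 * m + 1) * (2 * m) = (2 * m + 1) * m * 2 by ring, Nat.mul_div_cancel _ two_pos]
      rw [this, pow_mul, hpow z hzA, one_pow]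
    have hun : u ^ n = 1 := by
      rw [hu, conj_pow, hpow a ha, mul_one, mul_inv_cancel]
    rw [hexp, hzn, hun, inv_pow, hpow a ha]
    simp
  have hle : repl A b ≤ closure {x ∈ (repl A b : Set G) | x ^ n = 1} := by
    refine sup_le (fun x hx => subset_closure ⟨mem_sup_left hx, hpow x hx.1⟩) ((closure_le _).2 ?_)
    rintro _ ⟨a, ha, rfl⟩
    exact subset_closure ⟨mem_sup_right (subset_closure ⟨a, ha, rfl⟩), hgen a ha⟩
  intro x hx
  have key : ∀ y ∈ closure {x ∈ (repl A b : Set G) | x ^ n = 1}, y ∈ repl A b ∧ y ^ n = 1 := by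
    intro y hy
    induction hy using Subgroup.closure_induction with
    | mem y hy => exact hy
    | one => exact ⟨one_mem _, one_pow n⟩
    | mul y w _ _ hy hw =>
      refine ⟨mul_mem hy.1 hw.1, ?_⟩
      have hc : Commute y w := congrArg Subtype.val (hab.is_comm.comm ⟨y, hy.1⟩ ⟨w, hw.1⟩)
      rw [hc.mul_pow, hy.2, hw.2, one_mul]
    | inv y _ hy => exact ⟨inv_mem hy.1, by rw [inv_pow, hy.2, inv_one]⟩
  exact (key x (hle hx)).2

end Replacement

/-- `A` is an abelian subgroup of `P` of largest order. -/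
def IsMaxAbIn (P A : Subgroup G) : Prop :=
  A ≤ P ∧ IsMulCommutative A ∧ ∀ C ≤ P, IsMulCommutative C → Nat.card C ≤ Nat.card A

/-- An element of odd order fixes what it inverts, so nothing but elements with trivial square. -/
theorem eq_one_of_conj_eq_inv {P : Subgroup G} {p : ℕ} [Fact p.Prime] (hp : p ≠ 2)
    (hP : IsPGroup p P) {b x : G} (hb : b ∈ P) (hx : x ∈ P) (h : b * x * b⁻¹ = x⁻¹) : x = 1 := by
  obtain ⟨k, hk⟩ := hP ⟨b, hb⟩
  obtain ⟨l, hl⟩ := hP ⟨x, hx⟩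
  have hk' : b ^ p ^ k = 1 := congrArg Subtype.val hk
  have hl' : x ^ p ^ l = 1 := congrArg Subtype.val hl
  have hpow : ∀ n : ℕ, b ^ n * x * (b ^ n)⁻¹ = x ^ ((-1 : ℤ) ^ n) := by
    intro n
    induction n with
    | zero => simp
    | succ n ih =>
      calc b ^ (n + 1) * x * (b ^ (n + 1))⁻¹ = b * (b ^ n * x * (b ^ n)⁻¹) * b⁻¹ := by
            rw [pow_succ']; group
        _ = (b * x * b⁻¹) ^ ((-1 : ℤ) ^ n) := by rw [ih, conj_zpow]
        _ = _ := by rw [h, inv_zpow', ← mul_neg_one, pow_succ]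
  have hxx := hpow (p ^ k)
  rw [hk', ((Fact.out : p.Prime).odd_of_ne_two hp).pow.neg_one_pow] at hxx
  simp only [one_mul, inv_one, mul_one, zpow_neg, zpow_one] at hxx
  have h2 : x * x = 1 := by nth_rw 1 [hxx]; exact inv_mul_cancel x
  obtain ⟨m, hm⟩ := ((Fact.out : p.Prime).odd_of_ne_two hp).pow (n := l)
  rwa [hm, pow_succ, pow_mul, sq, h2, one_pow, one_mul] at hl'

section MaxAb

variable [Finite G] {P A : Subgroup G}

theorem isMaxAbIn_iff : IsMaxAbIn P A ↔ A ≤ P ∧ A.subgroupOf P ∈ maxAbelianSubgroups P := by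
  constructor
  · rintro ⟨hAP, hA, hmax⟩
    refine ⟨hAP, ⟨⟨fun x y => Subtype.ext (Subtype.ext ?_)⟩⟩, fun C hC => ?_⟩
    · simpa using congrArg Subtype.val
        (hA.is_comm.comm ⟨_, mem_subgroupOf.1 x.2⟩ ⟨_, mem_subgroupOf.1 y.2⟩)
    · rw [Nat.card_congr (subgroupOfEquivOfLe hAP).toEquiv]
      rw [← card_map_of_injective P.subtype_injective]
      exact hmax _ (map_subtype_le C) (haveI := hC; inferInstance)
  · rintro ⟨hAP, hA, hmax⟩
    refine ⟨hAP, ⟨⟨fun x y => Subtype.ext ?_⟩⟩, fun C hC hCc => ?_⟩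
    · exact congrArg (fun z : A.subgroupOf P => ((z : P) : G))
        (hA.is_comm.comm ⟨⟨x, hAP x.2⟩, x.2⟩ ⟨⟨y, hAP y.2⟩, y.2⟩)
    · have h := hmax (C.subgroupOf P) ⟨⟨fun x y => Subtype.ext (Subtype.ext
        (by simpa using
          congrArg Subtype.val (hCc.is_comm.comm ⟨_, mem_subgroupOf.1 x.2⟩ ⟨_, mem_subgroupOf.1 y.2⟩)))⟩⟩
      rwa [Nat.card_congr (subgroupOfEquivOfLe hAP).toEquiv,
        Nat.card_congr (subgroupOfEquivOfLe hC).toEquiv] at h

theorem thompsonSubgroupAOf_eq (P : Subgroup G) :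
    thompsonSubgroupAOf P = sSup {A | IsMaxAbIn P A} := by
  apply le_antisymm
  · rw [thompsonSubgroupAOf, thompsonSubgroupA, Subgroup.map_le_iff_le_comap, sSup_le_iff]
    intro B hB
    rw [← Subgroup.map_le_iff_le_comap]
    refine le_sSup (isMaxAbIn_iff.2 ⟨map_subtype_le B, ?_⟩)
    rwa [subgroupOf, comap_map_eq_self_of_injective P.subtype_injective]
  · rw [sSup_le_iff]
    intro A hA
    obtain ⟨hAP, hA'⟩ := isMaxAbIn_iff.1 hA
    rw [← map_subgroupOf_eq_of_le hAP]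
    exact Subgroup.map_mono (le_sSup hA')

theorem exists_isMaxAbIn (P : Subgroup G) : ∃ A, IsMaxAbIn P A := by
  obtain ⟨A, hA, hmax⟩ := Set.exists_max_image {A : Subgroup G | A ≤ P ∧ IsMulCommutative A}
    (fun A => Nat.card A) (Set.toFinite _)
    ⟨⊥, bot_le, ⟨⟨fun x y => Subtype.ext (by simp [Subgroup.mem_bot.1 x.2, Subgroup.mem_bot.1 y.2])⟩⟩⟩
  exact ⟨A, hA.1, hA.2, fun C hC hCc => hmax C ⟨hC, hCc⟩⟩

/-- An abelian subgroup of largest order contains what it commutes with. -/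
theorem IsMaxAbIn.mem_of_commute (hA : IsMaxAbIn P A) {x : G} (hx : x ∈ P)
    (h : ∀ a ∈ A, Commute x a) : x ∈ A := by
  obtain ⟨hAP, hAc, hmax⟩ := hA
  have hC : IsMulCommutative (closure ((A : Set G) ∪ {x})) := by
    refine isMulCommutative_closure ?_
    rintro s (hs | rfl) t (ht | rfl)
    · exact congrArg Subtype.val (hAc.is_comm.comm ⟨s, hs⟩ ⟨t, ht⟩)
    · exact (h s hs).symm.eq
    · exact (h t ht).eq
    · rfl
  have hle : closure ((A : Set G) ∪ {x}) ≤ P :=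
    (closure_le _).2 (Set.union_subset hAP (Set.singleton_subset_iff.2 hx))
  have he := Subgroup.eq_of_le_of_card_ge (fun a ha => subset_closure (Or.inl ha)) (hmax _ hle hC)
  exact he.ge (subset_closure (Or.inr rfl))

theorem centerThompsonAOf_le_of_isMaxAbIn (hA : IsMaxAbIn P A) : centerThompsonAOf P ≤ A := by
  rintro z ⟨hzJ, hzc⟩
  refine hA.mem_of_commute (map_subtype_le _ hzJ) fun a ha => ?_
  have haJ : a ∈ thompsonSubgroupAOf P := by
    rw [thompsonSubgroupAOf_eq]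
    exact le_sSup (show A ∈ {A | IsMaxAbIn P A} from hA) ha
  exact (mem_centralizer_iff.1 hzc a haJ).symm

theorem centerThompsonAOf_le (P : Subgroup G) : centerThompsonAOf P ≤ P :=
  inf_le_left.trans (map_subtype_le _)

theorem map_thompsonSubgroupAOf (e : G ≃* G) (P : Subgroup G) :
    (thompsonSubgroupAOf P).map e.toMonoidHom = thompsonSubgroupAOf (P.map e.toMonoidHom) := by
  have key : ∀ (e : G ≃* G) (P A : Subgroup G), IsMaxAbIn P A →
      IsMaxAbIn (P.map e.toMonoidHom) (A.map e.toMonoidHom) := by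
    intro e P A ⟨h1, h2, h3⟩
    refine ⟨Subgroup.map_mono h1, (haveI := h2; inferInstance), fun C hC hCc => ?_⟩
    rw [card_map_of_injective e.injective, Nat.card_congr (C.equivMapOfInjective e.symm.toMonoidHom e.symm.injective).toEquiv]
    refine h3 _ ?_ (haveI := hCc; inferInstance)
    rintro _ ⟨x, hx, rfl⟩
    obtain ⟨y, hy, rfl⟩ := hC hx
    simpa using hy
  rw [thompsonSubgroupAOf_eq, thompsonSubgroupAOf_eq, (Subgroup.gc_map_comap _).l_sSup]
  refine le_antisymm (iSup₂_le fun A hA => le_sSup (key e P A hA)) (sSup_le fun A hA => ?_)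
  have h := key e.symm _ A hA
  have hid : ∀ (H : Subgroup G) (f : G ≃* G), (H.map f.toMonoidHom).map f.symm.toMonoidHom = H := by
    intro H f
    rw [Subgroup.map_map]
    convert Subgroup.map_id H
    ext x
    simp
  rw [hid] at h
  refine le_trans (le_of_eq ?_) (le_iSup₂ (f := fun B _ => Subgroup.map e.toMonoidHom B) _ h)
  simpa using (hid A e.symm).symm

theorem map_centerThompsonAOf (e : G ≃* G) (P : Subgroup G) :
    (centerThompsonAOf P).map e.toMonoidHom = centerThompsonAOf (P.map e.toMonoidHom) := by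
  have h := map_thompsonSubgroupAOf e P
  rw [centerThompsonAOf, centerThompsonAOf, ← h, Subgroup.map_inf _ _ _ e.injective]
  congr 1
  ext x
  constructor
  · rintro ⟨y, hy, rfl⟩ _ ⟨z, hz, rfl⟩
    simp only [MulEquiv.coe_toMonoidHom, ← map_mul, mem_centralizer_iff.1 hy z hz]
  · intro hx
    refine ⟨e.symm x, fun z hz => e.injective ?_, e.apply_symm_apply x⟩
    have := hx _ ⟨z, hz, rfl⟩
    simpa using this

theorem normalizer_le_normalizer_centerThompsonAOf (P : Subgroup G) :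
    normalizer (P : Set G) ≤ normalizer (centerThompsonAOf P : Set G) := fun g hg => by
  refine mem_normalizer_fintype fun x hx => ?_
  have hP : P.map (MulAut.conj g).toMonoidHom = P := by
    refine Subgroup.eq_of_le_of_card_ge ?_ (le_of_eq
      (Nat.card_congr (P.equivMapOfInjective _ (MulAut.conj g).injective).toEquiv))
    rintro _ ⟨y, hy, rfl⟩
    exact (mem_normalizer_iff.1 hg y).1 hy
  have h := map_centerThompsonAOf (MulAut.conj g) P
  rw [hP] at h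
  exact h.le ⟨x, hx, rfl⟩

/-- Glauberman's replacement theorem. -/
theorem exists_replacementIn {p : ℕ} [Fact p.Prime] (hp : p ≠ 2) (hP : IsPGroup p P)
    {D : Subgroup G} (hDP : D ≤ P) (hPD : P ≤ normalizer (D : Set G))
    {B : Subgroup G} [B.Normal] (hBP : B ≤ P)
    (hA : IsMaxAbIn D A) (hBA : ⁅B, B⁆ ≤ A) (hnot : ¬ B ≤ normalizer (A : Set G)) :
    ∃ A', IsMaxAbIn D A' ∧ ⁅B, B⁆ ≤ A' ∧ A ⊓ B < A' ⊓ B ∧ A' ≤ normalizer (A : Set G) := by
  set N := normalizer (A : Set G) ⊓ P with hN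
  have hNlt : N < N ⊔ B := lt_of_le_not_ge le_sup_left fun h =>
    hnot ((le_sup_right.trans h).trans inf_le_left)
  have hNBp : IsPGroup p (N ⊔ B : Subgroup G) := hP.to_le (sup_le inf_le_right hBP)
  obtain ⟨g, ⟨hgM, hgN⟩, hgnot⟩ := SetLike.exists_of_lt (Cfsg.Lib.Fusion.lt_inf_normalizer hNBp hNlt)
  obtain ⟨n, hn, b, hb, rfl⟩ := mem_sup_of_normal_right.1 hgM
  have hbN : b ∈ normalizer (N : Set G) := by
    simpa using mul_mem (inv_mem (le_normalizer hn)) hgN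
  have hbA : b ∉ normalizer (A : Set G) := fun h => hgnot (mul_mem hn ⟨h, hBP hb⟩)
  have hAN : A ≤ N := le_inf le_normalizer (hA.1.trans hDP)
  have h1 : A.map (MulAut.conj b).toMonoidHom ≤ normalizer (A : Set G) := by
    rintro _ ⟨a, ha, rfl⟩
    exact ((mem_normalizer_iff.1 hbN a).1 (hAN ha)).1
  have h2 : A ≤ normalizer ((A.map (MulAut.conj b).toMonoidHom : Subgroup G) : Set G) := fun a ha => by
    have h3 : b⁻¹ * a * b ∈ normalizer (A : Set G) := by
      have := ((mem_normalizer_iff.1 (inv_mem hbN) a).1 (hAN ha)).1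
      simpa using this
    refine mem_normalizer_fintype fun x hx => ?_
    obtain ⟨y, hy, rfl⟩ := hx
    exact ⟨_, (mem_normalizer_iff.1 h3 y).1 hy, by simp [mul_assoc]⟩
  have hodd : ∀ x ∈ ⁅B, B⁆, b * x * b⁻¹ = x⁻¹ → x = 1 := fun x hx h =>
    eq_one_of_conj_eq_inv hp hP (hBP hb) (hDP (hA.1 (hBA hx))) h
  obtain ⟨r1, r2, r3, r4, r5, -⟩ := repl_spec hA.2.1 hBA hodd hb h1 h2 hbA
  have hrP : repl A b ≤ D := sup_le (inf_le_left.trans hA.1) ((closure_le _).2 (by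
    rintro _ ⟨a, ha, rfl⟩
    exact mul_mem ((mem_normalizer_iff.1 (hPD (hBP hb)) a).1 (hA.1 ha)) (inv_mem (hA.1 ha))))
  exact ⟨repl A b, ⟨hrP, r1, fun C hC hCc => (hA.2.2 C hC hCc).trans r2⟩, r3, r4, r5⟩

theorem exists_replacement {p : ℕ} [Fact p.Prime] (hp : p ≠ 2) (hP : IsPGroup p P)
    {B : Subgroup G} [B.Normal] (hBP : B ≤ P)
    (hA : IsMaxAbIn P A) (hBA : ⁅B, B⁆ ≤ A) (hnot : ¬ B ≤ normalizer (A : Set G)) :
    ∃ A', IsMaxAbIn P A' ∧ ⁅B, B⁆ ≤ A' ∧ A ⊓ B < A' ⊓ B ∧ A' ≤ normalizer (A : Set G) :=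
  exists_replacementIn hp hP le_rfl le_normalizer hBP hA hBA hnot

end MaxAb

section ZJ

variable [Finite G] {p : ℕ} [hp : Fact p.Prime]

theorem le_sylow_of_normal {B : Subgroup G} [B.Normal] (hB : IsPGroup p B) (P : Sylow p G) :
    B ≤ (P : Subgroup G) := by
  have h := P.is_maximal' (hB.to_sup_of_normal_left P.isPGroup') le_sup_right
  exact le_sup_left.trans h.le

/-- The intersection of the members of `𝒜` contained in `Q`. -/
def familyInf (𝒜 : Set (Subgroup G)) (Q : Subgroup G) : Subgroup G :=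
  ⨅ A ∈ {A : Subgroup G | A ∈ 𝒜 ∧ A ≤ Q}, A

theorem familyInf_le {𝒜 : Set (Subgroup G)} {A Q : Subgroup G} (hA : A ∈ 𝒜) (hAQ : A ≤ Q) :
    familyInf 𝒜 Q ≤ A :=
  iInf₂_le (f := fun (B : Subgroup G) (_ : B ∈ {A : Subgroup G | A ∈ 𝒜 ∧ A ≤ Q}) => B) A ⟨hA, hAQ⟩

theorem familyInf_anti {𝒜 : Set (Subgroup G)} {Q R : Subgroup G} (h : Q ≤ R) :
    familyInf 𝒜 R ≤ familyInf 𝒜 Q :=
  le_iInf₂ fun _ hA => familyInf_le hA.1 (hA.2.trans h)

/-- The main step of the axiomatic `ZJ`-theorem. -/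
theorem inf_familyInf_normal
    (hst : ∀ (V : Subgroup G) [V.Normal], IsPGroup p V → IsPStableOn p V) (P : Sylow p G)
    (𝒜 : Set (Subgroup G)) (h𝒜 : ∀ A ∈ 𝒜, A ≤ (P : Subgroup G) ∧ IsMulCommutative A)
    (hne : 𝒜.Nonempty)
    (hinv : ∀ Q : Subgroup G, Q ≤ (P : Subgroup G) → (∃ A ∈ 𝒜, A ≤ Q) →
      normalizer (Q : Set G) ≤ normalizer (familyInf 𝒜 Q : Set G))
    (hrep : ∀ B : Subgroup G, B.Normal → B ≤ (P : Subgroup G) →
      (∀ x ∈ ⁅B, B⁆, ∀ y ∈ B, Commute x y) → (∃ A ∈ 𝒜, ⁅B, B⁆ ≤ A ∧ ¬ B ≤ A) →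
      ∃ A ∈ 𝒜, ⁅B, B⁆ ≤ A ∧ ¬ B ≤ A ∧ B ≤ normalizer (A : Set G))
    (B : Subgroup G) : B.Normal → IsPGroup p B →
      (B ⊓ familyInf 𝒜 (P : Subgroup G)).Normal := by
  induction B using WellFoundedLT.induction with
  | ind B ih =>
  intro hBn hBp
  haveI := hBn
  set Z := familyInf 𝒜 (P : Subgroup G) with hZ
  have hBP : B ≤ (P : Subgroup G) := le_sylow_of_normal hBp P
  obtain ⟨A₁, hA₁⟩ := hne
  have hPZ : (P : Subgroup G) ≤ normalizer (Z : Set G) :=
    le_normalizer.trans (hinv _ le_rfl ⟨A₁, hA₁, (h𝒜 A₁ hA₁).1⟩)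
  have hZc : ∀ {x y : G}, x ∈ Z → y ∈ Z → Commute x y := fun hx hy =>
    congrArg Subtype.val ((h𝒜 A₁ hA₁).2.is_comm.comm
      ⟨_, familyInf_le hA₁ (h𝒜 A₁ hA₁).1 hx⟩ ⟨_, familyInf_le hA₁ (h𝒜 A₁ hA₁).1 hy⟩)
  by_cases hB0 : B = ⊥
  · rw [hB0, bot_inf_eq]
    infer_instance
  set B₁ := normalClosure ((B ⊓ Z : Subgroup G) : Set G) with hB₁
  have hB₁le : B₁ ≤ B := normalClosure_le_normal (fun x hx => hx.1)
  rcases eq_or_lt_of_le hB₁le with hB₁eq | hlt
  swap
  · have h := ih B₁ hlt normalClosure_normal (hBp.to_le hB₁le)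
    have he : B₁ ⊓ Z = B ⊓ Z :=
      le_antisymm (inf_le_inf_right _ hB₁le) (le_inf subset_normalClosure inf_le_right)
    rwa [he] at h
  -- the derived subgroup of `B`
  have hB'le : ⁅B, B⁆ < B := by
    haveI := hBp.isNilpotent
    haveI : Nontrivial B := (nontrivial_iff_ne_bot B).2 hB0
    have h := Group.IsSolvable.commutator_lt_top_of_nontrivial B
    have h' := (Subgroup.map_subtype_lt_map_subtype (G' := B)).2 h
    rwa [commutator_def, map_commutator, ← MonoidHom.range_eq_map, range_subtype] at h'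
  haveI hY : (⁅B, B⁆ ⊓ Z).Normal := ih _ hB'le inferInstance (hBp.to_le hB'le.le)
  have hBZ : ⁅B, B⁆ ≤ Z := by
    let q := QuotientGroup.mk' (⁅B, B⁆ ⊓ Z)
    haveI : (B.map q).Normal := hBn.map q (QuotientGroup.mk'_surjective _)
    have h1 : ((B ⊓ Z : Subgroup G) : Set G) ⊆
        ((centralizer (B.map q : Set (G ⧸ (⁅B, B⁆ ⊓ Z)))).comap q : Subgroup G) := by
      intro x hx
      rw [SetLike.mem_coe, mem_comap, mem_centralizer_iff]
      rintro _ ⟨y, hy, rfl⟩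
      refine (commutatorElement_eq_one_iff_mul_comm.1 ?_)
      rw [← map_commutatorElement]
      refine (QuotientGroup.eq_one_iff _).2 ⟨commutator_mem_commutator hy hx.1, ?_⟩
      rw [commutatorElement_def]
      exact Z.mul_mem ((mem_normalizer_iff.1 (hPZ (hBP hy)) x).1 hx.2) (Z.inv_mem hx.2)
    have h3 := normalClosure_le_normal h1
    rw [← hB₁, hB₁eq] at h3
    refine le_trans (b := ⁅B, B⁆ ⊓ Z) (commutator_le.2 fun x hx y hy => ?_) inf_le_right
    rw [← QuotientGroup.eq_one_iff, ← QuotientGroup.mk'_apply, map_commutatorElement]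
    exact commutatorElement_eq_one_iff_mul_comm.2
      (mem_centralizer_iff.1 (h3 hy) _ ⟨x, hx, rfl⟩)
  have hcl : ∀ x ∈ ⁅B, B⁆, ∀ y ∈ B, Commute x y := by
    have h1 : ((B ⊓ Z : Subgroup G) : Set G) ⊆
        (centralizer ((⁅B, B⁆ : Subgroup G) : Set G) : Subgroup G) := fun z hz x hx => (hZc (hBZ hx) hz.2).eq
    have h3 := normalClosure_le_normal h1
    rw [← hB₁, hB₁eq] at h3
    exact fun x hx y hy => mem_centralizer_iff.1 (h3 hy) x hx
  by_cases hall : ∀ A ∈ 𝒜, B ≤ A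
  · have hBle : B ≤ Z := le_iInf₂ fun A hA => hall A hA.1
    rw [inf_eq_left.2 hBle]
    exact hBn
  exfalso
  push Not at hall
  obtain ⟨A', hA', hBA'⟩ := hall
  obtain ⟨A₀, hA₀, hB'A₀, hBA₀, hBN⟩ := hrep B hBn hBP hcl
    ⟨A', hA', hBZ.trans (familyInf_le hA' (h𝒜 A' hA').1), hBA'⟩
  -- the preimage of the largest normal `p`-subgroup
  haveI : (centralizer (B : Set G)).Normal := inferInstance
  set q := QuotientGroup.mk' (centralizer (B : Set G)) with hq
  set L := (pCore p (G ⧸ centralizer (B : Set G))).comap q with hL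
  haveI : L.Normal := inferInstance
  have hA₀L : A₀ ≤ L := by
    intro a ha
    refine hst B hBp a ?_
    rw [commutator_eq_bot_iff_le_centralizer, commutator_le]
    intro x hx y hy z hz
    have haA : zpowers a ≤ A₀ := zpowers_le.2 ha
    have h1 : ⁅x, y⁆ ∈ A₀ :=
      A₀.mul_mem ((mem_normalizer_iff.1 (hBN hx) y).1 (haA hy)) (A₀.inv_mem (haA hy))
    exact congrArg Subtype.val ((h𝒜 A₀ hA₀).2.is_comm.comm ⟨z, haA hz⟩ ⟨_, h1⟩)
  set R := (P : Subgroup G) ⊓ L with hR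
  have hA₀R : A₀ ≤ R := le_inf (h𝒜 A₀ hA₀).1 hA₀L
  set X := B ⊓ familyInf 𝒜 R with hX
  have hNR : normalizer (R : Set G) ≤ normalizer (X : Set G) := fun g hg =>
    mem_normalizer_fintype fun x hx => ⟨hBn.conj_mem x hx.1 g,
      (mem_normalizer_iff.1 (hinv R inf_le_left ⟨A₀, hA₀, hA₀R⟩ hg) x).1 hx.2⟩
  have hCX : centralizer (B : Set G) ≤ normalizer (X : Set G) := fun g hg =>
    mem_normalizer_fintype fun x hx => by
      show g * x * g⁻¹ ∈ X
      rw [← mem_centralizer_iff.1 hg x hx.1, mul_inv_cancel_right]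
      exact hx
  -- Frattini
  have hLle : L ≤ normalizer (X : Set G) := by
    intro l hl
    have h1 : q l ∈ (P : Subgroup G).map q := by
      rw [← Sylow.coe_mapSurjective (P := P) (QuotientGroup.mk'_surjective _)]
      exact le_sylow_of_normal (Cfsg.Lib.Core.pCore_isPGroup p _) _ hl
    obtain ⟨r, hr, hrl⟩ := h1
    have h3 : r⁻¹ * l ∈ centralizer (B : Set G) := QuotientGroup.eq.1 hrl
    have hrL : r ∈ L := by
      rw [hL, mem_comap, hrl]
      exact hl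
    rw [← mul_inv_cancel_left r l]
    exact mul_mem (hNR (le_normalizer ⟨hr, hrL⟩)) (hCX h3)
  have hXn : X.Normal := by
    have hS : ¬ p ∣ (R.subgroupOf L).index := by
      rw [← relIndex, inf_relIndex_right]
      exact Solv.not_dvd_relIndex_of_isSubnormal P (Subgroup.Normal.isSubnormal inferInstance)
    let RS : Sylow p L :=
      ((P.isPGroup'.to_le inf_le_left).of_equiv
        (subgroupOfEquivOfLe (inf_le_right : R ≤ L)).symm).toSylow hS
    rw [← normalizer_eq_top_iff, eq_top_iff, ← Sylow.normalizer_sup_eq_top RS]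
    refine sup_le ?_ hLle
    rw [IsPGroup.toSylow_coe, map_subgroupOf_eq_of_le (inf_le_right : R ≤ L)]
    exact hNR
  refine hBA₀ ?_
  rw [← hB₁eq]
  exact (normalClosure_le_normal (N := X) fun x hx =>
    ⟨hx.1, familyInf_anti inf_le_left hx.2⟩).trans (inf_le_right.trans (familyInf_le hA₀ hA₀R))

/-- The axiomatic `ZJ`-theorem. -/
theorem familyInf_normal (hc : centralizer (pCore p G : Set G) ≤ pCore p G)
    (hst : ∀ (V : Subgroup G) [V.Normal], IsPGroup p V → IsPStableOn p V) (P : Sylow p G)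
    (𝒜 : Set (Subgroup G)) (h𝒜 : ∀ A ∈ 𝒜, A ≤ (P : Subgroup G) ∧ IsMulCommutative A)
    (hne : 𝒜.Nonempty)
    (hinv : ∀ Q : Subgroup G, Q ≤ (P : Subgroup G) → (∃ A ∈ 𝒜, A ≤ Q) →
      normalizer (Q : Set G) ≤ normalizer (familyInf 𝒜 Q : Set G))
    (hrep : ∀ B : Subgroup G, B.Normal → B ≤ (P : Subgroup G) →
      (∀ x ∈ ⁅B, B⁆, ∀ y ∈ B, Commute x y) → (∃ A ∈ 𝒜, ⁅B, B⁆ ≤ A ∧ ¬ B ≤ A) →
      ∃ A ∈ 𝒜, ⁅B, B⁆ ≤ A ∧ ¬ B ≤ A ∧ B ≤ normalizer (A : Set G)) :
    (familyInf 𝒜 (P : Subgroup G)).Normal := by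
  set Z := familyInf 𝒜 (P : Subgroup G) with hZ
  obtain ⟨A₁, hA₁⟩ := id hne
  have hO : IsPGroup p (pCore p G) := Cfsg.Lib.Core.pCore_isPGroup p G
  suffices h : Z ≤ pCore p G by
    have := inf_familyInf_normal hst P 𝒜 h𝒜 hne hinv hrep (pCore p G) inferInstance hO
    rwa [inf_eq_right.2 h] at this
  intro z hz
  have hOP : pCore p G ≤ (P : Subgroup G) := le_sylow_of_normal hO P
  have hPZ : (P : Subgroup G) ≤ normalizer (Z : Set G) :=
    le_normalizer.trans (hinv _ le_rfl ⟨A₁, hA₁, (h𝒜 A₁ hA₁).1⟩)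
  have hZA : Z ≤ A₁ := familyInf_le hA₁ (h𝒜 A₁ hA₁).1
  have hq := hst (pCore p G) hO z (by
    rw [commutator_eq_bot_iff_le_centralizer, commutator_le]
    intro x hx y hy w hw
    have hyZ : y ∈ Z := zpowers_le.2 hz hy
    have h1 : ⁅x, y⁆ ∈ Z :=
      Z.mul_mem ((mem_normalizer_iff.1 (hPZ (hOP hx)) y).1 hyZ) (Z.inv_mem hyZ)
    exact congrArg Subtype.val ((h𝒜 A₁ hA₁).2.is_comm.comm
      ⟨w, hZA (zpowers_le.2 hz hw)⟩ ⟨_, hZA h1⟩))
  haveI : (centralizer (pCore p G : Set G)).Normal := inferInstance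
  have hker : IsPGroup p (QuotientGroup.mk' (centralizer (pCore p G : Set G))).ker := by
    rw [QuotientGroup.ker_mk']
    exact hO.to_le hc
  have h1 := (Cfsg.Lib.Core.pCore_isPGroup p (G ⧸ centralizer (pCore p G : Set G))).comap_of_ker_isPGroup
    (QuotientGroup.mk' _) hker
  exact Cfsg.Lib.Core.le_pCore' (Subgroup.Normal.comap inferInstance _) h1 hq

/-- The maximal abelian subgroups inside a `Q` containing one of them are those of `Q`. -/
theorem familyInf_isMaxAbIn {P Q : Subgroup G} (hQP : Q ≤ P)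
    (h : ∃ A ∈ {A | IsMaxAbIn P A}, A ≤ Q) :
    familyInf {A | IsMaxAbIn P A} Q = centerThompsonAOf Q := by
  obtain ⟨A₀, hA₀, hA₀Q⟩ := h
  have hiff : ∀ A, (IsMaxAbIn P A ∧ A ≤ Q) ↔ IsMaxAbIn Q A := fun A => by
    constructor
    · exact fun hA => ⟨hA.2, hA.1.2.1, fun C hC hCc => hA.1.2.2 C (hC.trans hQP) hCc⟩
    · exact fun hA => ⟨⟨hA.1.trans hQP, hA.2.1, fun C hC hCc =>
        (hA₀.2.2 C hC hCc).trans (hA.2.2 A₀ hA₀Q hA₀.2.1)⟩, hA.1⟩
  refine le_antisymm ?_ (le_iInf₂ fun A hA => centerThompsonAOf_le_of_isMaxAbIn ((hiff A).1 hA))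
  have hJ : familyInf {A | IsMaxAbIn P A} Q ≤ thompsonSubgroupAOf Q := by
    rw [thompsonSubgroupAOf_eq]
    exact (familyInf_le (𝒜 := {A | IsMaxAbIn P A}) hA₀ hA₀Q).trans (le_sSup ((hiff A₀).1 ⟨hA₀, hA₀Q⟩))
  refine le_inf hJ ?_
  rw [← Subgroup.le_centralizer_iff, thompsonSubgroupAOf_eq, sSup_le_iff]
  intro A hA a ha y hy
  exact congrArg Subtype.val (hA.2.1.is_comm.comm
    ⟨y, familyInf_le (𝒜 := {A | IsMaxAbIn P A}) ((hiff A).2 hA).1 hA.1 hy⟩ ⟨a, ha⟩)

theorem exists_normalized_maxAbIn (h2 : p ≠ 2) {P : Subgroup G} (hP : IsPGroup p P)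
    {B : Subgroup G} [B.Normal] (hBP : B ≤ P)
    (h : ∃ A, IsMaxAbIn P A ∧ ⁅B, B⁆ ≤ A ∧ ¬ B ≤ A) :
    ∃ A, IsMaxAbIn P A ∧ ⁅B, B⁆ ≤ A ∧ ¬ B ≤ A ∧ B ≤ normalizer (A : Set G) := by
  obtain ⟨A, ⟨hA, hA', hA''⟩, hmax⟩ := Set.exists_max_image
    {A | IsMaxAbIn P A ∧ ⁅B, B⁆ ≤ A ∧ ¬ B ≤ A}
    (fun A => Nat.card (A ⊓ B : Subgroup G)) (Set.toFinite _) h
  refine ⟨A, hA, hA', hA'', ?_⟩
  by_contra hn
  obtain ⟨A', h1, h3, hlt, hnorm⟩ := exists_replacement h2 hP hBP hA hA' hn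
  exact absurd (hmax A' ⟨h1, h3, fun hB => hn (hB.trans hnorm)⟩)
    (not_le.2 (Set.Finite.card_lt_card (Set.toFinite _) hlt))

/-- For `p` odd, `B ∩ Z(J(P))` is normal for every normal `p`-subgroup `B`. -/
theorem inf_centerThompsonA_normal (h2 : p ≠ 2)
    (hst : ∀ (V : Subgroup G) [V.Normal], IsPGroup p V → IsPStableOn p V) (P : Sylow p G)
    (B : Subgroup G) (hBn : B.Normal) (hBp : IsPGroup p B) :
    (B ⊓ centerThompsonAOf (P : Subgroup G)).Normal := by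
  obtain ⟨A₀, hA₀⟩ := exists_isMaxAbIn (P : Subgroup G)
  rw [← familyInf_isMaxAbIn le_rfl ⟨A₀, hA₀, hA₀.1⟩]
  refine inf_familyInf_normal hst P {A | IsMaxAbIn (P : Subgroup G) A}
    (fun A hA => ⟨hA.1, hA.2.1⟩) ⟨A₀, hA₀⟩ (fun Q hQ hex => ?_) (fun B hBn hBP hcl hex => ?_) B hBn hBp
  · rw [familyInf_isMaxAbIn hQ hex]
    exact normalizer_le_normalizer_centerThompsonAOf Q
  · haveI := hBn
    exact exists_normalized_maxAbIn h2 P.isPGroup' hBP hex

/-- The `ZJ`-theorem. -/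
theorem centerThompsonA_normal (h2 : p ≠ 2)
    (hc : centralizer (pCore p G : Set G) ≤ pCore p G)
    (hst : ∀ (V : Subgroup G) [V.Normal], IsPGroup p V → IsPStableOn p V) (P : Sylow p G) :
    (centerThompsonAOf (P : Subgroup G)).Normal := by
  obtain ⟨A₀, hA₀⟩ := exists_isMaxAbIn (P : Subgroup G)
  rw [← familyInf_isMaxAbIn le_rfl ⟨A₀, hA₀, hA₀.1⟩]
  refine familyInf_normal hc hst P {A | IsMaxAbIn (P : Subgroup G) A}
    (fun A hA => ⟨hA.1, hA.2.1⟩) ⟨A₀, hA₀⟩ (fun Q hQ hex => ?_) (fun B hBn hBP hcl hex => ?_)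
  · rw [familyInf_isMaxAbIn hQ hex]
    exact normalizer_le_normalizer_centerThompsonAOf Q
  · haveI := hBn
    exact exists_normalized_maxAbIn h2 P.isPGroup' hBP hex

/-- The `ZJ`-theorem, characteristic form. -/
theorem centerThompsonA_characteristic (h2 : p ≠ 2)
    (hc : centralizer (pCore p G : Set G) ≤ pCore p G)
    (hst : ∀ (V : Subgroup G) [V.Normal], IsPGroup p V → IsPStableOn p V) (P : Sylow p G) :
    (centerThompsonAOf (P : Subgroup G)).Characteristic := by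
  refine characteristic_iff_map_eq.2 fun e => ?_
  rw [map_centerThompsonAOf]
  let P' : Sylow p G := P.mapSurjective (f := e.toMonoidHom) e.surjective
  obtain ⟨g, hg⟩ := MulAction.exists_smul_eq G P P'
  have hP' : (P' : Subgroup G) = (P : Subgroup G).map (MulAut.conj g).toMonoidHom := by
    rw [← hg, Sylow.coe_subgroup_smul]
    rfl
  rw [show (P : Subgroup G).map e.toMonoidHom = (P : Subgroup G).map (MulAut.conj g).toMonoidHom from
    hP', ← map_centerThompsonAOf]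
  haveI := centerThompsonA_normal h2 hc hst P
  exact Subgroup.eq_of_le_of_card_ge (by
      rintro _ ⟨z, hz, rfl⟩
      exact this.conj_mem z hz g)
    (le_of_eq (Nat.card_congr ((centerThompsonAOf (P : Subgroup G)).equivMapOfInjective _
      (MulAut.conj g).injective).toEquiv))

end ZJ

end Cfsg.Lib.Local.GlaubermanZJ
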