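import Cfsg.Prelude.Def_OddOrderLocal
import Cfsg.Agent.Lib.Solv.Nilpotent

/-!
The Puig series: monotonicity and stabilisation; self-centralizing in `p`-groups.
-/

set_option autoImplicit false
set_option linter.style.haveILetI false

namespace Cfsg.Lib.Local

open Subgroup

universe u

variable {G : Type u} [Group G]

theorem puigStep_antitone {X Y : Subgroup G} (h : X ≤ Y) : puigStep Y ≤ puigStep X :=
  sSup_le_sSup fun _ hA => ⟨hA.1, h.trans hA.2⟩

theorem puigSeq_succ (n : ℕ) : puigSeq G (n + 1) = puigStep (puigSeq G n) := rfl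

theorem puigStep_bot : puigStep (⊥ : Subgroup G) = ⊤ :=
  eq_top_iff.mpr fun x _ => le_sSup (a := zpowers x)
    (show IsMulCommutative (zpowers x) ∧ _ from ⟨inferInstance, bot_le⟩) (mem_zpowers x)

theorem puigSeq_one : puigSeq G 1 = ⊤ := puigStep_bot

theorem puigSeq_even_succ : ∀ n : ℕ, puigSeq G (2 * n) ≤ puigSeq G (2 * n + 2) ∧
    puigSeq G (2 * n + 3) ≤ puigSeq G (2 * n + 1) := by
  intro n
  induction n with
  | zero =>
    refine ⟨bot_le, ?_⟩
    show puigSeq G 3 ≤ puigSeq G 1
    rw [puigSeq_one]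
    exact le_top
  | succ n ih =>
    have h1 : puigSeq G (2 * (n + 1)) ≤ puigSeq G (2 * (n + 1) + 2) := by
      show puigStep (puigSeq G (2 * n + 1)) ≤ puigStep (puigSeq G (2 * n + 3))
      exact puigStep_antitone ih.2
    exact ⟨h1, puigStep_antitone h1⟩

theorem puigSeq_even_mono : Monotone fun n : ℕ => puigSeq G (2 * n) :=
  monotone_nat_of_le_succ fun n => (puigSeq_even_succ n).1

theorem puigSeq_odd_anti : Antitone fun n : ℕ => puigSeq G (2 * n + 1) :=
  antitone_nat_of_succ_le fun n => (puigSeq_even_succ n).2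

theorem puigSeq_self_le : ∀ n : ℕ, puigSeq G (2 * n) ≤ puigSeq G (2 * n + 1) := by
  intro n
  induction n with
  | zero => exact bot_le
  | succ n ih =>
    show puigStep (puigSeq G (2 * n + 1)) ≤ puigStep (puigSeq G (2 * n + 2))
    refine puigStep_antitone ?_
    show puigStep (puigSeq G (2 * n + 1)) ≤ puigStep (puigSeq G (2 * n))
    exact puigStep_antitone ih

theorem puigSeq_even_le_odd (n m : ℕ) : puigSeq G (2 * n) ≤ puigSeq G (2 * m + 1) :=
  ((puigSeq_even_mono (le_max_left n m)).trans (puigSeq_self_le _)).trans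
    (puigSeq_odd_anti (le_max_right n m))

theorem puigLower_le_puigSubgroup : puigLower G ≤ puigSubgroup G :=
  le_iInf fun m => iSup_le fun n => puigSeq_even_le_odd n m

theorem exists_puig_stable [Finite G] : ∃ k : ℕ, ∀ n : ℕ, k ≤ n →
    puigSeq G (2 * n) = puigLower G ∧ puigSeq G (2 * n + 1) = puigSubgroup G := by
  obtain ⟨k₁, hk₁⟩ := WellFoundedGT.monotone_chain_condition
    (⟨fun n => puigSeq G (2 * n), puigSeq_even_mono⟩ : ℕ →o Subgroup G)
  obtain ⟨k₂, hk₂⟩ := WellFoundedLT.antitone_chain_condition puigSeq_odd_anti (α := Subgroup G)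
  refine ⟨max k₁ k₂, fun n hn => ⟨?_, ?_⟩⟩
  · refine le_antisymm (le_iSup (fun j => puigSeq G (2 * j)) n) (iSup_le fun j => ?_)
    rcases le_total j n with h | h
    · exact puigSeq_even_mono h
    · exact ((hk₁ j (by omega)).symm.trans (hk₁ n (by omega))).le
  · refine le_antisymm (le_iInf fun j => ?_) (iInf_le (fun j => puigSeq G (2 * j + 1)) n)
    rcases le_total j n with h | h
    · exact puigSeq_odd_anti h
    · exact ((hk₂ n (by omega)).symm.trans (hk₂ j (by omega))).le

theorem puigStep_lower [Finite G] : puigStep (puigLower G) = puigSubgroup G := by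
  obtain ⟨k, hk⟩ := exists_puig_stable (G := G)
  rw [← (hk k le_rfl).1, ← (hk k le_rfl).2]
  rfl

theorem puigStep_subgroup [Finite G] : puigStep (puigSubgroup G) = puigLower G := by
  obtain ⟨k, hk⟩ := exists_puig_stable (G := G)
  rw [← (hk k le_rfl).2, ← (hk (k + 1) (by omega)).1]
  rfl

/-- In a `p`-group every positive Puig term contains its own centralizer. -/
theorem centralizer_puigSeq_le [Finite G] [Group.IsNilpotent G] (i : ℕ) :
    centralizer (puigSeq G (i + 1) : Set G) ≤ puigSeq G (i + 1) := by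
  classical
  obtain ⟨A, hA⟩ := Set.Finite.exists_maximal
    (Set.toFinite {A : Subgroup G | A.Normal ∧ IsMulCommutative A})
    ⟨⊥, inferInstance, inferInstance⟩
  haveI := hA.1.1
  haveI := hA.1.2
  have hAC : centralizer (A : Set G) = A := Solv.centralizer_eq_of_maximal_abelian_normal A
    fun M hM hMc hle => le_antisymm (hA.2 ⟨hM, hMc⟩ hle) hle
  have hAL : A ≤ puigSeq G (i + 1) :=
    le_sSup ⟨hA.1.2, by rw [normalizer_eq_top]; exact le_top⟩
  exact (centralizer_le hAL).trans (hAC.le.trans hAL)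

end Cfsg.Lib.Local
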