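import Cfsg.Agent.Lib.Local.OddStability
import Cfsg.Agent.Lib.Local.Puig
import Cfsg.Agent.Lib.Local.Sylow

/-!
# The Puig subgroups of a Sylow subgroup of a solvable group of odd order
-/

set_option autoImplicit false
set_option linter.style.haveILetI false

namespace Cfsg.Lib.Local.PuigZL

open Subgroup

universe u v

variable {G : Type u} [Group G]

/-- The Puig step inside a subgroup. -/
def rstep (S X : Subgroup G) : Subgroup G :=
  sSup {A : Subgroup G | IsMulCommutative A ∧ A ≤ S ∧ X ≤ normalizer (A : Set G)}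

/-- The Puig series of a subgroup, in ambient form. -/
def rseq (S : Subgroup G) : ℕ → Subgroup G
  | 0 => ⊥
  | n + 1 => rstep S (rseq S n)

theorem rstep_le (S X : Subgroup G) : rstep S X ≤ S := sSup_le fun _ hA => hA.2.1

theorem rseq_le (S : Subgroup G) : ∀ n, rseq S n ≤ S
  | 0 => bot_le
  | _ + 1 => rstep_le _ _

theorem le_rstep {S X A : Subgroup G} (hc : IsMulCommutative A) (hA : A ≤ S)
    (hX : X ≤ normalizer (A : Set G)) : A ≤ rstep S X := le_sSup ⟨hc, hA, hX⟩

/-- An injective homomorphism carries the Puig series to the series of its range. -/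
theorem map_puigSeq {R : Type v} [Group R] {f : R →* G} (hf : Function.Injective f) :
    ∀ n, (puigSeq R n).map f = rseq f.range n
  | 0 => map_bot f
  | n + 1 => by
    have ih := map_puigSeq hf n
    refine le_antisymm (map_le_iff_le_comap.mpr (sSup_le fun A hA => map_le_iff_le_comap.mp ?_))
      (sSup_le fun A hA => ?_)
    · obtain ⟨hc, hn⟩ := hA
      haveI := hc
      refine le_rstep (map_isMulCommutative A f) (map_le_range f A) ?_
      rw [← ih]
      exact (map_mono hn).trans (le_normalizer_map f)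
    · obtain ⟨hc, hle, hn⟩ := hA
      have e : (A.comap f).map f = A := map_comap_eq_self hle
      rw [← e]
      refine map_mono (le_sSup ⟨⟨⟨fun a b => Subtype.ext (hf ?_)⟩⟩, fun x hx => ?_⟩)
      · simp only [Subgroup.coe_mul, map_mul]
        exact congrArg Subtype.val (hc.is_comm.comm ⟨f a, a.2⟩ ⟨f b, b.2⟩)
      · have hx' := hn (ih ▸ mem_map_of_mem f hx)
        refine mem_normalizer_iff.mpr fun y => ?_
        simp only [mem_comap, map_mul, map_inv]
        exact mem_normalizer_iff.mp hx' (f y)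

theorem map_puigSeq_subtype (S : Subgroup G) (n : ℕ) :
    (puigSeq S n).map S.subtype = rseq S n := by
  rw [map_puigSeq S.subtype_injective, S.range_subtype]

theorem map_rseq {H : Type v} [Group H] (f : G →* H) {S : Subgroup G} (hf : Set.InjOn f S) (n : ℕ) :
    (rseq S n).map f = rseq (S.map f) n := by
  rw [← map_puigSeq_subtype, Subgroup.map_map,
    map_puigSeq (f := f.comp S.subtype) (fun a b h => Subtype.ext (hf a.2 b.2 h)),
    MonoidHom.range_comp, S.range_subtype]

theorem normalizer_le (S : Subgroup G) (n : ℕ) :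
    normalizer (S : Set G) ≤ normalizer (rseq S n : Set G) := by
  intro g hg
  have hS : S.map (MulAut.conj g).toMonoidHom = S := by
    ext x
    rw [mem_map_equiv]
    show (MulAut.conj g).symm x ∈ S ↔ _
    rw [MulAut.conj_symm_apply]
    exact (mem_normalizer_iff''.mp hg x).symm
  have h := map_rseq (MulAut.conj g).toMonoidHom (MulAut.conj g).injective.injOn (S := S) n
  rw [hS] at h
  refine mem_normalizer_iff.mpr fun x => ⟨fun hx => h ▸ mem_map_of_mem _ hx, fun hx => ?_⟩
  obtain ⟨y, hy, he⟩ := h.symm ▸ hx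
  rwa [show x = y from ((MulAut.conj g).injective he).symm]

instance normal_rseq (T : Subgroup G) [T.Normal] (n : ℕ) : (rseq T n).Normal :=
  normalizer_eq_top_iff.mp (top_le_iff.mp ((normalizer_eq_top_iff.mpr inferInstance).ge.trans
    (normalizer_le T n)))

/-- The lower Puig subgroup, in ambient form. -/
def rlow (S : Subgroup G) : Subgroup G := (puigLower S).map S.subtype

/-- The Puig subgroup, in ambient form. -/
def rsub (S : Subgroup G) : Subgroup G := (puigSubgroup S).map S.subtype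

variable [Finite G]

theorem exists_stable (S : Subgroup G) : ∃ k, ∀ n, k ≤ n →
    rseq S (2 * n) = rlow S ∧ rseq S (2 * n + 1) = rsub S := by
  obtain ⟨k, hk⟩ := exists_puig_stable (G := S)
  exact ⟨k, fun n hn => ⟨by rw [← map_puigSeq_subtype, (hk n hn).1, rlow],
    by rw [← map_puigSeq_subtype, (hk n hn).2, rsub]⟩⟩

theorem rstep_low (S : Subgroup G) : rstep S (rlow S) = rsub S := by
  obtain ⟨k, hk⟩ := exists_stable S
  rw [← (hk k le_rfl).1, ← (hk k le_rfl).2]; rfl

theorem rstep_sub (S : Subgroup G) : rstep S (rsub S) = rlow S := by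
  obtain ⟨k, hk⟩ := exists_stable S
  rw [← (hk k le_rfl).2, ← (hk (k + 1) (by omega)).1]; rfl

theorem rlow_le_rsub (S : Subgroup G) : rlow S ≤ rsub S := map_mono puigLower_le_puigSubgroup

theorem rseq_le_rlow (S : Subgroup G) (n : ℕ) : rseq S (2 * n) ≤ rlow S := by
  rw [← map_puigSeq_subtype]
  exact map_mono (le_iSup (fun j => puigSeq S (2 * j)) n)

theorem rsub_le_rseq (S : Subgroup G) (n : ℕ) : rsub S ≤ rseq S (2 * n + 1) := by
  rw [← map_puigSeq_subtype]
  exact map_mono (iInf_le (fun j => puigSeq S (2 * j + 1)) n)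

/-- A subgroup between the Puig subgroup and the group has the same Puig subgroup. -/
theorem rsub_eq {S R : Subgroup G} (h1 : rsub S ≤ R) (h2 : R ≤ S) : rsub R = rsub S := by
  have hA : ∀ n, rseq S (2 * n) ≤ rseq R (2 * n) ∧ rseq R (2 * n + 1) ≤ rseq S (2 * n + 1) := by
    intro n
    induction n with
    | zero =>
      refine ⟨le_rfl, sSup_le fun A hA => le_rstep hA.1 (hA.2.1.trans h2) hA.2.2⟩
    | succ n ih =>
      have he : rseq S (2 * (n + 1)) ≤ rseq R (2 * (n + 1)) := by
        refine sSup_le fun A hA => le_rstep hA.1 ?_ (ih.2.trans hA.2.2)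
        have e : A ≤ rseq S (2 * (n + 1)) := le_rstep hA.1 hA.2.1 hA.2.2
        exact (e.trans ((rseq_le_rlow S _).trans (rlow_le_rsub S))).trans h1
      exact ⟨he, sSup_le fun A hA => le_rstep hA.1 (hA.2.1.trans h2) (he.trans hA.2.2)⟩
  have hB : ∀ n, rseq R (2 * n) ≤ rlow S ∧ rsub S ≤ rseq R (2 * n + 1) := by
    intro n
    have step : ∀ m, rseq R (2 * m) ≤ rlow S → rsub S ≤ rseq R (2 * m + 1) := fun m hm => by
      refine (rstep_low S).ge.trans (sSup_le fun A hA => le_rstep hA.1 ?_ (hm.trans hA.2.2))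
      exact ((le_rstep hA.1 hA.2.1 hA.2.2).trans (rstep_low S).le).trans h1
    induction n with
    | zero => exact ⟨bot_le, step 0 bot_le⟩
    | succ n ih =>
      have he : rseq R (2 * (n + 1)) ≤ rlow S := by
        refine le_trans ?_ (rstep_sub S).le
        exact sSup_le fun A hA => le_rstep hA.1 (hA.2.1.trans h2) (ih.2.trans hA.2.2)
      exact ⟨he, step _ he⟩
  obtain ⟨k, hk⟩ := exists_stable R
  obtain ⟨l, hl⟩ := exists_stable S
  rw [← (hk (max k l) (le_max_left k l)).2]
  refine le_antisymm ?_ (hB _).2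
  rw [← (hl (max k l) (le_max_right k l)).2]
  exact (hA _).2

/-- In a `p`-group the later terms contain their centralizers. -/
theorem centralizer_inf_le {p : ℕ} [Fact p.Prime] {T : Subgroup G} (hT : IsPGroup p T) (i : ℕ) :
    T ⊓ centralizer (rseq T (i + 1) : Set G) ≤ rseq T (i + 1) := by
  haveI : Group.IsNilpotent T := hT.isNilpotent
  intro x hx
  rw [← map_puigSeq_subtype] at hx ⊢
  refine ⟨⟨x, hx.1⟩, centralizer_puigSeq_le i (mem_centralizer_iff.mpr fun y hy => Subtype.ext ?_), rfl⟩
  exact mem_centralizer_iff.mp hx.2 _ (mem_map_of_mem _ hy)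

theorem center_map (S : Subgroup G) (X : Subgroup S) :
    ((center X).map X.subtype).map S.subtype =
      X.map S.subtype ⊓ centralizer (X.map S.subtype : Set G) := by
  ext g
  constructor
  · rintro ⟨_, ⟨z, hz, rfl⟩, rfl⟩
    refine ⟨mem_map_of_mem _ z.2, mem_centralizer_iff.mpr ?_⟩
    rintro _ ⟨y, hy, rfl⟩
    exact congrArg (fun w : X => ((w : S) : G)) (mem_center_iff.mp hz ⟨y, hy⟩)
  · rintro ⟨⟨x, hx, rfl⟩, hc⟩
    exact mem_map_of_mem _ (mem_map_of_mem X.subtype (x := (⟨x, hx⟩ : X)) (mem_center_iff.mpr fun y =>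
      Subtype.ext (Subtype.ext (mem_centralizer_iff.mp hc _ (mem_map_of_mem _ y.2)))))

variable [Group.IsSolvable G] {p : ℕ} [Fact p.Prime]

theorem pCore_le (S : Sylow p G) : pCore p G ≤ (S : Subgroup G) :=
  sSup_le fun N hN => by
    haveI := hN.1
    exact le_sup_right.trans (S.is_maximal' (S.isPGroup'.to_sup_of_normal_right hN.2) le_sup_left).le

/-- The Puig series of a Sylow subgroup and of the core interlace. -/
theorem interlace (hodd : Odd (Nat.card G)) (hp : p ≠ 2) (hO : pPrimeCore p G = ⊥) (S : Sylow p G)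
    (n : ℕ) : rseq (S : Subgroup G) (2 * n) ≤ rseq (pCore p G) (2 * n) ∧
      rseq (pCore p G) (2 * n + 1) ≤ rseq (S : Subgroup G) (2 * n + 1) := by
  have hTS := pCore_le S
  induction n with
  | zero => exact ⟨le_rfl, sSup_le fun A hA => le_rstep hA.1 (hA.2.1.trans hTS) hA.2.2⟩
  | succ n ih =>
    have hT := Cfsg.Lib.Core.pCore_isPGroup p G
    have he : rseq (S : Subgroup G) (2 * (n + 1)) ≤ rseq (pCore p G) (2 * (n + 1)) := by
      refine sSup_le fun A hA => le_rstep hA.1 ?_ (ih.2.trans hA.2.2)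
      exact OddStability.le_pCore_of_abelian hodd hp hO (rseq (pCore p G) (2 * n + 1))
        (hT.to_le (rseq_le _ _)) (centralizer_inf_le hT (2 * n)) hA.1 (S.isPGroup'.to_le hA.2.1)
        (ih.2.trans hA.2.2)
    exact ⟨he, sSup_le fun A hA => le_rstep hA.1 (hA.2.1.trans hTS) (he.trans hA.2.2)⟩

theorem sandwich (hodd : Odd (Nat.card G)) (hp : p ≠ 2) (hO : pPrimeCore p G = ⊥) (S : Sylow p G) :
    rlow (S : Subgroup G) ≤ rlow (pCore p G) ∧ rlow (pCore p G) ≤ rsub (pCore p G) ∧
      rsub (pCore p G) ≤ rsub (S : Subgroup G) := by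
  obtain ⟨k, hk⟩ := exists_stable (S : Subgroup G)
  obtain ⟨l, hl⟩ := exists_stable (pCore p G)
  have h := interlace hodd hp hO S (max k l)
  rw [(hk _ (le_max_left k l)).1, (hk _ (le_max_left k l)).2, (hl _ (le_max_right k l)).1,
    (hl _ (le_max_right k l)).2] at h
  exact ⟨h.1, rlow_le_rsub _, h.2⟩

/-- The centre of the Puig subgroup, in ambient form. -/
abbrev zl (S : Subgroup G) : Subgroup G := rsub S ⊓ centralizer (rsub S : Set G)

theorem zl_normal (hodd : Odd (Nat.card G)) (hp : p ≠ 2) (hO : pPrimeCore p G = ⊥) (S : Sylow p G) :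
    (zl (S : Subgroup G)).Normal := by
  set T := pCore p G with hT
  have hTp : IsPGroup p T := Cfsg.Lib.Core.pCore_isPGroup p G
  obtain ⟨h1, h2, h3⟩ := sandwich hodd hp hO S
  have hSle : rsub (S : Subgroup G) ≤ (S : Subgroup G) := map_subtype_le _
  haveI hn : (rsub T).Normal := by
    obtain ⟨k, hk⟩ := exists_stable T
    rw [← (hk k le_rfl).2]; infer_instance
  set W := rsub T ⊓ centralizer (rsub T : Set G) with hW
  haveI : W.Normal := inferInstance
  have hWT : W ≤ T := inf_le_left.trans (map_subtype_le _)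
  have hWc : IsMulCommutative W := ⟨⟨fun a b => Subtype.ext (mem_centralizer_iff.mp b.2.2 _ a.2.1)⟩⟩
  have hZW : zl (S : Subgroup G) ≤ W := by
    intro z hz
    have hzT : z ∈ T := by
      obtain ⟨k, hk⟩ := exists_stable (S : Subgroup G)
      have he := (hk (k + 1) (by omega)).1
      have hc := centralizer_inf_le S.isPGroup' (2 * k + 1)
      rw [show 2 * k + 1 + 1 = 2 * (k + 1) by ring, he] at hc
      exact ((hc ⟨hSle hz.1, centralizer_le (rlow_le_rsub _) hz.2⟩ : z ∈ rlow (S : Subgroup G)) |> fun hzl =>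
        ((map_subtype_le _ : rlow T ≤ T) (h1 hzl)))
    have hzc : z ∈ centralizer (rsub T : Set G) := centralizer_le h3 hz.2
    obtain ⟨k, hk⟩ := exists_stable T
    have hc := centralizer_inf_le hTp (2 * k)
    rw [(hk k le_rfl).2] at hc
    exact ⟨hc ⟨hzT, hzc⟩, hzc⟩
  have hWlow : W ≤ rlow (S : Subgroup G) := by
    refine le_trans (le_rstep hWc (hWT.trans (pCore_le S)) ?_) (rstep_sub _).le
    rw [normalizer_eq_top]; exact le_top
  set C := centralizer (W : Set G) with hC
  set K := (pCore p (G ⧸ C)).comap (QuotientGroup.mk' C) with hK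
  have hLK : rsub (S : Subgroup G) ≤ K := by
    refine (rstep_low _).ge.trans (sSup_le fun A hA => ?_)
    rw [hK, ← map_le_iff_le_comap]
    exact OddStability.map_le_pCore hodd hp W A (hTp.to_le hWT) (S.isPGroup'.to_le hA.2.1)
      (OddStability.quadratic hA.1 (hWlow.trans hA.2.2))
  set R := (S : Subgroup G) ⊓ K with hR
  have hRL : rsub R = rsub (S : Subgroup G) := rsub_eq (le_inf hSle hLK) inf_le_left
  set N := normalizer (zl (S : Subgroup G) : Set G) with hN
  have hNR : normalizer (R : Set G) ≤ N := by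
    obtain ⟨k, hk⟩ := exists_stable R
    intro g hg
    have hgL : g ∈ normalizer (rsub (S : Subgroup G) : Set G) := by
      rw [← hRL, ← (hk k le_rfl).2]; exact normalizer_le R _ hg
    refine mem_normalizer_fintype fun x hx => ⟨(mem_normalizer_iff.mp hgL x).mp hx.1, ?_⟩
    refine mem_centralizer_iff.mpr fun y hy => ?_
    have e := mem_centralizer_iff.mp hx.2 _ ((mem_normalizer_iff''.mp hgL y).mp hy)
    calc y * (g * x * g⁻¹) = g * (g⁻¹ * y * g * x) * g⁻¹ := by group
      _ = g * (x * (g⁻¹ * y * g)) * g⁻¹ := by rw [e]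
      _ = g * x * g⁻¹ * y := by group
  have hCN : C ≤ N := by
    intro g hg
    refine mem_normalizer_fintype fun x hx => ?_
    have e := mem_centralizer_iff.mp hg x (hZW hx)
    show g * x * g⁻¹ ∈ zl (S : Subgroup G)
    rw [← e, mul_inv_cancel_right]
    exact hx
  have hKsup : K ≤ R ⊔ C := le_inf_sup_of_pow_mem S fun x hx => by
    obtain ⟨k, hk⟩ := Cfsg.Lib.Core.pCore_isPGroup p (G ⧸ C) ⟨_, hx⟩
    refine ⟨k, (QuotientGroup.eq_one_iff _).mp ?_⟩
    exact congrArg Subtype.val hk
  have hKN : K ≤ N := hKsup.trans (sup_le (le_normalizer.trans hNR) hCN)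
  obtain ⟨Q, hQ⟩ := exists_sylow_inf S K
  have hfr := Sylow.normalizer_sup_eq_top Q
  rw [hQ, subgroupOf_map_subtype] at hfr
  exact normalizer_eq_top_iff.mp (top_le_iff.mp (hfr.ge.trans (sup_le hNR hKN)))

/-- Glauberman's factorization with the centre of the Puig subgroup. -/
theorem zl_factor (hodd : Odd (Nat.card G)) (hp : p ≠ 2) (S : Sylow p G) :
    pPrimeCore p G ⊔ normalizer (zl (S : Subgroup G) : Set G) = ⊤ := by
  set M := pPrimeCore p G with hM
  set q := QuotientGroup.mk' M with hq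
  have hqs : Function.Surjective q := QuotientGroup.mk'_surjective M
  haveI : Group.IsSolvable (G ⧸ M) := Group.isSolvable_of_surjective hqs
  have hodd' : Odd (Nat.card (G ⧸ M)) := by
    have h := M.index_mul_card
    rw [← h] at hodd
    exact (Nat.odd_mul.mp hodd).1
  have hn := zl_normal hodd' hp (Cfsg.Lib.Core.pPrimeCore_quotient_eq_bot (p := p) (G := G))
    (S.mapSurjective hqs)
  have hdisj : (S : Subgroup G) ⊓ M = ⊥ := by
    obtain ⟨k, hk⟩ := IsPGroup.iff_card.1 S.isPGroup'
    exact disjoint_iff.mp (disjoint_of_coprime_natCard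
      (by rw [hk]; exact ((Cfsg.Lib.Core.pPrimeCore_coprime p G).pow_right k).symm))
  have hinj : Set.InjOn q (S : Subgroup G) := fun x hx y hy hxy => by
    have h : x⁻¹ * y ∈ (S : Subgroup G) ⊓ M :=
      ⟨(S : Subgroup G).mul_mem ((S : Subgroup G).inv_mem hx) hy, QuotientGroup.eq.1 hxy⟩
    rw [hdisj, mem_bot, inv_mul_eq_one] at h
    exact h
  have hsub : (rsub (S : Subgroup G)).map q = rsub ((S : Subgroup G).map q) := by
    obtain ⟨k, hk⟩ := exists_stable (S : Subgroup G)
    obtain ⟨l, hl⟩ := exists_stable ((S : Subgroup G).map q)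
    rw [← (hk (max k l) (le_max_left k l)).2, ← (hl (max k l) (le_max_right k l)).2, map_rseq q hinj]
  have hmap : (zl (S : Subgroup G)).map q = zl ((S.mapSurjective hqs : Sylow p (G ⧸ M)) : Subgroup (G ⧸ M)) := by
    show _ = rsub ((S : Subgroup G).map q) ⊓ centralizer (rsub ((S : Subgroup G).map q) : Set (G ⧸ M))
    rw [← hsub]
    refine le_antisymm ?_ ?_
    · rintro _ ⟨x, hx, rfl⟩
      refine ⟨mem_map_of_mem _ hx.1, mem_centralizer_iff.mpr ?_⟩
      rintro _ ⟨y, hy, rfl⟩
      rw [← map_mul, ← map_mul, mem_centralizer_iff.mp hx.2 y hy]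
    · rintro _ ⟨⟨x, hx, rfl⟩, hc⟩
      refine mem_map_of_mem _ ⟨hx, mem_centralizer_iff.mpr fun y hy => ?_⟩
      have e := mem_centralizer_iff.mp hc _ (mem_map_of_mem q hy)
      rw [← map_mul, ← map_mul] at e
      have hxS : x ∈ (S : Subgroup G) := map_subtype_le _ hx
      have hyS : y ∈ (S : Subgroup G) := map_subtype_le _ hy
      exact hinj (mul_mem hyS hxS) (mul_mem hxS hyS) e
  rw [← hmap] at hn
  set Z := zl (S : Subgroup G) with hZ
  have hn' : (Z ⊔ M).Normal := by
    have h := hn.comap q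
    rwa [Subgroup.comap_map_eq, hq, QuotientGroup.ker_mk'] at h
  have hZS : Z ≤ (S : Subgroup G) := inf_le_left.trans (map_subtype_le _)
  haveI := hn'
  obtain ⟨Q, hQ⟩ := exists_sylow_inf S (Z ⊔ M)
  have hSZM : (S : Subgroup G) ⊓ (Z ⊔ M) = Z := by
    refine le_antisymm ?_ (le_inf hZS le_sup_left)
    rintro x ⟨hxS, hxZM⟩
    obtain ⟨z, hz, m, hm, rfl⟩ := mem_sup_of_normal_right.mp hxZM
    have hmS : m ∈ (S : Subgroup G) := (Subgroup.mul_mem_cancel_left _ (hZS hz)).mp hxS
    rw [show m = 1 from (mem_bot.mp (hdisj ▸ ⟨hmS, hm⟩ : m ∈ (⊥ : Subgroup G))), mul_one]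
    exact hz
  have hfr := Sylow.normalizer_sup_eq_top Q
  rw [hQ, subgroupOf_map_subtype, hSZM] at hfr
  refine top_le_iff.mp (hfr.ge.trans (sup_le le_sup_right (sup_le ?_ le_sup_left)))
  exact le_normalizer.trans le_sup_right

end Cfsg.Lib.Local.PuigZL
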