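import Cfsg.Agent.Lib.Fusion.Abelian
import Cfsg.Agent.Lib.PGroup.Basic
import Mathlib.GroupTheory.Transfer
import Mathlib.GroupTheory.Abelianization.Defs

/-!
Transfer of a central involution of a Sylow 2-subgroup which its normalizer centralizes.
-/

set_option autoImplicit false
set_option linter.style.haveILetI false

namespace Cfsg.Lib.Local

open Subgroup MulAction

variable {G : Type*} [Group G] [Finite G]

theorem exists_hom_of_central_involution (S : Sylow 2 G) {z : G} (hzS : z ∈ (S : Subgroup G))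
    (hzC : z ∈ centralizer ((S : Subgroup G) : Set G)) (hz2 : z * z = 1)
    (M : Subgroup ↥(S : Subgroup G)) [M.Normal] (hM : M.index = 2)
    (hzM : (⟨z, hzS⟩ : ↥(S : Subgroup G)) ∉ M)
    (hN : ∀ n ∈ normalizer ((S : Subgroup G) : Set G), n * z * n⁻¹ = z) :
    ∃ f : G →* (↥(S : Subgroup G) ⧸ M), f z ≠ 1 := by
  classical
  haveI : Fact (Nat.Prime 2) := ⟨Nat.prime_two⟩
  haveI : IsCyclic (↥(S : Subgroup G) ⧸ M) := isCyclic_of_prime_card (p := 2) hM
  letI : CommGroup (↥(S : Subgroup G) ⧸ M) := IsCyclic.commGroup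
  let φ : ↥(S : Subgroup G) →* ↥(S : Subgroup G) ⧸ M := QuotientGroup.mk' M
  set t := φ ⟨z, hzS⟩ with htdef
  have ht : t ≠ 1 := fun h => hzM ((QuotientGroup.eq_one_iff _).mp h)
  have huniq : ∀ y : ↥(S : Subgroup G) ⧸ M, y ≠ 1 → y = t := by
    obtain ⟨y₀, -, hu⟩ := (Nat.card_eq_two_iff' (1 : ↥(S : Subgroup G) ⧸ M)).mp hM
    intro y hy
    rw [hu y hy, hu t ht]
  have hmem : ∀ (a : G), z • (a : G ⧸ (S : Subgroup G)) = (a : G ⧸ (S : Subgroup G)) →
      a⁻¹ * z * a ∈ (S : Subgroup G) := by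
    intro a ha
    rw [MulAction.Quotient.smul_coe, smul_eq_mul] at ha
    have := inv_mem (QuotientGroup.eq.mp ha)
    simpa [mul_assoc] using this
  let f : G ⧸ (S : Subgroup G) → ↥(S : Subgroup G) ⧸ M := fun c =>
    if h : z • c = c then φ ⟨c.out⁻¹ * z * c.out, hmem _ (by rw [QuotientGroup.out_eq']; exact h)⟩ else 1
  have hrep : ∀ (a : G) (h : z • (a : G ⧸ (S : Subgroup G)) = (a : G ⧸ (S : Subgroup G))),
      f a = φ ⟨a⁻¹ * z * a, hmem a h⟩ := by
    intro a h
    simp only [f, dif_pos h]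
    obtain ⟨s, hs⟩ := QuotientGroup.mk_out_eq_mul (S : Subgroup G) a
    have he : (⟨(QuotientGroup.mk a : G ⧸ (S : Subgroup G)).out⁻¹ * z *
        (QuotientGroup.mk a : G ⧸ (S : Subgroup G)).out,
        hmem _ (by rw [QuotientGroup.out_eq']; exact h)⟩ : ↥(S : Subgroup G)) =
        s⁻¹ * ⟨a⁻¹ * z * a, hmem a h⟩ * s := by
      apply Subtype.ext
      simp only [hs, Subgroup.coe_mul, Subgroup.coe_inv]
      group
    rw [he, map_mul, map_mul, map_inv, mul_comm, mul_inv_cancel_left]
  have hfix : ∀ c, f c ≠ 1 → z • c = c := fun c hc => by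
    by_contra h
    exact hc (dif_neg h)
  -- the support is invariant under `S`
  let A : SubMulAction ↥(S : Subgroup G) (G ⧸ (S : Subgroup G)) :=
    { carrier := {c | f c ≠ 1}
      smul_mem' := by
        intro s c hc
        obtain ⟨a, rfl⟩ := QuotientGroup.mk_surjective c
        have ha := hfix _ hc
        have hzs : z * (s : G) = (s : G) * z := (mem_centralizer_iff.mp hzC s s.2).symm
        have hsa : z • (((s : G) * a : G) : G ⧸ (S : Subgroup G)) =
            (((s : G) * a : G) : G ⧸ (S : Subgroup G)) := by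
          rw [MulAction.Quotient.smul_coe, smul_eq_mul, ← mul_assoc, hzs, mul_assoc, ← smul_eq_mul,
            ← MulAction.Quotient.smul_coe, ← smul_eq_mul z a, ← MulAction.Quotient.smul_coe, ha]
          rfl
        show f (((s : G) * a : G) : G ⧸ (S : Subgroup G)) ≠ 1
        have he : (⟨((s : G) * a)⁻¹ * z * ((s : G) * a), hmem _ hsa⟩ : ↥(S : Subgroup G)) =
            ⟨a⁻¹ * z * a, hmem a ha⟩ := by
          apply Subtype.ext
          show ((s : G) * a)⁻¹ * z * ((s : G) * a) = a⁻¹ * z * a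
          calc ((s : G) * a)⁻¹ * z * ((s : G) * a) = a⁻¹ * ((s : G)⁻¹ * (z * (s : G))) * a := by group
            _ = a⁻¹ * z * a := by rw [hzs, inv_mul_cancel_left]
        rw [hrep _ hsa, he, ← hrep a ha]
        exact hc }
  have hfixed : ∀ c ∈ fixedPoints ↥(S : Subgroup G) (G ⧸ (S : Subgroup G)), f c = t := by
    intro c hc
    have hz : z • c = c := hc ⟨z, hzS⟩
    obtain ⟨a, rfl⟩ := QuotientGroup.mk_surjective c
    have ha : a⁻¹ ∈ normalizer ((S : Subgroup G) : Set G) := by
      refine Fusion.le_normalizer_of_conj_mem fun x hx => ?_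
      have h1 : (((x * a : G)) : G ⧸ (S : Subgroup G)) = (a : G ⧸ (S : Subgroup G)) := hc ⟨x, hx⟩
      have := inv_mem (QuotientGroup.eq.mp h1)
      simpa [mul_assoc] using this
    rw [hrep a hz, htdef]
    refine congrArg φ (Subtype.ext ?_)
    simpa using hN _ ha
  have hodd : Odd (Nat.card A) := by
    have h1 := S.isPGroup'.card_modEq_card_fixedPoints A
    have h2 := S.isPGroup'.card_modEq_card_fixedPoints (G ⧸ (S : Subgroup G))
    have e : fixedPoints ↥(S : Subgroup G) A ≃ fixedPoints ↥(S : Subgroup G) (G ⧸ (S : Subgroup G)) :=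
      { toFun := fun c => ⟨c.1.1, fun s => congrArg Subtype.val (c.2 s)⟩
        invFun := fun c => ⟨⟨c.1, show f c.1 ≠ 1 from (hfixed _ c.2).trans_ne ht⟩,
          fun s => Subtype.ext (c.2 s)⟩
        left_inv := fun c => rfl
        right_inv := fun c => rfl }
    rw [Nat.card_congr e] at h1
    have h3 : Nat.card A % 2 = Nat.card (G ⧸ (S : Subgroup G)) % 2 := h1.trans h2.symm
    rw [← Subgroup.index_eq_card] at h3
    have h4 := S.not_dvd_index
    rw [Nat.odd_iff]
    omega
  letI := (S : Subgroup G).fintypeQuotientOfFiniteIndex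
  refine ⟨MonoidHom.transfer φ, ?_⟩
  rw [MonoidHom.transfer_eq_prod_quotient_orbitRel_zpowers_quot]
  have hterm : ∀ q : Quotient (orbitRel (zpowers z) (G ⧸ (S : Subgroup G))),
      φ ⟨q.out.out⁻¹ * z ^ Function.minimalPeriod (z • ·) q.out * q.out.out,
        QuotientGroup.out_conj_pow_minimalPeriod_mem (S : Subgroup G) z q.out⟩ = f q.out := by
    intro q
    have hper : Function.IsPeriodicPt (fun c : G ⧸ (S : Subgroup G) => z • c) 2 q.out := by
      show z • z • q.out = q.out
      rw [smul_smul, hz2, one_smul]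
    rcases (Nat.dvd_prime Nat.prime_two).mp hper.minimalPeriod_dvd with h1 | h1
    · have hfix' : z • q.out = q.out := Function.minimalPeriod_eq_one_iff_isFixedPt.mp h1
      simp only [f, dif_pos hfix', h1, pow_one]
    · have hnf : ¬ z • q.out = q.out := fun h => by
        rw [Function.minimalPeriod_eq_one_iff_isFixedPt.mpr h] at h1
        omega
      simp only [f, dif_neg hnf, h1, pow_two, hz2, mul_one, inv_mul_cancel]
      exact map_one φ
  rw [Finset.prod_congr rfl (fun q _ => hterm q)]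
  have hbij : ∏ q : Quotient (orbitRel (zpowers z) (G ⧸ (S : Subgroup G))), f q.out = ∏ c, f c := by
    refine Finset.prod_bij_ne_one (fun q _ _ => q.out) (fun _ _ _ => Finset.mem_univ _)
      (fun q₁ _ _ q₂ _ _ h => Quotient.out_injective h) ?_ (fun _ _ _ => rfl)
    intro c _ hc
    have hout : (⟦c⟧ : Quotient (orbitRel (zpowers z) (G ⧸ (S : Subgroup G)))).out = c := by
      obtain ⟨⟨u, k, rfl⟩, hu⟩ := Quotient.mk_out (s := orbitRel (zpowers z) (G ⧸ (S : Subgroup G))) c
      rw [← hu]
      show z ^ k • c = c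
      exact mem_stabilizer_iff.mp ((MulAction.stabilizer G c).zpow_mem (mem_stabilizer_iff.mpr (hfix c hc)) k)
    exact ⟨⟦c⟧, Finset.mem_univ _, by rw [hout]; exact hc, hout⟩
  rw [hbij]
  have : ∏ c, f c = t ^ Nat.card A := by
    rw [← Finset.prod_filter_ne_one, Finset.prod_congr rfl (fun c hc => huniq _ (Finset.mem_filter.mp hc).2),
      Finset.prod_const]
    congr 1
    show _ = Nat.card {c // f c ≠ 1}
    rw [Nat.card_eq_fintype_card, Fintype.card_subtype]
  rw [this]
  obtain ⟨j, hj⟩ := hodd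
  have ht2 : t * t = 1 := by
    rw [htdef, ← map_mul, ← map_one φ]
    exact congrArg φ (Subtype.ext hz2)
  rw [hj, pow_succ, pow_mul, pow_two, ht2, one_pow, one_mul]
  exact ht

end Cfsg.Lib.Local
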