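import Mathlib
import Cfsg.Prelude.Def_PLocal
import Cfsg.Agent.Lib.Thompson.Quadratic
import Cfsg.Agent.Lib.Thompson.Basic
import Cfsg.Agent.Lib.Core.Cores
import Cfsg.Agent.Lib.PGroup.Basic

/-!
# `p`-stability of a group which is an abelian `p'`-group and a `p`-group modulo its `p`-core

* `isPStableOn_of_abelian_quotient`.
-/

set_option autoImplicit false
set_option linter.style.haveILetI false

universe u

namespace Cfsg.Lib.Local

open Subgroup Cfsg
open scoped commutatorElement IsMulCommutative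

variable {G : Type u} [Group G] [Finite G] {p : ℕ} [hp : Fact p.Prime]

/-- Commutators of a quadratically acting element which commute on the module and act with order
prime to `p` act trivially. -/
theorem commutator_mem_centralizer_of_quadratic' (h2 : p ≠ 2) {V : Subgroup G}
    (hV : IsElementaryAbelian p V) [V.Normal] {a r : G}
    (hquad : ∀ v ∈ V, Commute a ⁅a, v⁆)
    (hc : ⁅⁅r, a⁆, ⁅r, a ^ 2⁆⁆ ∈ centralizer (V : Set G))
    {n : ℕ} (hn : n.Coprime p) (hxn : ⁅r, a⁆ ^ n ∈ centralizer (V : Set G)) :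
    ⁅r, a⁆ ∈ centralizer (V : Set G) := by
  have := hV.1
  have hN : normalizer (V : Set G) = ⊤ := normalizer_eq_top _
  let j : G →* normalizer (V : Set G) :=
    (MonoidHom.id G).codRestrict _ fun g => hN.symm ▸ mem_top g
  set φ := (Thompson.actionEnd V).comp j with hφ
  have happ : ∀ (g : G) (v : Additive V),
      ((Additive.toMul (φ g v) : V) : G) = g * ((Additive.toMul v : V) : G) * g⁻¹ := fun g v => rfl
  have hφ1 : ∀ g, g ∈ centralizer (V : Set G) ↔ φ g = 1 := by
    intro g
    constructor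
    · intro hg
      refine AddMonoidHom.ext fun v => ?_
      apply Additive.toMul.injective
      apply Subtype.ext
      refine (happ g v).trans ?_
      rw [← mem_centralizer_iff.1 hg _ (Additive.toMul v).2, mul_inv_cancel_right]
      rfl
    · intro hg
      rw [mem_centralizer_iff]
      intro v hv
      have h := happ g (Additive.ofMul (⟨v, hv⟩ : V))
      rw [hg] at h
      exact (mul_inv_eq_iff_eq_mul.mp h.symm).symm
  have hp0 : (p : AddMonoid.End (Additive V)) = 0 := by
    refine AddMonoidHom.ext fun v => ?_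
    refine (AddMonoid.End.natCast_apply p v).trans ?_
    show p • v = (0 : Additive V)
    apply Additive.toMul.injective
    apply Subtype.ext
    simpa using hV.2 _ (Additive.toMul v).2
  set A := φ a - 1 with hA
  set B := φ r * A * φ r⁻¹ with hB
  have hqq : φ r⁻¹ * φ r = 1 := by rw [← map_mul, inv_mul_cancel, map_one]
  have hqq' : φ r * φ r⁻¹ = 1 := by rw [← map_mul, mul_inv_cancel, map_one]
  have hAA : A * A = 0 := by
    refine AddMonoidHom.ext fun v => ?_
    have h1 : ∀ w : Additive V, ((Additive.toMul (A w) : V) : G) =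
        ⁅a, ((Additive.toMul w : V) : G)⁆ := by
      intro w
      rw [hA, commutatorElement_def]
      show ((Additive.toMul (φ a w - w) : V) : G) = _
      rw [toMul_sub]
      simp [happ, div_eq_mul_inv]
    apply Additive.toMul.injective
    apply Subtype.ext
    show ((Additive.toMul (A (A v)) : V) : G) = _
    rw [h1, h1, commutatorElement_eq_one_iff_commute.mpr (hquad _ (Additive.toMul v).2)]
    rfl
  have hBB : B * B = 0 := by
    rw [hB, show φ r * A * φ r⁻¹ * (φ r * A * φ r⁻¹) =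
      φ r * A * (φ r⁻¹ * φ r) * A * φ r⁻¹ by noncomm_ring, hqq]
    rw [mul_one, mul_assoc (φ r), hAA]
    simp
  have hainv : φ a⁻¹ = 1 - A := by
    have h1 : φ a * (1 - A) = 1 := by
      rw [show φ a = 1 + A by rw [hA]; abel]
      rw [show (1 + A) * (1 - A) = 1 - A * A by simp only [mul_sub, add_mul, mul_one, one_mul]; abel,
        hAA, sub_zero]
    calc φ a⁻¹ = φ a⁻¹ * (φ a * (1 - A)) := by rw [h1, mul_one]
      _ = 1 - A := by rw [← mul_assoc, ← map_mul, inv_mul_cancel, map_one, one_mul]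
  have hconj : φ r * φ a * φ r⁻¹ = 1 + B := by
    rw [hB, show φ r * A * φ r⁻¹ = φ r * φ a * φ r⁻¹ - φ r * φ r⁻¹ by
      rw [hA]; simp only [mul_sub, sub_mul, mul_one], hqq']
    abel
  have hx : φ ⁅r, a⁆ = (1 + B) * (1 - A) := by
    rw [commutatorElement_def, map_mul, map_mul, map_mul, hconj, hainv]
  have hy : φ ⁅r, a ^ 2⁆ = (1 + 2 * B) * (1 - 2 * A) := by
    have h2' : r * a ^ 2 * r⁻¹ = (r * a * r⁻¹) ^ 2 := conj_pow.symm
    rw [commutatorElement_def, h2', ← inv_pow, map_mul, map_pow, map_pow, map_mul, map_mul, hconj,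
      hainv]
    congr 1
    · rw [sq, show (1 + B) * (1 + B) = 1 + 2 * B + B * B by noncomm_ring, hBB, add_zero]
    · rw [sq, show (1 - A) * (1 - A) = 1 - 2 * A + A * A by
        simp only [mul_sub, sub_mul, mul_one, one_mul, two_mul]; abel, hAA, add_zero]
  have hcomm : Commute (φ ⁅r, a⁆) (φ ⁅r, a ^ 2⁆) := by
    have h1 := (hφ1 _).1 hc
    set x := ⁅r, a⁆ with hxd
    set y := ⁅r, a ^ 2⁆ with hyd
    show φ x * φ y = φ y * φ x
    rw [← map_mul, show x * y = ⁅x, y⁆ * (y * x) by rw [commutatorElement_def]; group, map_mul, h1,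
      one_mul, map_mul]
  have hpow := Thompson.quadratic_pair_pow_eq_one h2 hp0 hAA hBB (hx ▸ hy ▸ hcomm)
  rw [← hx, ← map_pow] at hpow
  have hord : φ ⁅r, a⁆ ^ n = 1 := by
    rw [← map_pow]
    exact (hφ1 _).1 hxn
  rw [map_pow] at hpow
  refine (hφ1 _).2 ?_
  have h := pow_gcd_eq_one.mpr ⟨hord, hpow⟩
  rwa [Nat.Coprime.gcd_eq_one (hn.pow_right 2), pow_one] at h

/-- A minimal normal `p`-subgroup is elementary abelian and centralized by the `p`-core. -/
theorem isElementaryAbelian_of_minimal {V : Subgroup G} [V.Normal] (hVp : IsPGroup p V)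
    (hV : V ≠ ⊥) (hmin : ∀ W : Subgroup G, W.Normal → W ≤ V → W = ⊥ ∨ W = V)
    {H : Subgroup G} [H.Normal] (hH : IsPGroup p H) :
    IsElementaryAbelian p V ∧ H ≤ centralizer (V : Set G) := by
  have hpp : IsPGroup p (V ⊔ H : Subgroup G) := hVp.to_sup_of_normal_left hH
  have hne : (V.subgroupOf (V ⊔ H)) ≠ ⊥ := by
    rw [ne_eq, subgroupOf_eq_bot]
    exact fun h => hV (disjoint_self.1 (h.mono_right le_sup_left))
  obtain ⟨⟨z, hzS⟩, ⟨hzV, hzc⟩, hz1⟩ :=
    (Subgroup.bot_or_exists_ne_one _).resolve_left (PGroup.inf_center_ne_bot hpp hne)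
  have hcen : ∀ K : Subgroup G, K.Normal → K ≤ V ⊔ H → V ≤ centralizer (K : Set G) := by
    intro K hK hKle
    haveI := hK
    rcases hmin (V ⊓ centralizer (K : Set G)) inferInstance inf_le_left with h | h
    · exfalso
      refine hz1 (Subtype.ext ((Subgroup.eq_bot_iff_forall _).1 h z ⟨hzV, fun k hk => ?_⟩))
      exact congrArg Subtype.val (mem_center_iff.1 hzc ⟨k, hKle hk⟩)
    · exact h.ge.trans inf_le_right
  have hVab : ∀ a ∈ V, ∀ b ∈ V, Commute a b := fun a ha b hb =>
    ((hcen V inferInstance le_sup_left ha) b hb).symm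
  set s : Set G := {x | x ∈ V ∧ x ^ p = 1} with hs
  have hsEA : IsElementaryAbelian p (closure s) :=
    Thompson.isEA_closure (fun a ha b hb => hVab a ha.1 b hb.1) fun a ha => ha.2
  have hsn : (closure s).Normal := ⟨fun x hx g => by
    induction hx using closure_induction with
    | mem x hx =>
      exact subset_closure ⟨‹V.Normal›.conj_mem x hx.1 g, by rw [conj_pow, hx.2, mul_one, mul_inv_cancel]⟩
    | one => simp
    | mul x y _ _ hx hy =>
      rw [show g * (x * y) * g⁻¹ = g * x * g⁻¹ * (g * y * g⁻¹) by group]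
      exact mul_mem hx hy
    | inv x _ hx =>
      rw [show g * x⁻¹ * g⁻¹ = (g * x * g⁻¹)⁻¹ by group]
      exact inv_mem hx⟩
  rcases hmin _ hsn ((closure_le _).2 fun x hx => hx.1) with h | h
  · exfalso
    obtain ⟨k, hk⟩ := hVp.exists_card_eq
    have hk0 : k ≠ 0 := fun h0 => hV (card_eq_one.1 (by rw [hk, h0, pow_zero]))
    obtain ⟨v, hv⟩ := exists_prime_orderOf_dvd_card' (G := V) p (hk ▸ dvd_pow_self p hk0)
    have hvs : (v : G) ∈ closure s := subset_closure ⟨v.2, by
      have := pow_orderOf_eq_one v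
      rw [hv] at this
      exact congrArg Subtype.val this⟩
    rw [h, mem_bot] at hvs
    rw [← Subgroup.orderOf_coe, hvs, orderOf_one] at hv
    exact hp.out.ne_one hv.symm
  · exact ⟨h ▸ hsEA, le_centralizer_iff.1 (hcen H inferInstance le_sup_right)⟩

/-- Induction along a chief series below `B`. -/
theorem exists_pow_mem_centralizer_of_quadratic (h2 : p ≠ 2) {H : Subgroup G} [H.Normal]
    (hH : IsPGroup p H) {a r : G} (hc : ⁅⁅r, a⁆, ⁅r, a ^ 2⁆⁆ ∈ H)
    {n : ℕ} (hn : n.Coprime p) (hxn : ⁅r, a⁆ ^ n ∈ H) (B : Subgroup G) :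
    B.Normal → IsPGroup p B → (∀ b ∈ B, Commute a ⁅a, b⁆) →
      ∃ k, ⁅r, a⁆ ^ p ^ k ∈ centralizer (B : Set G) := by
  induction B using WellFoundedLT.induction with
  | ind B ih =>
  intro hBn hBp hquad
  haveI := hBn
  by_cases hB0 : B = ⊥
  · exact ⟨0, fun b hb => by rw [SetLike.mem_coe, hB0, mem_bot] at hb; simp [hb]⟩
  obtain ⟨K, ⟨hKn, hKlt⟩, hKmax⟩ := Set.exists_max_image {K : Subgroup G | K.Normal ∧ K < B}
    (fun K => Nat.card K) (Set.toFinite _) ⟨⊥, inferInstance, bot_lt_iff_ne_bot.2 hB0⟩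
  haveI := hKn
  obtain ⟨k, hk⟩ := ih K hKlt hKn (hBp.to_le hKlt.le) fun b hb => hquad b (hKlt.le hb)
  set q := QuotientGroup.mk' K with hq
  have hqs : Function.Surjective q := QuotientGroup.mk'_surjective K
  have hker : q.ker = K := QuotientGroup.ker_mk' K
  set V := B.map q with hV
  haveI : V.Normal := hBn.map q hqs
  have hV0 : V ≠ ⊥ := by
    rw [hV, ne_eq, Subgroup.map_eq_bot_iff, hker]
    exact hKlt.not_ge
  have hmin : ∀ W : Subgroup (G ⧸ K), W.Normal → W ≤ V → W = ⊥ ∨ W = V := by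
    intro W hW hWV
    by_cases h : W = V
    · exact Or.inr h
    left
    haveI := hW
    have h1 : W.comap q ≤ B := by
      refine (comap_mono hWV).trans ?_
      rw [hV, comap_map_eq, hker, sup_eq_left.2 hKlt.le]
    have h3 : W.comap q < B := lt_of_le_of_ne h1 fun he => h (by
      rw [hV, ← he, map_comap_eq_self_of_surjective hqs])
    have h4 := hKmax (W.comap q) ⟨inferInstance, h3⟩
    have h5 := Subgroup.eq_of_le_of_card_ge (hker.symm.trans_le (ker_le_comap q W)) h4
    rw [← map_comap_eq_self_of_surjective hqs W, ← h5, Subgroup.map_eq_bot_iff, hker]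
  haveI : (H.map q).Normal := ‹H.Normal›.map q hqs
  obtain ⟨hVea, hHV⟩ := isElementaryAbelian_of_minimal (hBp.map q) hV0 hmin (hH.map q)
  have hx : q ⁅r, a⁆ ∈ centralizer (V : Set (G ⧸ K)) := by
    rw [map_commutatorElement]
    refine commutator_mem_centralizer_of_quadratic' h2 hVea ?_ ?_ hn ?_
    · rintro _ ⟨b, hb, rfl⟩
      rw [← map_commutatorElement]
      exact (hquad b hb).map q
    · rw [← map_pow, ← map_commutatorElement, ← map_commutatorElement, ← map_commutatorElement]
      exact hHV ⟨_, hc, rfl⟩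
    · rw [← map_commutatorElement, ← map_pow]
      exact hHV ⟨_, hxn, rfl⟩
  set y := ⁅r, a⁆ ^ p ^ k with hy
  obtain ⟨j, hj⟩ := (hBp.to_le hKlt.le).exists_card_eq
  refine ⟨k + j, ?_⟩
  rw [pow_add, pow_mul, ← hy]
  intro b hb
  set z := y * b * y⁻¹ * b⁻¹ with hz
  have hzK : z ∈ K := by
    have h1 : q y ∈ centralizer (V : Set (G ⧸ K)) := by
      rw [hy, map_pow]
      exact pow_mem hx _
    have h3 := mem_centralizer_iff.1 h1 (q b) ⟨b, hb, rfl⟩
    rw [← hker, MonoidHom.mem_ker, hz, map_mul, map_mul, map_mul, map_inv, map_inv, ← h3]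
    group
  have hzy : Commute y z := (mem_centralizer_iff.1 hk z hzK).symm
  have hpow : ∀ m : ℕ, y ^ m * b * (y ^ m)⁻¹ = z ^ m * b := by
    intro m
    induction m with
    | zero => simp
    | succ m ih' =>
      calc y ^ (m + 1) * b * (y ^ (m + 1))⁻¹ = y * (y ^ m * b * (y ^ m)⁻¹) * y⁻¹ := by
            rw [pow_succ']; group
        _ = y * z ^ m * y⁻¹ * (y * b * y⁻¹) := by rw [ih']; group
        _ = z ^ m * (z * b) := by
            rw [(hzy.pow_right m).eq, mul_inv_cancel_right,
              show y * b * y⁻¹ = z * b by rw [hz, inv_mul_cancel_right]]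
        _ = z ^ (m + 1) * b := by rw [pow_succ]; exact (mul_assoc _ _ _).symm
  have h1 : z ^ p ^ j = 1 := by
    rw [← hj]
    exact congrArg Subtype.val (pow_card_eq_one' (x := (⟨z, hzK⟩ : K)))
  have h3 := hpow (p ^ j)
  rw [h1, one_mul] at h3
  exact (mul_inv_eq_iff_eq_mul.1 h3).symm

/-- A group with a normal `M ≥ H`, `H` a normal `p`-group, `M/H` abelian of order prime to `p` and
`G/M` a `p`-group, is `p`-stable for odd `p`. -/
theorem isPStableOn_of_abelian_quotient (h2 : p ≠ 2) {H M : Subgroup G} [H.Normal] [M.Normal]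
    (hH : IsPGroup p H) (hM' : ⁅M, M⁆ ≤ H) {n : ℕ} (hn : n.Coprime p)
    (hMn : ∀ x ∈ M, x ^ n ∈ H) (hGM : IsPGroup p (G ⧸ M)) (B : Subgroup G) [B.Normal]
    (hB : IsPGroup p B) : IsPStableOn p B := by
  intro a ha
  set C := centralizer (B : Set G) with hC
  have hquad : ∀ b ∈ B, Commute a ⁅a, b⁆ := by
    intro b hb
    have h1 : ⁅⁅b, a⁆, a⁆ ∈ ⁅⁅B, zpowers a⁆, zpowers a⁆ :=
      commutator_mem_commutator (commutator_mem_commutator hb (mem_zpowers a)) (mem_zpowers a)
    rw [ha, mem_bot, commutatorElement_eq_one_iff_commute] at h1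
    rw [← commutatorElement_inv]
    exact h1.symm.inv_right
  -- `a` acts as a `p`-element
  obtain ⟨i, hi⟩ := hB.exists_card_eq
  have hap : a ^ p ^ i ∈ C := by
    intro b hb
    set z := ⁅a, b⁆ with hz
    have hzB : z ∈ B := mul_mem (‹B.Normal›.conj_mem b hb a) (inv_mem hb)
    have hpow : ∀ m : ℕ, a ^ m * b * (a ^ m)⁻¹ = z ^ m * b := by
      intro m
      induction m with
      | zero => simp
      | succ m ih' =>
        calc a ^ (m + 1) * b * (a ^ (m + 1))⁻¹ = a * (a ^ m * b * (a ^ m)⁻¹) * a⁻¹ := by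
              rw [pow_succ']; group
          _ = a * z ^ m * a⁻¹ * (a * b * a⁻¹) := by rw [ih']; group
          _ = z ^ m * (z * b) := by
              rw [((hquad b hb).pow_right m).eq, mul_inv_cancel_right,
                show a * b * a⁻¹ = z * b by rw [hz, commutatorElement_def, inv_mul_cancel_right]]
          _ = z ^ (m + 1) * b := by rw [pow_succ]; exact (mul_assoc _ _ _).symm
    have h1 : z ^ p ^ i = 1 := by
      rw [← hi]
      exact congrArg Subtype.val (pow_card_eq_one' (x := (⟨z, hzB⟩ : B)))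
    have h3 := hpow (p ^ i)
    rw [h1, one_mul] at h3
    exact (mul_inv_eq_iff_eq_mul.1 h3).symm
  set q := QuotientGroup.mk' C with hq
  have hqs : Function.Surjective q := QuotientGroup.mk'_surjective C
  set X := pCore p (G ⧸ C) with hX
  set π := (QuotientGroup.mk' X).comp q with hπ
  have hπs : Function.Surjective π := (QuotientGroup.mk'_surjective X).comp hqs
  have hπker : ∀ g, π g = 1 ↔ q g ∈ X := fun g => QuotientGroup.eq_one_iff (q g)
  have hHX : ∀ h ∈ H, π h = 1 := fun h hh => (hπker h).2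
    (Core.le_pCore' (‹H.Normal›.map q hqs) (hH.map q) ⟨h, hh, rfl⟩)
  -- `π a` centralizes the image of `M`
  have hcent : ∀ m ∈ M, Commute (π a) (π m) := by
    intro m hm
    have hmem : ∀ c, ⁅m, c⁆ ∈ M := fun c => by
      rw [commutatorElement_def, mul_assoc m, mul_assoc m]
      exact mul_mem hm (‹M.Normal›.conj_mem _ (inv_mem hm) c)
    obtain ⟨k, hk⟩ := exists_pow_mem_centralizer_of_quadratic h2 hH
      (hM' (commutator_mem_commutator (hmem a) (hmem (a ^ 2)))) hn (hMn _ (hmem a)) B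
      inferInstance hB hquad
    have h1 : π ⁅m, a⁆ ^ n = 1 := by rw [← map_pow]; exact hHX _ (hMn _ (hmem a))
    have h3 : π ⁅m, a⁆ ^ p ^ k = 1 := by
      rw [← map_pow]
      refine (hπker _).2 ?_
      rw [show q (⁅m, a⁆ ^ p ^ k) = 1 from (QuotientGroup.eq_one_iff _).2 hk]
      exact one_mem X
    have h4 := pow_gcd_eq_one.mpr ⟨h1, h3⟩
    rw [(hn.pow_right k).gcd_eq_one, pow_one, map_commutatorElement,
      commutatorElement_eq_one_iff_commute] at h4
    exact h4.symm
  -- the centralizer is nilpotent with trivial `p`-core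
  set Mb := M.map π with hMb
  haveI : Mb.Normal := ‹M.Normal›.map π hπs
  set T := centralizer (Mb : Set ((G ⧸ C) ⧸ X)) with hT
  haveI : T.Normal := inferInstance
  have haT : π a ∈ T := by
    rintro _ ⟨m, hm, rfl⟩
    exact (hcent m hm).eq.symm
  have hTM : IsPGroup p (((G ⧸ C) ⧸ X) ⧸ Mb) := by
    refine hGM.of_surjective (QuotientGroup.map M Mb π (le_comap_map π M)) ?_
    intro y
    obtain ⟨y, rfl⟩ := QuotientGroup.mk'_surjective Mb y
    obtain ⟨g, rfl⟩ := hπs y
    exact ⟨QuotientGroup.mk g, rfl⟩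
  let f : T →* ((G ⧸ C) ⧸ X) ⧸ Mb := (QuotientGroup.mk' Mb).comp T.subtype
  haveI : Group.IsNilpotent f.range := (hTM.to_subgroup f.range).isNilpotent
  have hnil : Group.IsNilpotent T := by
    refine Subgroup.isNilpotent_of_ker_le_center f.rangeRestrict fun t ht => mem_center_iff.2 fun s => ?_
    rw [MonoidHom.ker_rangeRestrict, MonoidHom.mem_ker] at ht
    exact Subtype.ext (mem_centralizer_iff.1 s.2 (t : (G ⧸ C) ⧸ X) ((QuotientGroup.eq_one_iff _).1 ht)).symm
  -- its `p`-elements are trivial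
  obtain ⟨S, hS⟩ := (IsPGroup.of_card (p := p) (n := 0) (by simp) : IsPGroup p (⊥ : Subgroup T)).exists_le_sylow
  clear hS
  haveI hSn : (S : Subgroup T).Normal := Sylow.normal_of_normalizerCondition
    Group.normalizerCondition_of_isNilpotent S
  have hSbot : (S : Subgroup T).map T.subtype = ⊥ := by
    rw [eq_bot_iff, ← Core.pCore_quotient_pCore_eq_bot (p := p) (G := G ⧸ C)]
    exact Core.le_pCore_of_isSubnormal
      (Subgroup.IsSubnormal.step _ T (map_subtype_le _) (Subgroup.Normal.isSubnormal inferInstance)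
        (by rw [subgroupOf, comap_map_eq_self_of_injective T.subtype_injective]; exact hSn))
      (S.isPGroup'.map _)
  have hta : IsPGroup p (zpowers (⟨π a, haT⟩ : T)) := by
    have h1 : (⟨π a, haT⟩ : T) ^ p ^ i = 1 := Subtype.ext (by
      show π a ^ p ^ i = 1
      rw [← map_pow]
      exact (hπker _).2 (by rw [show q (a ^ p ^ i) = 1 from (QuotientGroup.eq_one_iff _).2 hap]; exact one_mem X))
    rintro ⟨_, m, rfl⟩
    exact ⟨i, Subtype.ext (by
      show ((⟨π a, haT⟩ : T) ^ m) ^ (p ^ i) = 1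
      rw [← zpow_natCast, ← zpow_mul, mul_comm, zpow_mul, zpow_natCast, h1, one_zpow])⟩
  have h5 := S.is_maximal' (hta.to_sup_of_normal_right S.isPGroup') le_sup_right
  have h6 : π a ∈ (S : Subgroup T).map T.subtype :=
    ⟨⟨π a, haT⟩, h5.le (mem_sup_left (mem_zpowers _)), rfl⟩
  rw [hSbot, mem_bot] at h6
  exact (hπker a).1 h6

end Cfsg.Lib.Local
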