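import Cfsg.Agent.Lib.Local.HallHigmanTheoremB
import Mathlib.Algebra.Module.ZMod
import Mathlib.FieldTheory.Finiteness
import Mathlib.FieldTheory.Perfect
import Mathlib.RingTheory.Flat.Basic
import Mathlib.FieldTheory.Finite.Basic
import Mathlib.Tactic

/-!
An automorphism `a = b ^ (p ^ f)` of an elementary abelian `q`-group which does not centralise an abelian
`p`-group of automorphisms normalised by `b` moves a large part of the group: `|C(a)| (p ^ (f + 1)) ^ 2 ≤ |M|`.
-/

set_option autoImplicit false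
set_option linter.style.haveILetI false

namespace Cfsg.Lib.Local

open Subgroup

/-- A common eigenvector of commuting elements in an invariant subspace. -/
theorem exists_common_eigenvector {H : Type*} [Group H] [Finite H] {F : Type*} [Field F] [IsAlgClosed F]
    {V : Type*} [AddCommGroup V] [Module F V] [FiniteDimensional F V] (ρ : H →* Module.End F V) (A : Subgroup H)
    (hcomm : ∀ a ∈ A, ∀ b ∈ A, a * b = b * a) (U : Submodule F V) (hU : U ≠ ⊥)
    (hinv : ∀ a ∈ A, ∀ v ∈ U, ρ a v ∈ U) :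
    ∃ ψ : H → F, ∃ v ∈ U, v ≠ 0 ∧ v ∈ eigenOf ρ A ψ := by
  classical
  obtain ⟨U', ⟨hU1, hU2, hU3⟩, hmin⟩ := wellFounded_lt.has_min
    {U' : Submodule F V | U' ≤ U ∧ U' ≠ ⊥ ∧ ∀ c ∈ A, ∀ v ∈ U', ρ c v ∈ U'} ⟨U, le_rfl, hU, hinv⟩
  have : Nontrivial U' := Submodule.nontrivial_iff_ne_bot.2 hU2
  have hscal : ∀ c : A, ∃ s : F, ∀ v ∈ U', ρ (c : H) v = s • v := by
    intro c
    obtain ⟨s, hs⟩ := Module.End.exists_eigenvalue ((ρ (c : H)).restrict (hU3 c c.2))
    obtain ⟨w, hw⟩ := hs.exists_hasEigenvector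
    refine ⟨s, fun v hv => ?_⟩
    have hweq : ρ (c : H) (w : V) = s • (w : V) := congrArg Subtype.val hw.apply_eq_smul
    let U'' : Submodule F V := U' ⊓ LinearMap.ker (ρ (c : H) - s • (1 : Module.End F V))
    have hne : U'' ≠ ⊥ := fun e => hw.2 (Subtype.ext ((Submodule.eq_bot_iff _).1 e (w : V)
      ⟨w.2, by simp [LinearMap.mem_ker, hweq]⟩))
    have heq : U'' = U' := eq_of_le_of_not_lt inf_le_left (hmin _ ⟨inf_le_left.trans hU1,
      hne, fun d hd u hu => ⟨hU3 d hd u hu.1, by
        have h2 : ρ (c : H) u = s • u := by simpa [LinearMap.mem_ker, sub_eq_zero] using hu.2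
        simp only [SetLike.mem_coe, LinearMap.mem_ker, LinearMap.sub_apply, LinearMap.smul_apply,
          Module.End.one_apply, sub_eq_zero]
        rw [← ρ_mul_apply, hcomm _ c.2 d hd, ρ_mul_apply, h2, map_smul]⟩⟩)
    simpa [LinearMap.mem_ker, sub_eq_zero] using (heq.ge hv).2
  choose s hs using hscal
  obtain ⟨v, hv, hv0⟩ := Submodule.exists_mem_ne_zero_of_ne_bot hU2
  refine ⟨fun c => if hc : c ∈ A then s ⟨c, hc⟩ else 0, v, hU1 hv, hv0, mem_eigenOf.2 fun c hc => ?_⟩
  simp only [dif_pos hc]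
  exact hs ⟨c, hc⟩ v hv

theorem sq_pow_le_pow (p q f : ℕ) (hp : 3 ≤ p) (hq : 2 ≤ q) :
    (p < q → (p ^ (f + 1)) ^ 2 ≤ q ^ ((p - 1) * p ^ f)) ∧
      (p ^ (f + 1)) ^ 2 ≤ q ^ (2 * ((p - 1) * p ^ f)) := by
  have hf : f + 1 ≤ p ^ f := Nat.lt_pow_self (by omega)
  have hE : (p - 1) * (f + 1) ≤ (p - 1) * p ^ f := Nat.mul_le_mul_left _ hf
  constructor
  · intro hpq
    calc (p ^ (f + 1)) ^ 2 = p ^ (2 * (f + 1)) := by rw [← pow_mul, mul_comm]
      _ ≤ p ^ ((p - 1) * p ^ f) := Nat.pow_le_pow_right (by omega)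
          ((Nat.mul_le_mul_right _ (show 2 ≤ p - 1 by omega)).trans hE)
      _ ≤ q ^ ((p - 1) * p ^ f) := Nat.pow_le_pow_left hpq.le _
  · have h2 : p ≤ 2 ^ (p - 1) := by have := Nat.lt_two_pow_self (n := p - 1); omega
    calc (p ^ (f + 1)) ^ 2 ≤ ((2 ^ (p - 1)) ^ (f + 1)) ^ 2 :=
          Nat.pow_le_pow_left (Nat.pow_le_pow_left h2 _) _
      _ = 2 ^ (2 * ((p - 1) * (f + 1))) := by rw [← pow_mul, ← pow_mul]; ring_nf
      _ ≤ 2 ^ (2 * ((p - 1) * p ^ f)) := Nat.pow_le_pow_right (by omega) (Nat.mul_le_mul_left 2 hE)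
      _ ≤ q ^ (2 * ((p - 1) * p ^ f)) := Nat.pow_le_pow_left hq _

universe u

/-- An automorphism not centralising a normalised abelian `p`-group moves much. -/
theorem card_fixed_mul_le {M : Type u} [CommGroup M] [Finite M] {q : ℕ} [hq : Fact q.Prime]
    (hM : ∀ m : M, m ^ q = 1) {p : ℕ} [hp : Fact p.Prime] (hp2 : p ≠ 2) (hqp : q ≠ p)
    (B : Subgroup (MulAut M)) (hBp : IsPGroup p B) (hBc : ∀ a ∈ B, ∀ b ∈ B, a * b = b * a) (b : MulAut M)
    (hBn : ∀ β ∈ B, b * β * b⁻¹ ∈ B) {f : ℕ} (hb : b ^ p ^ (f + 1) = 1)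
    (hne : ∃ β ∈ B, b ^ p ^ f * β ≠ β * b ^ p ^ f) :
    Nat.card {m : M // (b ^ p ^ f) m = m} * (p ^ (f + 1)) ^ 2 ≤ Nat.card M := by
  classical
  have : Finite (MulAut M) := Finite.of_injective (fun g : MulAut M => (g : M → M)) DFunLike.coe_injective
  set a := b ^ p ^ f with ha
  set P := p ^ (f + 1) with hP
  set Ec := (p - 1) * p ^ f with hEc
  have hp3 : 3 ≤ p := by have := hp.out.two_le; omega
  have hPpos : 0 < P := pow_pos hp.out.pos _
  have hPE : P = p ^ f + Ec := by
    obtain ⟨r, hr⟩ : ∃ r, p = r + 1 := ⟨p - 1, by omega⟩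
    rw [hP, hEc, pow_succ, hr, Nat.add_sub_cancel]; ring
  -- the linear representation
  haveI : Module (ZMod q) (Additive M) := AddCommGroup.zmodModule fun x => by
    show (Additive.toMul x) ^ q = 1
    exact hM _
  let L₀ : MulAut M → Module.End (ZMod q) (Additive M) := fun g =>
    AddMonoidHom.toZModLinearMap q (AddMonoidHom.mk' (fun x : Additive M => Additive.ofMul (g x.toMul))
      (fun x y => by rw [toMul_add, map_mul]; rfl))
  have hL1 : L₀ 1 = 1 := LinearMap.ext fun x => by simp [L₀, Module.End.one_apply]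
  have hLm : ∀ g g', L₀ (g * g') = L₀ g * L₀ g' := fun g g' =>
    LinearMap.ext fun x => by simp [L₀, Module.End.mul_apply]
  let L : MulAut M →* Module.End (ZMod q) (Additive M) := ⟨⟨L₀, hL1⟩, hLm⟩
  have hL : Function.Injective L := fun g g' e => MulEquiv.ext fun m =>
    congrArg (fun φ : Module.End (ZMod q) (Additive M) => Additive.toMul (φ (Additive.ofMul m))) e
  haveI : Module.Finite (ZMod q) (Additive M) := Module.Finite.of_finite
  let K := AlgebraicClosure (ZMod q)
  haveI : CharP K q := charP_of_injective_algebraMap (algebraMap (ZMod q) K).injective q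
  set σ := closureRep L with hσ
  have hσinj : Function.Injective σ := closureRep_injective hL
  have hpK : (p : K) ≠ 0 := by
    rw [Ne, CharP.cast_eq_zero_iff K q]
    exact fun hd => hqp ((Nat.prime_dvd_prime_iff_eq hq.out hp.out).1 hd)
  have hcardB : (Nat.card B : K) ≠ 0 := natCard_cast_ne_zero hpK hBp
  -- normalisation
  have hBpow : ∀ (k : ℕ), ∀ β ∈ B, b ^ k * β * (b ^ k)⁻¹ ∈ B := by
    intro k
    induction k with
    | zero => intro β hβ; simpa using hβ
    | succ k ih =>
      intro β hβ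
      rw [show b ^ (k + 1) * β * (b ^ (k + 1))⁻¹ = b * (b ^ k * β * (b ^ k)⁻¹) * b⁻¹ by rw [pow_succ']; group]
      exact hBn _ (ih β hβ)
  have hbinv : ∀ k : ℕ, ∃ k' : ℕ, (b ^ k)⁻¹ = b ^ k' := fun k => ⟨(P - 1) * k, by
    refine inv_eq_of_mul_eq_one_right ?_
    rw [← pow_add, show k + (P - 1) * k = P * k by
      conv_rhs => rw [show P = (P - 1) + 1 by omega]
      ring, pow_mul, hb, one_pow]⟩
  have hBpow' : ∀ (k : ℕ), ∀ β ∈ B, (b ^ k)⁻¹ * β * b ^ k ∈ B := fun k β hβ => by
    obtain ⟨k', hk'⟩ := hbinv k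
    rw [← inv_inv (b ^ k)]
    rw [hk', inv_inv]
    rw [show b ^ k' * β * (b ^ k')⁻¹ = b ^ k' * β * (b ^ k')⁻¹ from rfl]
    exact hBpow k' β hβ
  -- a character moved by `a`
  obtain ⟨β₀, hβ₀, hne⟩ := hne
  set c := β₀ * (a * β₀⁻¹ * a⁻¹) with hc
  have hcB : c ∈ B := mul_mem hβ₀ (hBpow _ _ (inv_mem hβ₀))
  have hc1 : c ≠ 1 := fun e => hne (by
    have h1 := eq_inv_of_mul_eq_one_right e
    have h2 := congrArg (fun z => z⁻¹) h1
    simp only [mul_inv_rev, inv_inv] at h2
    rw [← mul_assoc] at h2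
    exact (mul_inv_eq_iff_eq_mul.1 h2))
  let U : Submodule K _ := LinearMap.range (σ c - 1)
  have hU : U ≠ ⊥ := fun e => hc1 (hσinj (by
    rw [map_one, ← sub_eq_zero]
    exact LinearMap.range_eq_bot.1 e))
  obtain ⟨ψ, v, hvU, hv0, hv⟩ := exists_common_eigenvector σ B hBc U hU fun β hβ u hu => by
    obtain ⟨w, rfl⟩ := hu
    exact ⟨σ β w, by
      simp only [LinearMap.sub_apply, Module.End.one_apply, map_sub, ← ρ_mul_apply, hBc c hcB β hβ]⟩
  have hWne : eigenOf σ B ψ ≠ ⊥ := fun e => hv0 (by rwa [e, Submodule.mem_bot] at hv)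
  have hψc : ψ c ≠ 1 := by
    intro e
    obtain ⟨w, hw⟩ := hvU
    have hfix : σ c v = v := by rw [mem_eigenOf.1 hv c hcB, e, one_smul]
    obtain ⟨k, hk⟩ := hBp ⟨c, hcB⟩
    have hk' : c ^ p ^ k = 1 := congrArg Subtype.val hk
    have hpow : ∀ i : ℕ, σ (c ^ i) v = v := by
      intro i
      induction i with
      | zero => simp
      | succ i ih => rw [pow_succ, ρ_mul_apply, hfix, ih]
    have h0 : ∑ i ∈ Finset.range (p ^ k), σ (c ^ i) v = 0 := by
      rw [← hw]
      simp only [LinearMap.sub_apply, Module.End.one_apply, map_sub, ← ρ_mul_apply, ← pow_succ]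
      rw [Finset.sum_range_sub (fun i => σ (c ^ i) w), hk', pow_zero, sub_self]
    rw [Finset.sum_congr rfl fun i _ => hpow i, Finset.sum_const, Finset.card_range,
      ← Nat.cast_smul_eq_nsmul K, Nat.cast_pow] at h0
    exact hv0 ((smul_eq_zero.1 h0).resolve_left (pow_ne_zero _ hpK))
  have hmove : ψ (a * β₀ * a⁻¹) ≠ ψ β₀ := by
    intro e
    refine hψc ?_
    rw [hc, show a * β₀⁻¹ * a⁻¹ = (a * β₀ * a⁻¹)⁻¹ by group, eigen_mul hWne hβ₀ (inv_mem (hBpow _ _ hβ₀)),
      eigen_inv hWne (hBpow _ _ hβ₀), e, mul_inv_cancel₀ (eigen_ne_zero hWne hβ₀)]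
  -- conjugate characters
  let χ : ℕ → MulAut M → K := fun t β => ψ ((b ^ t)⁻¹ * β * b ^ t)
  let u : ℕ → TensorProduct (ZMod q) K (Additive M) := fun t => σ (b ^ t) v
  have hu : ∀ t, u t ∈ eigenOf σ B (χ t) := fun t => mem_eigenOf.2 fun β hβ => by
    show σ β (σ (b ^ t) v) = ψ _ • σ (b ^ t) v
    rw [← ρ_mul_apply, show β * b ^ t = b ^ t * ((b ^ t)⁻¹ * β * b ^ t) by group, ρ_mul_apply,
      mem_eigenOf.1 hv _ (hBpow' t β hβ), map_smul]
  have hshift : ∀ t, σ a (u t) = u (p ^ f + t) := fun t => by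
    show σ a (σ (b ^ t) v) = σ (b ^ (p ^ f + t)) v
    rw [← ρ_mul_apply, pow_add]
  have hperiod : ∀ d : ℕ, (∀ β ∈ B, χ d β = ψ β) → P ∣ d := by
    intro d hd
    by_contra hnd
    obtain ⟨i, hi1, hi⟩ := (Nat.dvd_prime_pow hp.out).1 (Nat.gcd_dvd_right d P)
    have hif : i ≤ f := by
      by_contra hlt
      exact hnd (by rw [show P = Nat.gcd d P by rw [hi, hP, show f + 1 = i by omega]]; exact Nat.gcd_dvd_left d P)
    have hmult : ∀ k : ℕ, ∀ β ∈ B, χ (d * k) β = ψ β := by
      intro k
      induction k with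
      | zero => intro β _; simp [χ]
      | succ k ih =>
        intro β hβ
        show ψ _ = _
        rw [show (b ^ (d * (k + 1)))⁻¹ * β * b ^ (d * (k + 1)) =
          (b ^ d)⁻¹ * ((b ^ (d * k))⁻¹ * β * b ^ (d * k)) * b ^ d by rw [Nat.mul_succ, pow_add]; group]
        exact (hd _ (hBpow' _ β hβ)).trans (ih β hβ)
    have hz : b ^ p ^ i ∈ Subgroup.zpowers (b ^ d) := by
      refine mem_zpowers_iff.2 ⟨Nat.gcdA d P, ?_⟩
      have hx1 : b ^ ((P : ℕ) : ℤ) = 1 := by rw [zpow_natCast, hb]
      rw [← zpow_natCast b (p ^ i), ← hi, Nat.gcd_eq_gcd_ab, zpow_add, zpow_mul, zpow_mul, hx1, one_zpow,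
        mul_one, zpow_natCast]
    have hz' : a ∈ Subgroup.zpowers (b ^ d) := by
      rw [ha, show p ^ f = p ^ i * p ^ (f - i) by rw [← pow_add, Nat.add_sub_cancel' hif], pow_mul]
      exact pow_mem hz _
    obtain ⟨k, hk⟩ := mem_powers_iff_mem_zpowers.2 hz'
    have h1 := hmult k (a * β₀ * a⁻¹) (hBpow _ _ hβ₀)
    have hk' : b ^ (d * k) = a := by rw [pow_mul]; exact hk
    refine hmove (h1.symm.trans ?_)
    show ψ _ = _
    rw [hk']
    congr 1
    group
  have hdiff : ∀ t s : ℕ, s ≤ P → ∀ (e : K → K), (∀ β ∈ B, χ t β = e (χ s β)) →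
      ∀ β ∈ B, χ (P - s + t) β = e (ψ β) := by
    intro t s hs e h β hβ
    have h1 := h _ (hBpow s β hβ)
    have h2 : b ^ (P - s + t) = (b ^ s)⁻¹ * b ^ t := by
      rw [eq_inv_mul_iff_mul_eq, ← pow_add, ← add_assoc, Nat.add_sub_cancel' hs, pow_add, hb, one_mul]
    simp only [χ] at h1 ⊢
    rw [h2]
    convert h1 using 2
    · group
    · congr 1; group
  have hsame : ∀ t s : ℕ, t < P → s < P → (∀ β ∈ B, χ t β = χ s β) → t = s := by
    intro t s ht hs h
    have h1 := hperiod _ (hdiff t s hs.le id h)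
    rcases le_or_gt s t with hst | hst
    · have h2 : P ∣ t - s := by
        have := (Nat.dvd_add_right (dvd_refl P)).1 (show P ∣ P + (t - s) by
          rwa [show P + (t - s) = P - s + t by omega])
        exact this
      have := Nat.eq_zero_of_dvd_of_lt h2 (by omega)
      omega
    · have := Nat.eq_zero_of_dvd_of_lt h1 (by omega)
      omega
  have hcross : q % p ≠ 1 → ∀ t s : ℕ, s < P → ¬ ∀ β ∈ B, χ t β = χ s β ^ q := by
    intro hq1 t s hs h
    have hd := hdiff t s hs.le (· ^ q) h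
    set d := P - s + t with hd'
    have hit : ∀ k : ℕ, ∀ β ∈ B, χ (d * k) β = ψ β ^ q ^ k := by
      intro k
      induction k with
      | zero => intro β _; simp [χ]
      | succ k ih =>
        intro β hβ
        show ψ _ = _
        rw [show (b ^ (d * (k + 1)))⁻¹ * β * b ^ (d * (k + 1)) =
          (b ^ d)⁻¹ * ((b ^ (d * k))⁻¹ * β * b ^ (d * k)) * b ^ d by rw [Nat.mul_succ, pow_add]; group]
        refine (hd _ (hBpow' _ β hβ)).trans ?_
        show (ψ _) ^ q = _
        rw [show ψ _ = ψ β ^ q ^ k from ih β hβ, ← pow_mul, ← pow_succ]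
    have h1 := hit P c hcB
    simp only [χ] at h1
    rw [mul_comm, pow_mul, hb, one_pow, inv_one, one_mul, mul_one] at h1
    have hqP : 1 ≤ q ^ P := Nat.one_le_pow _ _ hq.out.pos
    have h2 : ψ c ^ (q ^ P - 1) = 1 := by
      refine mul_right_cancel₀ (eigen_ne_zero hWne hcB) ?_
      rw [← pow_succ, Nat.sub_add_cancel hqP, ← h1, one_mul]
    obtain ⟨k, hk⟩ := hBp ⟨c, hcB⟩
    have hk' : c ^ p ^ k = 1 := congrArg Subtype.val hk
    have h3 : ψ c ^ p ^ k = 1 := by
      have hpow : ∀ i : ℕ, ψ (c ^ i) = ψ c ^ i := by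
        intro i
        induction i with
        | zero => rw [pow_zero, pow_zero, eigen_one hWne]
        | succ i ih => rw [pow_succ, pow_succ, eigen_mul hWne (pow_mem hcB i) hcB, ih]
      rw [← hpow, hk', eigen_one hWne]
    obtain ⟨l, -, hl⟩ := (Nat.dvd_prime_pow hp.out).1 (orderOf_dvd_of_pow_eq_one h3)
    have hl0 : l ≠ 0 := by
      rintro rfl
      rw [pow_zero, orderOf_eq_one_iff] at hl
      exact hψc hl
    have hdvd : p ∣ q ^ P - 1 := (dvd_pow_self p hl0).trans (hl ▸ orderOf_dvd_of_pow_eq_one h2)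
    have hz : ((q : ZMod p)) ^ P = 1 := by
      have := (ZMod.natCast_eq_zero_iff _ _).2 hdvd
      rw [Nat.cast_sub hqP, Nat.cast_pow, Nat.cast_one, sub_eq_zero] at this
      exact this
    rw [hP, ZMod.pow_card_pow] at hz
    refine hq1 ?_
    have := congrArg ZMod.val hz
    rwa [ZMod.val_natCast, ZMod.val_one] at this
  -- the Frobenius twist
  let θ : TensorProduct (ZMod q) K (Additive M) →ₗ[ZMod q] TensorProduct (ZMod q) K (Additive M) :=
    LinearMap.rTensor (Additive M) ((frobenius K q).toAddMonoidHom.toZModLinearMap q)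
  have hθinj : Function.Injective θ :=
    Module.Flat.rTensor_preserves_injective_linearMap _ (frobenius_inj K q)
  have hθs : ∀ (k : K) x, θ (k • x) = k ^ q • θ x := by
    intro k x
    induction x using TensorProduct.induction_on with
    | zero => simp
    | tmul a m =>
      show frobenius K q (k * a) ⊗ₜ[ZMod q] m = k ^ q • (frobenius K q a ⊗ₜ[ZMod q] m)
      rw [map_mul, frobenius_def, TensorProduct.smul_tmul', smul_eq_mul]
    | add x y hx hy => rw [smul_add, map_add, map_add, hx, hy, smul_add]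
  have hθσ : ∀ (g : MulAut M) x, θ (σ g x) = σ g (θ x) := by
    intro g x
    induction x using TensorProduct.induction_on with
    | zero => simp
    | tmul a m => rfl
    | add x y hx hy => rw [map_add, map_add, map_add, map_add, hx, hy]
  set cn := if q % p = 1 then 1 else 2 with hcn
  let ch : Fin cn × ℕ → MulAut M → K := fun i β => if (i.1 : ℕ) = 0 then χ i.2 β else χ i.2 β ^ q
  let w : Fin cn × ℕ → TensorProduct (ZMod q) K (Additive M) := fun i =>
    if (i.1 : ℕ) = 0 then u i.2 else θ (u i.2)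
  have hw : ∀ i, w i ∈ eigenOf σ B (ch i) := by
    intro i
    simp only [w, ch]
    split_ifs
    · exact hu _
    · refine mem_eigenOf.2 fun β hβ => ?_
      rw [← hθσ, mem_eigenOf.1 (hu _) β hβ, hθs]
  have hw0 : ∀ i, w i ≠ 0 := by
    intro i
    simp only [w]
    split_ifs
    · exact ρ_ne_zero σ _ hv0
    · exact fun e => ρ_ne_zero σ _ hv0 (hθinj (by rw [e, map_zero]))
  have hwσ : ∀ (e : Fin cn) (t : ℕ), σ a (w (e, t)) = w (e, p ^ f + t) := by
    intro e t
    simp only [w]
    split_ifs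
    · exact hshift t
    · rw [← hθσ, hshift]
  have hindep : ∀ G : Fin cn × ℕ → K,
      ∑ i ∈ (Finset.univ : Finset (Fin cn)) ×ˢ Finset.range P, G i • w i = 0 →
        ∀ e t, t < P → G (e, t) = 0 := by
    intro G hG e t ht
    have h0 := eigen_sum_eq_zero (A := B) hcardB ((Finset.univ : Finset (Fin cn)) ×ˢ Finset.range P) ch
      (fun i => G i • w i) (fun i _ => Submodule.smul_mem _ _ (hw i))
      (i0 := (e, t)) (by simp [ht]) (fun i hi hne => ?_) hG
    · exact (smul_eq_zero.1 h0).resolve_right (hw0 _)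
    obtain ⟨e', s⟩ := i
    simp only [Finset.mem_product, Finset.mem_univ, Finset.mem_range, true_and] at hi
    by_contra hcon
    push Not at hcon
    simp only [ch] at hcon
    have he2 := e.2
    have he2' := e'.2
    by_cases h1 : (e : ℕ) = 0 <;> by_cases h2 : (e' : ℕ) = 0
    · simp only [h1, h2, if_true] at hcon
      exact hne (Prod.ext (Fin.ext (h2.trans h1.symm)) (hsame s t hi ht hcon))
    · simp only [h1, h2, if_true, if_false] at hcon
      have hq1 : q % p ≠ 1 := fun hq1 => by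
        have hcn1 : cn = 1 := by rw [hcn, if_pos hq1]
        omega
      exact hcross hq1 t s hi fun β hβ => (hcon β hβ).symm
    · simp only [h1, h2, if_true, if_false] at hcon
      have hq1 : q % p ≠ 1 := fun hq1 => by
        have hcn1 : cn = 1 := by rw [hcn, if_pos hq1]
        omega
      exact hcross hq1 s t ht hcon
    · simp only [h1, h2, if_false] at hcon
      have hcn2 : cn ≤ 2 := by rw [hcn]; split_ifs <;> omega
      exact hne (Prod.ext (Fin.ext (show (e' : ℕ) = e by omega))
        (hsame s t hi ht fun β hβ => frobenius_inj K q (hcon β hβ)))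
  -- independent vectors in the image of `a - 1`
  let d : Fin cn × Fin Ec → LinearMap.range (σ a - 1) := fun i =>
    ⟨w (i.1, p ^ f + i.2) - w (i.1, i.2), w (i.1, i.2), by
      rw [LinearMap.sub_apply, Module.End.one_apply, hwσ]⟩
  have hd : LinearIndependent K d := by
    refine (Fintype.linearIndependent_iff (R := K) (v := d)).2 fun g hg i => ?_
    let g' : Fin cn → ℕ → K := fun e t => if h : t < Ec then g (e, ⟨t, h⟩) else 0
    let G : Fin cn × ℕ → K := fun i =>
      (if p ^ f ≤ i.2 then g' i.1 (i.2 - p ^ f) else 0) - (if i.2 < Ec then g' i.1 i.2 else 0)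
    have hG : ∑ i ∈ (Finset.univ : Finset (Fin cn)) ×ˢ Finset.range P, G i • w i = 0 := by
      have h1 := congrArg Subtype.val hg
      rw [Submodule.coe_sum, Submodule.coe_zero, Fintype.sum_prod_type] at h1
      rw [Finset.sum_product, ← h1]
      refine Finset.sum_congr rfl fun e _ => ?_
      rw [Finset.sum_congr rfl (fun t _ => show G (e, t) • w (e, t) =
          (if p ^ f ≤ t then g' e (t - p ^ f) else 0) • w (e, t) - (if t < Ec then g' e t else 0) • w (e, t)
          from sub_smul (M := TensorProduct (ZMod q) K (Additive M)) _ _ _), Finset.sum_sub_distrib]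
      simp only [d, SetLike.val_smul, smul_sub, Finset.sum_sub_distrib]
      congr 1
      · rw [hPE, Finset.sum_range_add, Finset.sum_eq_zero (fun t ht => ?_), zero_add, ← Fin.sum_univ_eq_sum_range]
        · refine Finset.sum_congr rfl fun t _ => ?_
          rw [if_pos (Nat.le_add_right _ _), Nat.add_sub_cancel_left]
          simp only [g', dif_pos t.2, Fin.eta]
        · rw [if_neg (by simp only [Finset.mem_range] at ht; omega), zero_smul]
      · rw [show P = Ec + p ^ f by omega, Finset.sum_range_add,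
          Finset.sum_eq_zero (s := Finset.range (p ^ f)) (fun t _ => ?_), add_zero, ← Fin.sum_univ_eq_sum_range]
        · refine Finset.sum_congr rfl fun t _ => ?_
          rw [if_pos t.2]
          simp only [g', dif_pos t.2, Fin.eta]
        · rw [if_neg (by omega), zero_smul]
    have hall : ∀ t : ℕ, ∀ e, t < Ec → g' e t = 0 := by
      intro t
      induction t using Nat.strong_induction_on with
      | _ t ih =>
        intro e ht
        have h1 := hindep G hG e t (by omega)
        simp only [G] at h1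
        rw [if_pos ht] at h1
        by_cases h2 : p ^ f ≤ t
        · rw [if_pos h2, ih (t - p ^ f) (by have := pow_pos hp.out.pos f; omega) e (by omega), zero_sub, neg_eq_zero] at h1
          exact h1
        · rw [if_neg h2, zero_sub, neg_eq_zero] at h1
          exact h1
    obtain ⟨e, t⟩ := i
    have := hall t e t.2
    simpa [g', dif_pos t.2] using this
  have hrank : cn * Ec ≤ Module.finrank K (LinearMap.range (σ a - 1)) := by
    have := hd.fintype_card_le_finrank
    rwa [Fintype.card_prod, Fintype.card_fin, Fintype.card_fin] at this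
  -- descend to the fixed points
  let Fx : Submodule (ZMod q) (Additive M) := LinearMap.ker (L a - 1)
  have hFx : Module.finrank (ZMod q) Fx ≤ Module.finrank K (LinearMap.ker (σ a - 1)) := by
    let ι := Fx.subtype.baseChange K
    have hιinj : Function.Injective ι :=
      Module.Flat.lTensor_preserves_injective_linearMap _ Fx.injective_subtype
    have hmem : ∀ x, ι x ∈ LinearMap.ker (σ a - 1) := by
      intro x
      rw [LinearMap.mem_ker]
      induction x using TensorProduct.induction_on with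
      | zero => simp
      | tmul k m =>
        show (σ a - 1) (k ⊗ₜ[ZMod q] (m : Additive M)) = 0
        rw [LinearMap.sub_apply, Module.End.one_apply, sub_eq_zero]
        show k ⊗ₜ[ZMod q] (L a (m : Additive M)) = _
        rw [show L a (m : Additive M) = m from sub_eq_zero.1 m.2]
      | add x y hx hy => rw [map_add, map_add, hx, hy, add_zero]
    have h1 := LinearMap.finrank_le_finrank_of_injective (f := ι.codRestrict _ hmem)
      (fun x y e => hιinj (congrArg Subtype.val e))
    rwa [Module.finrank_baseChange] at h1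
  have hrn := LinearMap.finrank_range_add_finrank_ker (σ a - 1)
  have hN : Module.finrank K (TensorProduct (ZMod q) K (Additive M)) = Module.finrank (ZMod q) (Additive M) :=
    Module.finrank_baseChange
  rw [hN] at hrn
  have hcardM : Nat.card M = q ^ Module.finrank (ZMod q) (Additive M) := by
    have := Module.natCard_eq_pow_finrank (K := ZMod q) (V := Additive M)
    rw [Nat.card_zmod] at this
    exact this
  have hcardF : Nat.card {m : M // a m = m} = q ^ Module.finrank (ZMod q) Fx := by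
    have := Module.natCard_eq_pow_finrank (K := ZMod q) (V := Fx)
    rw [Nat.card_zmod] at this
    rw [← this]
    refine Nat.card_congr (Equiv.subtypeEquiv Additive.ofMul fun m => ?_)
    show a m = m ↔ L a (Additive.ofMul m) - Additive.ofMul m = 0
    rw [sub_eq_zero]
    exact Iff.rfl
  rw [hcardM, hcardF]
  refine (Nat.mul_le_mul_left _ ?_).trans (le_of_eq_of_le (pow_add q _ _).symm
    (Nat.pow_le_pow_right hq.out.pos (show Module.finrank (ZMod q) Fx + cn * Ec ≤ _ by
      have h9 : Module.finrank K (LinearMap.range (σ a - 1)) + Module.finrank K (LinearMap.ker (σ a - 1)) = _ := hrn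
      omega)))
  obtain ⟨h1, h2⟩ := sq_pow_le_pow p q f hp3 hq.out.two_le
  rw [hcn]
  split_ifs with hq1
  · rw [one_mul]
    refine h1 ?_
    by_contra hlt
    rw [Nat.mod_eq_of_lt (by omega)] at hq1
    exact hq.out.ne_one hq1
  · exact h2

end Cfsg.Lib.Local
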