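import Cfsg.Agent.Lib.Local.StronglyClosedAbelianFusion
import Cfsg.Agent.Lib.Fusion.Abelian
import Cfsg.Agent.Lib.Invol.Basic
import Cfsg.Agent.Lib.Char.Central

/-!
Groups in which every 2-element has a class of odd size have abelian Sylow 2-subgroups.
-/

set_option autoImplicit false
set_option linter.unusedSectionVars false
set_option linter.style.haveILetI false

namespace Cfsg.Lib.Local.TwoCentral

open Subgroup

universe u

/-- Every element of 2-power order has a class of odd size. -/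
def OddClasses (G : Type u) [Group G] : Prop :=
  ∀ x : G, (∃ k : ℕ, orderOf x = 2 ^ k) → ¬ 2 ∣ (centralizer ({x} : Set G)).index

variable {G : Type u} [Group G] [Finite G]

theorem exists_pow_of_mem {P : Subgroup G} (hP : IsPGroup 2 P) {x : G} (hx : x ∈ P) :
    ∃ k : ℕ, orderOf x = 2 ^ k := by
  obtain ⟨k, hk⟩ := hP ⟨x, hx⟩
  obtain ⟨j, -, hj⟩ := (Nat.dvd_prime_pow Nat.prime_two).1
    (orderOf_dvd_of_pow_eq_one (congrArg Subtype.val hk))
  exact ⟨j, hj⟩

/-- A Sylow subgroup centralizing `x` and containing a given 2-subgroup. -/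
theorem exists_sylow (h : OddClasses G) {x : G} (hx : ∃ k : ℕ, orderOf x = 2 ^ k) {D : Subgroup G}
    (hD : IsPGroup 2 D) (hDx : D ≤ centralizer ({x} : Set G)) :
    ∃ R : Sylow 2 G, D ≤ (R : Subgroup G) ∧ x ∈ (R : Subgroup G) ∧
      (R : Subgroup G) ≤ centralizer ({x} : Set G) := by
  haveI : Fact (Nat.Prime 2) := ⟨Nat.prime_two⟩
  set C := centralizer ({x} : Set G)
  obtain ⟨T, hT⟩ := ((hD.of_equiv (subgroupOfEquivOfLe hDx).symm :
    IsPGroup 2 ↥(D.subgroupOf C))).exists_le_sylow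
  have hp : IsPGroup 2 ((T : Subgroup C).map C.subtype) := T.2.map C.subtype
  have hi : ¬ 2 ∣ ((T : Subgroup C).map C.subtype).index := by
    rw [index_map_subtype]
    exact Nat.prime_two.not_dvd_mul T.not_dvd_index (h x hx)
  let R : Sylow 2 G := hp.toSylow hi
  have hRC : (R : Subgroup G) ≤ C := map_subtype_le _
  have hxn : zpowers x ≤ normalizer ((R : Subgroup G) : Set G) := zpowers_le.2
    (centralizer_le_normalizer _ (mem_centralizer_iff.2 fun r hr =>
      mem_centralizer_singleton_iff.1 (hRC hr)))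
  obtain ⟨k, hk⟩ := hx
  have h2 : IsPGroup 2 (zpowers x) := IsPGroup.of_card ((Nat.card_zpowers x).trans hk)
  have h3 : IsPGroup 2 (zpowers x ⊔ (R : Subgroup G) : Subgroup G) :=
    IsPGroup.to_sup_of_normal_right' h2 R.2 hxn
  refine ⟨R, fun d hd => ⟨⟨d, hDx hd⟩, hT hd, rfl⟩, ?_, hRC⟩
  exact (R.3 h3 le_sup_right) ▸ mem_sup_left (mem_zpowers x)

/-- A real 2-element has order at most 2. -/
theorem mul_self_eq_one (h : OddClasses G) {x : G} (hx : ∃ k : ℕ, orderOf x = 2 ^ k)
    (hc : IsConj x x⁻¹) : x * x = 1 := by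
  classical
  haveI := Fintype.ofFinite G
  obtain ⟨c, hc⟩ := isConj_iff.1 hc
  by_contra hne
  let s : Finset G := Finset.univ.filter fun y => IsConj x y
  have hinv : ∀ y ∈ s, y⁻¹ ∈ s := by
    intro y hy
    simp only [s, Finset.mem_filter, Finset.mem_univ, true_and] at hy ⊢
    obtain ⟨d, rfl⟩ := isConj_iff.1 hy
    refine isConj_iff.2 ⟨d * c, ?_⟩
    rw [show d * c * x * (d * c)⁻¹ = d * (c * x * c⁻¹) * d⁻¹ by group, hc]
    group
  have hfix : ∀ y ∈ s, y⁻¹ ≠ y := by
    intro y hy e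
    simp only [s, Finset.mem_filter, Finset.mem_univ, true_and] at hy
    obtain ⟨d, rfl⟩ := isConj_iff.1 hy
    apply hne
    have h1 : d * x * d⁻¹ * (d * x * d⁻¹) = 1 := by rw [← mul_inv_cancel (d * x * d⁻¹), e]
    calc x * x = d⁻¹ * (d * x * d⁻¹ * (d * x * d⁻¹)) * d := by group
      _ = 1 := by rw [h1]; group
  have heven : Even s.card := by
    let t : Finset G := s
    have : ((s.card : ℕ) : ZMod 2) = 0 := by
      rw [Finset.cast_card]
      refine Finset.sum_involution (fun y _ => y⁻¹) (fun _ _ => CharTwo.add_self_eq_zero _)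
        (fun y hy _ => hfix y hy) hinv (fun y _ => inv_inv y)
    exact even_iff_two_dvd.2 ((ZMod.natCast_eq_zero_iff_even).1 this |>.two_dvd)
  refine h x hx ?_
  have hcard : (centralizer ({x} : Set G)).index = s.card := by
    rw [← Char.card_classFinset]
    congr 1
    ext y
    simp [s, Char.mem_classFinset]
  rw [hcard]
  exact heven.two_dvd

/-- Involutions in a 2-subgroup commute. -/
theorem commute_involutions (h : OddClasses G) {P : Subgroup G} (hP : IsPGroup 2 P) {s t : G}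
    (hs : s ∈ P) (ht : t ∈ P) (hs2 : s * s = 1) (ht2 : t * t = 1) : s * t = t * s := by
  have hs' : s⁻¹ = s := inv_eq_of_mul_eq_one_left hs2
  have ht' : t⁻¹ = t := inv_eq_of_mul_eq_one_left ht2
  have h1 := mul_self_eq_one h (exists_pow_of_mem hP (P.mul_mem hs ht))
    (isConj_iff.2 ⟨s, by rw [hs', mul_inv_rev, hs', ht', ← mul_assoc s s t, hs2, one_mul]⟩)
  calc s * t = (s * t)⁻¹ := (inv_eq_of_mul_eq_one_left h1).symm
    _ = t * s := by rw [mul_inv_rev, hs', ht']

/-- The subgroup of elements of order at most 2. -/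
def omega (h : OddClasses G) (P : Sylow 2 G) : Subgroup G where
  carrier := {x | x ∈ (P : Subgroup G) ∧ x * x = 1}
  one_mem' := ⟨one_mem _, one_mul 1⟩
  mul_mem' {s t} hs ht := ⟨mul_mem hs.1 ht.1, by
    rw [mul_assoc, ← mul_assoc t s t, ← commute_involutions h P.2 hs.1 ht.1 hs.2 ht.2,
      mul_assoc s t t, ht.2, mul_one, hs.2]⟩
  inv_mem' {s} hs := ⟨inv_mem hs.1, by rw [← mul_inv_rev, hs.2, inv_one]⟩

/-- Involutions are central in every Sylow subgroup containing them. -/
theorem involution_central (h : OddClasses G) (P : Sylow 2 G) {e x : G}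
    (he : e ∈ (P : Subgroup G)) (he2 : e * e = 1) (hx : x ∈ (P : Subgroup G)) : e * x = x * e := by
  haveI : Fact (Nat.Prime 2) := ⟨Nat.prime_two⟩
  set A := omega h P
  have hAc : IsMulCommutative A := ⟨⟨fun a b => Subtype.ext
    (commute_involutions h P.2 a.2.1 b.2.1 a.2.2 b.2.2)⟩⟩
  have hsc : Cfsg.IsStronglyClosed A (P : Subgroup G) := by
    refine ⟨fun a ha => ha.1, fun a ha g hg => ⟨hg, ?_⟩⟩
    rw [show g * a * g⁻¹ * (g * a * g⁻¹) = g * (a * a) * g⁻¹ by group, ha.2, mul_one,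
      mul_inv_cancel]
  obtain ⟨R, -, hxR, hRx⟩ := exists_sylow h (exists_pow_of_mem P.2 hx) IsPGroup.of_bot bot_le
  obtain ⟨g, hg⟩ := MulAction.exists_smul_eq G R P
  have hconj : ∀ r ∈ (R : Subgroup G), g * r * g⁻¹ ∈ (P : Subgroup G) := fun r hr => by
    rw [← hg]; exact Subgroup.smul_mem_pointwise_smul r (MulAut.conj g) _ hr
  obtain ⟨m, hm, hm2⟩ := SCAbelian.controls P A hAc hsc (D := zpowers x) (zpowers_le.2 hx)
    (g := g⁻¹) (Cfsg.Lib.Fusion.conjR_le_iff.2 fun y hy => by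
      rw [inv_inv]
      exact hconj y ((zpowers_le.2 hxR : zpowers x ≤ (R : Subgroup G)) hy))
  have h1 := hm2 x (mem_zpowers x)
  rw [inv_inv] at h1
  have heA : e ∈ A := ⟨he, he2⟩
  have h2 : m⁻¹ * e * m ∈ A := by
    have := (mem_normalizer_iff.1 (inv_mem hm) e).1 heA
    rwa [inv_inv] at this
  -- `g * x * g⁻¹` is central in `P`
  have h3 : (m⁻¹ * e * m) * (g * x * g⁻¹) = (g * x * g⁻¹) * (m⁻¹ * e * m) := by
    have hmem : g⁻¹ * (m⁻¹ * e * m) * g ∈ (R : Subgroup G) := by
      have h4 : m⁻¹ * e * m ∈ ((g • R : Sylow 2 G) : Subgroup G) := hg.symm ▸ h2.1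
      rw [Sylow.coe_subgroup_smul, mem_pointwise_smul_iff_inv_smul_mem] at h4
      simpa [MulAut.smul_def, mul_assoc] using h4
    have h5 := mem_centralizer_singleton_iff.1 (hRx hmem)
    calc (m⁻¹ * e * m) * (g * x * g⁻¹) = g * ((g⁻¹ * (m⁻¹ * e * m) * g) * x) * g⁻¹ := by group
      _ = g * (x * (g⁻¹ * (m⁻¹ * e * m) * g)) * g⁻¹ := by rw [h5]
      _ = _ := by group
  rw [h1] at h3
  calc e * x = m * ((m⁻¹ * e * m) * (m⁻¹ * x * m)) * m⁻¹ := by group
    _ = m * ((m⁻¹ * x * m) * (m⁻¹ * e * m)) * m⁻¹ := by rw [h3]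
    _ = x * e := by group

/-- The hypothesis passes to centralizers of involutions. -/
theorem oddClasses_centralizer (h : OddClasses G) {e : G} (he : orderOf e = 2) :
    OddClasses (centralizer ({e} : Set G)) := by
  haveI : Fact (Nat.Prime 2) := ⟨Nat.prime_two⟩
  intro x hx
  obtain ⟨k, hk⟩ := hx
  have hxe : e ∈ centralizer ({(x : G)} : Set G) :=
    mem_centralizer_singleton_iff.2 (mem_centralizer_singleton_iff.1 x.2).symm
  obtain ⟨R, heR, -, hRx⟩ := exists_sylow h ⟨k, by rw [Subgroup.orderOf_coe, hk]⟩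
    (IsPGroup.of_card (p := 2) (n := 1) ((Nat.card_zpowers e).trans (by rw [he, pow_one])))
    (zpowers_le.2 hxe)
  have he' : e ∈ (R : Subgroup G) := heR (mem_zpowers e)
  have hRe : (R : Subgroup G) ≤ centralizer ({e} : Set G) := fun r hr =>
    mem_centralizer_singleton_iff.2
      (involution_central h R he' (Invol.inv_mul_self he) hr).symm
  intro hd
  have hle : (R : Subgroup G).subgroupOf (centralizer ({e} : Set G)) ≤
      centralizer ({x} : Set (centralizer ({e} : Set G))) := fun r hr =>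
    mem_centralizer_singleton_iff.2 (Subtype.ext (mem_centralizer_singleton_iff.1 (hRx hr)))
  have h1 := hd.trans (index_dvd_of_le hle)
  exact R.not_dvd_index (h1.trans (relIndex_dvd_index_of_le hRe))

/-- The hypothesis passes to quotients. -/
theorem oddClasses_quotient (h : OddClasses G) (N : Subgroup G) [N.Normal] : OddClasses (G ⧸ N) := by
  haveI : Fact (Nat.Prime 2) := ⟨Nat.prime_two⟩
  intro x hx
  obtain ⟨g, rfl⟩ := QuotientGroup.mk_surjective x
  obtain ⟨k, hk⟩ := hx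
  obtain ⟨a, m, hm, ha⟩ := Nat.exists_eq_two_pow_mul_odd (orderOf_pos g).ne'
  obtain ⟨j, hj⟩ : ∃ j, m * j ≡ 1 [MOD 2 ^ k] := by
    rcases Nat.eq_zero_or_pos k with rfl | hk0
    · exact ⟨0, by simp [Nat.modEq_one]⟩
    · obtain ⟨j, hj⟩ := Nat.exists_mul_mod_eq_one_of_coprime
        (Nat.coprime_two_right.2 hm |>.pow_right k) (Nat.one_lt_two_pow hk0.ne')
      exact ⟨j, by rw [Nat.ModEq, hj.2, Nat.one_mod_eq_one.2 (Nat.one_lt_two_pow hk0.ne').ne']⟩
  set y := g ^ (m * j) with hy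
  have hy2 : ∃ i : ℕ, orderOf y = 2 ^ i := by
    have : y ^ (2 ^ a) = 1 := by
      rw [hy, ← pow_mul, show m * j * 2 ^ a = orderOf g * j by rw [ha]; ring, pow_mul,
        pow_orderOf_eq_one, one_pow]
    obtain ⟨i, -, hi⟩ := (Nat.dvd_prime_pow Nat.prime_two).1 (orderOf_dvd_of_pow_eq_one this)
    exact ⟨i, hi⟩
  have hmk : (QuotientGroup.mk g : G ⧸ N) = QuotientGroup.mk' N y := by
    rw [hy, map_pow, QuotientGroup.mk'_apply]
    conv_lhs => rw [← pow_one (QuotientGroup.mk g : G ⧸ N)]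
    rw [pow_eq_pow_iff_modEq, hk]
    exact hj.symm
  intro hd
  rw [hmk] at hd
  have hle : (centralizer ({y} : Set G)).map (QuotientGroup.mk' N) ≤
      centralizer ({QuotientGroup.mk' N y} : Set (G ⧸ N)) := by
    rintro _ ⟨c, hc, rfl⟩
    exact mem_centralizer_singleton_iff.2
      (by rw [← map_mul, ← map_mul, mem_centralizer_singleton_iff.1 hc])
  exact h y hy2 ((hd.trans (index_dvd_of_le hle)).trans
    (index_map_dvd _ (QuotientGroup.mk'_surjective N)))

/-- Sylow 2-subgroups are abelian. -/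
theorem sylow_comm (h : OddClasses G) (P : Sylow 2 G) :
    ∀ x ∈ (P : Subgroup G), ∀ y ∈ (P : Subgroup G), x * y = y * x := by
  suffices key : ∀ n, ∀ (K : Type u) [Group K] [Finite K], Nat.card K = n → OddClasses K →
      ∀ P : Sylow 2 K, ∀ x ∈ (P : Subgroup K), ∀ y ∈ (P : Subgroup K), x * y = y * x from
    key _ G rfl h P
  intro n
  induction n using Nat.strong_induction_on with
  | _ n ih =>
    intro K _ _ hn hK P
    subst hn
    haveI : Fact (Nat.Prime 2) := ⟨Nat.prime_two⟩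
    by_cases hbot : (P : Subgroup K) = ⊥
    · intro x hx y hy
      rw [hbot, mem_bot] at hx hy
      rw [hx, hy]
    haveI : Nontrivial (P : Subgroup K) := (nontrivial_iff_ne_bot _).2 hbot
    obtain ⟨j, hj0, hj⟩ := IsPGroup.nontrivial_iff_card P.2 |>.1 inferInstance
    obtain ⟨e, he⟩ := exists_prime_orderOf_dvd_card' 2
      (hj ▸ dvd_pow_self 2 hj0.ne' : 2 ∣ Nat.card (P : Subgroup K))
    rw [← Subgroup.orderOf_coe] at he
    set e' : K := (e : K)
    have hee : e' * e' = 1 := Invol.inv_mul_self he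
    by_cases hc : centralizer ({e'} : Set K) = ⊤
    swap
    · have hPC : (P : Subgroup K) ≤ centralizer ({e'} : Set K) := fun r hr =>
        mem_centralizer_singleton_iff.2 (involution_central hK P e.2 hee hr).symm
      intro x hx y hy
      have := ih _ (Core.lt_card_of_ne_top hc) (centralizer ({e'} : Set K)) rfl
        (oddClasses_centralizer hK he) (P.subtype hPC) ⟨x, hPC hx⟩ hx ⟨y, hPC hy⟩ hy
      exact congrArg Subtype.val this
    set W := zpowers e' with hW
    have hWc : W ≤ center K := zpowers_le.2 (mem_center_iff.2 fun k =>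
      mem_centralizer_singleton_iff.1 (hc ▸ mem_top k : k ∈ centralizer ({e'} : Set K)))
    haveI hWn : W.Normal := ⟨fun x hx k => by
      rwa [mem_center_iff.1 (hWc hx) k, mul_inv_cancel_right]⟩
    have hWP : W ≤ (P : Subgroup K) := zpowers_le.2 e.2
    have hWne : W ≠ ⊥ := fun hb => Invol.ne_one he (zpowers_eq_bot.1 hb)
    let π := QuotientGroup.mk' W
    let Q : Sylow 2 (K ⧸ W) := P.mapSurjective (QuotientGroup.mk'_surjective W)
    have hQc := ih _ (Core.card_quotient_lt hWne) (K ⧸ W) rfl (oddClasses_quotient hK W) Q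
    haveI : IsMulCommutative (Q : Subgroup (K ⧸ W)) :=
      ⟨⟨fun a b => Subtype.ext (hQc a a.2 b b.2)⟩⟩
    have hback : ∀ z : K, π z ∈ (Q : Subgroup (K ⧸ W)) → z ∈ (P : Subgroup K) := by
      intro z hz
      have hz' : z ∈ ((P : Subgroup K).map π).comap π := hz
      rwa [comap_map_eq, QuotientGroup.ker_mk', sup_eq_left.2 hWP] at hz'
    intro x hx y hy
    obtain ⟨R, -, hxR, hRx⟩ := exists_sylow hK (exists_pow_of_mem P.2 hx) IsPGroup.of_bot bot_le
    obtain ⟨g, hg⟩ := MulAction.exists_smul_eq K R P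
    have hconj : ∀ r ∈ (R : Subgroup K), g * r * g⁻¹ ∈ (P : Subgroup K) := fun r hr => by
      rw [← hg]; exact Subgroup.smul_mem_pointwise_smul r (MulAut.conj g) _ hr
    have hxQ : π x ∈ (Q : Subgroup (K ⧸ W)) := ⟨x, hx, rfl⟩
    obtain ⟨n', hn', hne⟩ := Fusion.exists_normalizer_conj_of_abelian Q hxQ (g := π g)
      (by rw [← map_inv, ← map_mul, ← map_mul]; exact ⟨_, hconj x hxR, rfl⟩)
    obtain ⟨m, rfl⟩ := QuotientGroup.mk'_surjective W n'
    have hmP : m * y * m⁻¹ ∈ (P : Subgroup K) := by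
      apply hback
      rw [map_mul, map_mul, map_inv]
      exact (mem_normalizer_iff.1 hn' (π y)).1 ⟨y, hy, rfl⟩
    have hcz : (m * x * m⁻¹) * (g * x * g⁻¹)⁻¹ ∈ W := by
      rw [← QuotientGroup.ker_mk' W, MonoidHom.mem_ker]
      simp only [map_mul, map_inv]
      rw [hne, mul_inv_cancel]
    -- `g * x * g⁻¹` is central in `P`
    have h3 : (m * y * m⁻¹) * (g * x * g⁻¹) = (g * x * g⁻¹) * (m * y * m⁻¹) := by
      have hmem : g⁻¹ * (m * y * m⁻¹) * g ∈ (R : Subgroup K) := by
        have h4 : m * y * m⁻¹ ∈ ((g • R : Sylow 2 K) : Subgroup K) := hg.symm ▸ hmP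
        rw [Sylow.coe_subgroup_smul, mem_pointwise_smul_iff_inv_smul_mem] at h4
        simpa [MulAut.smul_def, mul_assoc] using h4
      have h5 := mem_centralizer_singleton_iff.1 (hRx hmem)
      calc (m * y * m⁻¹) * (g * x * g⁻¹) = g * ((g⁻¹ * (m * y * m⁻¹) * g) * x) * g⁻¹ := by group
        _ = g * (x * (g⁻¹ * (m * y * m⁻¹) * g)) * g⁻¹ := by rw [h5]
        _ = _ := by group
    set c := (m * x * m⁻¹) * (g * x * g⁻¹)⁻¹ with hcdef
    have hxe : m * x * m⁻¹ = c * (g * x * g⁻¹) := by rw [hcdef, inv_mul_cancel_right]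
    have hcomm : Commute (m * y * m⁻¹) (m * x * m⁻¹) := by
      rw [hxe]
      exact Commute.mul_right (mem_center_iff.1 (hWc hcz) _) h3
    calc x * y = m⁻¹ * ((m * x * m⁻¹) * (m * y * m⁻¹)) * m := by group
      _ = m⁻¹ * ((m * y * m⁻¹) * (m * x * m⁻¹)) * m := by rw [hcomm.eq]
      _ = y * x := by group

end Cfsg.Lib.Local.TwoCentral
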