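import Cfsg.Agent.Lib.Local.GlaubermanCenter
import Cfsg.Agent.Lib.Local.PStableAbelian
import Cfsg.Agent.Lib.Thompson.NormalComplement
import Cfsg.Prelude.Def_TwoFusion

/-!
# Glauberman's normal `p`-complement theorem

* `complement_of_functor`: a rule `W` choosing, compatibly with injective maps, a nontrivial
  subgroup of every nontrivial `p`-subgroup, which is normal in the configuration of the
  `ZJ`-theorem, detects normal `p`-complements.
* `complement_of_centerThompsonA`, `complement_of_centerThompson`.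
-/

set_option autoImplicit false
set_option linter.style.haveILetI false

universe u v

namespace Cfsg.Lib.Local.GlaubermanZJ

open Subgroup Cfsg Cfsg.Lib.Fusion
open scoped commutatorElement

variable {p : ℕ} [hp : Fact p.Prime]

/-- The normalizer of an image modulo a `p'`-group is the image of the normalizer. -/
theorem exists_normalizer_lift {G : Type u} [Group G] [Finite G] {H : Type v} [Group H]
    (f : G →* H) (hf : Function.Surjective f) (hker : (Nat.card f.ker).Coprime p) {K : Subgroup G}
    (hK : IsPGroup p K) : ∀ y ∈ normalizer ((K.map f : Subgroup H) : Set H),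
      ∃ x ∈ normalizer (K : Set G), f x = y := by
  intro y hy
  obtain ⟨x, rfl⟩ := hf y
  have hB : K.map (MulAut.conj x).toMonoidHom ≤ f.ker ⊔ K := by
    rw [sup_comm, ← Subgroup.comap_map_eq, ← map_le_iff_le_comap]
    rintro _ ⟨_, ⟨k, hk, rfl⟩, rfl⟩
    have := (mem_normalizer_iff.mp hy (f k)).mp ⟨k, hk, rfl⟩
    simpa using this
  obtain ⟨j, hj⟩ := IsPGroup.iff_card.mp hK
  have hKN : K ≤ normalizer (f.ker : Set G) := by
    rw [normalizer_eq_top]; exact le_top
  have hKsol : Group.IsSolvable K := by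
    have := hK.isNilpotent
    infer_instance
  obtain ⟨n, hn, hK'⟩ := Cfsg.Lib.Coprime.exists_conj_of_coprime f.ker K _ hKN
    (by rw [hj]; exact (hker.pow_right j).symm) (Or.inl hKsol) hB
    (Cfsg.Lib.Coprime.card_map_conj K x)
  refine ⟨n⁻¹ * x, mem_normalizer_iff_map_conj_eq.mpr ?_, by
    rw [map_mul, map_inv, f.mem_ker.mp hn, inv_one, one_mul]⟩
  show K.map (MulAut.conj (n⁻¹ * x)).toMonoidHom = K
  rw [← Cfsg.Lib.Coprime.map_conj_conj, hK', Cfsg.Lib.Coprime.map_conj_conj, inv_mul_cancel,
    Cfsg.Lib.Coprime.map_conj_one]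

section Functor

variable (W : ∀ (G : Type u) [Group G], Subgroup G → Subgroup G)

/-- A configuration in which `W` has to be normal (`c` allows `D ≠ P`). -/
def NormalConfig (p : ℕ) [Fact p.Prime] (c : Prop) : Prop :=
  ∀ (G : Type u) [Group G] [Finite G] (P : Sylow p G) (D : Subgroup G),
    (c ∨ D = P) → IsStronglyClosed D (P : Subgroup G) →
    centralizer (pCore p G : Set G) ≤ pCore p G →
    (∀ (V : Subgroup G) [V.Normal], IsPGroup p V → IsPStableOn p V) →
    (∀ M : Subgroup G, (P : Subgroup G) ≤ M → M = P ∨ M = ⊤) → (W G D).Normal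

/-- `W` commutes with maps injective on its argument. -/
def MapCompat : Prop :=
  ∀ (G H : Type u) [Group G] [Group H] [Finite G] (f : G →* H) (S : Subgroup G),
    Set.InjOn f S → (W G S).map f = W H (S.map f)

variable {W}

theorem normalizer_le_normalizer_functor (hmap : MapCompat W) {G : Type u} [Group G] [Finite G]
    (S : Subgroup G) : normalizer (S : Set G) ≤ normalizer (W G S : Set G) := fun g hg => by
  rw [mem_normalizer_iff_map_conj_eq] at hg ⊢
  refine (hmap G G (MulAut.conj g : G →* G) S (MulAut.conj g).injective.injOn).trans ?_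
  rw [hg]

theorem complement_of_functorInAb {c : Prop} (h2 : p ≠ 2) (hmap : MapCompat W)
    (hle : ∀ (G : Type u) [Group G] (S : Subgroup G), W G S ≤ S)
    (hne : ∀ (G : Type u) [Group G] [Finite G] (S : Subgroup G), IsPGroup p S → S ≠ ⊥ → W G S ≠ ⊥)
    (hnorm : ∀ (G : Type u) [Group G] [Finite G] (P : Sylow p G) (D : Subgroup G),
      (c ∨ D = P) → IsStronglyClosed D (P : Subgroup G) →
      centralizer (pCore p G : Set G) ≤ pCore p G →
      (∀ (V : Subgroup G) [V.Normal], IsPGroup p V → IsPStableOn p V) →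
      (∀ M : Subgroup G, (P : Subgroup G) ≤ M → M = P ∨ M = ⊤) →
      (∀ T : Sylow 2 G, IsMulCommutative T) → (W G D).Normal)
    {G : Type u} [Group G] [Finite G] (P : Sylow p G) {D : Subgroup G}
    (hcD : c ∨ D = P) (hD : IsStronglyClosed D (P : Subgroup G))
    (h : HasNormalPComplement p (normalizer (W G D : Set G))) : HasNormalPComplement p G := by
  suffices H : ∀ n (G : Type u) [Group G] [Finite G], Nat.card G ≤ n → ∀ (P : Sylow p G)
      (D : Subgroup G), (c ∨ D = P) → IsStronglyClosed D (P : Subgroup G) →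
      HasNormalPComplement p (normalizer (W G D : Set G)) → HasNormalPComplement p G from
    H _ G le_rfl P D hcD hD h
  intro n
  induction n with
  | zero =>
    intro G _ _ hn
    exact absurd Nat.card_pos (not_lt.mpr hn)
  | succ n ih =>
  intro G _ _ hn P D hcD hD hP
  by_contra hG
  have hproper : ∀ K : Subgroup G, HasNormalPComplement p K → K ≠ ⊤ := by
    intro K h hK
    subst hK
    exact hG ((hasNormalPComplement_congr topEquiv).mp h)
  have hWP : normalizer (W G D : Set G) ≠ ⊤ := hproper _ hP
  have hPne : (P : Subgroup G) ≠ ⊥ := fun h =>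
    hWP (by rw [normalizer_eq_top_iff, le_bot_iff.mp (((hle G D).trans hD.1).trans h.le)]; infer_instance)
  have hPD : (P : Subgroup G) ≤ normalizer (D : Set G) := fun g hg =>
    mem_normalizer_fintype fun x hx => hD.2 x hx g
      (mul_mem (mul_mem hg (hD.1 hx)) (inv_mem hg))
  -- proper overgroups of `P`
  have hsub : ∀ M : Subgroup G, (P : Subgroup G) ≤ M → M ≠ ⊤ → HasNormalPComplement p M := by
    intro M hPM hM
    have hcard : Nat.card M < Nat.card G := Cfsg.Lib.Core.lt_card_of_ne_top hM
    refine ih M (by omega) (P.subtype hPM) (D.subgroupOf M)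
      (hcD.imp id fun h => by rw [Sylow.coe_subtype, h]) ?_ ?_
    · rw [Sylow.coe_subtype]
      exact ⟨fun x hx => hD.1 hx, fun x hx g hg => hD.2 _ hx g hg⟩
    have hmapM : (W M (D.subgroupOf M)).map M.subtype = W G D := by
      rw [hmap M G M.subtype _ M.subtype_injective.injOn,
        map_subgroupOf_eq_of_le (hD.1.trans hPM)]
    have hmem : ∀ x : normalizer (W M (D.subgroupOf M) : Set M),
        ((x : M) : G) ∈ normalizer (W G D : Set G) := fun x => by
      rw [← hmapM]
      exact le_normalizer_map M.subtype ⟨x, x.2, rfl⟩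
    refine hasNormalPComplement_of_injective
      ((M.subtype.comp (normalizer (W M (D.subgroupOf M) : Set M)).subtype).codRestrict _ hmem)
      ?_ hP
    intro x y hxy
    have h1 := congrArg Subtype.val hxy
    exact Subtype.ext (Subtype.ext h1)
  -- a nontrivial normal `p`-subgroup
  have hO0 : pCore p G ≠ ⊥ := by
    by_cases hJ : normalizer (thompsonSubgroupOf p (P : Subgroup G) : Set G) = ⊤
    · intro h0
      have h1 := Cfsg.Lib.Core.le_pCore' (normalizer_eq_top_iff.mp hJ)
        (P.2.to_le (Thompson.thompsonSubgroupOf_le _))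
      rw [h0, le_bot_iff] at h1
      exact Thompson.thompsonSubgroupOf_ne_bot P.2 hPne h1
    by_cases hC : centralizer ((Thompson.zenter (P : Subgroup G) : Subgroup G) : Set G) = ⊤
    · intro h0
      have hn : (Thompson.zenter (P : Subgroup G)).Normal := ⟨fun z hz g => by
        have h1 : z * g = g * z := mem_centralizer_iff.mp (hC.symm ▸ mem_top g) z hz
        rw [← h1, mul_inv_cancel_right]
        exact hz⟩
      have h1 := Cfsg.Lib.Core.le_pCore' hn (P.2.to_le inf_le_left)
      rw [h0, le_bot_iff] at h1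
      exact Thompson.zenter_ne_bot P.2 hPne h1
    refine absurd (Thompson.thompson_normal_p_complement h2 P ⟨?_, ?_⟩) hG
    · exact hsub _ (le_normalizer.trans (Thompson.normalizer_le_normalizer_thompsonSubgroupOf _)) hJ
    · exact hsub _ (le_centralizer_iff.mp inf_le_right) hC
  -- no normal `p'`-subgroup
  have hO : pPrimeCore p G = ⊥ := by
    by_contra hM
    set q := QuotientGroup.mk' (pPrimeCore p G) with hq
    have hqs : Function.Surjective q := QuotientGroup.mk'_surjective _
    have hker : q.ker = pPrimeCore p G := QuotientGroup.ker_mk' _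
    have hcop : (Nat.card q.ker).Coprime p := by
      rw [hker]; exact Cfsg.Lib.Core.pPrimeCore_coprime p G
    have hinj : Set.InjOn q (P : Subgroup G) := fun x hx y hy hxy => by
      obtain ⟨k, hk⟩ := IsPGroup.iff_card.mp P.2
      have hd := disjoint_iff.mp
        (Cfsg.Lib.Coprime.disjoint_of_coprime_card
          (by rw [hk]; exact hcop.pow_right k) : Disjoint q.ker (P : Subgroup G))
      have h1 : x * y⁻¹ ∈ q.ker ⊓ (P : Subgroup G) :=
        ⟨q.mem_ker.mpr (by rw [map_mul, map_inv, hxy, mul_inv_cancel]),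
          (P : Subgroup G).mul_mem hx ((P : Subgroup G).inv_mem hy)⟩
      rw [hd, mem_bot, mul_inv_eq_one] at h1
      exact h1
    have hcard := Cfsg.Lib.Core.card_quotient_lt hM
    have h := ih _ (by omega) (P.mapSurjective hqs) (D.map q)
      (hcD.imp id fun h => by rw [P.coe_mapSurjective hqs, h]) (by
      rw [P.coe_mapSurjective hqs]
      refine ⟨Subgroup.map_mono hD.1, ?_⟩
      rintro _ ⟨x, hx, rfl⟩ y hy
      obtain ⟨g, rfl⟩ := hqs y
      obtain ⟨z, hz, hzy⟩ := hy
      -- move the conjugate into `P` by an element of the kernel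
      have hmem : g * x * g⁻¹ ∈ (P : Subgroup G) ⊔ q.ker := by
        rw [← mul_inv_cancel_left z (g * x * g⁻¹)]
        refine mul_mem (mem_sup_left hz) (mem_sup_right (MonoidHom.mem_ker.mpr ?_))
        rw [map_mul, map_inv, hzy, map_mul, map_mul, map_inv, inv_mul_cancel]
      set M := (P : Subgroup G) ⊔ q.ker with hMdef
      let PM : Sylow p M := P.subtype (le_sup_left : (P : Subgroup G) ≤ M)
      have hUp : IsPGroup p (zpowers (⟨g * x * g⁻¹, hmem⟩ : M)) := by
        intro u
        obtain ⟨u, m, rfl⟩ := u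
        obtain ⟨k, hk⟩ := P.2 ⟨x, hD.1 hx⟩
        have hk' : x ^ p ^ k = 1 := congrArg Subtype.val hk
        refine ⟨k, Subtype.ext ?_⟩
        show ((⟨g * x * g⁻¹, hmem⟩ : M) ^ m) ^ p ^ k = 1
        rw [← zpow_natCast, ← zpow_mul, mul_comm, zpow_mul, zpow_natCast,
          show (⟨g * x * g⁻¹, hmem⟩ : M) ^ p ^ k = 1 from Subtype.ext (by
            rw [coe_pow, coe_one]
            show (g * x * g⁻¹) ^ p ^ k = 1
            rw [conj_pow, hk', mul_one, mul_inv_cancel]), one_zpow]
      obtain ⟨R, hR⟩ := hUp.exists_le_sylow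
      obtain ⟨c, hc⟩ := MulAction.exists_smul_eq M R PM
      obtain ⟨s', hs', n', hn', hsn⟩ := mem_sup_of_normal_right.1 (show (c : G) ∈ M from c.2)
      have h1 : c * ⟨g * x * g⁻¹, hmem⟩ * c⁻¹ ∈ (PM : Subgroup M) := by
        rw [← hc, Sylow.coe_subgroup_smul]
        exact Subgroup.smul_mem_pointwise_smul _ (MulAut.conj c) _ (hR (mem_zpowers _))
      rw [Sylow.coe_subtype, mem_subgroupOf] at h1
      simp only [coe_mul, coe_inv, ← hsn] at h1
      have h3 : n' * g * x * (n' * g)⁻¹ ∈ (P : Subgroup G) := by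
        have := mul_mem (mul_mem (inv_mem hs') h1) hs'
        rw [show n' * g * x * (n' * g)⁻¹ =
          s'⁻¹ * (s' * n' * (g * x * g⁻¹) * (s' * n')⁻¹) * s' by group]
        exact this
      refine ⟨_, hD.2 x hx _ h3, ?_⟩
      simp only [map_mul, map_inv, q.mem_ker.mp hn', one_mul]) (by
      rw [← hmap G _ q _ (hinj.mono hD.1)]
      have hmem : ∀ x : normalizer (W G D : Set G),
          q x ∈ normalizer (((W G D).map q : Subgroup _) : Set _) :=
        fun x => le_normalizer_map q ⟨x, x.2, rfl⟩
      refine hasNormalPComplement_of_surjective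
        ((q.comp (normalizer (W G D : Set G)).subtype).codRestrict _ hmem) ?_ hP
      rintro ⟨y, hy⟩
      obtain ⟨x, hx, rfl⟩ := exists_normalizer_lift q hqs hcop (P.2.to_le ((hle G D).trans hD.1)) y hy
      exact ⟨⟨x, hx⟩, rfl⟩)
    rw [hasNormalPComplement_iff_coprime] at h
    refine hG (hasNormalPComplement_of_normal
      ((pResidual p (G ⧸ pPrimeCore p G)).comap q) ?_ ?_)
    · rw [Cfsg.Lib.Core.card_comap_eq q hqs]
      exact hcop.mul_left h
    · obtain ⟨k, hk⟩ := index_pResidual_eq_pow (p := p) (G := G ⧸ pPrimeCore p G)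
      refine IsPGroup.of_card (n := k) ?_
      show ((pResidual p (G ⧸ pPrimeCore p G)).comap q).index = p ^ k
      rw [index_comap_of_surjective _ hqs, hk]
  -- the quotient by the `p`-core
  set H := pCore p G with hHdef
  have hHp : IsPGroup p H := Cfsg.Lib.Core.pCore_isPGroup p G
  have hHP : H ≤ (P : Subgroup G) := Cfsg.Lib.Core.pCore_le_sylow P
  set q := QuotientGroup.mk' H with hq
  have hqs : Function.Surjective q := QuotientGroup.mk'_surjective _
  have hker : q.ker = H := QuotientGroup.ker_mk' _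
  have hbarN : HasNormalPComplement p (G ⧸ H) := by
    have hcard := Cfsg.Lib.Core.card_quotient_lt hO0
    refine ih _ (by omega) (P.mapSurjective hqs) (D.map q)
      (hcD.imp id fun h => by rw [P.coe_mapSurjective hqs, h]) ?_ ?_
    · rw [P.coe_mapSurjective hqs]
      refine ⟨Subgroup.map_mono hD.1, ?_⟩
      rintro _ ⟨x, hx, rfl⟩ y hy
      obtain ⟨g, rfl⟩ := hqs y
      have hgP : g * x * g⁻¹ ∈ (P : Subgroup G) := by
        obtain ⟨z, hz, hzy⟩ := hy
        have h1 : z⁻¹ * (g * x * g⁻¹) ∈ H := by
          rw [← hker, MonoidHom.mem_ker, map_mul, map_inv, hzy, map_mul, map_mul, map_inv,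
            inv_mul_cancel]
        simpa using mul_mem hz (hHP h1)
      exact ⟨_, hD.2 x hx g hgP, by rw [map_mul, map_mul, map_inv]⟩
    by_cases hDb : D.map q = ⊥
    · exfalso
      rw [Subgroup.map_eq_bot_iff, hker] at hDb
      refine hWP (top_le_iff.mp ?_)
      refine le_trans ?_ (normalizer_le_normalizer_functor hmap _)
      intro g _
      refine mem_normalizer_fintype fun x hx => hD.2 x hx g (hHP ?_)
      exact (inferInstance : H.Normal).conj_mem x (hDb hx) g
    set Kb := W (G ⧸ H) (D.map q) with hKb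
    have hKb0 : Kb ≠ ⊥ := hne _ _ ((P.2.to_le hD.1).map q) hDb
    have hKbp : IsPGroup p Kb := ((P.2.to_le hD.1).map q).to_le (hle _ _)
    set K := Kb.comap q with hK
    have hKp : IsPGroup p K := hKbp.comap_of_ker_isPGroup q (hker.symm ▸ hHp)
    have hPK : (P : Subgroup G) ≤ normalizer (K : Set G) := by
      rw [hK, ← comap_normalizer_eq_of_surjective Kb hqs, ← map_le_iff_le_comap]
      exact ((Subgroup.map_mono hPD).trans (le_normalizer_map q)).trans
        (normalizer_le_normalizer_functor hmap _)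
    have hKN : normalizer (K : Set G) ≠ ⊤ := fun htop => hKb0 (by
      have h1 : K ≤ H := Cfsg.Lib.Core.le_pCore' (normalizer_eq_top_iff.mp htop) hKp
      rw [← map_comap_eq_self_of_surjective hqs Kb, ← hK, Subgroup.map_eq_bot_iff, hker]
      exact h1)
    have h3 := hsub _ hPK hKN
    have hmem : ∀ x : normalizer (K : Set G), q x ∈ normalizer (Kb : Set (G ⧸ H)) := fun x =>
      (comap_normalizer_eq_of_surjective Kb hqs).ge x.2
    refine hasNormalPComplement_of_surjective
      ((q.comp (normalizer (K : Set G)).subtype).codRestrict _ hmem) ?_ h3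
    rintro ⟨y, hy⟩
    obtain ⟨x, rfl⟩ := hqs y
    refine ⟨⟨x, ?_⟩, rfl⟩
    rw [hK, ← comap_normalizer_eq_of_surjective Kb hqs]
    exact hy
  set R := pResidual p (G ⧸ H) with hR
  have hRcop : (Nat.card R).Coprime p := hasNormalPComplement_iff_coprime.mp hbarN
  have hsolv : IsPSolvable p G := by
    rw [Cfsg.Lib.Core.isPSolvable_iff]
    obtain ⟨k, hk⟩ := IsPGroup.iff_card.mp hHp
    refine Cfsg.Lib.Core.HasFactorChain.extension H (Or.inl ⟨k, hk⟩) ?_
    exact Cfsg.Lib.Core.HasFactorChain.extension R (Or.inr hRcop)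
      ((Cfsg.Lib.Core.isPSolvable_iff p).mp
        (Cfsg.Lib.Core.isPSolvable_of_isPGroup isPGroup_quotient_pResidual))
  have hCH : centralizer (H : Set G) ≤ H :=
    Cfsg.Lib.Core.centralizer_pCore_le_of_isPSolvable hsolv hO
  -- maximality of `P`
  have hover : ∀ M : Subgroup G, (P : Subgroup G) ≤ M → M ≠ ⊤ → M = (P : Subgroup G) := by
    intro M hPM hM
    have hMn : HasNormalPComplement p M := hsub M hPM hM
    set RM := (pResidual p M).map M.subtype with hRM
    have hMN : M ≤ normalizer (RM : Set G) := by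
      intro g hg
      rw [mem_normalizer_iff_map_conj_eq]
      refine eq_of_le_of_card_ge ?_ (card_map_of_injective (MulAut.conj g).injective).ge
      rintro _ ⟨_, ⟨r, hr, rfl⟩, rfl⟩
      exact ⟨⟨g, hg⟩ * r * ⟨g, hg⟩⁻¹, (pResidual_normal p M).conj_mem r hr _, rfl⟩
    have hRMcop : (Nat.card RM).Coprime p := by
      rw [hRM, card_map_of_injective M.subtype_injective]
      exact hasNormalPComplement_iff_coprime.mp hMn
    obtain ⟨k, hk⟩ := IsPGroup.iff_card.mp hHp
    have hRH : RM ⊓ H = ⊥ :=
      disjoint_iff.mp (Cfsg.Lib.Coprime.disjoint_of_coprime_card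
        (by rw [hk]; exact hRMcop.pow_right k))
    have hcomm : ⁅RM, H⁆ = ⊥ := le_bot_iff.mp (hRH ▸ le_inf
      (Cfsg.Lib.Coprime.commutator_le_of_le_normalizer ((hHP.trans hPM).trans hMN))
      (commutator_le_right RM H))
    rw [commutator_eq_bot_iff_le_centralizer] at hcomm
    have hRM0 : pResidual p M = ⊥ := by
      apply map_injective M.subtype_injective
      rw [Subgroup.map_bot, ← hRM]
      exact le_bot_iff.mp (hRH ▸ le_inf le_rfl (hcomm.trans hCH))
    obtain ⟨j, hj⟩ := index_pResidual_eq_pow (p := p) (G := M)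
    rw [hRM0, index_bot] at hj
    exact P.3 (IsPGroup.of_card hj) hPM
  have hmax : ∀ M : Subgroup G, (P : Subgroup G) ≤ M → M = P ∨ M = ⊤ := fun M hM =>
    (em (M = ⊤)).elim Or.inr fun h => Or.inl (hover M hM h)
  -- the residual of the quotient is abelian
  set Pb := (P : Subgroup G).map q with hPb
  have hPbp : IsPGroup p Pb := P.2.map q
  obtain ⟨kP, hkP⟩ := IsPGroup.iff_card.mp hPbp
  have hRPb : R ⊓ Pb = ⊥ := disjoint_iff.mp (Cfsg.Lib.Coprime.disjoint_of_coprime_card
    (by rw [hkP]; exact hRcop.pow_right kP))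
  have hgen : ∀ K : Subgroup (G ⧸ H), K ≤ R → Pb ≤ normalizer (K : Set (G ⧸ H)) → K ≠ ⊥ →
      K = R := by
    intro K hKR hPK hK0
    by_cases hM : (K ⊔ Pb).comap q = ⊤
    · refine le_antisymm hKR fun r hr => ?_
      have htop : K ⊔ Pb = ⊤ := by
        rw [← map_comap_eq_self_of_surjective hqs (K ⊔ Pb), hM, map_top_of_surjective q hqs]
      obtain ⟨k, hk, s, hs, rfl⟩ :=
        Cfsg.Lib.Coprime.exists_mul_of_mem_sup hPK (htop ▸ mem_top r : r ∈ K ⊔ Pb)
      have hsR : s ∈ R ⊓ Pb := ⟨by simpa using R.mul_mem (R.inv_mem (hKR hk)) hr, hs⟩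
      rw [hRPb, mem_bot] at hsR
      rw [hsR, mul_one]; exact hk
    · have h := hover _ (by rw [← map_le_iff_le_comap]; exact le_sup_right) hM
      refine absurd (le_bot_iff.mp (hRPb ▸ le_inf hKR ?_)) hK0
      rw [hPb, ← h, map_comap_eq_self_of_surjective hqs]
      exact le_sup_left
  have hRnorm : ∀ K : Subgroup (G ⧸ H), K ≤ normalizer (R : Set (G ⧸ H)) := fun K => by
    rw [normalizer_eq_top]; exact le_top
  have hRsol : Group.IsSolvable R := by
    by_cases hR0 : R = ⊥
    · haveI : Subsingleton R := by rw [hR0]; infer_instance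
      infer_instance
    have h1 : Nat.card R ≠ 1 := fun h => hR0 (card_eq_one.mp h)
    obtain ⟨q₀, hq₀, hd⟩ := Nat.exists_prime_and_dvd h1
    have : Fact q₀.Prime := ⟨hq₀⟩
    obtain ⟨Q, hQ⟩ := Cfsg.Lib.Coprime.exists_invariant_sylow (hRnorm Pb)
      (by rw [hkP]; exact (hRcop.pow_right kP).symm)
      (Or.inl (by have := hPbp.isNilpotent; infer_instance)) q₀
    have hQR := hgen _ (map_subtype_le _) hQ (by
      rw [ne_eq, Subgroup.map_eq_bot_iff_of_injective _ R.subtype_injective]
      exact Q.ne_bot_of_dvd_card hd)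
    have hRq : IsPGroup q₀ R := hQR ▸ Q.2.map _
    have := hRq.isNilpotent
    infer_instance
  have hRab : ⁅R, R⁆ = ⊥ := by
    by_contra hne'
    have heq := hgen _ (commutator_le_self R)
      (by have : (⁅R, R⁆ : Subgroup (G ⧸ H)).Normal := inferInstance
          rw [normalizer_eq_top]; exact le_top) hne'
    have : Nontrivial R := (nontrivial_iff_ne_bot R).mpr fun h0 => hne' (by rw [h0]; simp)
    refine (Group.IsSolvable.commutator_lt_top_of_nontrivial R).ne (map_injective R.subtype_injective ?_)
    rw [map_subtype_commutator, heq, ← MonoidHom.range_eq_map, range_subtype]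
  -- `p`-stability
  set M := R.comap q with hM
  have hst : ∀ (V : Subgroup G) [V.Normal], IsPGroup p V → IsPStableOn p V := fun V _ hV => by
    refine isPStableOn_of_abelian_quotient h2 (H := H) (M := M) hHp ?_ hRcop ?_ ?_ V hV
    · rw [← hker, ← Subgroup.map_eq_bot_iff, Subgroup.map_commutator, hM,
        map_comap_eq_self_of_surjective hqs, hRab]
    · intro x hx
      refine (QuotientGroup.eq_one_iff _).1 ?_
      show q (x ^ Nat.card R) = 1
      rw [map_pow]
      exact congrArg Subtype.val (pow_card_eq_one' (x := (⟨q x, hx⟩ : R)))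
    · obtain ⟨k, hk⟩ := index_pResidual_eq_pow (p := p) (G := G ⧸ H)
      refine IsPGroup.of_card (n := k) ?_
      show M.index = p ^ k
      rw [hM, index_comap_of_surjective _ hqs, hk]
  -- the Sylow 2-subgroups are abelian
  have hT2 : ∀ T : Sylow 2 G, IsMulCommutative T := by
    intro T
    haveI : Fact (2 : ℕ).Prime := ⟨Nat.prime_two⟩
    obtain ⟨j, hj⟩ := IsPGroup.iff_card.mp T.2
    have hcopT : ∀ m : ℕ, (Nat.card (T : Subgroup G)).Coprime (p ^ m) := fun m => by
      rw [hj]
      exact ((Nat.coprime_primes Nat.prime_two hp.out).mpr (Ne.symm h2)).pow j m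
    have hTM : (T : Subgroup G) ≤ M := fun t ht => by
      obtain ⟨k, hk⟩ := index_pResidual_eq_pow (p := p) (G := G ⧸ H)
      have hidx : M.index = p ^ k := by rw [hM, index_comap_of_surjective _ hqs, hk]
      have hM1 : orderOf (QuotientGroup.mk' M t) = 1 := by
        refine Nat.eq_one_of_dvd_coprimes (hcopT k) ?_ (hidx ▸ orderOf_dvd_natCard _)
        exact (orderOf_map_dvd _ t).trans (Subgroup.orderOf_dvd_natCard _ ht)
      exact (QuotientGroup.eq_one_iff t).mp (orderOf_eq_one_iff.mp hM1)
    refine ⟨⟨fun a b => Subtype.ext ?_⟩⟩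
    show (a : G) * b = b * a
    obtain ⟨k, hk⟩ := IsPGroup.iff_card.mp hHp
    have hTH : (T : Subgroup G) ⊓ H = ⊥ := disjoint_iff.mp
      (Cfsg.Lib.Coprime.disjoint_of_coprime_card (by rw [hk]; exact hcopT k))
    have hab : ⁅(a : G), (b : G)⁆ ∈ (T : Subgroup G) ⊓ H := by
      refine ⟨?_, ?_⟩
      · show ⁅(a : G), (b : G)⁆ ∈ (T : Subgroup G)
        rw [commutatorElement_def]
        exact mul_mem (mul_mem (mul_mem a.2 b.2) (inv_mem a.2)) (inv_mem b.2)
      · refine (QuotientGroup.eq_one_iff _).mp ?_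
        show q ⁅(a : G), (b : G)⁆ = 1
        have h1 : q ⁅(a : G), (b : G)⁆ ∈ ⁅R, R⁆ := by
          rw [map_commutatorElement]
          exact commutator_mem_commutator (hTM a.2) (hTM b.2)
        rwa [hRab, mem_bot] at h1
    rw [hTH, mem_bot] at hab
    exact commutatorElement_eq_one_iff_mul_comm.mp hab
  exact hWP (normalizer_eq_top_iff.mpr (hnorm G P D hcD hD hCH hst hmax hT2))

theorem complement_of_functorIn {c : Prop} (h2 : p ≠ 2) (hmap : MapCompat W)
    (hle : ∀ (G : Type u) [Group G] (S : Subgroup G), W G S ≤ S)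
    (hne : ∀ (G : Type u) [Group G] [Finite G] (S : Subgroup G), IsPGroup p S → S ≠ ⊥ → W G S ≠ ⊥)
    (hnorm : NormalConfig W p c) {G : Type u} [Group G] [Finite G] (P : Sylow p G) {D : Subgroup G}
    (hcD : c ∨ D = P) (hD : IsStronglyClosed D (P : Subgroup G))
    (h : HasNormalPComplement p (normalizer (W G D : Set G))) : HasNormalPComplement p G :=
  complement_of_functorInAb h2 hmap hle hne
    (fun A _ _ Q E h1 h3 h4 h5 h6 _ => hnorm A Q E h1 h3 h4 h5 h6) P hcD hD h

/-- The case of the Sylow subgroup itself. -/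
theorem complement_of_functor (h2 : p ≠ 2) (hmap : MapCompat W)
    (hle : ∀ (G : Type u) [Group G] (S : Subgroup G), W G S ≤ S)
    (hne : ∀ (G : Type u) [Group G] [Finite G] (S : Subgroup G), IsPGroup p S → S ≠ ⊥ → W G S ≠ ⊥)
    (hnorm : ∀ (G : Type u) [Group G] [Finite G] (P : Sylow p G),
      centralizer (pCore p G : Set G) ≤ pCore p G →
      (∀ (V : Subgroup G) [V.Normal], IsPGroup p V → IsPStableOn p V) →
      (∀ M : Subgroup G, (P : Subgroup G) ≤ M → M = P ∨ M = ⊤) → (W G P).Normal)
    {G : Type u} [Group G] [Finite G] (P : Sylow p G)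
    (h : HasNormalPComplement p (normalizer (W G P : Set G))) : HasNormalPComplement p G := by
  refine complement_of_functorIn (c := False) h2 hmap hle hne ?_ P
    (D := (P : Subgroup G)) (Or.inr rfl) ⟨le_rfl, fun x _ g hg => hg⟩ h
  intro A _ _ Q D hcD _ h1 h2 h3
  obtain h | rfl := hcD
  · exact h.elim
  · exact hnorm A Q h1 h2 h3

end Functor

section Instances

variable {G : Type u} [Group G] [Finite G]

theorem map_maxAbelianSubgroups {H : Type v} [Group H] (e : G ≃* H) {A : Subgroup G}
    (hA : A ∈ maxAbelianSubgroups G) : A.map e.toMonoidHom ∈ maxAbelianSubgroups H := by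
  obtain ⟨h1, h2⟩ := hA
  refine ⟨(haveI := h1; inferInstance), fun C hC => ?_⟩
  rw [card_map_of_injective e.injective,
    Nat.card_congr (C.equivMapOfInjective e.symm.toMonoidHom e.symm.injective).toEquiv]
  exact h2 _ (haveI := hC; inferInstance)

theorem map_thompsonSubgroupA {H : Type v} [Group H] (e : G ≃* H) :
    (thompsonSubgroupA G).map e.toMonoidHom = thompsonSubgroupA H := by
  haveI : Finite H := Finite.of_equiv G e.toEquiv
  have key : ∀ {A : Type u} {B : Type v} [Group A] [Finite A] [Group B] (e : A ≃* B),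
      (thompsonSubgroupA A).map e.toMonoidHom ≤ thompsonSubgroupA B := by
    intro A B _ _ _ e
    rw [thompsonSubgroupA, Subgroup.map_le_iff_le_comap, sSup_le_iff]
    intro X hX
    rw [← Subgroup.map_le_iff_le_comap]
    exact le_sSup (map_maxAbelianSubgroups e hX)
  refine le_antisymm (key e) fun x hx => ⟨e.symm x, ?_, e.apply_symm_apply x⟩
  have key' : (thompsonSubgroupA H).map e.symm.toMonoidHom ≤ thompsonSubgroupA G := by
    rw [thompsonSubgroupA, Subgroup.map_le_iff_le_comap, sSup_le_iff]
    intro X hX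
    rw [← Subgroup.map_le_iff_le_comap]
    exact le_sSup (map_maxAbelianSubgroups e.symm hX)
  exact key' ⟨x, hx, rfl⟩

theorem map_centerThompsonAOf' {H : Type v} [Group H] (f : G →* H) (S : Subgroup G)
    (hf : Set.InjOn f S) : (centerThompsonAOf S).map f = centerThompsonAOf (S.map f) := by
  have hinj : Function.Injective (f.subgroupMap S) := fun x y h =>
    Subtype.ext (hf x.2 y.2 (congrArg Subtype.val h))
  let e : S ≃* S.map f :=
    MulEquiv.ofBijective (f.subgroupMap S) ⟨hinj, f.subgroupMap_surjective S⟩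
  have h1 : (thompsonSubgroupAOf S).map f = thompsonSubgroupAOf (S.map f) := by
    rw [thompsonSubgroupAOf, thompsonSubgroupAOf, ← map_thompsonSubgroupA e, Subgroup.map_map,
      Subgroup.map_map]
    rfl
  have h := Thompson.map_zenter f (thompsonSubgroupAOf S)
    (hf.mono fun x hx => map_subtype_le _ hx)
  rw [h1] at h
  exact h

theorem centerThompsonAOf_ne_bot {S : Subgroup G} (hS : IsPGroup p S) (hne : S ≠ ⊥) :
    centerThompsonAOf S ≠ ⊥ := by
  have hle : thompsonSubgroupAOf S ≤ S := map_subtype_le _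
  refine Thompson.zenter_ne_bot (hS.to_le hle) fun h0 => hne ?_
  obtain ⟨A, hA⟩ := exists_isMaxAbIn S
  have hA0 : A = ⊥ := by
    refine le_bot_iff.mp ?_
    rw [← h0, thompsonSubgroupAOf_eq]
    exact le_sSup hA
  refine (Subgroup.eq_bot_iff_forall _).2 fun s hs => ?_
  have := hA.mem_of_commute hs fun a ha => by
    rw [hA0, mem_bot] at ha
    rw [ha]
    exact Commute.one_right s
  rwa [hA0, mem_bot] at this

theorem centerThompsonOf_ne_bot {S : Subgroup G} (hS : IsPGroup p S) (hne : S ≠ ⊥) :
    centerThompsonOf p S ≠ ⊥ :=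
  Thompson.zenter_ne_bot (hS.to_le (Thompson.thompsonSubgroupOf_le _))
    (Thompson.thompsonSubgroupOf_ne_bot hS hne)

/-- Glauberman's normal `p`-complement theorem, abelian version. -/
theorem complement_of_centerThompsonA (h2 : p ≠ 2) (P : Sylow p G)
    (h : HasNormalPComplement p (normalizer (centerThompsonAOf (P : Subgroup G) : Set G))) :
    HasNormalPComplement p G := by
  refine complement_of_functor (W := fun G _ S => centerThompsonAOf S) h2
    (fun A B _ _ _ f S hf => map_centerThompsonAOf' f S hf) (fun A _ S => ?_)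
    (fun A _ _ S hS hne => centerThompsonAOf_ne_bot hS hne)
    (fun A _ _ Q hc hst _ => centerThompsonA_normal h2 hc hst Q) P h
  exact inf_le_left.trans (map_subtype_le _)

/-- Glauberman's normal `p`-complement theorem, elementary abelian version. -/
theorem complement_of_centerThompson (h2 : p ≠ 2) (P : Sylow p G)
    (h : HasNormalPComplement p (normalizer (centerThompsonOf p (P : Subgroup G) : Set G))) :
    HasNormalPComplement p G := by
  refine complement_of_functor (W := fun G _ S => centerThompsonOf p S) h2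
    (fun A B _ _ _ f S hf => ?_) (fun A _ S => inf_le_left.trans (map_subtype_le _))
    (fun A _ _ S hS hne => centerThompsonOf_ne_bot hS hne) (fun A _ _ Q hc hst hmax => ?_) P h
  · have h1 := Thompson.map_zenter f (thompsonSubgroupOf p S)
      (hf.mono fun x hx => map_subtype_le _ hx)
    rw [Thompson.map_thompsonSubgroupOf f S hf] at h1
    exact h1
  · rcases hmax ((Q : Subgroup A) ⊔ centralizer (omegaZ p (Q : Subgroup A) : Set A)) le_sup_left
      with hQ | htop
    swap
    · exact centerThompson_normal h2 hc hst Q htop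
    -- the centralizer lies in `Q`, so its Thompson subgroup is that of `Q`
    haveI := omegaZ_normal h2 hc hst Q
    set C := centralizer (omegaZ p (Q : Subgroup A) : Set A) with hC
    have hCQ : C ≤ (Q : Subgroup A) := le_sup_right.trans hQ.le
    obtain ⟨A₀, hA₀⟩ := exists_isMaxEAIn (p := p) (Q : Subgroup A)
    have hmem : ∀ X, IsMaxEAIn p (Q : Subgroup A) X → X ≤ C := fun X hX a ha b hb =>
      (Thompson.isEA_commute hX.2.1 ha (omegaZ_le_of_isMaxEAIn hX hb)).symm
    have he : thompsonSubgroupOf p C = thompsonSubgroupOf p (Q : Subgroup A) := by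
      rw [thompsonSubgroupOf_eq_sSup, thompsonSubgroupOf_eq_sSup]
      exact le_antisymm (sSup_le_sSup fun X hX => ⟨hX.1.trans hCQ, hX.2.1, fun D hD hDc =>
          (hA₀.2.2 D hD hDc).trans (hX.2.2 A₀ (hmem A₀ hA₀) hA₀.2.1)⟩)
        (sSup_le_sSup fun X hX => ⟨hmem X hX, hX.2.1, fun D hD hDc => hX.2.2 D (hD.trans hCQ) hDc⟩)
    have hCn : C.Normal := inferInstance
    rw [← normalizer_eq_top_iff, eq_top_iff]
    intro g _
    have hg : g ∈ normalizer (C : Set A) := by rw [normalizer_eq_top]; exact mem_top g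
    have h1 := Thompson.normalizer_le_normalizer_thompsonSubgroupOf (p := p) C hg
    rw [he] at h1
    exact Thompson.normalizer_le_normalizer_zenter (thompsonSubgroupOf p (Q : Subgroup A)) h1

end Instances

end Cfsg.Lib.Local.GlaubermanZJ
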