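import Cfsg.Agent.Lib.Local.Basic
import Cfsg.Agent.Lib.Core.Layer
import Cfsg.Agent.Lib.Coprime.PGroupAction

/-!
Groups of characteristic `p` inside an ambient group, for any prime.
-/

set_option autoImplicit false
set_option linter.style.haveILetI false

namespace Cfsg.Lib.Local

open Subgroup
open scoped commutatorElement

variable {G : Type*} [Group G] [Finite G] {p : ℕ} [Fact p.Prime]

/-- Only the identity, among elements of `X` of order prime to `p`, centralizes `O_p(X)`. -/
def CharPIn (p : ℕ) (X : Subgroup G) : Prop :=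
  ∀ y ∈ X, (orderOf y).Coprime p → (∀ q ∈ pCoreOf p X, q * y = y * q) → y = 1

theorem charPIn_iff (X : Subgroup G) :
    CharPIn p X ↔ centralizer (pCore p X : Set X) ≤ pCore p X := by
  constructor
  · intro h
    refine Core.le_pCore' inferInstance ?_
    refine isPGroup_of_forall_coprime fun y hy hyc => ?_
    refine Subtype.ext (h y y.2 (by rwa [orderOf_coe]) ?_)
    rintro q ⟨q', hq', rfl⟩
    exact congrArg Subtype.val (mem_centralizer_iff.1 hy q' hq')
  · intro h y hyX hyc hc
    have hy : (⟨y, hyX⟩ : X) ∈ pCore p X :=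
      h (mem_centralizer_iff.2 fun q hq => Subtype.ext (hc q (mem_map_of_mem _ hq)))
    exact orderOf_eq_one_of_coprime_mem (pCoreOf_isPGroup X) (mem_map_of_mem _ hy) hyc

/-- `F*(H) = O_p(H)` says that `H` has characteristic `p`. -/
theorem generalizedFitting_eq_pCore_iff (H : Type*) [Group H] [Finite H] :
    Cfsg.generalizedFittingSubgroup H = pCore p H ↔
      centralizer (pCore p H : Set H) ≤ pCore p H := by
  refine ⟨fun h => ?_, fun h => ?_⟩
  · rw [← h]
    exact Core.centralizer_generalizedFitting_le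
  · have hbot : Cfsg.layer H = ⊥ := Core.layer_eq_bot_iff.2 fun L hL => by
      haveI := (Core.pCore_isPGroup p H).isNilpotent
      refine Core.component_not_le_solvable hL (H := pCore p H) inferInstance ?_
      · refine le_trans ?_ h
        refine le_trans (Core.le_layer hL) ?_
        rw [← commutator_eq_bot_iff_le_centralizer]
        exact eq_bot_iff.2 ((commutator_mono le_rfl (Core.pCore_le_fittingSubgroup p H)).trans
          Core.commutator_layer_fitting.le)
    rw [Core.generalizedFitting_eq_fitting_of_layer_eq_bot hbot]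
    refine le_antisymm ?_ (Core.pCore_le_fittingSubgroup p H)
    rw [Core.fittingSubgroup_eq_iSup_pCore]
    refine iSup_le fun q => ?_
    by_cases hq : (q : ℕ) = p
    · rw [hq]
    haveI := Fact.mk q.2
    have hd : ⁅pCore (q : ℕ) H, pCore p H⁆ ≤ pCore (q : ℕ) H ⊓ pCore p H := commutator_le_inf _ _
    rw [(IsPGroup.disjoint_of_ne (q : ℕ) p hq _ _ (Core.pCore_isPGroup _ H)
      (Core.pCore_isPGroup p H)).eq_bot, le_bot_iff, commutator_eq_bot_iff_le_centralizer] at hd
    exact hd.trans h

/-- Characteristic `p` passes to `H` between `C_X(P)` and `N_X(P)`. -/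
theorem charPIn_local {X H P : Subgroup G} (hX : CharPIn p X) (hPX : P ≤ X) (hP : IsPGroup p P)
    (hHX : H ≤ X) (hHP : H ≤ normalizer (P : Set G)) (hCH : X ⊓ centralizer (P : Set G) ≤ H)
    (hor : P ≤ H ∨ H ≤ centralizer (P : Set G)) : CharPIn p H := by
  intro y hyH hycop hc
  have hyP : ∀ t ∈ P, t * y = y * t := fun t ht => by
    rcases hor with h | h
    · exact hc t (le_pCoreOf h hHP hP ht)
    · exact mem_centralizer_iff.1 (h hyH) t ht
  set Q := pCoreOf p X with hQ
  have hXQ : X ≤ normalizer (Q : Set G) := le_normalizer_pCoreOf X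
  have hC0 : H ≤ normalizer ((X ⊓ centralizer (P : Set G) : Subgroup G) : Set G) :=
    le_normalizer_inf (hHX.trans le_normalizer) (hHP.trans (normalizer_le_normalizer_centralizer _))
  have hDc : Q ⊓ centralizer (P : Set G) ≤ pCoreOf p H := by
    have h1 : Q ⊓ centralizer (P : Set G) ≤ pCoreOf p (X ⊓ centralizer (P : Set G)) :=
      le_pCoreOf (inf_le_inf_right _ (pCoreOf_le X))
        (le_normalizer_inf (inf_le_left.trans hXQ) (inf_le_right.trans le_normalizer))
        ((pCoreOf_isPGroup X).to_le inf_le_left)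
    refine h1.trans (le_pCoreOf ((pCoreOf_le _).trans hCH) ?_ (pCoreOf_isPGroup _))
    exact hC0.trans (normalizer_le_normalizer_pCoreOf _)
  have hfix : Q ⊓ centralizer (P : Set G) ≤ centralizer (zpowers y : Set G) := by
    intro w hw
    rw [mem_centralizer_iff]
    intro v hv
    obtain ⟨n, rfl⟩ := Subgroup.mem_zpowers_iff.1 hv
    exact ((Commute.zpow_right (hc w (hDc hw)) n).eq).symm
  have hAxB := Cfsg.Lib.Coprime.commutator_eq_bot_of_AxB (p := p) Q P (zpowers y)
    (pCoreOf_isPGroup X) hP (by rwa [Nat.card_zpowers]) (hPX.trans hXQ)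
    ((zpowers_le.2 (hHX hyH)).trans hXQ) (zpowers_le.2 (mem_centralizer_iff.2 hyP)) hfix
  exact hX y (hHX hyH) hycop fun q hq => commutatorElement_eq_one_iff_mul_comm.1
    ((Subgroup.eq_bot_iff_forall _).1 hAxB _ (commutator_mem_commutator hq (mem_zpowers y)))

omit [Fact p.Prime] in
/-- Characteristic `p` goes up along normal subgroups containing the centralizer of `O_p`. -/
theorem charPIn_up {N X : Subgroup G} (hN : CharPIn p N) (hNX : N ≤ X)
    (hXN : X ≤ normalizer (N : Set G))
    (hc : X ⊓ centralizer (pCoreOf p X : Set G) ≤ N) : CharPIn p X :=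
  fun y hyX hycop hcy => hN y (hc ⟨hyX, mem_centralizer_iff.2 hcy⟩) hycop fun q hq =>
    hcy q (le_pCoreOf ((pCoreOf_le N).trans hNX) (hXN.trans (normalizer_le_normalizer_pCoreOf N))
      (pCoreOf_isPGroup N) hq)

end Cfsg.Lib.Local
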