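import Cfsg.Agent.Lib.Local.HallHigmanCritical
import Mathlib.FieldTheory.IsAlgClosed.Basic
import Mathlib.LinearAlgebra.Eigenspace.Basic
import Mathlib.RingTheory.RootsOfUnity.Basic
import Mathlib.LinearAlgebra.Dimension.Constructions
import Mathlib.GroupTheory.GroupAction.Quotient
import Mathlib.GroupTheory.GroupAction.Basic

/-!
Components of a module of a group with a minimal moved `q`-subgroup, over an algebraically closed field:
the centre acts by a character, and orbits of components kill norms.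
-/

set_option autoImplicit false

namespace Cfsg.Lib.Local

open Subgroup
open scoped commutatorElement

section Group

variable {H : Type*} [Group H] [Finite H] {Q X : Subgroup H} {y : H} {q : ℕ} [hq : Fact q.Prime]

/-- The centre of a subgroup, in the ambient group. -/
def innerCenter (Q : Subgroup H) : Subgroup H := Q ⊓ centralizer (Q : Set H)

theorem mem_innerCenter {a : H} : a ∈ innerCenter Q ↔ a ∈ Q ∧ ∀ b ∈ Q, a * b = b * a := by
  rw [innerCenter, mem_inf, mem_centralizer_iff]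
  exact and_congr_right fun _ => ⟨fun h b hb => (h b hb).symm, fun h b hb => (h b hb).symm⟩

theorem MinimalMoved.conj_mem_center (h : MinimalMoved Q X y q) {g : H} (hg : g ∈ X) {a : H}
    (ha : a ∈ innerCenter Q) : g * a * g⁻¹ ∈ innerCenter Q := by
  rw [mem_innerCenter] at ha ⊢
  refine ⟨h.inv g hg a ha.1, fun b hb => ?_⟩
  have hb' := h.inv g⁻¹ (inv_mem hg) b hb
  rw [inv_inv] at hb'
  have e := congrArg (fun u => g * u * g⁻¹) (ha.2 _ hb')
  simpa [mul_assoc] using e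

theorem MinimalMoved.commutator_mem_center (h : MinimalMoved Q X y q) {a b : H} (ha : a ∈ Q) (hb : b ∈ Q) :
    ⁅a, b⁆ ∈ innerCenter Q :=
  mem_innerCenter.2 ⟨map_subtype_le _ (h.commutator_mem_frattini ha hb),
    h.frattini_central _ (h.commutator_mem_frattini ha hb)⟩

theorem MinimalMoved.center_fixed (h : MinimalMoved Q X y q)
    (hna : ∃ a ∈ Q, ∃ b ∈ Q, a * b ≠ b * a) : ∀ a ∈ innerCenter Q, y * a * y⁻¹ = a := by
  exact fun a ha => h.center_fixed' hna a (mem_innerCenter.1 ha).1 (mem_innerCenter.1 ha).2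

theorem MinimalMoved.center_of_fixed (h : MinimalMoved Q X y q) {a : H} (ha : a ∈ Q)
    (hfix : y * a * y⁻¹ = a) : a ∈ innerCenter Q :=
  mem_innerCenter.2 ⟨ha, h.fixed_central ha hfix⟩

/-- An element of `Q` commuting with `y` modulo the centre is central. -/
theorem MinimalMoved.center_of_fixed_mod (h : MinimalMoved Q X y q)
    (hna : ∃ a ∈ Q, ∃ b ∈ Q, a * b ≠ b * a) {c : H} (hc : c ∈ Q)
    (hfix : c⁻¹ * (y * c * y⁻¹) ∈ innerCenter Q) : c ∈ innerCenter Q := by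
  refine mem_innerCenter.2 ⟨hc, fun d hd => commutatorElement_eq_one_iff_mul_comm.1 ?_⟩
  let K : Subgroup H :=
    { carrier := {d | d ∈ Q ∧ ⁅c, d⁆ = 1}
      one_mem' := ⟨one_mem Q, by simp⟩
      mul_mem' := fun {a b} ha hb => ⟨mul_mem ha.1 hb.1, commutatorElement_eq_one_iff_mul_comm.2
        (Commute.mul_right (commutatorElement_eq_one_iff_mul_comm.1 ha.2)
          (commutatorElement_eq_one_iff_mul_comm.1 hb.2) :)⟩
      inv_mem' := fun {a} ha => ⟨inv_mem ha.1, commutatorElement_eq_one_iff_mul_comm.2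
        (Commute.inv_right (commutatorElement_eq_one_iff_mul_comm.1 ha.2) :)⟩ }
  suffices hK : ⁅Q, zpowers y⁆ ≤ K by exact (hK (h.commutator_eq.ge hd)).2
  have step : ∀ (k : ℕ), ∀ d ∈ Q, ⁅c, y ^ k * d * (y ^ k)⁻¹⁆ = ⁅c, d⁆ := by
    intro k
    induction k with
    | zero => intro d _; simp
    | succ k ih =>
      intro d hd
      have hd' : y ^ k * d * (y ^ k)⁻¹ ∈ Q := h.inv _ (pow_mem h.ymem k) d hd
      have hyd : y * (y ^ k * d * (y ^ k)⁻¹) * y⁻¹ ∈ Q := h.inv _ h.ymem _ hd'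
      rw [show y ^ (k + 1) * d * (y ^ (k + 1))⁻¹ = y * (y ^ k * d * (y ^ k)⁻¹) * y⁻¹ by rw [pow_succ']; group]
      rw [← ih d hd]
      obtain ⟨hr1, hr2⟩ := mem_innerCenter.1 hfix
      have e1 : ⁅y * c * y⁻¹, y * (y ^ k * d * (y ^ k)⁻¹) * y⁻¹⁆ =
          ⁅c, y * (y ^ k * d * (y ^ k)⁻¹) * y⁻¹⁆ := by
        conv_lhs => rw [show y * c * y⁻¹ = c * (c⁻¹ * (y * c * y⁻¹)) by group]
        rw [h.commutator_mul_left hc hr1 hyd, commutatorElement_eq_one_iff_mul_comm.2 (hr2 _ hyd),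
          mul_one]
      rw [← e1, show ⁅y * c * y⁻¹, y * (y ^ k * d * (y ^ k)⁻¹) * y⁻¹⁆ =
          y * ⁅c, y ^ k * d * (y ^ k)⁻¹⁆ * y⁻¹ by simp [commutatorElement_def, mul_assoc]]
      exact h.center_fixed hna _ (h.commutator_mem_center hc hd')
  rw [commutator_le]
  intro d hd w hw
  obtain ⟨k, rfl⟩ := mem_powers_iff_mem_zpowers.2 hw
  have h1 : d * (y ^ k * d⁻¹ * (y ^ k)⁻¹) ∈ Q := mul_mem hd (h.inv _ (pow_mem h.ymem k) _ (inv_mem hd))
  have e : ⁅d, y ^ k⁆ = d * (y ^ k * d⁻¹ * (y ^ k)⁻¹) := by rw [commutatorElement_def]; group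
  refine ⟨by rw [e]; exact h1, ?_⟩
  show ⁅c, ⁅d, y ^ k⁆⁆ = 1
  rw [e]
  have hy' : y ^ k * d⁻¹ * (y ^ k)⁻¹ ∈ Q := h.inv _ (pow_mem h.ymem k) _ (inv_mem hd)
  rw [← commutatorElement_inv, h.commutator_mul_left hd hy' hc, ← commutatorElement_inv c d,
    ← commutatorElement_inv c (y ^ k * d⁻¹ * (y ^ k)⁻¹), step k _ (inv_mem hd),
    commutatorElement_inv c d⁻¹, commutatorElement_inv c d, ← h.commutator_mul_left hd (inv_mem hd) hc, mul_inv_cancel,
    commutatorElement_one_left, inv_one]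

end Group

section Linear

variable {H : Type*} [Group H] [Finite H] {F : Type*} [Field F] {V : Type*} [AddCommGroup V] [Module F V]

/-- The common eigenspace of a subgroup for a function on it. -/
noncomputable def eigenOf (ρ : H →* Module.End F V) (A : Subgroup H) (ψ : H → F) : Submodule F V :=
  ⨅ a : A, LinearMap.ker (ρ a - ψ a • (1 : Module.End F V))

theorem mem_eigenOf {ρ : H →* Module.End F V} {A : Subgroup H} {ψ : H → F} {v : V} :
    v ∈ eigenOf ρ A ψ ↔ ∀ a ∈ A, ρ a v = ψ a • v := by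
  simp [eigenOf, Submodule.mem_iInf, sub_eq_zero]

theorem ρ_mul_apply (ρ : H →* Module.End F V) (a b : H) (v : V) : ρ (a * b) v = ρ a (ρ b v) := by
  rw [map_mul]; rfl

theorem ρ_ne_zero (ρ : H →* Module.End F V) (a : H) {v : V} (hv : v ≠ 0) : ρ a v ≠ 0 := fun e => hv (by
  have := congrArg (ρ a⁻¹) e
  rwa [← ρ_mul_apply, inv_mul_cancel, map_one, Module.End.one_apply, map_zero] at this)

theorem eigen_mul {ρ : H →* Module.End F V} {A : Subgroup H} {ψ : H → F} (hW : eigenOf ρ A ψ ≠ ⊥) {a b : H}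
    (ha : a ∈ A) (hb : b ∈ A) : ψ (a * b) = ψ a * ψ b := by
  obtain ⟨v, hv, hv0⟩ := Submodule.exists_mem_ne_zero_of_ne_bot hW
  rw [mem_eigenOf] at hv
  have e : ψ (a * b) • v = (ψ a * ψ b) • v := by
    rw [← hv _ (mul_mem ha hb), ρ_mul_apply, hv b hb, map_smul, hv a ha, smul_smul, mul_comm]
  exact smul_left_injective F hv0 e

theorem eigen_one {ρ : H →* Module.End F V} {A : Subgroup H} {ψ : H → F} (hW : eigenOf ρ A ψ ≠ ⊥) :
    ψ 1 = 1 := by
  obtain ⟨v, hv, hv0⟩ := Submodule.exists_mem_ne_zero_of_ne_bot hW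
  have e : ψ 1 • v = (1 : F) • v := by
    rw [← mem_eigenOf.1 hv 1 (one_mem A), map_one, one_smul]; rfl
  exact smul_left_injective F hv0 e

theorem eigen_ne_zero {ρ : H →* Module.End F V} {A : Subgroup H} {ψ : H → F} (hW : eigenOf ρ A ψ ≠ ⊥) {a : H}
    (ha : a ∈ A) : ψ a ≠ 0 := fun e => by
  have := eigen_mul hW ha (inv_mem ha)
  rw [mul_inv_cancel, eigen_one hW, e, zero_mul] at this
  exact one_ne_zero this

theorem eigen_inv {ρ : H →* Module.End F V} {A : Subgroup H} {ψ : H → F} (hW : eigenOf ρ A ψ ≠ ⊥) {a : H}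
    (ha : a ∈ A) : ψ a⁻¹ = (ψ a)⁻¹ := by
  refine eq_inv_of_mul_eq_one_left ?_
  rw [← eigen_mul hW (inv_mem ha) ha, inv_mul_cancel, eigen_one hW]

/-- Vectors from eigenspaces of different characters are independent: a vanishing sum has vanishing terms. -/
theorem eigen_sum_eq_zero {ρ : H →* Module.End F V} {A : Subgroup H} (hA : (Nat.card A : F) ≠ 0) {ι : Type*}
    (s : Finset ι) (ψ : ι → H → F) (w : ι → V) (hw : ∀ i ∈ s, w i ∈ eigenOf ρ A (ψ i)) {i0 : ι} (hi0 : i0 ∈ s)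
    (hne : ∀ i ∈ s, i ≠ i0 → ∃ a ∈ A, ψ i a ≠ ψ i0 a) (hsum : ∑ i ∈ s, w i = 0) : w i0 = 0 := by
  classical
  by_contra h0
  have hW : eigenOf ρ A (ψ i0) ≠ ⊥ := fun e => h0 (by
    have := hw i0 hi0
    rwa [e, Submodule.mem_bot] at this)
  have := Fintype.ofFinite A
  let E : Module.End F V := ∑ a : A, (ψ i0 (a : H))⁻¹ • ρ (a : H)
  have hE : ∀ i ∈ s, E (w i) = (∑ a : A, (ψ i0 (a : H))⁻¹ * ψ i (a : H)) • w i := by
    intro i hi
    simp only [E, LinearMap.sum_apply, LinearMap.smul_apply, Finset.sum_smul]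
    refine Finset.sum_congr rfl fun a _ => ?_
    rw [mem_eigenOf.1 (hw i hi) a a.2, smul_smul]
  have h1 : E (∑ i ∈ s, w i) = (Nat.card A : F) • w i0 := by
    rw [map_sum, Finset.sum_eq_single i0 (fun i hi hii => ?_) (fun h => absurd hi0 h), hE i0 hi0]
    · congr 1
      rw [Finset.sum_congr rfl fun (a : A) _ => inv_mul_cancel₀ (eigen_ne_zero hW a.2),
        Finset.sum_const, Finset.card_univ, Nat.card_eq_fintype_card, nsmul_eq_mul, mul_one]
    · rw [hE i hi]
      by_cases hwi : w i = 0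
      · rw [hwi, smul_zero]
      have hWi : eigenOf ρ A (ψ i) ≠ ⊥ := fun e => hwi (by
        have := hw i hi
        rwa [e, Submodule.mem_bot] at this)
      obtain ⟨a0, ha0, hne'⟩ := hne i hi hii
      set S := ∑ a : A, (ψ i0 (a : H))⁻¹ * ψ i (a : H) with hS
      have hc : (ψ i0 a0)⁻¹ * ψ i a0 * S = S := by
        rw [hS, Finset.mul_sum]
        refine Fintype.sum_equiv (Equiv.mulLeft (⟨a0, ha0⟩ : A)) _ _ fun a => ?_
        simp only [Equiv.coe_mulLeft, Subgroup.coe_mul]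
        rw [eigen_mul hW ha0 a.2, eigen_mul hWi ha0 a.2, mul_inv]
        ring
      have hS0 : S = 0 := by
        by_contra hS0
        refine hne' ?_
        have h2 : (ψ i0 a0)⁻¹ * ψ i a0 = 1 := mul_right_cancel₀ hS0 (by rw [hc, one_mul])
        rw [inv_mul_eq_iff_eq_mul₀ (eigen_ne_zero hW ha0), mul_one] at h2
        exact h2
      rw [hS0, zero_smul]
  rw [hsum, map_zero] at h1
  exact h0 ((smul_eq_zero.1 h1.symm).resolve_left hA)

variable {Q X : Subgroup H} {y : H} {q : ℕ} [hq : Fact q.Prime]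

theorem natCard_cast_ne_zero (hqF : (q : F) ≠ 0) {A : Subgroup H} (hA : IsPGroup q A) : (Nat.card A : F) ≠ 0 := by
  obtain ⟨e, he⟩ := IsPGroup.iff_card.1 hA
  rw [he, Nat.cast_pow]
  exact pow_ne_zero _ hqF

theorem MinimalMoved.center_isPGroup (h : MinimalMoved Q X y q) : IsPGroup q (innerCenter Q) :=
  h.isP.to_le inf_le_left

/-- A character of the centre, nontrivial on the commutator subgroup, occurring in the module. -/
structure IsComponent (ρ : H →* Module.End F V) (Q : Subgroup H) (ψ : H → F) : Prop where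
  ne : ∃ a ∈ Q, ∃ b ∈ Q, ψ ⁅a, b⁆ ≠ 1
  occurs : eigenOf ρ (innerCenter Q) ψ ≠ ⊥

theorem exists_isComponent [IsAlgClosed F] [FiniteDimensional F V] (ρ : H →* Module.End F V)
    (hρ : Function.Injective ρ) (h : MinimalMoved Q X y q) (hna : ∃ a ∈ Q, ∃ b ∈ Q, a * b ≠ b * a)
    (hqF : (q : F) ≠ 0) : ∃ ψ, IsComponent ρ Q ψ := by
  classical
  obtain ⟨a, ha, b, hb, hab⟩ := hna
  set z := ⁅a, b⁆ with hz
  have hz1 : z ≠ 1 := fun e => hab (commutatorElement_eq_one_iff_mul_comm.1 e)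
  have hzA : z ∈ innerCenter Q := h.commutator_mem_center ha hb
  have hzq : z ^ q = 1 := h.commutator_pow_eq_one ha hb
  let U0 : Submodule F V := LinearMap.ker (∑ t ∈ Finset.range q, ρ (z ^ t))
  have hne : U0 ≠ ⊥ := by
    obtain ⟨v, hv⟩ : ∃ v : V, ρ z v ≠ v := by
      by_contra hcon
      push Not at hcon
      exact hz1 (hρ (LinearMap.ext fun v => by rw [map_one]; exact hcon v))
    refine fun e => hv (sub_eq_zero.1 ?_)
    have hmem : ρ z v - v ∈ U0 := by
      simp only [U0, LinearMap.mem_ker, LinearMap.sum_apply, map_sub, Finset.sum_sub_distrib,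
        ← ρ_mul_apply, ← pow_succ]
      rw [← Finset.sum_sub_distrib, Finset.sum_range_sub (fun t => ρ (z ^ t) v), hzq, pow_zero, sub_self]
    rwa [e, Submodule.mem_bot] at hmem
  have hU0inv : ∀ c ∈ innerCenter Q, ∀ v ∈ U0, ρ c v ∈ U0 := by
    intro c hc v hv
    simp only [U0, LinearMap.mem_ker, LinearMap.sum_apply] at hv ⊢
    calc ∑ t ∈ Finset.range q, ρ (z ^ t) (ρ c v) = ∑ t ∈ Finset.range q, ρ c (ρ (z ^ t) v) :=
          Finset.sum_congr rfl fun t _ => by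
            rw [← ρ_mul_apply, ← ρ_mul_apply,
              (show Commute (z ^ t) c from Commute.pow_left
                ((mem_innerCenter.1 hzA).2 c (mem_innerCenter.1 hc).1) t).eq]
      _ = 0 := by rw [← map_sum, hv, map_zero]
  obtain ⟨U, ⟨hU1, hU2, hU3⟩, hmin⟩ := wellFounded_lt.has_min
    {U : Submodule F V | U ≤ U0 ∧ U ≠ ⊥ ∧ ∀ c ∈ innerCenter Q, ∀ v ∈ U, ρ c v ∈ U}
    ⟨U0, le_rfl, hne, hU0inv⟩
  have : Nontrivial U := Submodule.nontrivial_iff_ne_bot.2 hU2
  have hscal : ∀ c : innerCenter Q, ∃ s : F, ∀ v ∈ U, ρ (c : H) v = s • v := by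
    intro c
    obtain ⟨s, hs⟩ := Module.End.exists_eigenvalue ((ρ (c : H)).restrict (hU3 c c.2))
    obtain ⟨w, hw⟩ := hs.exists_hasEigenvector
    refine ⟨s, fun v hv => ?_⟩
    have hweq : ρ (c : H) (w : V) = s • (w : V) := congrArg Subtype.val hw.apply_eq_smul
    let U' : Submodule F V := U ⊓ LinearMap.ker (ρ (c : H) - s • (1 : Module.End F V))
    have hU'ne : U' ≠ ⊥ := fun e => hw.2 (Subtype.ext ((Submodule.eq_bot_iff _).1 e (w : V)
      ⟨w.2, by simp [LinearMap.mem_ker, hweq]⟩))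
    have hU'U : U' = U := by
      refine le_antisymm inf_le_left (le_of_eq (eq_of_le_of_not_lt inf_le_left (hmin _ ⟨inf_le_left.trans hU1,
        hU'ne, fun d hd u hu => ⟨hU3 d hd u hu.1, ?_⟩⟩)).symm)
      have h2 : ρ (c : H) u = s • u := by
        have := hu.2
        simpa [LinearMap.mem_ker, sub_eq_zero] using this
      simp only [SetLike.mem_coe, LinearMap.mem_ker, LinearMap.sub_apply, LinearMap.smul_apply,
        Module.End.one_apply, sub_eq_zero]
      rw [← ρ_mul_apply, (mem_innerCenter.1 c.2).2 d (mem_innerCenter.1 hd).1, ρ_mul_apply, h2, map_smul]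
    have := (hU'U.ge hv).2
    simpa [LinearMap.mem_ker, sub_eq_zero] using this
  choose s hs using hscal
  obtain ⟨v, hv, hv0⟩ := Submodule.exists_mem_ne_zero_of_ne_bot hU2
  let ψ : H → F := fun c => if hc : c ∈ innerCenter Q then s ⟨c, hc⟩ else 0
  have hψ : ∀ c ∈ innerCenter Q, ∀ u ∈ U, ρ c u = ψ c • u := fun c hc u hu => by
    simp only [ψ, dif_pos hc]
    exact hs ⟨c, hc⟩ u hu
  refine ⟨ψ, ⟨a, ha, b, hb, fun e => ?_⟩, fun e => hv0 ?_⟩
  · have h1 : ∑ t ∈ Finset.range q, ρ (z ^ t) v = (q : F) • v := by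
      have hpow : ∀ t : ℕ, ρ (z ^ t) v = v := by
        intro t
        induction t with
        | zero => simp
        | succ t ih => rw [pow_succ, ρ_mul_apply, hψ z hzA v hv, e, one_smul, ih]
      rw [Finset.sum_congr rfl fun t _ => hpow t, Finset.sum_const, Finset.card_range, Nat.cast_smul_eq_nsmul]
    have h2 := hU1 hv
    simp only [U0, LinearMap.mem_ker, LinearMap.sum_apply] at h2
    rw [h1] at h2
    exact hv0 ((smul_eq_zero.1 h2).resolve_left hqF)
  · exact (Submodule.eq_bot_iff _).1 e v (mem_eigenOf.2 fun c hc => hψ c hc v hv)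

theorem IsComponent.conj_mem_eigen {ρ : H →* Module.End F V} (h : MinimalMoved Q X y q) (ψ : H → F) {g : H}
    (hg : g ∈ X) {v : V} (hv : v ∈ eigenOf ρ (innerCenter Q) ψ) :
    ρ g v ∈ eigenOf ρ (innerCenter Q) (fun a => ψ (g⁻¹ * a * g)) := by
  rw [mem_eigenOf] at hv ⊢
  intro a ha
  have h1 := h.conj_mem_center (inv_mem hg) ha
  rw [inv_inv] at h1
  rw [← ρ_mul_apply, show a * g = g * (g⁻¹ * a * g) by group, ρ_mul_apply, hv _ h1, map_smul]

/-- Along an orbit of length `p ^ j` of components a vanishing orbit sum kills each term. -/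
theorem exists_orbit [IsAlgClosed F] {ρ : H →* Module.End F V} (h : MinimalMoved Q X y q)
    (hna : ∃ a ∈ Q, ∃ b ∈ Q, a * b ≠ b * a) (hqF : (q : F) ≠ 0) {ψ : H → F} {p : ℕ} [hp : Fact p.Prime]
    {x : H} {n : ℕ} (hx : x ∈ X) (hy : x ^ p ^ n = y) (hord : x ^ p ^ (n + 1) = 1) :
    ∃ j ≤ n, (∀ a ∈ innerCenter Q, ψ (x ^ p ^ j * a * (x ^ p ^ j)⁻¹) = ψ a) ∧
      (∀ w : V, w ∈ eigenOf ρ (innerCenter Q) ψ →
        ∑ t ∈ Finset.range (p ^ j), ρ (x ^ t) w = 0 → w = 0) ∧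
      ∀ t < p ^ j, t ≠ 0 → ∃ a ∈ innerCenter Q, ψ (x ^ t * a * (x ^ t)⁻¹) ≠ ψ a := by
  classical
  let P := fun j => ∀ a ∈ innerCenter Q, ψ (x ^ p ^ j * a * (x ^ p ^ j)⁻¹) = ψ a
  have hn : P n := fun a ha => by rw [hy, h.center_fixed hna a ha]
  have hex : ∃ j, P j := ⟨n, hn⟩
  set j := Nat.find hex with hj
  let S : Subgroup H :=
    { carrier := {g | g ∈ X ∧ ∀ a ∈ innerCenter Q, ψ (g * a * g⁻¹) = ψ a}
      one_mem' := ⟨one_mem X, fun a _ => by simp⟩
      mul_mem' := fun {g g'} hg hg' => ⟨mul_mem hg.1 hg'.1, fun a ha => by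
        rw [show g * g' * a * (g * g')⁻¹ = g * (g' * a * g'⁻¹) * g⁻¹ by group,
          hg.2 _ (h.conj_mem_center hg'.1 ha), hg'.2 a ha]⟩
      inv_mem' := fun {g} hg => ⟨inv_mem hg.1, fun a ha => by
        have h1 := h.conj_mem_center (inv_mem hg.1) ha
        rw [inv_inv] at h1 ⊢
        rw [← hg.2 _ h1]
        congr 1
        group⟩ }
  have hsep : ∀ t < p ^ j, t ≠ 0 → ∃ a ∈ innerCenter Q, ψ (x ^ t * a * (x ^ t)⁻¹) ≠ ψ a := by
    intro t ht ht0
    by_contra hcon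
    push Not at hcon
    have hS : x ^ t ∈ S := ⟨pow_mem hx t, hcon⟩
    obtain ⟨i, -, hi⟩ := (Nat.dvd_prime_pow hp.out).1 (Nat.gcd_dvd_right t (p ^ (n + 1)))
    have h1 : x ^ p ^ i ∈ S := by
      have hx1 : x ^ ((p ^ (n + 1) : ℕ) : ℤ) = 1 := by rw [zpow_natCast, hord]
      rw [← zpow_natCast x (p ^ i), ← hi, Nat.gcd_eq_gcd_ab, zpow_add, zpow_mul, zpow_mul, hx1, one_zpow,
        mul_one, zpow_natCast]
      exact S.zpow_mem hS _
    have hij : i < j := (Nat.pow_lt_pow_iff_right hp.out.one_lt).1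
      (lt_of_le_of_lt (hi ▸ Nat.le_of_dvd (Nat.pos_of_ne_zero ht0) (Nat.gcd_dvd_left _ _)) ht)
    exact Nat.find_min hex hij h1.2
  refine ⟨j, Nat.find_min' hex hn, Nat.find_spec hex, fun w hw hsum => ?_, hsep⟩
  have hA := natCard_cast_ne_zero hqF h.center_isPGroup
  have h0 : ρ (x ^ 0) w = 0 := eigen_sum_eq_zero (A := innerCenter Q) hA (Finset.range (p ^ j))
    (fun t a => ψ ((x ^ t)⁻¹ * a * x ^ t)) (fun t => ρ (x ^ t) w)
    (fun t _ => IsComponent.conj_mem_eigen h ψ (pow_mem hx t) hw)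
    (Finset.mem_range.2 (pow_pos hp.out.pos _)) (fun t ht ht0 => ?_) hsum
  · simpa using h0
  · obtain ⟨a, ha, hne⟩ := hsep t (Finset.mem_range.1 ht) ht0
    refine ⟨x ^ t * a * (x ^ t)⁻¹, h.conj_mem_center (pow_mem hx t) ha, ?_⟩
    simp only [pow_zero, inv_one, one_mul, mul_one]
    rw [show (x ^ t)⁻¹ * (x ^ t * a * (x ^ t)⁻¹) * x ^ t = a by group]
    exact hne.symm

end Linear

end Cfsg.Lib.Local
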