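import Mathlib
import Cfsg.Prelude.Def_PLocal
import Cfsg.Agent.Lib.Core.Cores
import Cfsg.Agent.Lib.Local.Sylow

/-!
# Powers of the centre of a Sylow subgroup of bounded class

If a Sylow `p`-subgroup has class at most `n(p-1)+1` and `C(O_p) ≤ O_p`, the subgroup generated
by the `p^n`-th powers of its centre is normal.
-/

set_option autoImplicit false
set_option linter.style.haveILetI false

universe u v

namespace Cfsg.Lib.Local.CenterPowers

open Subgroup

variable {p : ℕ} [hp : Fact p.Prime]

open Polynomial in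
theorem pow_prime_mul_eq_zero {R : Type*} [Ring R] {a : R} {n : ℕ}
    (ha : a ^ (n * (p - 1) + 1) = 0) (h1 : (1 + a) ^ p = 1) : (p : R) ^ n * a = 0 := by
  obtain ⟨r, hr⟩ := exists_add_pow_prime_eq hp.out (1 : ℤ[X]) X
  have hr0 : r.coeff 0 = 1 := by
    have h := congrArg (fun f : ℤ[X] => f.coeff 1) hr
    simp only [coeff_one_add_X_pow, Nat.choose_one_right, one_pow, mul_one, coeff_add,
      coeff_one, coeff_X_pow] at h
    rw [mul_assoc, ← C_eq_natCast, coeff_C_mul, coeff_X_mul] at h
    simp [hp.out.ne_one.symm] at h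
    exact (mul_left_cancel₀ (Nat.cast_ne_zero.2 hp.out.ne_zero : (p : ℤ) ≠ 0) (by rw [mul_one]; exact h.symm))
  obtain ⟨r', hr'⟩ : X ∣ r - 1 := X_dvd_iff.2 (by simp [hr0])
  have hp1 : 1 ≤ p := hp.out.one_le
  have hr1 : r = 1 + X * r' := by rw [← hr']; ring
  set v : R := 1 + a * aeval a r' with hv
  have hav : Commute a v := (Commute.one_right a).add_right
    ((Commute.refl a).mul_right (by simpa using (Commute.all (X : ℤ[X]) r').map (aeval a)))
  have hvu : IsUnit v := by
    refine IsNilpotent.isUnit_one_add (Commute.isNilpotent_mul_right ?_ ⟨_, ha⟩)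
    simpa using (Commute.all (X : ℤ[X]) r').map (aeval a)
  have key : (p : R) * a * v = -a ^ p := by
    have h := congrArg (aeval a) hr
    simp only [map_add, map_pow, map_one, aeval_X, map_mul, map_natCast, one_pow, mul_one, hr1, h1] at h
    rw [hv]
    have h' : a ^ p + (p : R) * a * (1 + a * aeval a r') = 0 := by
      rwa [add_assoc, left_eq_add] at h
    exact eq_neg_of_add_eq_zero_right h'
  have hind : ∀ j, (p : R) ^ j * a * v ^ j = (-1) ^ j * a ^ (j * (p - 1) + 1) := by
    intro j
    induction j with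
    | zero => simp
    | succ j ih =>
      calc (p : R) ^ (j + 1) * a * v ^ (j + 1) = (p : R) * ((p : R) ^ j * a * v ^ j) * v := by
            rw [pow_succ' (p : R) j, pow_succ v j]; simp only [mul_assoc]
        _ = (-1) ^ j * a ^ (j * (p - 1)) * ((p : R) * a * v) := by
            rw [ih, pow_succ a]
            simp only [← mul_assoc]
            rw [((Nat.cast_commute p ((-1 : R) ^ j)).eq)]
            simp only [mul_assoc]
            rw [← mul_assoc (p : R), (Nat.cast_commute p (a ^ (j * (p - 1)))).eq]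
            simp only [mul_assoc]
        _ = (-1) ^ (j + 1) * a ^ ((j + 1) * (p - 1) + 1) := by
            rw [key, pow_succ (-1 : R)]
            simp only [mul_neg, neg_mul, mul_one, mul_assoc, ← pow_add]
            congr 3
            rw [add_mul, one_mul]
            omega
  have h := hind n
  rw [ha, mul_zero] at h
  exact (hvu.pow n).mul_left_eq_zero.1 h

theorem pow_fixed_invariant (n : ℕ) : ∀ (m : ℕ) (L : Type u) [Group L] [Finite L], Nat.card L ≤ m →
    ∀ (V : Type v) [AddCommGroup V] (ρ : L →* AddMonoid.End V),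
      (∀ h : L, (∃ k, h ^ p ^ k = 1) → (ρ h - 1) ^ (n * (p - 1) + 1) = 0) →
      ∀ (T : Sylow p L) (v : V), (∀ t ∈ (T : Subgroup L), ρ t v = v) →
        ∀ g : L, ∃ w : V, (∀ t ∈ (T : Subgroup L), ρ t w = w) ∧ ρ g (p ^ n • v) = p ^ n • w := by
  intro m
  induction m with
  | zero => intro L _ _ hL; exact absurd (Nat.card_pos (α := L)) (by omega)
  | succ m ih =>
    intro L _ _ hL V _ ρ hρ T v hv g
    by_cases hT : (T : Subgroup L) = ⊥
    · refine ⟨ρ g v, fun t ht => ?_, map_nsmul (ρ g) _ _⟩
      rw [hT, mem_bot] at ht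
      rw [ht, map_one]; rfl
    let K : Subgroup L :=
      { carrier := {h | ∀ x : V, ρ h (p ^ n • x) = p ^ n • x}
        one_mem' := fun x => by rw [map_one]; rfl
        mul_mem' := fun {a b} ha hb x => by
          rw [map_mul]
          exact (congrArg (ρ a) (hb x)).trans (ha x)
        inv_mem' := fun {a} ha x => by
          have h1 : ρ a⁻¹ (ρ a (p ^ n • x)) = p ^ n • x := by
            show (ρ a⁻¹ * ρ a) _ = _
            rw [← map_mul, inv_mul_cancel, map_one]; rfl
          rwa [ha x] at h1 }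
    haveI hKn : K.Normal := ⟨fun k hk y x => by
      rw [map_mul, map_mul]
      show ρ y (ρ k (ρ y⁻¹ (p ^ n • x))) = _
      rw [map_nsmul (ρ y⁻¹), hk, ← map_nsmul (ρ y⁻¹)]
      show (ρ y * ρ y⁻¹) _ = _
      rw [← map_mul, mul_inv_cancel, map_one]; rfl⟩
    obtain ⟨PK, hPK⟩ := Cfsg.Lib.Local.exists_sylow_inf T K
    set D := (T : Subgroup L) ⊓ K with hDdef
    have hPKD : (PK : Subgroup K).map K.subtype = D := by rw [hPK, subgroupOf_map_subtype]
    have hDne : D ≠ ⊥ := by
      obtain ⟨c, hc⟩ := IsPGroup.iff_card.1 T.isPGroup'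
      rcases c with _ | c
      · exact absurd (card_eq_one.1 (by simpa using hc)) hT
      obtain ⟨z, hz⟩ := exists_prime_orderOf_dvd_card' (G := (T : Subgroup L)) p
        (hc ▸ dvd_pow_self p c.succ_ne_zero)
      rw [← Subgroup.orderOf_coe] at hz
      have hzp : (z : L) ^ p = 1 := by
        have h := pow_orderOf_eq_one (z : L)
        rwa [hz] at h
      have hzK : (z : L) ∈ K := fun x => by
        have h0 := pow_prime_mul_eq_zero (R := AddMonoid.End V) (hρ (z : L) ⟨1, by rwa [pow_one]⟩)
          (by rw [add_sub_cancel, ← map_pow, hzp, map_one])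
        have h' : p ^ n • (ρ (z : L) x - x) = 0 := by
          have h2 := DFunLike.congr_fun h0 x
          rw [← Nat.cast_pow] at h2
          exact h2
        rw [map_nsmul]
        rwa [smul_sub, sub_eq_zero] at h'
      intro hD
      have : (z : L) = 1 := mem_bot.1 (hD.le ⟨z.2, hzK⟩)
      rw [this, orderOf_one] at hz
      exact hp.out.one_lt.ne hz
    set N := normalizer (D : Set L) with hN
    have hTN : (T : Subgroup L) ≤ N := fun t ht => mem_normalizer_iff.2 fun x => by
      have h1 := mem_normalizer_iff.1 (le_normalizer ht : t ∈ normalizer ((T : Subgroup L) : Set L)) x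
      have h2 := mem_normalizer_iff.1 ((normalizer_eq_top_iff.2 hKn).ge (mem_top t)) x
      rw [hDdef, mem_inf, mem_inf, ← h1, ← h2]
    have htop : (⊤ : Subgroup L) = N ⊔ K := by
      rw [hN, ← hPKD]
      exact (Sylow.normalizer_sup_eq_top PK).symm
    obtain ⟨a, ha, k, hk, rfl⟩ := mem_sup_of_normal_right.1 (htop.le (mem_top g))
    let U : AddSubgroup V :=
      { carrier := {x | ∀ d ∈ D, ρ d x = x}
        zero_mem' := fun d _ => map_zero (ρ d)
        add_mem' := fun {x y} hx hy d hd => by rw [map_add, hx d hd, hy d hd]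
        neg_mem' := fun {x} hx d hd => by rw [map_neg, hx d hd] }
    have hUN : ∀ y : N, ∀ x ∈ U, ρ (y : L) x ∈ U := fun y x hx d hd => by
      have hd' : (y : L)⁻¹ * d * y ∈ D := (mem_normalizer_iff''.1 y.2 d).1 hd
      show (ρ d * ρ (y : L)) x = ρ (y : L) x
      rw [← map_mul, show d * (y : L) = y * ((y : L)⁻¹ * d * y) by group, map_mul]
      exact congrArg (ρ (y : L)) (hx _ hd')
    let ρN : N →* AddMonoid.End U :=
      { toFun := fun y => AddMonoidHom.codRestrict ((ρ (y : L) : V →+ V).comp U.subtype) U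
          (fun x => hUN y x x.2)
        map_one' := AddMonoidHom.ext fun x => Subtype.ext (by
          show ρ ((1 : N) : L) (x : V) = x
          rw [Subgroup.coe_one, map_one]; rfl)
        map_mul' := fun y y' => AddMonoidHom.ext fun x => Subtype.ext (by
          show ρ ((y * y' : N) : L) (x : V) = ρ (y : L) (ρ (y' : L) (x : V))
          rw [Subgroup.coe_mul, map_mul]; rfl) }
    have hDN : D ≤ N := le_normalizer
    haveI : (D.subgroupOf N).Normal := normal_in_normalizer
    have hker : D.subgroupOf N ≤ ρN.ker := fun d hd =>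
      AddMonoidHom.ext fun x => Subtype.ext (x.2 (d : L) hd)
    let ρ' := QuotientGroup.lift (D.subgroupOf N) ρN hker
    have hcard : Nat.card (N ⧸ D.subgroupOf N) ≤ m := by
      have h1 := card_eq_card_quotient_mul_card_subgroup (D.subgroupOf N)
      have h2 : 1 < Nat.card (D.subgroupOf N) := by
        rw [Nat.card_congr (subgroupOfEquivOfLe hDN).toEquiv]
        exact (one_lt_card_iff_ne_bot D).2 hDne
      have h3 := card_le_card_group N
      nlinarith [Nat.card_pos (α := N ⧸ D.subgroupOf N)]
    have hp' : ∀ h : N ⧸ D.subgroupOf N, (∃ e, h ^ p ^ e = 1) →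
        (ρ' h - 1) ^ (n * (p - 1) + 1) = 0 := by
      rintro h ⟨e, he⟩
      obtain ⟨y, rfl⟩ := QuotientGroup.mk_surjective h
      have hmem : (y ^ p ^ e : N) ∈ D.subgroupOf N := (QuotientGroup.eq_one_iff _).1 (by
        rw [QuotientGroup.mk_pow]; exact he)
      obtain ⟨e', he'⟩ := T.isPGroup' ⟨((y ^ p ^ e : N) : L), hmem.1⟩
      have hy : ∃ k, (y : L) ^ p ^ k = 1 := ⟨e + e', by
        rw [pow_add, pow_mul]
        exact congrArg Subtype.val he'⟩
      have hit : ∀ (i : ℕ) (x : U), ((((ρ' (QuotientGroup.mk y) - 1) ^ i : AddMonoid.End U) x : U) : V) =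
          ((ρ (y : L) - 1) ^ i : AddMonoid.End V) (x : V) := by
        intro i
        induction i with
        | zero => intro x; rfl
        | succ i ih =>
          intro x
          rw [pow_succ, pow_succ]
          exact ih ((ρ' (QuotientGroup.mk y) - 1) x)
      refine AddMonoidHom.ext fun x => Subtype.ext ?_
      refine (hit _ x).trans ?_
      rw [hρ _ hy]; rfl
    have hvU : v ∈ U := fun d hd => hv d hd.1
    obtain ⟨w, hw, hwe⟩ := ih (N ⧸ D.subgroupOf N) hcard U ρ' hp'
      ((T.subtype hTN).mapSurjective (QuotientGroup.mk'_surjective (D.subgroupOf N))) ⟨v, hvU⟩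
      (by
        rintro _ ⟨t, ht, rfl⟩
        exact Subtype.ext (hv (t : L) ht))
      (QuotientGroup.mk ⟨a, ha⟩)
    refine ⟨(w : V), fun t ht => ?_, ?_⟩
    · exact congrArg Subtype.val (hw (QuotientGroup.mk ⟨t, hTN ht⟩) ⟨⟨t, hTN ht⟩, ht, rfl⟩)
    · rw [map_mul]
      show ρ a (ρ k (p ^ n • v)) = _
      rw [hk v]
      exact congrArg Subtype.val hwe

variable {L : Type u} [Group L] [Finite L]

/-- The subgroup of `p^n`-th powers of the centre of a Sylow subgroup of class at most
`n(p-1)+1` is normal when `C(O_p) ≤ O_p`. -/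
theorem powerClosure_center_normal (n : ℕ) (T : Sylow p L)
    (hcl : Subgroup.lowerCentralSeries (T : Subgroup L) (n * (p - 1) + 1) = ⊥)
    (hc : centralizer (Cfsg.pCore p L : Set L) ≤ Cfsg.pCore p L) :
    (Cfsg.powerClosure p n ((T : Subgroup L) ⊓ centralizer ((T : Subgroup L) : Set L))).Normal := by
  set O := Cfsg.pCore p L with hO
  set Vs := O ⊓ centralizer (O : Set L) with hVs
  haveI : Vs.Normal := inferInstance
  letI : CommGroup Vs := { (inferInstance : Group Vs) with
    mul_comm := fun x y => Subtype.ext (mem_centralizer_iff.1 y.2.2 (x : L) x.2.1) }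
  let ρ : L →* AddMonoid.End (Additive Vs) :=
    { toFun := fun g => (MulEquiv.toAdditive (MulAut.conjNormal g : MulAut Vs)).toAddMonoidHom
      map_one' := AddMonoidHom.ext fun x => by
        show Additive.ofMul ((MulAut.conjNormal (1 : L) : MulAut Vs) x.toMul) = x
        rw [map_one]; rfl
      map_mul' := fun g h => AddMonoidHom.ext fun x => by
        show Additive.ofMul ((MulAut.conjNormal (g * h) : MulAut Vs) x.toMul) =
          Additive.ofMul ((MulAut.conjNormal g : MulAut Vs) ((MulAut.conjNormal h : MulAut Vs) x.toMul))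
        rw [map_mul]; rfl }
  have hρ : ∀ g (x : Additive Vs), ((Additive.toMul (ρ g x) : Vs) : L) =
      g * ((Additive.toMul x : Vs) : L) * g⁻¹ := fun g x => MulAut.conjNormal_apply g _
  have hquad : ∀ h : L, (∃ k, h ^ p ^ k = 1) → (ρ h - 1) ^ (n * (p - 1) + 1) = 0 := by
    rintro h ⟨k, hk⟩
    have hzp : IsPGroup p (zpowers h) := by
      rintro ⟨y, m, rfl⟩
      refine ⟨k, Subtype.ext ?_⟩
      show (h ^ m) ^ p ^ k = 1
      rw [← zpow_natCast, ← zpow_mul, mul_comm, zpow_mul, zpow_natCast, hk, one_zpow]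
    obtain ⟨T', hT'⟩ := hzp.exists_le_sylow
    obtain ⟨c, hc'⟩ := MulAction.exists_smul_eq L T T'
    have hcl' : Subgroup.lowerCentralSeries (T' : Subgroup L) (n * (p - 1) + 1) = ⊥ := by
      have h1 : (T : Subgroup L).map (MulAut.conj c).toMonoidHom = T' := by rw [← hc']; rfl
      rw [← h1, ← Subgroup.map_lowerCentralSeries, hcl, Subgroup.map_bot]
    have hit : ∀ (i : ℕ) (x : Additive Vs), ((Additive.toMul (((ρ h - 1) ^ i : AddMonoid.End (Additive Vs)) x) : Vs) : L) ∈
        Subgroup.lowerCentralSeries (T' : Subgroup L) i := by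
      intro i
      induction i with
      | zero => exact fun x => Cfsg.Lib.Core.pCore_le_sylow T' (Additive.toMul x).2.1
      | succ i ih =>
        intro x
        rw [pow_succ']
        set y := ((ρ h - 1) ^ i) x
        show ((Additive.toMul (ρ h y - y) : Vs) : L) ∈ _
        rw [sub_eq_add_neg, toMul_add, toMul_neg, Subgroup.coe_mul, Subgroup.coe_inv, hρ,
          Subgroup.lowerCentralSeries_succ, commutator_comm]
        exact commutator_mem_commutator (hT' (mem_zpowers h)) (ih x)
    refine AddMonoidHom.ext fun x => ?_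
    apply Additive.toMul.injective
    apply Subtype.ext
    exact mem_bot.1 (hcl'.le (hit _ x))
  refine ⟨fun y hy g => ?_⟩
  suffices h : (Cfsg.powerClosure p n ((T : Subgroup L) ⊓ centralizer ((T : Subgroup L) : Set L))) ≤
      (Cfsg.powerClosure p n ((T : Subgroup L) ⊓ centralizer ((T : Subgroup L) : Set L))).comap
        (MulAut.conj g).toMonoidHom from h hy
  rw [Cfsg.powerClosure, closure_le]
  rintro _ ⟨z, hz, rfl⟩
  have hzO : z ∈ centralizer (O : Set L) :=
    centralizer_le (Cfsg.Lib.Core.pCore_le_sylow T) hz.2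
  have hzV : z ∈ Vs := ⟨hc hzO, hzO⟩
  obtain ⟨w, hw, hwe⟩ := pow_fixed_invariant n _ L le_rfl (Additive Vs) ρ hquad T
    (Additive.ofMul (⟨z, hzV⟩ : Vs)) (fun t ht => by
      apply Additive.toMul.injective
      apply Subtype.ext
      rw [hρ]
      show t * z * t⁻¹ = z
      rw [mem_centralizer_iff.1 hz.2 t ht, mul_inv_cancel_right]) g
  refine subset_closure ⟨((Additive.toMul w : Vs) : L), ⟨Cfsg.Lib.Core.pCore_le_sylow T (Additive.toMul w).2.1,
    mem_centralizer_iff.2 fun t ht => ?_⟩, ?_⟩
  · have h1 := congrArg (fun x : Additive Vs => ((Additive.toMul x : Vs) : L)) (hw t ht)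
    simp only [hρ] at h1
    exact mul_inv_eq_iff_eq_mul.1 h1
  · have h1 := congrArg (fun x : Additive Vs => ((Additive.toMul x : Vs) : L)) hwe
    simp only [hρ, toMul_nsmul, Subgroup.coe_pow] at h1
    exact h1

end Cfsg.Lib.Local.CenterPowers
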