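import Mathlib

/-!
# The replacement argument of Thompson and Timmesfeld

If `A` acts on the abelian group `V` with abelian image and no subgroup `B` of `A` has
`|B| |C_V(B)| > |A| |C_V(A)|`, then for `U ≤ V` the subgroup `B = C_A([U, A])` attains this bound and
`C_V(B) = [U, A] C_V(A)`.
-/

set_option autoImplicit false
set_option linter.style.haveILetI false

namespace Cfsg.Lib.Local.Timmesfeld

open Subgroup
open scoped commutatorElement

variable {G : Type*} [Group G] [Finite G]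

theorem card_mul_card_le (H K : Subgroup G) :
    Nat.card H * Nat.card K ≤ Nat.card (H ⊓ K : Subgroup G) * Nat.card (H ⊔ K : Subgroup G) := by
  have h1 : Nat.card K = Nat.card (H ⊓ K : Subgroup G) * H.relIndex K := by
    rw [← inf_relIndex_right H K, ← relIndex_bot_left, ← relIndex_bot_left,
      relIndex_mul_relIndex _ _ _ bot_le inf_le_right]
  have h2 : Nat.card (H ⊔ K : Subgroup G) = Nat.card H * H.relIndex (H ⊔ K) := by
    rw [← relIndex_bot_left, ← relIndex_bot_left, relIndex_mul_relIndex _ _ _ bot_le le_sup_left]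
  have h3 : H.relIndex K ≤ H.relIndex (H ⊔ K) :=
    relIndex_le_of_le_right le_sup_right index_ne_zero_of_finite
  rw [h1, h2]
  calc Nat.card H * (Nat.card (H ⊓ K : Subgroup G) * H.relIndex K)
      = Nat.card (H ⊓ K : Subgroup G) * (Nat.card H * H.relIndex K) := by ring
    _ ≤ _ := Nat.mul_le_mul_left _ (Nat.mul_le_mul_left _ h3)

variable (V A : Subgroup G) [hVc : IsMulCommutative V] (hAV : A ≤ normalizer (V : Set G))
  (hab : ⁅A, A⁆ ≤ centralizer (V : Set G))

/-- `X` is good when `C_A(X)` attains the bound with `X C_V(A)`. -/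
def Good (X : Subgroup G) : Prop :=
  Nat.card A * Nat.card (V ⊓ centralizer (A : Set G) : Subgroup G) ≤
    Nat.card (A ⊓ centralizer (X : Set G) : Subgroup G) *
      Nat.card (X ⊔ (V ⊓ centralizer (A : Set G)) : Subgroup G)

theorem sup_le_fixed {X : Subgroup G} (hX : X ≤ V) :
    X ⊔ (V ⊓ centralizer (A : Set G)) ≤ V ⊓ centralizer ((A ⊓ centralizer (X : Set G) : Subgroup G) : Set G) := by
  refine sup_le (le_inf hX (le_centralizer_iff.1 inf_le_right)) ?_
  exact inf_le_inf_left V (centralizer_le (by exact_mod_cast (inf_le_left : A ⊓ centralizer (X : Set G) ≤ A)))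

theorem good_bot : Good V A ⊥ := by
  unfold Good
  rw [bot_sup_eq, show A ⊓ centralizer ((⊥ : Subgroup G) : Set G) = A from inf_eq_left.2 fun a _ =>
    mem_centralizer_iff.2 fun x hx => by rw [mem_bot.1 hx, one_mul, mul_one]]

theorem good_sup (hmax : ∀ B ≤ A, Nat.card B * Nat.card (V ⊓ centralizer (B : Set G) : Subgroup G) ≤
    Nat.card A * Nat.card (V ⊓ centralizer (A : Set G) : Subgroup G))
    {X₁ X₂ : Subgroup G} (h₁X : X₁ ≤ V) (h₂X : X₂ ≤ V) (h₁ : Good V A X₁) (h₂ : Good V A X₂) :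
    Good V A (X₁ ⊔ X₂) := by
  unfold Good at *
  set F := V ⊓ centralizer (A : Set G)
  set B₁ := A ⊓ centralizer (X₁ : Set G)
  set B₂ := A ⊓ centralizer (X₂ : Set G)
  set m := Nat.card A * Nat.card F
  have hB : A ⊓ centralizer ((X₁ ⊔ X₂ : Subgroup G) : Set G) = B₁ ⊓ B₂ := by
    apply le_antisymm
    · exact le_inf (inf_le_inf_left A (centralizer_le (by exact_mod_cast (le_sup_left : X₁ ≤ X₁ ⊔ X₂))))
        (inf_le_inf_left A (centralizer_le (by exact_mod_cast (le_sup_right : X₂ ≤ X₁ ⊔ X₂))))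
    · exact le_inf (inf_le_left.trans inf_le_left) (le_centralizer_iff.1 (sup_le
        (le_centralizer_iff.1 (inf_le_left.trans inf_le_right))
        (le_centralizer_iff.1 (inf_le_right.trans inf_le_right))))
  have hW : X₁ ⊔ X₂ ⊔ F = (X₁ ⊔ F) ⊔ (X₂ ⊔ F) := by
    rw [sup_sup_sup_comm, sup_idem]
  rw [hB, hW]
  set W₁ := X₁ ⊔ F
  set W₂ := X₂ ⊔ F
  have h4 : Nat.card (B₁ ⊔ B₂ : Subgroup G) * Nat.card (W₁ ⊓ W₂ : Subgroup G) ≤ m := by
    refine le_trans (Nat.mul_le_mul_left _ (card_le_of_le ?_))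
      (hmax (B₁ ⊔ B₂) (sup_le inf_le_left inf_le_left))
    refine le_inf (inf_le_left.trans ((sup_le_fixed V A h₁X).trans inf_le_left)) ?_
    exact le_centralizer_iff.1 (sup_le
      (le_centralizer_iff.1 (inf_le_left.trans ((sup_le_fixed V A h₁X).trans inf_le_right)))
      (le_centralizer_iff.1 (inf_le_right.trans ((sup_le_fixed V A h₂X).trans inf_le_right))))
  have h5 := Nat.mul_le_mul (card_mul_card_le B₁ B₂) (card_mul_card_le W₁ W₂)
  have h6 : m * m ≤ Nat.card B₁ * Nat.card B₂ * (Nat.card W₁ * Nat.card W₂) := by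
    calc m * m ≤ (Nat.card B₁ * Nat.card W₁) * (Nat.card B₂ * Nat.card W₂) := Nat.mul_le_mul h₁ h₂
      _ = _ := by ring
  have hmpos : 0 < m := Nat.mul_pos Nat.card_pos Nat.card_pos
  refine Nat.le_of_mul_le_mul_left ?_ hmpos
  refine (h6.trans h5).trans ?_
  calc Nat.card (B₁ ⊓ B₂ : Subgroup G) * Nat.card (B₁ ⊔ B₂ : Subgroup G) *
        (Nat.card (W₁ ⊓ W₂ : Subgroup G) * Nat.card (W₁ ⊔ W₂ : Subgroup G))
      = (Nat.card (B₁ ⊔ B₂ : Subgroup G) * Nat.card (W₁ ⊓ W₂ : Subgroup G)) *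
        (Nat.card (B₁ ⊓ B₂ : Subgroup G) * Nat.card (W₁ ⊔ W₂ : Subgroup G)) := by ring
    _ ≤ _ := Nat.mul_le_mul_right _ h4

include hAV in
theorem commutator_mem {u a : G} (hu : u ∈ V) (ha : a ∈ A) : ⁅u, a⁆ ∈ V := by
  rw [commutatorElement_def, mul_assoc, mul_assoc, ← mul_assoc a]
  exact mul_mem hu ((mem_normalizer_iff.1 (hAV ha) _).1 (inv_mem hu))

include hAV hab in
theorem good_single {u : G} (hu : u ∈ V) :
    Good V A (closure ((fun a => ⁅u, a⁆) '' (A : Set G))) := by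
  set X := closure ((fun a => ⁅u, a⁆) '' (A : Set G)) with hX
  set F := V ⊓ centralizer (A : Set G)
  set B := A ⊓ centralizer (X : Set G)
  set W := X ⊔ F
  have cV : ∀ {x y : G}, x ∈ V → y ∈ V → x * y = y * x := fun hx hy =>
    congrArg Subtype.val (hVc.is_comm.comm ⟨_, hx⟩ ⟨_, hy⟩)
  have hXV : X ≤ V := (closure_le _).2 (by
    rintro _ ⟨a, ha, rfl⟩; exact commutator_mem V A hAV hu ha)
  have hWV : W ≤ V := sup_le hXV inf_le_left
  let f : A ⧸ B.subgroupOf A → W ⧸ F.subgroupOf W := fun q =>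
    QuotientGroup.mk ⟨⁅u, (q.out : G)⁆, mem_sup_left (subset_closure ⟨_, q.out.2, rfl⟩)⟩
  have hf : Function.Injective f := by
    intro q q' h
    rw [← QuotientGroup.out_eq' q, ← QuotientGroup.out_eq' q', QuotientGroup.eq, mem_subgroupOf]
    set a := q.out
    set a' := q'.out
    have hw : ⁅u, (a : G)⁆⁻¹ * ⁅u, (a' : G)⁆ ∈ F := mem_subgroupOf.1 (QuotientGroup.eq.1 h)
    refine mem_inf.2 ⟨A.mul_mem (A.inv_mem a.2) a'.2, ?_⟩
    show (a : G)⁻¹ * (a' : G) ∈ centralizer (X : Set G)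
    rw [hX, centralizer_closure]
    refine mem_centralizer_iff.2 ?_
    rintro _ ⟨c, hc, rfl⟩
    -- `a u a⁻¹` and `a' u a'⁻¹` differ by a fixed point of `A`
    set x := (a : G) * u * (a : G)⁻¹ with hx
    set y := (a' : G) * u * (a' : G)⁻¹ with hy
    have hxV : x ∈ V := (mem_normalizer_iff.1 (hAV a.2) u).1 hu
    have hyV : y ∈ V := (mem_normalizer_iff.1 (hAV a'.2) u).1 hu
    have hw' : x * y⁻¹ ∈ F := by
      have e : ⁅u, (a : G)⁆⁻¹ * ⁅u, (a' : G)⁆ = x * y⁻¹ := by
        simp only [commutatorElement_def, hx, hy]; group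
      rwa [e] at hw
    have hfix : c * (x * y⁻¹) * c⁻¹ = x * y⁻¹ := by
      rw [mem_centralizer_iff.1 hw'.2 c hc, mul_inv_cancel_right]
    have hswap : ∀ b ∈ A, b * (c * u * c⁻¹) * b⁻¹ = c * (b * u * b⁻¹) * c⁻¹ := by
      intro b hb
      have hk := mem_centralizer_iff.1 (hab (commutator_mem_commutator (A.inv_mem hb) (A.inv_mem hc))) u hu
      rw [commutatorElement_def, inv_inv, inv_inv] at hk
      calc b * (c * u * c⁻¹) * b⁻¹
          = c * b * (b⁻¹ * c⁻¹ * b * c * u) * (b⁻¹ * c⁻¹ * b * c)⁻¹ * (c * b)⁻¹ := by group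
        _ = c * (b * u * b⁻¹) * c⁻¹ := by rw [← hk]; group
    have key : (a : G) * ⁅u, c⁆ * (a : G)⁻¹ = (a' : G) * ⁅u, c⁆ * (a' : G)⁻¹ := by
      have e1 : ∀ b ∈ A, b * ⁅u, c⁆ * b⁻¹ = (b * u * b⁻¹) * (c * (b * u * b⁻¹) * c⁻¹)⁻¹ := by
        intro b hb
        rw [← hswap b hb]
        simp only [commutatorElement_def]; group
      rw [e1 _ a.2, e1 _ a'.2, ← hx, ← hy, mul_inv_eq_iff_eq_mul]
      have e2 : c * x * c⁻¹ = (x * y⁻¹) * (c * y * c⁻¹) := by rw [← hfix]; group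
      have hcy : c * y * c⁻¹ ∈ V := (mem_normalizer_iff.1 (hAV hc) y).1 hyV
      rw [e2, cV (mul_mem hxV (inv_mem hyV)) hcy, mul_assoc, inv_mul_cancel_left,
        cV hxV (inv_mem hyV), mul_inv_cancel_left]
    calc ⁅u, c⁆ * ((a : G)⁻¹ * a') = (a : G)⁻¹ * ((a : G) * ⁅u, c⁆ * (a : G)⁻¹) * a' := by group
      _ = (a : G)⁻¹ * a' * ⁅u, c⁆ := by rw [key]; group
  have h1 := (B.subgroupOf A).card_mul_index
  have h2 := (F.subgroupOf W).card_mul_index
  rw [Nat.card_congr (subgroupOfEquivOfLe (inf_le_left : B ≤ A)).toEquiv] at h1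
  rw [Nat.card_congr (subgroupOfEquivOfLe (le_sup_right : F ≤ W)).toEquiv] at h2
  have h3 : (B.subgroupOf A).index ≤ (F.subgroupOf W).index := Nat.card_le_card_of_injective f hf
  show Nat.card A * Nat.card F ≤ Nat.card B * Nat.card W
  rw [← h1, ← h2]
  calc Nat.card B * (B.subgroupOf A).index * Nat.card F
      = Nat.card B * (Nat.card F * (B.subgroupOf A).index) := by ring
    _ ≤ _ := Nat.mul_le_mul_left _ (Nat.mul_le_mul_left _ h3)

include hAV hab in
/-- The replacement dichotomy. -/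
theorem replacement (hmax : ∀ B ≤ A, Nat.card B * Nat.card (V ⊓ centralizer (B : Set G) : Subgroup G) ≤
    Nat.card A * Nat.card (V ⊓ centralizer (A : Set G) : Subgroup G)) {U : Subgroup G} (hU : U ≤ V) :
    V ⊓ centralizer ((A ⊓ centralizer ((⁅U, A⁆ : Subgroup G) : Set G) : Subgroup G) : Set G) =
        ⁅U, A⁆ ⊔ (V ⊓ centralizer (A : Set G)) ∧
      Nat.card A * Nat.card (V ⊓ centralizer (A : Set G) : Subgroup G) =
        Nat.card (A ⊓ centralizer ((⁅U, A⁆ : Subgroup G) : Set G) : Subgroup G) *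
          Nat.card (V ⊓ centralizer ((A ⊓ centralizer ((⁅U, A⁆ : Subgroup G) : Set G) : Subgroup G) : Set G) : Subgroup G) := by
  classical
  let gen : Set G → Subgroup G := fun T => closure (⋃ u ∈ T, (fun a => ⁅u, a⁆) '' (A : Set G))
  have hgood : ∀ T : Set G, T.Finite → T ⊆ V → gen T ≤ V ∧ Good V A (gen T) := by
    intro T hT
    induction T, hT using Set.Finite.induction_on with
    | empty =>
      intro _
      have : gen ∅ = ⊥ := by simp [gen]
      rw [this]
      exact ⟨bot_le, good_bot V A⟩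
    | @insert u S _ _ ih =>
      intro hS
      rw [Set.insert_subset_iff] at hS
      have : gen (insert u S) = closure ((fun a => ⁅u, a⁆) '' (A : Set G)) ⊔ gen S := by
        simp only [gen, Set.biUnion_insert, Subgroup.closure_union]
      rw [this]
      have hu : closure ((fun a => ⁅u, a⁆) '' (A : Set G)) ≤ V := (closure_le _).2 (by
        rintro _ ⟨a, ha, rfl⟩; exact commutator_mem V A hAV hS.1 ha)
      exact ⟨sup_le hu (ih hS.2).1,
        good_sup V A hmax hu (ih hS.2).1 (good_single V A hAV hab hS.1) (ih hS.2).2⟩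
  have hgen : gen (U : Set G) = ⁅U, A⁆ := by
    rw [Subgroup.commutator_def]
    refine congrArg Subgroup.closure ?_
    ext x
    simp only [Set.mem_iUnion, Set.mem_image, Set.mem_ofPred_eq, SetLike.mem_coe]
    exact ⟨fun ⟨u, hu, a, ha, h⟩ => ⟨u, hu, a, ha, h⟩, fun ⟨u, hu, a, ha, h⟩ => ⟨u, hu, a, ha, h⟩⟩
  obtain ⟨hXV, hg⟩ := hgood U (Set.toFinite _) (by exact_mod_cast hU)
  rw [hgen] at hXV hg
  have hle := sup_le_fixed V A hXV
  have h1 := hmax (A ⊓ centralizer ((⁅U, A⁆ : Subgroup G) : Set G)) inf_le_left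
  have h2 := hg.trans (Nat.mul_le_mul_left _ (card_le_of_le hle))
  refine ⟨(Subgroup.eq_of_le_of_card_ge hle ?_).symm, le_antisymm h2 h1⟩
  exact Nat.le_of_mul_le_mul_left (h1.trans hg) Nat.card_pos

end Cfsg.Lib.Local.Timmesfeld
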