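import Cfsg.Agent.Lib.FusionSys.NormalizerModel
import Cfsg.Agent.Lib.Local.Basic
import Cfsg.Agent.Lib.PGroup.Basic
import Cfsg.Prelude.Def_LocalEven

/-!
Sections isomorphic to the symmetric group of degree four.
-/

set_option autoImplicit false

namespace Cfsg.Lib.Local

open Subgroup
open scoped commutatorElement

universe u

variable {Γ : Type u} [Group Γ] [Finite Γ]

theorem perm_three_no_fix : ∀ σ : Equiv.Perm (Fin 3), (∀ i, σ i ≠ i) → σ ^ 3 = 1 ∧ σ ≠ 1 := by
  decide +kernel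

theorem perm_three_fix : ∀ σ τ : Equiv.Perm (Fin 3), (∀ i, σ i ≠ i) → (∃ i, τ i = i) →
    τ * σ * τ⁻¹ * σ = 1 → τ ^ 2 = 1 ∧ τ ≠ 1 := by
  decide +kernel

/-- A normal four group with the full symmetric group of its involutions acting on it gives a section
isomorphic to the symmetric group of degree four. -/
theorem involves_four_of_action (W : Subgroup Γ) [W.Normal] (hW : Nat.card W = 4) (x y : Γ)
    (hy : ∀ w ∈ W, y * w * y⁻¹ = w → w = 1) (hx : ∃ v ∈ W, v ≠ 1 ∧ x * v * x⁻¹ = v)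
    (hxy : ∀ w ∈ W, (x * y * x⁻¹ * y) * w * (x * y * x⁻¹ * y)⁻¹ = w) :
    Cfsg.Involves (Equiv.Perm (Fin 4)) Γ := by
  classical
  haveI : Fact (Nat.Prime 3) := ⟨Nat.prime_three⟩
  let W' := {w : ↥W // w ≠ 1}
  have hW' : Nat.card W' = 3 := by
    rw [show Nat.card W' = Nat.card ↥({(1 : ↥W)}ᶜ : Set ↥W) from rfl, Nat.card_coe_set_eq,
      Set.ncard_compl, hW, Set.ncard_singleton]
  obtain ⟨eW⟩ : Nonempty (W' ≃ Fin 3) := ⟨Finite.equivFinOfCardEq hW'⟩
  let act : Γ → W' → W' := fun g w => ⟨MulAut.conjNormal g w.1, fun h => w.2 (by simpa using h)⟩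
  have act_one : ∀ w, act 1 w = w := fun w => Subtype.ext (Subtype.ext (by simp [act]))
  have act_mul : ∀ g h w, act (g * h) w = act g (act h w) := fun g h w =>
    Subtype.ext (Subtype.ext (by simp [act, mul_assoc]))
  let π : Γ →* Equiv.Perm (Fin 3) :=
    MonoidHom.mk' (fun g => eW.permCongr ⟨act g, act g⁻¹,
      fun w => by rw [← act_mul, inv_mul_cancel, act_one],
      fun w => by rw [← act_mul, mul_inv_cancel, act_one]⟩) fun g h => by
        ext i; simp [Equiv.permCongr_apply, act_mul]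
  have hπ : ∀ g (w : W'), π g (eW w) = eW (act g w) := fun g w => by simp [π, Equiv.permCongr_apply]
  have hker : ∀ g, π g = 1 ↔ ∀ w ∈ W, g * w * g⁻¹ = w := by
    intro g
    constructor
    · intro h w hw
      by_cases h1 : w = 1
      · simp [h1]
      have := hπ g ⟨⟨w, hw⟩, fun e => h1 (congrArg Subtype.val e)⟩
      rw [h, Equiv.Perm.one_apply] at this
      simpa [act] using (congrArg (fun z : W' => (z.1 : Γ)) (eW.injective this)).symm
    · intro h
      ext i
      obtain ⟨w, rfl⟩ := eW.surjective i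
      rw [hπ, Equiv.Perm.one_apply]
      congr 2
      exact Subtype.ext (Subtype.ext (by simpa [act] using h _ w.1.2))
  have hσ : ∀ i, π y i ≠ i := by
    intro i hi
    obtain ⟨w, rfl⟩ := eW.surjective i
    rw [hπ] at hi
    have := hy _ w.1.2 (by simpa [act] using congrArg (fun z : W' => (z.1 : Γ)) (eW.injective hi))
    exact w.2 (Subtype.ext this)
  have hτ : ∃ i, π x i = i := by
    obtain ⟨v, hv, hv1, hvx⟩ := hx
    refine ⟨eW ⟨⟨v, hv⟩, fun e => hv1 (congrArg Subtype.val e)⟩, ?_⟩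
    rw [hπ]
    congr 1
    exact Subtype.ext (Subtype.ext (by simpa [act] using hvx))
  obtain ⟨hy3, hy1⟩ := perm_three_no_fix _ hσ
  obtain ⟨hx2, hx1⟩ := perm_three_fix _ _ hσ hτ
    (by rw [← map_inv, ← map_mul, ← map_mul, ← map_mul]; exact (hker _).mpr hxy)
  have hsurj : Function.Surjective π := by
    rw [← MonoidHom.range_eq_top]
    refine eq_top_of_card_eq _ ?_
    have h3 : 3 ∣ Nat.card π.range := by
      have h := card_dvd_of_le (zpowers_le.mpr (MonoidHom.mem_range.mpr ⟨y, rfl⟩ : π y ∈ π.range))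
      rwa [Nat.card_zpowers, orderOf_eq_prime hy3 hy1] at h
    have h2 : 2 ∣ Nat.card π.range := by
      have h := card_dvd_of_le (zpowers_le.mpr (MonoidHom.mem_range.mpr ⟨x, rfl⟩ : π x ∈ π.range))
      rwa [Nat.card_zpowers, orderOf_eq_prime hx2 hx1] at h
    have h6 := (card_subgroup_dvd_card π.range)
    rw [Nat.card_perm, Nat.card_fin, show Nat.factorial 3 = 2 * 3 from rfl] at h6 ⊢
    exact Nat.dvd_antisymm h6 (Nat.Coprime.mul_dvd_of_dvd_of_dvd (by norm_num) h2 h3)
  -- the rotations and a Sylow `3`-subgroup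
  let χ : Γ →* ℤˣ := Equiv.Perm.sign.comp π
  let M := χ.ker
  let P : Sylow 3 ↥M := default
  set P' := (P : Subgroup ↥M).map M.subtype with hP'
  set N := normalizer (P' : Set Γ) with hN
  have hNM : N ⊔ M = ⊤ := Sylow.normalizer_sup_eq_top P
  -- `P` moves every involution of `W`
  have hPW : ∀ w ∈ W, (∀ g ∈ P', g * w * g⁻¹ = w) → w = 1 := by
    intro w hw hfix
    have hyM : y ∈ M := by
      show Equiv.Perm.sign (π y) = 1
      rcases Int.units_eq_one_or (Equiv.Perm.sign (π y)) with h | h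
      · exact h
      · have := congrArg Equiv.Perm.sign hy3
        rw [map_pow, h, map_one] at this
        exact absurd this (by decide)
    let ρ : ↥M →* Equiv.Perm (Fin 3) := π.comp M.subtype
    have hyρ : π y ∈ (P : Subgroup ↥M).map ρ := by
      have hPn : ((P : Subgroup ↥M).map ρ.rangeRestrict) = ⊤ := by
        refine eq_top_of_card_eq _ ?_
        have h1 := (P.mapSurjective ρ.rangeRestrict_surjective).card_eq_multiplicity
        have hle : Nat.card ρ.range = 3 := by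
          refine le_antisymm ?_ ?_
          · have : ρ.range ≤ Equiv.Perm.sign.ker := by
              rintro _ ⟨m, rfl⟩; exact m.2
            refine (card_le_of_le this).trans ?_
            rw [Nat.card_eq_fintype_card]
            decide +kernel
          · refine Nat.le_of_dvd Nat.card_pos ?_
            have h := card_dvd_of_le (zpowers_le.mpr (MonoidHom.mem_range.mpr ⟨⟨y, hyM⟩, rfl⟩ : π y ∈ ρ.range))
            rwa [Nat.card_zpowers, orderOf_eq_prime hy3 hy1] at h
        rw [← Sylow.coe_mapSurjective ρ.rangeRestrict_surjective P, h1, hle,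
          (Nat.prime_three).factorization_self, pow_one]
      obtain ⟨g, hg, hgy⟩ : (⟨π y, ⟨y, hyM⟩, rfl⟩ : ↥ρ.range) ∈ (P : Subgroup ↥M).map ρ.rangeRestrict :=
        hPn ▸ mem_top _
      exact ⟨g, hg, congrArg Subtype.val hgy⟩
    obtain ⟨g, hg, hgy⟩ := hyρ
    refine hy w hw ?_
    have h1 : π ((g : Γ)⁻¹ * y) = 1 := by
      rw [map_mul, map_inv, show π (g : Γ) = π y from hgy, inv_mul_cancel]
    have h2 := (hker _).mp h1 w hw
    calc y * w * y⁻¹ = (g : Γ) * (((g : Γ)⁻¹ * y) * w * ((g : Γ)⁻¹ * y)⁻¹) * (g : Γ)⁻¹ := by group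
      _ = w := by rw [h2, hfix g ⟨g, hg, rfl⟩]
  have hNW : W ⊓ N = ⊥ := by
    rw [eq_bot_iff]
    rintro w ⟨hw, hwN⟩
    refine hPW w hw fun g hg => ?_
    have h1 : ⁅g, w⁆ ∈ W ⊓ P' := by
      refine ⟨?_, ?_⟩
      · rw [commutatorElement_def]
        exact mul_mem (Normal.conj_mem ‹W.Normal› w hw g) (W.inv_mem hw)
      · rw [commutatorElement_def, show g * w * g⁻¹ * w⁻¹ = g * (w * g⁻¹ * w⁻¹) by group]
        exact mul_mem hg ((mem_normalizer_iff.mp hwN _).mp (P'.inv_mem hg))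
    have h2 : Disjoint W P' := IsPGroup.disjoint_of_ne 2 3 (by norm_num) _ _
      (IsPGroup.of_card (n := 2) (by rw [hW]; norm_num)) (P.2.map _)
    rw [disjoint_iff.mp h2, mem_bot, commutatorElement_def, mul_inv_eq_one] at h1
    exact h1
  have hNπ : ∀ g, ∃ a ∈ N, π a = π g := by
    -- `N` maps onto the sign quotient and contains `P`
    have hrot : ∀ a ∈ M, ∃ b ∈ N, π b = π a := by
      intro a ha
      have : (⊤ : Subgroup Γ) = N ⊔ M := hNM.symm
      let ρ : ↥M →* Equiv.Perm (Fin 3) := π.comp M.subtype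
      have hle : (P : Subgroup ↥M).map ρ = ρ.range := by
        refine eq_of_le_of_card_ge (map_le_range _ _) ?_
        have h1 := (P.mapSurjective ρ.rangeRestrict_surjective).card_eq_multiplicity
        have hd : Nat.card ρ.range ∣ 3 := by
          have h2 : ρ.range ≤ Equiv.Perm.sign.ker := by
            rintro _ ⟨m, rfl⟩; exact m.2
          refine (card_dvd_of_le h2).trans (dvd_of_eq ?_)
          rw [Nat.card_eq_fintype_card]
          decide +kernel
        have h3 : 3 ^ (Nat.card ρ.range).factorization 3 = Nat.card ρ.range := by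
          rcases (Nat.dvd_prime Nat.prime_three).mp hd with e | e <;> rw [e]
          · simp
          · rw [Nat.prime_three.factorization_self, pow_one]
        rw [h3, Sylow.coe_mapSurjective] at h1
        rw [← h1, ← card_map_of_injective ρ.range.subtype_injective, map_map,
          MonoidHom.subtype_comp_rangeRestrict]
      obtain ⟨b, hb, hb'⟩ : π a ∈ (P : Subgroup ↥M).map ρ := hle ▸ ⟨⟨a, ha⟩, rfl⟩
      exact ⟨b, le_normalizer ⟨b, hb, rfl⟩, hb'⟩
    intro g
    obtain ⟨a, ha, m, hm, rfl⟩ := mem_sup_of_normal_right.mp (hNM.symm ▸ mem_top g : g ∈ N ⊔ M)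
    obtain ⟨b, hb, hb'⟩ := hrot m hm
    exact ⟨a * b, mul_mem ha hb, by rw [map_mul, map_mul, hb']⟩
  set H := W ⊔ N with hH
  have hWH : W ≤ H := le_sup_left
  have hNH : N ≤ H := le_sup_right
  have hidx : (N.subgroupOf H).index = 4 := by
    have h1 : (N.subgroupOf H).index = N.relIndex H := rfl
    have h2 : W.relIndex H = Nat.card N := by
      rw [hH, sup_comm, relIndex_sup_right, ← inf_relIndex_right, hNW, relIndex_bot_left]
    have h3 := relIndex_mul_relIndex ⊥ W H bot_le hWH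
    have h4 := relIndex_mul_relIndex ⊥ N H bot_le hNH
    rw [relIndex_bot_left, relIndex_bot_left, hW, h2] at h3
    rw [relIndex_bot_left, relIndex_bot_left, ← h3, mul_comm 4] at h4
    rw [h1]
    exact Nat.eq_of_mul_eq_mul_left Nat.card_pos h4
  set N' := N.subgroupOf H with hN'
  haveI := Fintype.ofFinite (↥H ⧸ N')
  obtain ⟨eQ⟩ : Nonempty (↥H ⧸ N' ≃ Fin 4) := ⟨Finite.equivFinOfCardEq hidx⟩
  let act4 := MulAction.toPermHom ↥H (↥H ⧸ N')
  let F : ↥H →* Equiv.Perm (Fin 4) := eQ.permCongrHom.toMonoidHom.comp act4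
  refine Cfsg.Lib.FusionSys.involves_iff_exists_hom.mpr ⟨H, F, ?_⟩
  have hact : Function.Surjective act4 := by
    rw [← MonoidHom.range_eq_top]
    refine eq_top_of_card_eq _ ?_
    refine le_antisymm (card_le_card_group _) ?_
    rw [Nat.card_perm, show Nat.card (↥H ⧸ N') = 4 from hidx]
    -- the kernel lies in `N` and centralises `W`
    have hkN : act4.ker ≤ N' := by
      rw [show act4.ker = N'.normalCore from (normalCore_eq_ker N').symm]
      exact normalCore_le N'
    let φ : ↥N' →* Equiv.Perm (Fin 3) := (π.comp H.subtype).comp N'.subtype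
    have hφs : Function.Surjective φ := fun σ => by
      obtain ⟨g, rfl⟩ := hsurj σ
      obtain ⟨a, ha, ha'⟩ := hNπ g
      exact ⟨⟨⟨a, hNH ha⟩, ha⟩, ha'⟩
    have hkφ : act4.ker.subgroupOf N' ≤ φ.ker := by
      intro a ha
      refine (hker _).mpr fun w hw => ?_
      have haK : (a : ↥H) ∈ act4.ker := ha
      have h1 : ⁅(a : ↥H), (⟨w, hWH hw⟩ : ↥H)⁆ ∈ act4.ker ⊓ W.subgroupOf H := by
        refine ⟨?_, ?_⟩
        · rw [commutatorElement_def, mul_assoc, mul_assoc, ← mul_assoc (⟨w, hWH hw⟩ : ↥H)]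
          exact mul_mem haK (Normal.conj_mem inferInstance _ (inv_mem haK) _)
        · show ((⁅(a : ↥H), (⟨w, hWH hw⟩ : ↥H)⁆ : ↥H) : Γ) ∈ W
          simp only [commutatorElement_def, Subgroup.coe_mul, Subgroup.coe_inv]
          exact mul_mem (Normal.conj_mem ‹W.Normal› w hw _) (inv_mem hw)
      have h2 : act4.ker ⊓ W.subgroupOf H = ⊥ := by
        rw [eq_bot_iff]
        rintro b ⟨hb, hb'⟩
        have : (b : Γ) ∈ W ⊓ N := ⟨hb', hkN hb⟩
        rw [hNW, mem_bot] at this
        exact Subtype.ext this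
      rw [h2, mem_bot] at h1
      have h3 := congrArg Subtype.val h1
      simpa [commutatorElement_def, mul_inv_eq_one] using h3
    have h6 : Nat.card (Equiv.Perm (Fin 3)) ≤ act4.ker.relIndex N' := by
      rw [relIndex]
      refine Nat.le_of_dvd (Nat.pos_of_ne_zero index_ne_zero_of_finite) ?_
      refine (dvd_of_eq ?_).trans (index_dvd_of_le hkφ)
      rw [index_ker, MonoidHom.range_eq_top.mpr hφs, card_top]
    have h7 := relIndex_mul_index hkN
    rw [hidx, index_ker] at h7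
    rw [← h7, show (Nat.factorial 4) = Nat.factorial 3 * 4 from rfl]
    rw [Nat.card_perm, Nat.card_fin] at h6
    exact Nat.mul_le_mul_right 4 h6
  intro σ
  obtain ⟨τ, hτ'⟩ := eQ.permCongrHom.surjective σ
  obtain ⟨a, ha⟩ := hact τ
  exact ⟨a, by show eQ.permCongrHom (act4 a) = σ; rw [ha, hτ']⟩

variable {G : Type u} [Group G] [Finite G]

/-- From an element inverted on a `2`-group to a section isomorphic to `S₄`. -/
theorem involves_four_of_inverted {T : Subgroup G} (hT : IsPGroup 2 T) {x y : G}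
    (hxT : x ∈ normalizer (T : Set G)) (hyT : y ∈ normalizer (T : Set G))
    (hx : ∃ k, orderOf x = 2 ^ k) (hy : ∃ k, orderOf y = 3 ^ k)
    (hy3 : y ^ 3 ∈ centralizer (T : Set G))
    (hyC : y ∉ centralizer (T : Set G)) (hxy : x * y * x⁻¹ * y ∈ centralizer (T : Set G)) :
    Cfsg.Involves (Equiv.Perm (Fin 4)) G := by
  classical
  haveI : Fact (Nat.Prime 2) := ⟨Nat.prime_two⟩
  set z := x * y * x⁻¹ * y with hz
  obtain ⟨U, ⟨hUT, hxU, hyU, hyUC⟩, hmin⟩ := Set.Finite.exists_minimal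
    (s := {U : Subgroup G | U ≤ T ∧ x ∈ normalizer (U : Set G) ∧ y ∈ normalizer (U : Set G) ∧
      y ∉ centralizer (U : Set G)}) (Set.toFinite _) ⟨T, le_rfl, hxT, hyT, hyC⟩
  have hUp : IsPGroup 2 U := hT.to_le hUT
  have hzU : ∀ u ∈ U, z * u * z⁻¹ = u := fun u hu => by
    rw [← mem_centralizer_iff.mp hxy u (hUT hu), mul_inv_cancel_right]
  -- proper invariant subgroups are centralised by `y`
  have hsmall : ∀ V : Subgroup G, V ≤ U → x ∈ normalizer (V : Set G) → y ∈ normalizer (V : Set G) →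
      V ≠ U → y ∈ centralizer (V : Set G) := by
    intro V hVU hxV hyV hne
    by_contra hh
    exact hne (le_antisymm hVU (hmin ⟨hVU.trans hUT, hxV, hyV, hh⟩ hVU))
  set Φ := (frattini ↥U).map U.subtype with hΦ
  set Γ := normalizer (U : Set G) with hΓ
  have hUΓ : U ≤ Γ := le_normalizer
  have hΦU : Φ ≤ U := map_subtype_le _
  have hΦΓ : Γ ≤ normalizer (Φ : Set G) := Core.normalizer_le_normalizer_map_char _
  haveI : (Φ.subgroupOf Γ).Normal := normal_subgroupOf_of_le_normalizer hΦΓ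
  haveI : (U.subgroupOf Γ).Normal := normal_subgroupOf_of_le_normalizer le_rfl
  let m := QuotientGroup.mk' (Φ.subgroupOf Γ)
  have hm1 : ∀ g : ↥Γ, m g = 1 ↔ (g : G) ∈ Φ := fun g => QuotientGroup.eq_one_iff g
  have hms : Function.Surjective m := QuotientGroup.mk'_surjective _
  set W := (U.subgroupOf Γ).map m with hW
  haveI : W.Normal := ‹(U.subgroupOf Γ).Normal›.map m hms
  have hWU : ∀ g : ↥Γ, m g ∈ W → (g : G) ∈ U := by
    rintro g ⟨u, hu, hug⟩
    have h1 : m (u⁻¹ * g) = 1 := by rw [map_mul, map_inv, hug, inv_mul_cancel]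
    have h2 := mul_mem (mem_subgroupOf.mp hu) (hΦU ((hm1 _).mp h1))
    simpa using h2
  have hfr : ∀ a b : ↥Γ, (a : G) ∈ U → (b : G) ∈ U → Commute (m a) (m b) ∧ m a * m a = 1 := by
    intro a b ha hb
    constructor
    · show m a * m b = m b * m a
      rw [← map_mul, ← map_mul, ← inv_mul_eq_one, ← map_inv, ← map_mul, hm1]
      refine ⟨(⟨a, ha⟩ * ⟨b, hb⟩)⁻¹ * (⟨b, hb⟩ * ⟨a, ha⟩), ?_, rfl⟩
      have := Cfsg.Lib.PGroup.commutator_le_frattini hUp
        (commutator_mem_commutator (mem_top ((⟨b, hb⟩ : ↥U))⁻¹) (mem_top ((⟨a, ha⟩ : ↥U))⁻¹))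
      show _ ∈ frattini ↥U
      convert this using 1
      apply Subtype.ext; simp [commutatorElement_def]; group
    · rw [← map_mul, hm1]
      exact ⟨⟨a, ha⟩ * ⟨a, ha⟩, by
        rw [← pow_two]; exact Cfsg.Lib.PGroup.pow_mem_frattini hUp _, rfl⟩
  have hWabel : IsMulCommutative W := ⟨⟨fun a b => by
    obtain ⟨p, hp⟩ := hms a
    obtain ⟨r, hr⟩ := hms b
    apply Subtype.ext
    simp only [Subgroup.coe_mul]
    rw [← hp, ← hr]
    exact (hfr p r (hWU p (hp ▸ a.2)) (hWU r (hr ▸ b.2))).1⟩⟩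
  set X : ↥Γ := ⟨x, hxU⟩ with hX
  set Y : ↥Γ := ⟨y, hyU⟩ with hY
  have hY2 : (orderOf y).Coprime 2 := by
    obtain ⟨k, hk⟩ := hy; rw [hk]; exact Nat.Coprime.pow_left k (by norm_num)
  have hyU' : zpowers y ≤ normalizer (U : Set G) := zpowers_le.mpr hyU
  -- `U = [U, y] Φ(U)`
  have hgen : ⁅U, zpowers y⁆ ⊔ Φ = U := by
    have hc : ⁅U, zpowers y⁆ ≤ U := Cfsg.Lib.Coprime.commutator_le_of_le_normalizer hyU'
    by_contra hne
    have hconj : ∀ g : G, g ∈ normalizer (U : Set G) → (∀ i : ℤ, ∃ j : ℤ, ∀ u ∈ U,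
        (g * y ^ i * g⁻¹) * u * (g * y ^ i * g⁻¹)⁻¹ = y ^ j * u * (y ^ j)⁻¹) →
        g ∈ normalizer ((⁅U, zpowers y⁆ ⊔ Φ : Subgroup G) : Set G) := by
      intro g hg hgy
      refine mem_normalizer_fintype fun n hn => ?_
      refine (show ⁅U, zpowers y⁆ ⊔ Φ ≤ (⁅U, zpowers y⁆ ⊔ Φ).comap (MulAut.conj g).toMonoidHom from
        sup_le ?_ ?_) hn
      · refine commutator_le.mpr fun u hu b hb => ?_
        obtain ⟨i, rfl⟩ := mem_zpowers_iff.mp hb
        obtain ⟨j, hj⟩ := hgy i
        rw [Subgroup.mem_comap]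
        simp only [MulEquiv.coe_toMonoidHom, MulAut.conj_apply]
        refine mem_sup_left ?_
        have hgu := (mem_normalizer_iff.mp hg u).mp hu
        have hju := hj _ (inv_mem hgu)
        have e : g * ⁅u, y ^ i⁆ * g⁻¹ = (g * u * g⁻¹) *
            ((g * y ^ i * g⁻¹) * (g * u * g⁻¹)⁻¹ * (g * y ^ i * g⁻¹)⁻¹) := by
          rw [commutatorElement_def]; group
        rw [e, hju, show (g * u * g⁻¹) * (y ^ j * (g * u * g⁻¹)⁻¹ * (y ^ j)⁻¹) = ⁅g * u * g⁻¹, y ^ j⁆ by
          rw [commutatorElement_def]; group]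
        exact commutator_mem_commutator hgu (zpow_mem (mem_zpowers y) j)
      · exact fun n hn => mem_sup_right ((mem_normalizer_iff.mp (hΦΓ hg) n).mp hn)
    have h1 := hsmall _ (sup_le hc hΦU) (hconj x hxU fun i => ⟨-i, fun u hu => by
        have hzi : x * y * x⁻¹ = z * y⁻¹ := by rw [hz]; group
        have hfix : ∀ u ∈ U, (x * y * x⁻¹) * u * (x * y * x⁻¹)⁻¹ = y⁻¹ * u * y⁻¹⁻¹ := fun u hu => by
          rw [hzi, show z * y⁻¹ * u * (z * y⁻¹)⁻¹ = z * (y⁻¹ * u * y⁻¹⁻¹) * z⁻¹ by group,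
            hzU _ ((mem_normalizer_iff.mp (inv_mem hyU) u).mp hu)]
        let c : ↥Γ →* MulAut ↥U :=
          { toFun := fun g =>
              { toFun := fun u => ⟨(g : G) * u * (g : G)⁻¹, (mem_normalizer_iff.mp g.2 u).mp u.2⟩
                invFun := fun u => ⟨(g : G)⁻¹ * u * g,
                  (mem_normalizer_iff''.mp g.2 u).mp u.2⟩
                left_inv := fun u => Subtype.ext (by group)
                right_inv := fun u => Subtype.ext (by group)
                map_mul' := fun u v => Subtype.ext (by simp only [Subgroup.coe_mul]; group) }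
            map_one' := by ext u; simp
            map_mul' := fun g h => by ext u; simp [mul_assoc] }
        have hc1 : c ⟨x * y * x⁻¹, mul_mem (mul_mem hxU hyU) (inv_mem hxU)⟩ = c Y⁻¹ := by
          ext u
          exact hfix u u.2
        have hc2 := congrArg (· ^ i) hc1
        simp only [← map_zpow] at hc2
        have := congrArg (fun f : MulAut ↥U => ((f ⟨u, hu⟩ : ↥U) : G)) hc2
        simp only [c, MonoidHom.coe_mk, OneHom.coe_mk, MulEquiv.coe_mk, Equiv.coe_fn_mk,
          SubgroupClass.coe_zpow, Subgroup.coe_inv, hY] at this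
        rw [conj_zpow, inv_zpow, ← zpow_neg] at this
        exact this⟩)
      (hconj y hyU fun i => ⟨i, fun u _ => by
        rw [show y * y ^ i * y⁻¹ = y ^ i by group]⟩) hne
    refine hyUC (mem_centralizer_of_two_step (p := 2) hUp hyU hY2 le_rfl ?_)
    exact le_sup_left.trans (le_centralizer_iff.mp
      (zpowers_le.mpr h1 : zpowers y ≤ centralizer ((⁅U, zpowers y⁆ ⊔ Φ : Subgroup G) : Set G)) |>.trans
      (centralizer_le (Set.singleton_subset_iff.mpr (mem_zpowers y))))
  -- `y` has no fixed point on `W`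
  have hWeq : ⁅W, zpowers (m Y)⁆ = W := by
    refine le_antisymm (Cfsg.Lib.Coprime.commutator_le_of_le_normalizer (le_normalizer_normal _)) ?_
    rintro w ⟨u, hu, rfl⟩
    have hu' : (u : G) ∈ ⁅U, zpowers y⁆ ⊔ Φ := hgen.symm ▸ mem_subgroupOf.mp hu
    have hle : ⁅U, zpowers y⁆ ⊔ Φ ≤ ((⁅W, zpowers (m Y)⁆).comap m).map Γ.subtype := by
      refine sup_le (commutator_le.mpr fun a ha b hb => ?_) fun a ha => ?_
      · obtain ⟨i, rfl⟩ := mem_zpowers_iff.mp hb
        refine ⟨⁅(⟨a, hUΓ ha⟩ : ↥Γ), Y ^ i⁆, ?_, by simp [commutatorElement_def, hY]⟩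
        rw [SetLike.mem_coe, Subgroup.mem_comap]
        rw [map_commutatorElement, map_zpow]
        exact commutator_mem_commutator ⟨_, mem_subgroupOf.mpr ha, rfl⟩ (zpow_mem (mem_zpowers _) i)
      · refine ⟨⟨a, hUΓ (hΦU ha)⟩, ?_, rfl⟩
        rw [SetLike.mem_coe, Subgroup.mem_comap]
        rw [(hm1 ⟨a, hUΓ (hΦU ha)⟩).mpr ha]
        exact one_mem _
    obtain ⟨v, hv, hvu⟩ := hle hu'
    exact Subtype.ext hvu ▸ hv
  have hWp : IsPGroup 2 W := (hUp.comap_of_injective Γ.subtype Γ.subtype_injective).map m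
  have hyfix : ∀ w ∈ W, m Y * w * (m Y)⁻¹ = w → w = 1 := by
    intro w hw hwy
    have hcop : (Nat.card (zpowers (m Y))).Coprime (Nat.card W) := by
      refine coprime_card_zpowers hWp (Nat.Coprime.coprime_dvd_left (orderOf_map_dvd m Y) ?_)
      rwa [hY, Subgroup.orderOf_mk]
    haveI := hWabel
    have hd := Cfsg.Lib.Coprime.disjoint_commutator_centralizer (A := zpowers (m Y)) (G := W)
      (le_normalizer_normal _) hcop
    have hwC : w ∈ W ⊓ centralizer (zpowers (m Y) : Set _) := by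
      refine ⟨hw, ?_⟩
      have : zpowers (m Y) ≤ centralizer ({w} : Set _) :=
        zpowers_le.mpr (mem_centralizer_singleton_iff.mpr (mul_inv_eq_iff_eq_mul.mp hwy))
      exact mem_centralizer_iff.mpr fun g hg => mem_centralizer_singleton_iff.mp (this hg)
    have hw' : w ∈ ⁅W, zpowers (m Y)⁆ := by rw [hWeq]; exact hw
    exact (Subgroup.disjoint_def.mp hd) hw' hwC.2
  -- a fixed point of `x`
  obtain ⟨v, hvW, hv1, hvx⟩ : ∃ v ∈ W, v ≠ 1 ∧ m X * v * (m X)⁻¹ = v := by
    obtain ⟨k, hk⟩ := hx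
    have hPx : IsPGroup 2 (zpowers (m X)) := by
      have hd : orderOf (m X) ∣ 2 ^ k := by
        rw [← hk]; exact (orderOf_map_dvd m X).trans (dvd_of_eq (Subgroup.orderOf_mk _ _))
      obtain ⟨j, -, hj⟩ := (Nat.dvd_prime_pow Nat.prime_two).mp hd
      exact IsPGroup.of_card (n := j) (by rw [Nat.card_zpowers, hj])
    haveI : Nontrivial W := by
      rw [nontrivial_iff_ne_bot]
      intro hbot
      apply hyUC
      have hUΦ : U ≤ Φ := fun u hu => (hm1 ⟨u, hUΓ hu⟩).mp
        ((hbot ▸ ⟨_, mem_subgroupOf.mpr hu, rfl⟩ : m ⟨u, hUΓ hu⟩ ∈ (⊥ : Subgroup _)))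
      have h2 : frattini ↥U = ⊤ := by
        apply map_injective U.subtype_injective
        rw [← MonoidHom.range_eq_map, range_subtype]
        exact le_antisymm hΦU hUΦ
      haveI := hUp.isNilpotent
      have : Subsingleton ↥U := by
        by_contra hns
        haveI := not_subsingleton_iff_nontrivial.mp hns
        obtain ⟨M, hM, -⟩ := (eq_top_or_exists_le_coatom (⊥ : Subgroup ↥U)).resolve_left bot_ne_top
        exact hM.1 (top_unique (h2 ▸ frattini_le_coatom hM))
      exact mem_centralizer_iff.mpr fun g hg => by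
        have := congrArg Subtype.val (Subsingleton.elim (⟨g, hg⟩ : ↥U) 1)
        rw [show g = 1 from this]; simp
    letI : MulAction (zpowers (m X)) ↥W :=
      MulAction.compHom ↥W ((MulAut.conjNormal (H := W)).comp (zpowers (m X)).subtype)
    have h2 : 2 ∣ Nat.card ↥W := by
      obtain ⟨j, hj⟩ := IsPGroup.iff_card.mp hWp
      rcases j with _ | j
      · exact absurd (Finite.one_lt_card (α := ↥W)) (by rw [hj]; simp)
      · rw [hj]; exact dvd_pow_self 2 (Nat.succ_ne_zero j)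
    have h1 : (1 : ↥W) ∈ MulAction.fixedPoints (zpowers (m X)) ↥W := fun g => by
      show MulAut.conjNormal (H := W) (g : ↥Γ ⧸ Φ.subgroupOf Γ) (1 : ↥W) = 1
      exact map_one _
    obtain ⟨v, hv, hne⟩ := hPx.exists_fixed_point_of_prime_dvd_card_of_fixed_point ↥W h2 h1
    refine ⟨v, v.2, fun e => hne (Subtype.ext e.symm), ?_⟩
    exact congrArg Subtype.val (hv ⟨m X, mem_zpowers _⟩)
  have hzW : ∀ w ∈ W, (m X * m Y * (m X)⁻¹ * m Y) * w * (m X * m Y * (m X)⁻¹ * m Y)⁻¹ = w := by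
    rintro w ⟨u, hu, rfl⟩
    rw [← map_inv, ← map_mul, ← map_mul, ← map_mul, ← map_inv, ← map_mul, ← map_mul]
    exact congrArg m (Subtype.ext (hzU u (mem_subgroupOf.mp hu)))
  -- `W = {1, v, v^y, v v^y}`
  set v' := m Y * v * (m Y)⁻¹ with hv'
  have hsq : ∀ w ∈ W, w * w = 1 := fun w hw => by
    obtain ⟨u, rfl⟩ := hms w
    exact (hfr u u (hWU u hw) (hWU u hw)).2
  have hcomm : ∀ a ∈ W, ∀ b ∈ W, a * b = b * a := fun a ha b hb =>
    congrArg Subtype.val (hWabel.is_comm.comm ⟨a, ha⟩ ⟨b, hb⟩)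
  have hv'W : v' ∈ W := Normal.conj_mem ‹W.Normal› v hvW _
  set v'' := m Y * v' * (m Y)⁻¹ with hv''
  have hv''W : v'' ∈ W := Normal.conj_mem ‹W.Normal› v' hv'W _
  have hY3 : ∀ w ∈ W, m Y * (m Y * (m Y * w * (m Y)⁻¹) * (m Y)⁻¹) * (m Y)⁻¹ = w := by
    rintro w ⟨u, hu, rfl⟩
    rw [← map_inv, ← map_mul, ← map_mul, ← map_mul, ← map_mul, ← map_mul, ← map_mul]
    refine congrArg m (Subtype.ext ?_)
    show y * (y * (y * (u : G) * y⁻¹) * y⁻¹) * y⁻¹ = u
    have h := mem_centralizer_iff.mp hy3 u (hUT (mem_subgroupOf.mp hu))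
    calc y * (y * (y * (u : G) * y⁻¹) * y⁻¹) * y⁻¹ = y ^ 3 * (u : G) * (y ^ 3)⁻¹ := by
          rw [pow_three]; group
      _ = u := by rw [← h, mul_inv_cancel_right]
  have hyv'' : m Y * v'' * (m Y)⁻¹ = v := hY3 v hvW
  have hv''eq : v'' = v * v' := by
    have hfix : v * v' * v'' = 1 := by
      refine hyfix _ (mul_mem (mul_mem hvW hv'W) hv''W) ?_
      rw [← conj_mul, ← conj_mul, hyv'', ← hv', ← hv'']
      exact hcomm _ (mul_mem hv'W hv''W) _ hvW |>.trans (mul_assoc _ _ _).symm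
    rw [mul_eq_one_iff_eq_inv] at hfix
    have h1 := mul_eq_one_iff_eq_inv.mp (hsq v'' hv''W)
    rw [h1]; exact hfix.symm
  have hxv' : m X * v' * (m X)⁻¹ = v'' := by
    have hxy' : m X * m Y * (m X)⁻¹ = (m X * m Y * (m X)⁻¹ * m Y) * (m Y)⁻¹ := by group
    have hyi : (m Y)⁻¹ * v * m Y = v'' := by
      rw [← hY3 v hvW, ← hv', ← hv'']
      group
    calc m X * v' * (m X)⁻¹
        = (m X * m Y * (m X)⁻¹) * (m X * v * (m X)⁻¹) * (m X * m Y * (m X)⁻¹)⁻¹ := by
          rw [hv']; group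
      _ = (m X * m Y * (m X)⁻¹ * m Y) * ((m Y)⁻¹ * v * m Y) * (m X * m Y * (m X)⁻¹ * m Y)⁻¹ := by
          rw [hvx]
          nth_rewrite 1 [hxy']
          nth_rewrite 1 [hxy']
          group
      _ = v'' := by rw [hyi, hzW _ hv''W]
  set E := closure ({v, v'} : Set (↥Γ ⧸ Φ.subgroupOf Γ)) with hE
  have hEW : E ≤ W := (closure_le _).mpr (Set.insert_subset hvW (Set.singleton_subset_iff.mpr hv'W))
  have hvE : v ∈ E := Subgroup.subset_closure (Set.mem_insert _ _)
  have hv'E : v' ∈ E := Subgroup.subset_closure (Set.mem_insert_of_mem _ rfl)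
  set U₂ := (E.comap m).map Γ.subtype with hU₂
  have hU₂U : U₂ ≤ U := by
    rintro _ ⟨g, hg, rfl⟩
    exact hWU g (hEW hg)
  have hinv : ∀ g : ↥Γ, m g * v * (m g)⁻¹ ∈ E → m g * v' * (m g)⁻¹ ∈ E →
      (g : G) ∈ normalizer (U₂ : Set G) := by
    intro g h1 h2
    refine mem_normalizer_fintype ?_
    rintro _ ⟨a, ha, rfl⟩
    refine ⟨g * a * g⁻¹, ?_, rfl⟩
    show m (g * a * g⁻¹) ∈ E
    rw [map_mul, map_mul, map_inv]
    exact (show E ≤ E.comap (MulAut.conj (m g)).toMonoidHom from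
      (closure_le _).mpr (Set.insert_subset h1 (Set.singleton_subset_iff.mpr h2))) ha
  have hU₂eq : U₂ = U := by
    by_contra hne
    have h1 := hsmall U₂ hU₂U
      (hinv X (by rw [hvx]; exact hvE) (by rw [hxv', hv''eq]; exact mul_mem hvE hv'E))
      (hinv Y (by rw [← hv']; exact hv'E) (by rw [← hv'', hv''eq]; exact mul_mem hvE hv'E)) hne
    obtain ⟨u, hu⟩ := hms v
    have h2 := mem_centralizer_iff.mp h1 (u : G) ⟨u, show m u ∈ E from hu ▸ hvE, rfl⟩
    apply hv1
    refine hyfix v hvW ?_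
    rw [mul_inv_eq_iff_eq_mul, ← hu, ← map_mul, ← map_mul]
    exact congrArg m (Subtype.ext h2.symm)
  have hWE : W ≤ E := by
    rintro _ ⟨u, hu, rfl⟩
    obtain ⟨g, hg, hgu⟩ : (u : G) ∈ U₂ := hU₂eq.symm ▸ mem_subgroupOf.mp hu
    exact Subtype.ext hgu ▸ hg
  have hne : v ≠ v' := fun e => hv1 (hyfix v hvW (by rw [← hv']; exact e.symm))
  have hv'1 : v' ≠ 1 := fun e => hv1 (conj_eq_one_iff.mp e)
  have hEset : ∀ w ∈ E, w = 1 ∨ w = v ∨ w = v' ∨ w = v * v' := by
    intro w hw
    induction hw using Subgroup.closure_induction with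
    | mem a ha =>
      rcases ha with rfl | ha
      · exact Or.inr (Or.inl rfl)
      · exact Or.inr (Or.inr (Or.inl ha))
    | one => exact Or.inl rfl
    | mul a b _ _ iha ihb =>
      have c := hcomm _ hvW _ hv'W
      have s1 := hsq v hvW
      have s2 := hsq v' hv'W
      have s3 : v * (v * v') = v' := by rw [← mul_assoc, s1, one_mul]
      have s4 : v' * (v * v') = v := by rw [c, ← mul_assoc, s2, one_mul]
      have s5 : v * v' * v = v' := by rw [c, mul_assoc, s1, mul_one]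
      have s6 : v * v' * v' = v := by rw [mul_assoc, s2, mul_one]
      have s7 : v * v' * (v * v') = 1 := by rw [← mul_assoc, s5, s2]
      rcases iha with e | e | e | e <;> rcases ihb with e' | e' | e' | e' <;> rw [e, e'] <;>
        simp [s1, s2, s3, s4, s5, s6, s7, c.symm]
    | inv a ha iha =>
      rw [inv_eq_of_mul_eq_one_left (hsq a (hEW ha))]
      exact iha
  have hW4 : Nat.card W = 4 := by
    have hset : (W : Set (↥Γ ⧸ Φ.subgroupOf Γ)) = {1, v, v', v * v'} := by
      refine Set.Subset.antisymm (fun w hw => ?_) ?_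
      · simpa using hEset w (hWE hw)
      · rintro w (rfl | rfl | rfl | rfl)
        exacts [one_mem W, hvW, hv'W, mul_mem hvW hv'W]
    rw [← SetLike.coe_sort_coe, Nat.card_coe_set_eq, hset, Set.ncard_insert_of_notMem,
      Set.ncard_insert_of_notMem, Set.ncard_pair]
    · intro e; exact hv1 (mul_eq_right.mp e.symm)
    · rintro (e | e)
      · exact hne e
      · exact hv'1 (mul_eq_left.mp e.symm)
    · rintro (e | e | e)
      · exact hv1 e.symm
      · exact hv'1 e.symm
      · rw [Set.mem_singleton_iff, eq_comm, mul_eq_one_iff_eq_inv, inv_eq_of_mul_eq_one_left (hsq v' hv'W)] at e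
        exact hne e
  refine Cfsg.Lib.FusionSys.involves_of_injective Γ.subtype_injective
    (Cfsg.Lib.FusionSys.involves_of_surjective hms
      (involves_four_of_action W hW4 (m X) (m Y) hyfix ⟨v, hvW, hv1, hvx⟩ hzW))

end Cfsg.Lib.Local
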