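import Cfsg.Agent.Lib.Local.QuadraticGenerated
import Cfsg.Agent.Lib.Local.GlaubermanComplement
import Cfsg.Agent.Lib.Thompson.NormalComplementAbelian

/-!
# The Thompson subgroup is normal or has an element acting quadratically on `Z(O_p)`
-/

set_option autoImplicit false
set_option linter.style.haveILetI false

universe u

namespace Cfsg.Lib.Local.QuadraticGen

open Subgroup Cfsg.Lib.Local.GlaubermanZJ

variable {p : ℕ} [hp : Fact p.Prime]

theorem thompson_quadCond (G : Type u) [Group G] [Finite G] (T : Sylow p G) :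
    QuadCond p G T (Cfsg.thompsonSubgroupAOf (T : Subgroup G)) := by
  classical
  intro hW
  set Q := Cfsg.pCore p G with hQdef
  set B := zCore p G with hBdef
  haveI : B.Normal := Cfsg.Lib.Core.normal_map_char_of_normal _
  have hQT : Q ≤ (T : Subgroup G) := Cfsg.Lib.Core.pCore_le_sylow T
  have hBQ : B ≤ Q := map_subtype_le _
  -- some maximal abelian subgroup is not in `Q`
  have hne : {A : Subgroup G | IsMaxAbIn (T : Subgroup G) A ∧ ¬ A ≤ Q}.Nonempty := by
    by_contra h
    rw [Set.nonempty_iff_ne_empty, not_not, Set.eq_empty_iff_forall_notMem] at h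
    refine hW ?_
    have he : Cfsg.thompsonSubgroupAOf (T : Subgroup G) = Cfsg.thompsonSubgroupAOf Q := by
      rw [thompsonSubgroupAOf_eq, thompsonSubgroupAOf_eq]
      congr 1
      ext A
      constructor
      · intro hA
        have hAQ : A ≤ Q := by
          by_contra hn
          exact h A ⟨hA, hn⟩
        exact ⟨hAQ, hA.2.1, fun C hC hCc => hA.2.2 C (hC.trans hQT) hCc⟩
      · intro hA
        obtain ⟨A₀, hA₀⟩ := exists_isMaxAbIn (T : Subgroup G)
        have hA₀Q : A₀ ≤ Q := by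
          by_contra hn
          exact h A₀ ⟨hA₀, hn⟩
        exact ⟨hA.1.trans hQT, hA.2.1,
          fun C hC hCc => (hA₀.2.2 C hC hCc).trans (hA.2.2 A₀ hA₀Q hA₀.2.1)⟩
    rw [he]
    exact normalizer_eq_top_iff.1 (top_le_iff.1 ((normalizer_eq_top_iff.2 inferInstance).ge.trans
      (Cfsg.Lib.ThompsonA.normalizer_le_normalizer_thompsonSubgroupAOf Q)))
  obtain ⟨A, ⟨hA, hAQ⟩, hmax⟩ := Set.exists_max_image _ (fun A => Nat.card ↥(A ⊓ B)) (Set.toFinite _) hne
  have hAB : B ≤ normalizer (A : Set G) := by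
    by_contra hnot
    set P := (T : Subgroup G)
    set N := normalizer (A : Set G) ⊓ P with hN
    have hBP : B ≤ P := hBQ.trans hQT
    have hNlt : N < N ⊔ B := lt_of_le_not_ge le_sup_left fun h =>
      hnot ((le_sup_right.trans h).trans inf_le_left)
    have hNBp : IsPGroup p (N ⊔ B : Subgroup G) := T.isPGroup'.to_le (sup_le inf_le_right hBP)
    obtain ⟨g, ⟨hgM, hgN⟩, hgnot⟩ :=
      SetLike.exists_of_lt (Cfsg.Lib.Fusion.lt_inf_normalizer hNBp hNlt)
    obtain ⟨n, hn, b, hb, rfl⟩ := mem_sup_of_normal_right.1 hgM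
    have hbN : b ∈ normalizer (N : Set G) := by
      simpa using mul_mem (inv_mem (le_normalizer hn)) hgN
    have hbA : b ∉ normalizer (A : Set G) := fun h => hgnot (mul_mem hn ⟨h, hBP hb⟩)
    have hAN : A ≤ N := le_inf le_normalizer hA.1
    have h1 : A.map (MulAut.conj b).toMonoidHom ≤ normalizer (A : Set G) := by
      rintro _ ⟨a, ha, rfl⟩
      exact ((mem_normalizer_iff.1 hbN a).1 (hAN ha)).1
    have h2 : A ≤ normalizer ((A.map (MulAut.conj b).toMonoidHom : Subgroup G) : Set G) := fun a ha => by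
      have h3 : b⁻¹ * a * b ∈ normalizer (A : Set G) := by
        have := ((mem_normalizer_iff.1 (inv_mem hbN) a).1 (hAN ha)).1
        simpa using this
      refine mem_normalizer_fintype fun x hx => ?_
      obtain ⟨y, hy, rfl⟩ := hx
      exact ⟨_, (mem_normalizer_iff.1 h3 y).1 hy, by simp [mul_assoc]⟩
    have hBB : ⁅B, B⁆ = ⊥ := by
      refine le_bot_iff.1 (commutator_le.2 fun x hx y hy => mem_bot.2 ?_)
      exact commutatorElement_eq_one_iff_mul_comm.2 (commute_of_mem_zCore hx (hBQ hy)).eq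
    obtain ⟨r1, r2, -, r4, r5, -⟩ := repl_spec hA.2.1 (hBB.trans_le bot_le)
      (fun x hx _ => mem_bot.1 (hBB.le hx)) hb h1 h2 hbA
    have hrP : repl A b ≤ P := sup_le (inf_le_left.trans hA.1) ((closure_le _).2 (by
      rintro _ ⟨a, ha, rfl⟩
      exact mul_mem (mul_mem (mul_mem (hBP hb) (hA.1 ha)) (inv_mem (hBP hb))) (inv_mem (hA.1 ha))))
    have hr : IsMaxAbIn P (repl A b) := ⟨hrP, r1, fun C hC hCc => (hA.2.2 C hC hCc).trans r2⟩
    by_cases hrQ : repl A b ≤ Q
    · exact hnot (fun x hx => r5 (hr.mem_of_commute (hBP hx) fun a ha => commute_of_mem_zCore hx (hrQ ha)))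
    · have hle := hmax _ ⟨hr, hrQ⟩
      exact r4.not_ge (Subgroup.eq_of_le_of_card_ge r4.le hle).ge
  obtain ⟨g, hgA, hgQ⟩ := SetLike.not_le_iff_exists.1 hAQ
  refine ⟨g, hA.1 hgA, hgQ, ?_⟩
  have hg : zpowers g ≤ A := zpowers_le.2 hgA
  have h1 : ⁅B, A⁆ ≤ A := commutator_le.2 fun x hx a ha =>
    mul_mem ((mem_normalizer_iff.1 (hAB hx) a).1 ha) (inv_mem ha)
  refine le_bot_iff.1 ((commutator_mono (commutator_mono le_rfl hg) hg).trans ?_)
  refine (commutator_mono h1 le_rfl).trans (commutator_le.2 fun x hx y hy => mem_bot.2 ?_)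
  exact commutatorElement_eq_one_iff_mul_comm.2
    (congrArg Subtype.val (hA.2.1.is_comm.comm ⟨x, hx⟩ ⟨y, hy⟩))

theorem thompson_map (G H : Type u) [Group G] [Group H] [Finite G] [Finite H] (f : G →* H)
    (hf : Function.Injective f) (T : Subgroup G) :
    (Cfsg.thompsonSubgroupAOf T).map f = Cfsg.thompsonSubgroupAOf (T.map f) :=
  Cfsg.Lib.ThompsonA.map_thompsonSubgroupAOf f T hf.injOn

end Cfsg.Lib.Local.QuadraticGen
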