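import Cfsg.Agent.Lib.Local.GlaubermanComplement

/-!
# Groups with a maximal Sylow subgroup

* `isPStableOn_of_maximal_sylow`: for odd `p`, a group in which a Sylow `p`-subgroup is maximal is
  `p`-stable on its normal `p`-subgroups.
* `exists_pStable_overgroup`: a constrained group which is not a `p`-group has such an overgroup
  of a Sylow subgroup.
-/

set_option autoImplicit false
set_option linter.style.haveILetI false

universe u

namespace Cfsg.Lib.Local.GlaubermanZJ

open Subgroup Cfsg Cfsg.Lib.Fusion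
open scoped commutatorElement

variable {p : ℕ} [hp : Fact p.Prime] {G : Type u} [Group G] [Finite G]

/-- For odd `p`, a group with a maximal Sylow `p`-subgroup is `p`-stable. -/
theorem isPStableOn_of_maximal_sylow (h2 : p ≠ 2) (P : Sylow p G)
    (hmax : ∀ M : Subgroup G, (P : Subgroup G) ≤ M → M = P ∨ M = ⊤) :
    ∀ (V : Subgroup G) [V.Normal], IsPGroup p V → IsPStableOn p V := by
  by_cases hPtop : (P : Subgroup G) = ⊤
  · intro V _ _ a _
    have hG : IsPGroup p G := (hPtop ▸ P.2 : IsPGroup p (⊤ : Subgroup G)).of_equiv topEquiv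
    refine Cfsg.Lib.Core.le_pCore' (N := ⊤) inferInstance ?_ (mem_top _)
    exact (hG.to_quotient _).to_subgroup _
  have hover : ∀ M : Subgroup G, (P : Subgroup G) ≤ M → M ≠ ⊤ → M = (P : Subgroup G) :=
    fun M hM hne => (hmax M hM).resolve_right hne
  set H := pCore p G with hHdef
  have hHp : IsPGroup p H := Cfsg.Lib.Core.pCore_isPGroup p G
  have hHP : H ≤ (P : Subgroup G) := Cfsg.Lib.Core.pCore_le_sylow P
  set q := QuotientGroup.mk' H with hq
  have hqs : Function.Surjective q := QuotientGroup.mk'_surjective _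
  have hker : q.ker = H := QuotientGroup.ker_mk' _
  -- the quotient has a normal `p`-complement
  have hbarN : HasNormalPComplement p (G ⧸ H) := by
    set Pq := P.mapSurjective hqs with hPq
    have hPqmax : ∀ K : Subgroup (G ⧸ H), (Pq : Subgroup (G ⧸ H)) ≤ K → K ≠ ⊤ →
        K = (Pq : Subgroup (G ⧸ H)) := fun K hK hne => by
      rw [P.coe_mapSurjective hqs] at hK ⊢
      have h := hover (K.comap q) (map_le_iff_le_comap.1 hK) fun h => hne (by
        rw [← map_comap_eq_self_of_surjective hqs K, h, map_top_of_surjective q hqs])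
      rw [← h, map_comap_eq_self_of_surjective hqs]
    by_cases hP0 : (Pq : Subgroup (G ⧸ H)) = ⊥
    · refine hasNormalPComplement_of_coprime ?_
      refine (Nat.Prime.coprime_iff_not_dvd hp.out).2 (fun hd => ?_) |>.symm
      exact Pq.ne_bot_of_dvd_card hd hP0
    have hO : pCore p (G ⧸ H) = ⊥ := Cfsg.Lib.Core.pCore_quotient_pCore_eq_bot
    have hJP := Thompson.thompsonSubgroupOf_le (p := p) (Pq : Subgroup (G ⧸ H))
    refine Thompson.thompson_normal_p_complement h2 Pq ⟨?_, ?_⟩
    · rw [hPqmax _ (le_normalizer.trans (Thompson.normalizer_le_normalizer_thompsonSubgroupOf _))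
        fun h => Thompson.thompsonSubgroupOf_ne_bot Pq.2 hP0 (le_bot_iff.1 (hO ▸
          Cfsg.Lib.Core.le_pCore' (normalizer_eq_top_iff.1 h) (Pq.2.to_le hJP)))]
      exact hasNormalPComplement_of_isPGroup Pq.2
    · rw [hPqmax _ (le_centralizer_iff.mp inf_le_right) fun h =>
        Thompson.zenter_ne_bot Pq.2 hP0 (le_bot_iff.1 (hO ▸
          Cfsg.Lib.Core.le_pCore' (N := Thompson.zenter (Pq : Subgroup (G ⧸ H))) ⟨fun z hz g => by
            have h1 : z * g = g * z := mem_centralizer_iff.mp (h.symm ▸ mem_top g) z hz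
            rw [← h1, mul_inv_cancel_right]
            exact hz⟩ (Pq.2.to_le inf_le_left)))]
      exact hasNormalPComplement_of_isPGroup Pq.2
  set R := pResidual p (G ⧸ H) with hR
  have hRcop : (Nat.card R).Coprime p := hasNormalPComplement_iff_coprime.mp hbarN
  -- the residual of the quotient is abelian
  set Pb := (P : Subgroup G).map q with hPb
  have hPbp : IsPGroup p Pb := P.2.map q
  obtain ⟨kP, hkP⟩ := IsPGroup.iff_card.mp hPbp
  have hRPb : R ⊓ Pb = ⊥ := disjoint_iff.mp (Cfsg.Lib.Coprime.disjoint_of_coprime_card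
    (by rw [hkP]; exact hRcop.pow_right kP))
  have hgen : ∀ K : Subgroup (G ⧸ H), K ≤ R → Pb ≤ normalizer (K : Set (G ⧸ H)) → K ≠ ⊥ →
      K = R := by
    intro K hKR hPK hK0
    by_cases hM : (K ⊔ Pb).comap q = ⊤
    · refine le_antisymm hKR fun r hr => ?_
      have htop : K ⊔ Pb = ⊤ := by
        rw [← map_comap_eq_self_of_surjective hqs (K ⊔ Pb), hM, map_top_of_surjective q hqs]
      obtain ⟨k, hk, s, hs, rfl⟩ :=
        Cfsg.Lib.Coprime.exists_mul_of_mem_sup hPK (htop ▸ mem_top r : r ∈ K ⊔ Pb)
      have hsR : s ∈ R ⊓ Pb := ⟨by simpa using R.mul_mem (R.inv_mem (hKR hk)) hr, hs⟩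
      rw [hRPb, mem_bot] at hsR
      rw [hsR, mul_one]; exact hk
    · have h := hover _ (by rw [← map_le_iff_le_comap]; exact le_sup_right) hM
      refine absurd (le_bot_iff.mp (hRPb ▸ le_inf hKR ?_)) hK0
      rw [hPb, ← h, map_comap_eq_self_of_surjective hqs]
      exact le_sup_left
  have hRnorm : ∀ K : Subgroup (G ⧸ H), K ≤ normalizer (R : Set (G ⧸ H)) := fun K => by
    rw [normalizer_eq_top]; exact le_top
  have hRsol : Group.IsSolvable R := by
    by_cases hR0 : R = ⊥
    · haveI : Subsingleton R := by rw [hR0]; infer_instance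
      infer_instance
    have h1 : Nat.card R ≠ 1 := fun h => hR0 (card_eq_one.mp h)
    obtain ⟨q₀, hq₀, hd⟩ := Nat.exists_prime_and_dvd h1
    have : Fact q₀.Prime := ⟨hq₀⟩
    obtain ⟨Q, hQ⟩ := Cfsg.Lib.Coprime.exists_invariant_sylow (hRnorm Pb)
      (by rw [hkP]; exact (hRcop.pow_right kP).symm)
      (Or.inl (by have := hPbp.isNilpotent; infer_instance)) q₀
    have hQR := hgen _ (map_subtype_le _) hQ (by
      rw [ne_eq, Subgroup.map_eq_bot_iff_of_injective _ R.subtype_injective]
      exact Q.ne_bot_of_dvd_card hd)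
    have hRq : IsPGroup q₀ R := hQR ▸ Q.2.map _
    have := hRq.isNilpotent
    infer_instance
  have hRab : ⁅R, R⁆ = ⊥ := by
    by_contra hne'
    have heq := hgen _ (commutator_le_self R)
      (by have : (⁅R, R⁆ : Subgroup (G ⧸ H)).Normal := inferInstance
          rw [normalizer_eq_top]; exact le_top) hne'
    have : Nontrivial R := (nontrivial_iff_ne_bot R).mpr fun h0 => hne' (by rw [h0]; simp)
    refine (Group.IsSolvable.commutator_lt_top_of_nontrivial R).ne (map_injective R.subtype_injective ?_)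
    rw [map_subtype_commutator, heq, ← MonoidHom.range_eq_map, range_subtype]
  -- `p`-stability
  set M := R.comap q with hM
  have hst : ∀ (V : Subgroup G) [V.Normal], IsPGroup p V → IsPStableOn p V := fun V _ hV => by
    refine isPStableOn_of_abelian_quotient h2 (H := H) (M := M) hHp ?_ hRcop ?_ ?_ V hV
    · rw [← hker, ← Subgroup.map_eq_bot_iff, Subgroup.map_commutator, hM,
        map_comap_eq_self_of_surjective hqs, hRab]
    · intro x hx
      refine (QuotientGroup.eq_one_iff _).1 ?_
      show q (x ^ Nat.card R) = 1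
      rw [map_pow]
      exact congrArg Subtype.val (pow_card_eq_one' (x := (⟨q x, hx⟩ : R)))
    · obtain ⟨k, hk⟩ := index_pResidual_eq_pow (p := p) (G := G ⧸ H)
      refine IsPGroup.of_card (n := k) ?_
      show M.index = p ^ k
      rw [hM, index_comap_of_surjective _ hqs, hk]
  exact hst

/-- A constrained group which is not a `p`-group has a `p`-stable constrained subgroup, not a
`p`-group, containing a Sylow subgroup. -/
theorem exists_pStable_overgroup (h2 : p ≠ 2) (P : Sylow p G)
    (hc : centralizer (pCore p G : Set G) ≤ pCore p G) (hG : ¬ IsPGroup p G) :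
    ∃ (M : Subgroup G) (hPM : (P : Subgroup G) ≤ M), ¬ IsPGroup p M ∧
      centralizer (pCore p M : Set M) ≤ pCore p M ∧
      ∀ (V : Subgroup M) [V.Normal], IsPGroup p V → IsPStableOn p V := by
  have hPtop : (P : Subgroup G) < ⊤ := lt_top_iff_ne_top.2 fun h =>
    hG ((h ▸ P.2 : IsPGroup p (⊤ : Subgroup G)).of_equiv topEquiv)
  obtain ⟨M, hPM, hmin⟩ := (Set.toFinite {M : Subgroup G | (P : Subgroup G) < M}).exists_minimal
    ⟨⊤, hPtop⟩
  simp only [Set.mem_setOf_eq] at hPM hmin
  refine ⟨M, hPM.le, fun h => hPM.ne (P.3 h hPM.le).symm, ?_, ?_⟩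
  · intro x hx
    have hOM : pCore p G ≤ M := (Cfsg.Lib.Core.pCore_le_sylow P).trans hPM.le
    have hle : (pCore p G).subgroupOf M ≤ pCore p M := Cfsg.Lib.Core.le_pCore' inferInstance
      ((Cfsg.Lib.Core.pCore_isPGroup p G).of_equiv (subgroupOfEquivOfLe hOM).symm)
    exact hle (hc (mem_centralizer_iff.2 fun y hy =>
      congrArg Subtype.val (mem_centralizer_iff.1 hx ⟨y, hOM hy⟩ (hle hy))))
  · refine isPStableOn_of_maximal_sylow h2 (P.subtype hPM.le) fun N hN => ?_
    rw [Sylow.coe_subtype] at hN ⊢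
    have hle : (P : Subgroup G) ≤ N.map M.subtype := fun x hx => ⟨⟨x, hPM.le hx⟩, hN hx, rfl⟩
    rcases eq_or_lt_of_le hle with he | hlt
    · left
      refine map_injective M.subtype_injective ?_
      rw [map_subgroupOf_eq_of_le hPM.le]
      exact he.symm
    · right
      refine map_injective M.subtype_injective ?_
      rw [← MonoidHom.range_eq_map, range_subtype]
      exact le_antisymm (map_subtype_le N) (hmin hlt (map_subtype_le N))

end Cfsg.Lib.Local.GlaubermanZJ
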