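import Cfsg.Agent.Lib.Local.GlaubermanComplement
import Cfsg.Agent.Lib.Local.SFour
import Cfsg.Agent.Lib.Invol.BaerSuzuki
import Cfsg.Agent.Lib.Invol.Basic
import Cfsg.Agent.Lib.Solv.Frobenius
import Mathlib.FieldTheory.Finite.Basic

/-!
# Central elements of the normalizer of a Thompson subgroup are weakly closed

The key point is a transfer argument: if `V` is a normal abelian `p`-subgroup generated by the conjugates of
an element fixed by a Sylow `p`-subgroup `T`, then the product of a conjugacy class meets only the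
point fixed by the minimal offenders on `V`.
-/

set_option autoImplicit false
set_option linter.style.haveILetI false

namespace Cfsg.Lib.Local.Central

open Subgroup Cfsg
open scoped commutatorElement

universe u

variable {H : Type u} [Group H] [Finite H] {p : ℕ} [hp : Fact p.Prime]

/-- `A ≤ T` acts on `V` as an abelian offender none of whose nontrivially acting proper subgroups
is an offender. -/
def IsMinOffender (V T A : Subgroup H) : Prop :=
  A ≤ T ∧ (∀ a ∈ A, ∀ b ∈ A, ⁅a, b⁆ ∈ centralizer (V : Set H)) ∧ ¬ A ≤ centralizer (V : Set H) ∧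
    Nat.card V * Nat.card ↥(A ⊓ centralizer (V : Set H)) ≤
      Nat.card A * Nat.card ↥(V ⊓ centralizer (A : Set H)) ∧
    ∀ B < A, ¬ B ≤ centralizer (V : Set H) →
      Nat.card B * Nat.card ↥(V ⊓ centralizer (B : Set H)) <
        Nat.card V * Nat.card ↥(B ⊓ centralizer (V : Set H))

theorem exists_isMinOffender {V T A₀ : Subgroup H} (hA₀T : A₀ ≤ T)
    (hc : ∀ a ∈ A₀, ∀ b ∈ A₀, ⁅a, b⁆ ∈ centralizer (V : Set H))
    (hne : ¬ A₀ ≤ centralizer (V : Set H))
    (hoff : Nat.card V * Nat.card ↥(A₀ ⊓ centralizer (V : Set H)) ≤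
      Nat.card A₀ * Nat.card ↥(V ⊓ centralizer (A₀ : Set H))) :
    ∃ A, IsMinOffender V T A := by
  obtain ⟨A, ⟨hAT, hAc, hAne, hA⟩, hmin⟩ := Set.Finite.exists_minimal
    (s := {A : Subgroup H | A ≤ T ∧ (∀ a ∈ A, ∀ b ∈ A, ⁅a, b⁆ ∈ centralizer (V : Set H)) ∧
      ¬ A ≤ centralizer (V : Set H) ∧ Nat.card V * Nat.card ↥(A ⊓ centralizer (V : Set H)) ≤
        Nat.card A * Nat.card ↥(V ⊓ centralizer (A : Set H))})
    (Set.toFinite _) ⟨A₀, hA₀T, hc, hne, hoff⟩
  refine ⟨A, hAT, hAc, hAne, hA, fun B hB hBne => ?_⟩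
  by_contra h
  push Not at h
  exact hB.not_ge (hmin ⟨hB.le.trans hAT,
    fun a ha b hb => hAc a (hB.le ha) b (hB.le hb), hBne, h⟩ hB.le)

omit [Finite H] in
theorem map_conj_centralizer (g : H) (A : Subgroup H) :
    (centralizer (A : Set H)).map (MulAut.conj g).toMonoidHom =
      centralizer ((A.map (MulAut.conj g).toMonoidHom : Subgroup H) : Set H) := by
  ext x
  simp only [mem_map, mem_centralizer_iff, SetLike.mem_coe]
  constructor
  · rintro ⟨c, hc, rfl⟩ _ ⟨a, ha, rfl⟩
    rw [← map_mul, ← map_mul, hc a ha]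
  · intro hx
    refine ⟨g⁻¹ * x * g, fun a ha => ?_, by simp [mul_assoc]⟩
    have := hx _ ⟨a, ha, rfl⟩
    have h1 : g * a * g⁻¹ * x = x * (g * a * g⁻¹) := this
    calc a * (g⁻¹ * x * g) = g⁻¹ * (g * a * g⁻¹ * x) * g := by group
      _ = g⁻¹ * (x * (g * a * g⁻¹)) * g := by rw [h1]
      _ = g⁻¹ * x * g * a := by group

theorem IsMinOffender.map_conj {V T A : Subgroup H} [V.Normal] (hA : IsMinOffender V T A) (g : H)
    (hle : A.map (MulAut.conj g).toMonoidHom ≤ T) :
    IsMinOffender V T (A.map (MulAut.conj g).toMonoidHom) := by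
  set φ := (MulAut.conj g).toMonoidHom with hφ
  have hinj : Function.Injective φ := (MulAut.conj g).injective
  have hV : V.map φ = V := by
    refine eq_of_le_of_card_ge ?_ (card_map_of_injective hinj).ge
    rintro _ ⟨v, hv, rfl⟩
    exact ‹V.Normal›.conj_mem v hv g
  have hK : (centralizer (V : Set H)).map φ = centralizer (V : Set H) := by
    rw [hφ, map_conj_centralizer, ← hφ, hV]
  have e1 : ∀ B : Subgroup H, Nat.card ↥(B.map φ ⊓ centralizer (V : Set H)) =
      Nat.card ↥(B ⊓ centralizer (V : Set H)) := fun B => by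
    conv_lhs => rw [← hK, ← map_inf _ _ _ hinj]
    exact card_map_of_injective hinj
  have e2 : ∀ B : Subgroup H, Nat.card ↥(V ⊓ centralizer ((B.map φ : Subgroup H) : Set H)) =
      Nat.card ↥(V ⊓ centralizer (B : Set H)) := fun B => by
    conv_lhs => rw [hφ, ← map_conj_centralizer, ← hφ, ← hV, ← map_inf _ _ _ hinj]
    exact card_map_of_injective hinj
  obtain ⟨-, hAc, hAne, hA', hmin⟩ := hA
  refine ⟨hle, ?_, fun h => hAne ?_, ?_, fun B hB hBne => ?_⟩
  · rintro _ ⟨a, ha, rfl⟩ _ ⟨b, hb, rfl⟩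
    rw [← map_commutatorElement, ← hK]
    exact ⟨_, hAc a ha b hb, rfl⟩
  · rwa [← hK, map_le_map_iff_of_injective hinj] at h
  · rw [e1, e2, card_map_of_injective hinj]; exact hA'
  · obtain ⟨B₀, rfl⟩ : ∃ B₀, B₀.map φ = B :=
      ⟨B.comap φ, map_comap_eq_self_of_surjective (MulAut.conj g).surjective B⟩
    rw [e1, e2, card_map_of_injective hinj]
    refine hmin B₀ ⟨(map_le_map_iff_of_injective hinj).mp hB.le,
      fun h => hB.not_ge (map_mono h)⟩ fun h => hBne ?_
    rw [← hK]; exact map_mono h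

/-- An element of a `p`-group acting on an abelian `p`-group with a fixed subgroup of index at most `p`. -/
theorem commutator_mem_of_index_le {V U : Subgroup H} (hUV : U ≤ V)
    (hVc : ∀ a ∈ V, ∀ b ∈ V, Commute a b) (hV : IsPGroup p V)
    (hidx : Nat.card V ≤ p * Nat.card U) {a : H} (ha : ∃ k, orderOf a = p ^ k)
    (haV : ∀ v ∈ V, a * v * a⁻¹ ∈ V) (haU : ∀ u ∈ U, a * u * a⁻¹ = u) :
    ∀ v ∈ V, a * v * a⁻¹ * v⁻¹ ∈ U ∧ v ^ p ∈ U := by
  intro v hv
  have hn : (U.subgroupOf V).Normal :=
    ⟨fun u hu g => by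
      have : g * u * g⁻¹ = u := Subtype.ext (by
        show (g : H) * u * (g : H)⁻¹ = u
        rw [(hVc g g.2 u u.2).eq, mul_inv_cancel_right])
      rw [this]; exact hu⟩
  have hcard : Nat.card (U.subgroupOf V) = Nat.card U :=
    Nat.card_congr (subgroupOfEquivOfLe hUV).toEquiv
  have hidx' : (U.subgroupOf V).index ≤ p := by
    refine Nat.le_of_mul_le_mul_left (?_ : Nat.card U * _ ≤ Nat.card U * p) Nat.card_pos
    rw [← hcard, card_mul_index, hcard, mul_comm]
    exact hidx
  obtain ⟨i, hi⟩ := hV.index (U.subgroupOf V)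
  have hi1 : i ≤ 1 := (Nat.pow_le_pow_iff_right hp.out.one_lt).mp (by rw [pow_one, ← hi]; exact hidx')
  have hvp : ∀ w ∈ V, w ^ p ∈ U := by
    intro w hw
    have h1 := pow_index_mem (U.subgroupOf V) ⟨w, hw⟩
    rw [mem_subgroupOf] at h1
    have h2 : w ^ (p ^ i) ∈ U := by simpa [hi] using h1
    interval_cases i
    · rw [pow_zero, pow_one] at h2; exact pow_mem h2 p
    · rwa [pow_one] at h2
  refine ⟨?_, hvp v hv⟩
  by_cases hvU : v ∈ U
  · rw [haU v hvU, mul_inv_cancel]; exact one_mem U
  -- `V` is generated by `U` and `v`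
  have htop : ∀ w ∈ V, ∃ j : ℕ, w * (v ^ j)⁻¹ ∈ U := by
    intro w hw
    haveI := hn
    have hi' : i = 1 := by
      rcases Nat.lt_or_ge i 1 with h | h
      · exfalso
        rw [Nat.lt_one_iff.mp h, pow_zero, index_eq_one] at hi
        exact hvU (mem_subgroupOf.mp (hi ▸ mem_top (⟨v, hv⟩ : V)))
      · omega
    rw [hi', pow_one] at hi
    haveI : Fact (Nat.card (↥V ⧸ U.subgroupOf V)).Prime := ⟨by rw [← index_eq_card, hi]; exact hp.out⟩
    have hne : ((⟨v, hv⟩ : V) : ↥V ⧸ U.subgroupOf V) ≠ 1 := fun h =>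
      hvU (mem_subgroupOf.mp ((QuotientGroup.eq_one_iff _).mp h))
    have hmem : ((⟨w, hw⟩ : V) : ↥V ⧸ U.subgroupOf V) ∈
        zpowers ((⟨v, hv⟩ : V) : ↥V ⧸ U.subgroupOf V) := by
      rw [zpowers_eq_top_of_prime_card rfl hne]; exact mem_top _
    obtain ⟨j, hj⟩ := (isOfFinOrder_of_finite _).mem_powers_iff_mem_zpowers.mpr hmem
    refine ⟨j, ?_⟩
    have : (((⟨w, hw⟩ : V) * (⟨v, hv⟩ ^ j)⁻¹ : V) : ↥V ⧸ U.subgroupOf V) = 1 := by
      rw [QuotientGroup.mk_mul, QuotientGroup.mk_inv, QuotientGroup.mk_pow, mul_inv_eq_one]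
      exact hj.symm
    simpa using mem_subgroupOf.mp ((QuotientGroup.eq_one_iff _).mp this)
  obtain ⟨j, hj⟩ := htop _ (haV v hv)
  have hiter : ∀ n : ℕ, a ^ n * v * (a ^ n)⁻¹ * (v ^ (j ^ n))⁻¹ ∈ U := by
    intro n
    induction n with
    | zero => simp
    | succ n ih =>
      have e : a ^ (n + 1) * v * (a ^ (n + 1))⁻¹ * (v ^ (j ^ (n + 1)))⁻¹ =
          a * (a ^ n * v * (a ^ n)⁻¹ * (v ^ (j ^ n))⁻¹) * a⁻¹ *
            ((a * v * a⁻¹) ^ (j ^ n) * ((v ^ j) ^ (j ^ n))⁻¹) := by
        rw [conj_pow, ← pow_mul, pow_succ' a n, pow_succ' j n]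
        group
      rw [e]
      refine mul_mem (by rw [haU _ ih]; exact ih) ?_
      rw [← inv_pow, ← (hVc _ (haV v hv) _ (inv_mem (pow_mem hv j))).mul_pow]
      exact pow_mem hj _
  obtain ⟨k, hk⟩ := ha
  have h1 := hiter (p ^ k)
  rw [← hk, pow_orderOf_eq_one, one_mul, inv_one, mul_one, hk] at h1
  have h2 : v ^ (((j : ℤ) ^ p ^ k) - 1) ∈ U := by
    have := inv_mem h1
    rw [mul_inv_rev, inv_inv] at this
    rw [zpow_sub, zpow_one, ← Nat.cast_pow, zpow_natCast]
    exact this
  have hdvd : (p : ℤ) ∣ ((j : ℤ) ^ p ^ k) - 1 := by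
    by_contra h
    have hpri : Prime (p : ℤ) := Nat.prime_iff_prime_int.mp hp.out
    obtain ⟨r, s, hrs⟩ := hpri.coprime_iff_not_dvd.mpr h
    refine hvU ?_
    rw [← zpow_one v, ← hrs, zpow_add, mul_comm r, zpow_mul, mul_comm s, zpow_mul, zpow_natCast]
    exact mul_mem (zpow_mem (hvp v hv) r) (zpow_mem h2 s)
  have hjp : (p : ℤ) ∣ (j : ℤ) - 1 := by
    rw [← ZMod.intCast_zmod_eq_zero_iff_dvd] at hdvd ⊢
    push_cast at hdvd ⊢
    rwa [ZMod.pow_card_pow] at hdvd
  obtain ⟨t, ht⟩ := hjp
  have e : a * v * a⁻¹ * v⁻¹ = a * v * a⁻¹ * (v ^ j)⁻¹ * (v ^ p) ^ t := by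
    rw [mul_assoc (a * v * a⁻¹), ← zpow_natCast v j, ← zpow_natCast v p, ← zpow_mul, ← zpow_neg,
      ← zpow_add, ← ht]
    congr 1
    rw [show -(j : ℤ) + ((j : ℤ) - 1) = -1 by ring, zpow_neg_one]
  rw [e]
  exact mul_mem hj (zpow_mem (hvp v hv) t)

/-- Two elements acting as transvections give, in an `S₄`-free group, a `2`-group of operators. -/
theorem transvection_le_normal (hS : ¬ Cfsg.Involves (Equiv.Perm (Fin 4)) H) {V : Subgroup H}
    [V.Normal] (hVc : ∀ a ∈ V, ∀ b ∈ V, Commute a b) (hV : IsPGroup 2 V) {a : H}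
    (ha : ∃ k, orderOf a = 2 ^ k) (hidx : Nat.card V ≤ 2 * Nat.card ↥(V ⊓ centralizer ({a} : Set H))) :
    ∃ N : Subgroup H, N.Normal ∧ a ∈ N ∧ centralizer (V : Set H) ≤ N ∧
      ∀ n ∈ N, ∃ k : ℕ, n ^ (2 ^ k) ∈ centralizer (V : Set H) := by
  classical
  haveI : Fact (Nat.Prime 2) := ⟨Nat.prime_two⟩
  set U := V ⊓ centralizer ({a} : Set H) with hU
  set K := centralizer (V : Set H) with hK
  have hVn : V.Normal := inferInstance
  have haU : ∀ u ∈ U, a * u * a⁻¹ = u := fun u hu => by
    rw [mem_centralizer_iff.mp hu.2 a rfl, mul_inv_cancel_right]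
  have hkey := commutator_mem_of_index_le (inf_le_left : U ≤ V) hVc hV hidx ha
    (fun v hv => hVn.conj_mem v hv a) haU
  have hmemK : ∀ c : H, (∀ v ∈ V, c * v * c⁻¹ = v) → c ∈ K := fun c hc =>
    mem_centralizer_iff.mpr fun v hv => (mul_inv_eq_iff_eq_mul.mp (hc v hv)).symm
  have hVi : ∀ v ∈ V, a * v * a⁻¹ * v⁻¹ * (a * v * a⁻¹ * v⁻¹) = 1 := by
    intro v hv
    have hmap : a * v * a⁻¹ * v⁻¹ * (a * v * a⁻¹ * v⁻¹) = a * (v * v) * a⁻¹ * (v * v)⁻¹ := by
      have hc : Commute (a * v * a⁻¹) v⁻¹ := hVc _ (hVn.conj_mem v hv a) _ (inv_mem hv)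
      rw [hc.symm.mul_mul_mul_comm, mul_inv_rev]
      group
    rw [hmap, haU _ (by rw [← pow_two]; exact (hkey v hv).2), mul_inv_cancel]
  have ha2 : a * a ∈ K := hmemK _ fun v hv => by
    have h1 := (hkey v hv).1
    calc a * a * v * (a * a)⁻¹ = a * (a * v * a⁻¹ * v⁻¹) * a⁻¹ * (a * v * a⁻¹ * v⁻¹) * v := by group
      _ = v := by rw [haU _ h1, hVi v hv, one_mul]
  by_cases haK : a ∈ K
  · exact ⟨K, inferInstance, haK, le_rfl, fun n hn => ⟨0, by simpa using hn⟩⟩
  have hKn : K.Normal := inferInstance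
  let π := QuotientGroup.mk' K
  have hπ : ∀ g : H, π g = 1 ↔ g ∈ K := fun g => QuotientGroup.eq_one_iff g
  have hπs : Function.Surjective π := QuotientGroup.mk'_surjective _
  have hπa : orderOf (π a) = 2 :=
    Invol.orderOf_eq_two_of (fun h => haK ((hπ a).mp h)) (by rw [← map_mul]; exact (hπ _).mpr ha2)
  -- one dimensional image
  obtain ⟨e, he1, heU, hie⟩ : ∃ e, e * e = 1 ∧ e ∈ U ∧
      ∀ v ∈ V, a * v * a⁻¹ * v⁻¹ = 1 ∨ a * v * a⁻¹ * v⁻¹ = e := by
    obtain ⟨v₀, hv₀, hv₀'⟩ : ∃ v₀ ∈ V, a * v₀ * a⁻¹ ≠ v₀ := by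
      by_contra h
      push Not at h
      exact haK (hmemK a h)
    refine ⟨_, hVi v₀ hv₀, (hkey v₀ hv₀).1, fun v hv => ?_⟩
    by_cases hvU : v ∈ U
    · left; rw [haU v hvU, mul_inv_cancel]
    right
    have hv₀U : v₀ ∉ U := fun h => hv₀' (haU v₀ h)
    have hdiff : v₀⁻¹ * v ∈ U := by
      have hn : U.subgroupOf V ≠ ⊤ := fun h =>
        hv₀U (mem_subgroupOf.mp (h ▸ mem_top (⟨v₀, hv₀⟩ : V)))
      have hi : (U.subgroupOf V).index = 2 := by
        have h1 : Nat.card U * (U.subgroupOf V).index = Nat.card V := by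
          rw [← Nat.card_congr (subgroupOfEquivOfLe (inf_le_left : U ≤ V)).toEquiv]
          exact card_mul_index _
        have h2 : (U.subgroupOf V).index ≤ 2 := Nat.le_of_mul_le_mul_left
          (h1.le.trans (hidx.trans (le_of_eq (mul_comm _ _)))) Nat.card_pos
        have h3 : (U.subgroupOf V).index ≠ 0 := FiniteIndex.index_ne_zero
        have h4 : (U.subgroupOf V).index ≠ 1 := fun h => hn (index_eq_one.mp h)
        omega
      have := (mul_mem_iff_of_index_two hi (a := (⟨v₀, hv₀⟩ : V)⁻¹) (b := ⟨v, hv⟩)).mpr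
        (iff_of_false (fun h => hv₀U (by simpa [mem_subgroupOf] using h))
          (fun h => hvU (mem_subgroupOf.mp h)))
      simpa [mem_subgroupOf] using this
    have e' : v = v₀ * (v₀⁻¹ * v) := by group
    rw [e', show a * (v₀ * (v₀⁻¹ * v)) * a⁻¹ = a * v₀ * a⁻¹ * (a * (v₀⁻¹ * v) * a⁻¹) by group,
      haU _ hdiff]
    group
  -- all products of two conjugates are `2`-elements modulo `K`
  have hpair : ∀ g : H, ∃ k : ℕ, π (a * (g * a * g⁻¹)) ^ (2 ^ k) = 1 := by
    intro g
    set b := g * a * g⁻¹ with hb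
    set f := g * e * g⁻¹ with hf
    set d := a * b with hd
    have hbi : ∀ v ∈ V, b * v * b⁻¹ * v⁻¹ = 1 ∨ b * v * b⁻¹ * v⁻¹ = f := by
      intro v hv
      have hv' : g⁻¹ * v * g ∈ V := by simpa using hVn.conj_mem v hv g⁻¹
      have e' : b * v * b⁻¹ * v⁻¹ =
          g * (a * (g⁻¹ * v * g) * a⁻¹ * (g⁻¹ * v * g)⁻¹) * g⁻¹ := by rw [hb]; group
      rcases hie _ hv' with h | h
      · left; rw [e', h]; group
      · right; rw [e', h]
    have heV : e ∈ V := heU.1
    have hfV : f ∈ V := hVn.conj_mem e heV g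
    set T := closure ({e, f} : Set H) with hT
    have hTV : T ≤ V := (closure_le _).mpr (by rintro s (h | h) <;> rw [h]; exacts [heV, hfV])
    have hff : f * f = 1 := by rw [hf, show g * e * g⁻¹ * (g * e * g⁻¹) = g * (e * e) * g⁻¹ by group, he1]; group
    have hTel : ∀ t ∈ T, t = 1 ∨ t = e ∨ t = f ∨ t = e * f := by
      intro t ht
      induction ht using closure_induction with
      | mem s hs => rcases hs with rfl | rfl <;> simp
      | one => simp
      | mul s t _ _ hs ht =>
        have hef : f * e = e * f := (hVc f hfV e heV).eq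
        have h1 : ∀ y, e * (e * y) = y := fun y => by rw [← mul_assoc, he1, one_mul]
        have h2 : ∀ y, f * (f * y) = y := fun y => by rw [← mul_assoc, hff, one_mul]
        have h3 : ∀ y, f * (e * y) = e * (f * y) := fun y => by rw [← mul_assoc, hef, mul_assoc]
        rcases hs with rfl | rfl | rfl | rfl <;> rcases ht with rfl | rfl | rfl | rfl <;>
          simp [mul_assoc, he1, hff, hef, h1, h2, h3]
      | inv s _ hs =>
        have hei : e⁻¹ = e := inv_eq_of_mul_eq_one_right he1
        have hfi : f⁻¹ = f := inv_eq_of_mul_eq_one_right hff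
        rcases hs with h | h | h | h <;> rw [h]
        · simp
        · simp [hei]
        · simp [hfi]
        · simp [hei, hfi, (hVc f hfV e heV).eq]
    have hdw : ∀ v ∈ V, d * v * d⁻¹ * v⁻¹ ∈ T := by
      intro v hv
      have h1 : b * v * b⁻¹ ∈ V := hVn.conj_mem v hv b
      have e' : d * v * d⁻¹ * v⁻¹ = (a * (b * v * b⁻¹) * a⁻¹ * (b * v * b⁻¹)⁻¹) * (b * v * b⁻¹ * v⁻¹) := by
        rw [hd]; group
      rw [e']
      refine mul_mem ?_ ?_
      · rcases hie _ h1 with h | h <;> rw [h]
        · exact one_mem _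
        · exact subset_closure (by simp)
      · rcases hbi _ hv with h | h <;> rw [h]
        · exact one_mem _
        · exact subset_closure (by simp)
    have hdT : ∀ t ∈ T, d * t * d⁻¹ ∈ T := fun t ht => by
      have := mul_mem (hdw t (hTV ht)) ht
      rwa [inv_mul_cancel_right] at this
    -- `d ^ 12` centralizes `V`
    have hd6 : ∀ t ∈ T, d ^ 6 * t * (d ^ 6)⁻¹ = t := by
      intro t ht
      let π' : {t : T // t ≠ 1} → {t : T // t ≠ 1} := fun u =>
        ⟨⟨d * u.1 * d⁻¹, hdT _ u.1.2⟩, fun h => u.2 (Subtype.ext (conj_eq_one_iff.mp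
          (congrArg Subtype.val h)))⟩
      have hπ' : Function.Injective π' := fun u v h => Subtype.ext (Subtype.ext (by
        have := congrArg (fun z : {t : T // t ≠ 1} => ((z.1 : T) : H)) h
        simpa [π'] using this))
      let σ : Equiv.Perm {t : T // t ≠ 1} :=
        Equiv.ofBijective π' (Finite.injective_iff_bijective.mp hπ')
      have hcard : Nat.card {t : T // t ≠ 1} ≤ 3 := by
        have hsub : ∀ u : {t : T // t ≠ 1}, ((u.1 : T) : H) ∈ ({e, f, e * f} : Finset H) := by
          intro u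
          rcases hTel _ u.1.2 with h | h | h | h
          · exact absurd (Subtype.ext h) u.2
          all_goals simp [h]
        calc Nat.card {t : T // t ≠ 1} ≤ Nat.card ↥({e, f, e * f} : Finset H) :=
              Nat.card_le_card_of_injective (fun u => ⟨_, hsub u⟩) (fun u v h => Subtype.ext
                (Subtype.ext (congrArg (fun z : ({e, f, e * f} : Finset H) => (z : H)) h)))
          _ ≤ 3 := by rw [Nat.card_eq_finsetCard]; exact Finset.card_le_three
      have hdvd : orderOf σ ∣ 6 := by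
        refine (orderOf_dvd_natCard σ).trans ?_
        rw [Nat.card_perm]
        exact Nat.factorial_dvd_factorial hcard
      have hiter : ∀ (k : ℕ) (u : {t : T // t ≠ 1}),
          (((σ ^ k) u).1 : H) = d ^ k * u.1 * (d ^ k)⁻¹ := by
        intro k
        induction k with
        | zero => simp
        | succ k ih =>
          intro u
          rw [pow_succ', Equiv.Perm.mul_apply]
          show d * (((σ ^ k) u).1 : H) * d⁻¹ = _
          rw [ih, pow_succ']
          group
      by_cases ht1 : t = 1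
      · rw [ht1]; group
      have h6 := hiter 6 ⟨⟨t, ht⟩, fun h => ht1 (congrArg Subtype.val h)⟩
      rw [orderOf_dvd_iff_pow_eq_one.mp hdvd, Equiv.Perm.one_apply] at h6
      exact h6.symm
    have hdn : ∀ (n : ℕ), ∀ v ∈ V, d ^ n * v * (d ^ n)⁻¹ * v⁻¹ ∈ T := by
      intro n
      induction n with
      | zero => intro v _; simp
      | succ n ih =>
        intro v hv
        have h1 : d * v * d⁻¹ ∈ V := hVn.conj_mem v hv d
        have e' : d ^ (n + 1) * v * (d ^ (n + 1))⁻¹ * v⁻¹ =
            (d ^ n * (d * v * d⁻¹) * (d ^ n)⁻¹ * (d * v * d⁻¹)⁻¹) * (d * v * d⁻¹ * v⁻¹) := by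
          rw [pow_succ]; group
        rw [e']
        exact mul_mem (ih _ h1) (hdw v hv)
    have hd12 : d ^ 12 ∈ K := hmemK _ fun v hv => by
      obtain ⟨t, ht, et⟩ : ∃ t ∈ T, d ^ 6 * v * (d ^ 6)⁻¹ = t * v :=
        ⟨_, hdn 6 v hv, by group⟩
      have htt : t * t = 1 := by
        rcases hTel t ht with rfl | rfl | rfl | rfl
        · simp
        · exact he1
        · exact hff
        · rw [(hVc e heV f hfV).symm.mul_mul_mul_comm, he1, hff, one_mul]
      calc d ^ 12 * v * (d ^ 12)⁻¹ = d ^ 6 * (d ^ 6 * v * (d ^ 6)⁻¹) * (d ^ 6)⁻¹ := by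
            rw [show (12 : ℕ) = 6 + 6 from rfl, pow_add]; group
        _ = d ^ 6 * (t * v) * (d ^ 6)⁻¹ := by rw [et]
        _ = (d ^ 6 * t * (d ^ 6)⁻¹) * (d ^ 6 * v * (d ^ 6)⁻¹) := by group
        _ = v := by rw [hd6 t ht, et, ← mul_assoc, htt, one_mul]
    by_cases hy : d ^ 4 ∈ K
    · exact ⟨2, by rw [← map_pow]; exact (hπ _).mpr hy⟩
    exfalso
    -- an element of order three inverted by `a`
    obtain ⟨i, m, hm, hord⟩ :=
      Nat.exists_eq_pow_mul_and_not_dvd (orderOf_pos (d ^ 4)).ne' 3 (by norm_num)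
    set y := (d ^ 4) ^ m with hydef
    have hy3 : y ^ 3 ∈ K := by
      rw [hydef, ← pow_mul, ← pow_mul, show 4 * (m * 3) = 12 * m by ring, pow_mul]
      exact pow_mem hd12 m
    have hyK : y ∉ K := fun hyK => hy (by
      have hco : IsCoprime (m : ℤ) 3 :=
        Int.isCoprime_iff_nat_coprime.mpr (Nat.prime_three.coprime_iff_not_dvd.mpr hm).symm
      obtain ⟨r, s, hrs⟩ := hco
      rw [← zpow_one (d ^ 4), ← hrs, zpow_add, mul_comm r, zpow_mul, mul_comm s, zpow_mul,
        zpow_natCast]
      refine mul_mem (zpow_mem hyK r) (zpow_mem ?_ s)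
      rw [show ((3 : ℤ)) = ((3 : ℕ) : ℤ) from rfl, zpow_natCast, ← pow_mul]
      exact hd12)
    have hπb : orderOf (π b) = 2 := by
      rw [hb, map_mul, map_mul, map_inv, Invol.orderOf_conj_eq, hπa]
    refine hS (involves_four_of_inverted hV (x := a) (y := y)
      (by rw [normalizer_eq_top]; exact mem_top _) (by rw [normalizer_eq_top]; exact mem_top _) ha
      (by
        have h1 : y ^ (3 ^ i) = 1 := by
          rw [hydef, ← pow_mul, mul_comm, ← hord, pow_orderOf_eq_one]
        obtain ⟨l, -, hl⟩ := (Nat.dvd_prime_pow Nat.prime_three).mp (orderOf_dvd_of_pow_eq_one h1)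
        exact ⟨l, hl⟩) hy3 hyK ?_)
    rw [← hK, ← hπ, map_mul, map_mul, map_mul, map_inv, hydef, map_pow, map_pow, ← conj_pow,
      ← conj_pow, hd, map_mul, Invol.conj_mul_left hπa hπb, inv_pow, inv_pow, inv_mul_cancel]
  -- Baer–Suzuki
  have hX : IsPGroup 2 (zpowers (π a)) :=
    IsPGroup.of_card (n := 1) (by rw [Nat.card_zpowers, hπa, pow_one])
  have hpairs : ∀ g, IsPGroup 2 ↥(zpowers (π a) ⊔ (zpowers (π a)).map (MulAut.conj g).toMonoidHom) := by
    intro g
    obtain ⟨g, rfl⟩ := hπs g
    obtain ⟨k, hk⟩ := hpair g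
    have hb2 : orderOf (π g * π a * (π g)⁻¹) = 2 := by rw [Invol.orderOf_conj_eq, hπa]
    rw [MonoidHom.map_zpowers, zpowers_eq_closure, zpowers_eq_closure, ← Subgroup.closure_union]
    intro ⟨c, hc⟩
    rw [Set.singleton_union] at hc
    obtain ⟨j, hj | hj⟩ := (Invol.mem_closure_pair hπa hb2).mp hc
    · refine ⟨k, Subtype.ext ?_⟩
      show c ^ (2 ^ k) = 1
      rw [hj, ← zpow_natCast, zpow_comm, zpow_natCast, ← map_inv, ← map_mul, ← map_mul, ← map_mul]
      rw [show (π (a * (g * a * g⁻¹))) ^ (2 ^ k) = 1 from hk, one_zpow]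
    · refine ⟨1, Subtype.ext ?_⟩
      show c ^ (2 ^ 1) = 1
      rw [pow_one, pow_two, hj]
      exact Invol.mul_zpow_sq (Invol.inv_mul_self hπa) (Invol.conj_mul_left hπa hb2) j
  obtain ⟨N, hN, hNp, hXN⟩ := Invol.baerSuzuki (zpowers (π a)) hX hpairs
  refine ⟨N.comap π, hN.comap π, hXN (mem_zpowers _), ?_, fun n hn => ?_⟩
  · intro c hc
    rw [mem_comap, (hπ c).mpr hc]; exact one_mem _
  · obtain ⟨k, hk⟩ := hNp ⟨π n, hn⟩
    exact ⟨k, (hπ _).mp (by rw [map_pow]; exact congrArg Subtype.val hk)⟩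

/-- The hypothesis on the pair `x = z ^ q`. -/
def GoodPair (p : ℕ) (H : Type u) [Group H] (q : ℕ) : Prop :=
  p ≠ 2 ∨ (p = 2 ∧ (q = 2 ∨ ¬ Cfsg.Involves (Equiv.Perm (Fin 4)) H))

set_option maxHeartbeats 1600000 in
/-- The transfer step. -/
theorem central_step (T : Sylow p H) (z : H) (q : ℕ) (x : H) (hxz : x = z ^ q)
    (hq : GoodPair p H q) (V : Subgroup H) (hV : V = normalClosure {z})
    (hVc : ∀ a ∈ V, ∀ b ∈ V, Commute a b) (hVp : IsPGroup p V)
    (hzT : ∀ t ∈ (T : Subgroup H), Commute t z)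
    (hJ : normalizer (thompsonSubgroupAOf (T : Subgroup H) : Set H) ≤ centralizer ({x} : Set H))
    (hIH : ∀ L : Subgroup H, (T : Subgroup H) ≤ L → L ≠ ⊤ → L ≤ centralizer ({x} : Set H)) :
    ∀ h : H, Commute h x := by
  classical
  set M := centralizer ({x} : Set H) with hM
  have hmemM : ∀ {g : H}, g ∈ M ↔ Commute g x := fun {g} => by
    rw [hM, mem_centralizer_iff]
    exact ⟨fun h => (h x rfl).symm, fun h y hy => by rw [Set.mem_singleton_iff.mp hy]; exact h.symm.eq⟩
  suffices hall : (⊤ : Subgroup H) ≤ M from fun h => hmemM.mp (hall (mem_top h))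
  haveI hVn : V.Normal := by rw [hV]; infer_instance
  have hzV : z ∈ V := hV ▸ subset_normalClosure (Set.mem_singleton z)
  have hxV : x ∈ V := hxz ▸ pow_mem hzV q
  have hVT : V ≤ (T : Subgroup H) := GlaubermanZJ.le_sylow_of_normal hVp T
  have hTM : (T : Subgroup H) ≤ M := fun t ht => hmemM.mpr (hxz ▸ (hzT t ht).pow_right q)
  set K := centralizer (V : Set H) with hK
  haveI hKn : K.Normal := by rw [hK]; infer_instance
  have hKM : K ≤ M := fun k hk => hmemM.mpr (mem_centralizer_iff.mp hk x hxV).symm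
  -- normal subgroups fixing `z` centralize `V`
  have hfix : ∀ N : Subgroup H, N.Normal → (∀ n ∈ N, Commute n z) → N ≤ K := by
    intro N hN hz n hn
    haveI : (centralizer (N : Set H)).Normal := inferInstance
    have hle : V ≤ centralizer (N : Set H) := hV ▸ normalClosure_le_normal
      (Set.singleton_subset_iff.mpr (mem_centralizer_iff.mpr fun m hm => (hz m hm).eq))
    exact mem_centralizer_iff.mpr fun v hv => (mem_centralizer_iff.mp (hle hv) n hn).symm
  by_cases hall' : ∀ A, GlaubermanZJ.IsMaxAbIn (T : Subgroup H) A → A ≤ K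
  · -- Frattini argument
    set R := (T : Subgroup H) ⊓ K with hR
    have hJR : thompsonSubgroupAOf (T : Subgroup H) = thompsonSubgroupAOf R := by
      obtain ⟨A₀, hA₀⟩ := GlaubermanZJ.exists_isMaxAbIn (T : Subgroup H)
      rw [GlaubermanZJ.thompsonSubgroupAOf_eq, GlaubermanZJ.thompsonSubgroupAOf_eq]
      refine congrArg sSup (Set.ext fun A => ⟨fun hA => ⟨le_inf hA.1 (hall' A hA), hA.2.1,
        fun C hC hCc => hA.2.2 C (hC.trans inf_le_left) hCc⟩, fun hA => ⟨hA.1.trans inf_le_left, hA.2.1,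
          fun C hC hCc => (hA₀.2.2 C hC hCc).trans
            (hA.2.2 A₀ (le_inf hA₀.1 (hall' A₀ hA₀)) hA₀.2.1)⟩⟩)
    have hS : ¬ p ∣ (R.subgroupOf K).index := by
      rw [← relIndex, inf_relIndex_right]
      exact Solv.not_dvd_relIndex_of_isSubnormal T (Subgroup.Normal.isSubnormal inferInstance)
    let RS : Sylow p K := ((T.isPGroup'.to_le inf_le_left).of_equiv
      (subgroupOfEquivOfLe (inf_le_right : R ≤ K)).symm).toSylow hS
    rw [← Sylow.normalizer_sup_eq_top RS]
    refine sup_le ?_ hKM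
    rw [IsPGroup.toSylow_coe, map_subgroupOf_eq_of_le (inf_le_right : R ≤ K)]
    refine le_trans ?_ hJ
    rw [hJR]
    haveI : (thompsonSubgroupA ↥R).Characteristic :=
      characteristic_iff_map_eq.mpr fun e => GlaubermanZJ.map_thompsonSubgroupA e
    exact Core.normalizer_le_normalizer_map_char _
  push Not at hall'
  obtain ⟨A₀, hA₀, hA₀K⟩ := hall'
  have hA₀cm : ∀ a ∈ A₀, ∀ b ∈ A₀, Commute a b := fun a ha b hb =>
    congrArg Subtype.val (hA₀.2.1.is_comm.comm ⟨a, ha⟩ ⟨b, hb⟩)
  -- offenders exist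
  obtain ⟨A₁, hA₁⟩ : ∃ A, IsMinOffender V (T : Subgroup H) A := by
    refine exists_isMinOffender hA₀.1 (fun a ha b hb => ?_) hA₀K ?_
    · rw [commutatorElement_eq_one_iff_commute.mpr (hA₀cm a ha b hb)]; exact one_mem _
    set B := A₀ ⊓ centralizer (V : Set H) with hB
    have hVB : IsMulCommutative ↥(V ⊔ B) := by
      rw [← closure_eq V, ← closure_eq B, ← Subgroup.closure_union]
      refine isMulCommutative_closure ?_
      rintro a (ha | ha) b (hb | hb)
      · exact (hVc a ha b hb).eq
      · exact mem_centralizer_iff.mp hb.2 a ha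
      · exact (mem_centralizer_iff.mp ha.2 b hb).symm
      · exact (hA₀cm a ha.1 b hb.1).eq
    have h1 : Nat.card ↥(V ⊔ B) ≤ Nat.card A₀ :=
      hA₀.2.2 _ (sup_le hVT (inf_le_left.trans hA₀.1)) hVB
    have h2 : Nat.card ↥(V ⊔ B) * Nat.card ↥(V ⊓ B) = Nat.card V * Nat.card B := by
      rw [← Core.card_mul_relIndex (le_sup_left : V ≤ V ⊔ B), relIndex_sup_left, mul_assoc]
      congr 1
      rw [mul_comm, ← inf_relIndex_right V B, Core.card_mul_relIndex inf_le_right]
    have h3 : Nat.card ↥(V ⊓ B) ≤ Nat.card ↥(V ⊓ centralizer (A₀ : Set H)) :=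
      card_le_of_le (inf_le_inf_left _ fun b hb => mem_centralizer_iff.mpr fun a ha =>
        (hA₀cm a ha b hb.1).eq)
    exact h2 ▸ Nat.mul_le_mul h1 h3
  set D := sSup {A | IsMinOffender V (T : Subgroup H) A} with hD
  have hDT : D ≤ (T : Subgroup H) := sSup_le fun A hA => hA.1
  have hDK : ¬ D ≤ K := fun h => hA₁.2.2.1 ((le_sSup (a := A₁) (show A₁ ∈ {A | IsMinOffender V (T : Subgroup H) A} from hA₁)).trans h)
  have hDg : ∀ g : H, D.map (MulAut.conj g).toMonoidHom ≤ (T : Subgroup H) →
      g ∈ normalizer (D : Set H) := by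
    intro g hg
    rw [mem_normalizer_iff_map_conj_eq]
    refine eq_of_le_of_card_ge ?_ (card_map_of_injective (MulAut.conj g).injective).ge
    show D.map (MulAut.conj g).toMonoidHom ≤ D
    rw [map_le_iff_le_comap]
    refine sSup_le fun A hA => ?_
    rw [← map_le_iff_le_comap]
    refine le_sSup (show _ ∈ {A | IsMinOffender V (T : Subgroup H) A} from hA.map_conj g ?_)
    exact (map_mono (le_sSup (show A ∈ {A | IsMinOffender V (T : Subgroup H) A} from hA))).trans hg
  have hTD : (T : Subgroup H) ≤ normalizer (D : Set H) := by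
    intro t ht
    refine hDg t ?_
    rintro _ ⟨d, hd, rfl⟩
    exact (T : Subgroup H).mul_mem ((T : Subgroup H).mul_mem ht (hDT hd))
      ((T : Subgroup H).inv_mem ht)
  have hDM : normalizer (D : Set H) ≤ M := by
    refine hIH _ hTD fun htop => hDK ?_
    refine hfix D (normalizer_eq_top_iff.mp htop) fun d hd => hzT d (hDT hd)
  -- the conjugates of `x` as a function on the cosets of its centralizer
  set Vx := normalClosure ({x} : Set H) with hVx
  have hxVx : x ∈ Vx := subset_normalClosure (Set.mem_singleton x)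
  have hVxn : Vx.Normal := normalClosure_normal
  have hVxV : Vx ≤ V := normalClosure_le_normal (Set.singleton_subset_iff.mpr hxV)
  letI : CommGroup Vx :=
    { (inferInstance : Group Vx) with
      mul_comm := fun a b => Subtype.ext (hVc a (hVxV a.2) b (hVxV b.2)).eq }
  let conjV : H → Vx →* Vx := fun h =>
    { toFun := fun v => ⟨h * v * h⁻¹, hVxn.conj_mem v v.2 h⟩
      map_one' := Subtype.ext (by simp)
      map_mul' := fun a b => Subtype.ext (by simp [mul_assoc]) }
  have conjV_mul : ∀ a b v, conjV (a * b) v = conjV a (conjV b v) := fun a b v =>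
    Subtype.ext (by simp [conjV, mul_assoc])
  let P : Subgroup Vx := (powMonoidHom p : Vx →* Vx).range
  let π : Vx →* Vx ⧸ P := QuotientGroup.mk' P
  have hπp : ∀ v : Vx, π v ^ p = 1 := fun v => by
    rw [← map_pow]; exact (QuotientGroup.eq_one_iff _).mpr ⟨v, rfl⟩
  let f : H ⧸ M → Vx := fun c => conjV c.out ⟨x, hxVx⟩
  have hfix' : ∀ m ∈ M, conjV m ⟨x, hxVx⟩ = ⟨x, hxVx⟩ := fun m hm => Subtype.ext (by
    show m * x * m⁻¹ = x
    rw [(hmemM.mp hm).eq, mul_inv_cancel_right])
  have hfmk : ∀ g : H, f (g : H ⧸ M) = conjV g ⟨x, hxVx⟩ := by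
    intro g
    obtain ⟨m, hm⟩ := QuotientGroup.mk_out_eq_mul M g
    show conjV (g : H ⧸ M).out _ = _
    rw [hm, conjV_mul, hfix' m m.2]
  have hfsmul : ∀ (h : H) (c : H ⧸ M), f (h • c) = conjV h (f c) := by
    intro h c
    induction c using QuotientGroup.induction_on with
    | H g => rw [MulAction.Quotient.smul_coe, hfmk, hfmk, smul_eq_mul, conjV_mul]
  -- the only point fixed by `D`
  set o₀ : H ⧸ M := ((1 : H) : H ⧸ M) with ho₀
  have honly : ∀ o : H ⧸ M, (∀ d ∈ D, d • o = o) → o = o₀ := by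
    intro o
    induction o using QuotientGroup.induction_on with
    | H g =>
      intro ho
      have hdg : ∀ d ∈ D, g⁻¹ * d * g ∈ M := fun d hd => by
        have := ho d hd
        rw [MulAction.Quotient.smul_coe, smul_eq_mul, QuotientGroup.eq] at this
        have := M.inv_mem this
        simpa [mul_assoc] using this
      set D' := D.map (MulAut.conj g⁻¹).toMonoidHom with hD'
      have hD'M : D' ≤ M := by
        rintro _ ⟨d, hd, rfl⟩
        simpa [MulAut.conj_apply] using hdg d hd
      obtain ⟨Q, hQ⟩ := (((T.isPGroup'.to_le hDT).map (MulAut.conj g⁻¹).toMonoidHom).of_equiv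
        (subgroupOfEquivOfLe hD'M).symm).exists_le_sylow
      obtain ⟨m, hm⟩ := MulAction.exists_smul_eq M Q (T.subtype hTM)
      have hle : D.map (MulAut.conj ((m : H) * g⁻¹)).toMonoidHom ≤ (T : Subgroup H) := by
        rintro _ ⟨d, hd, rfl⟩
        have h1 : (⟨g⁻¹ * d * g, hdg d hd⟩ : M) ∈ D'.subgroupOf M :=
          mem_subgroupOf.mpr ⟨d, hd, by simp [MulAut.conj_apply]⟩
        have h2 : m * ⟨g⁻¹ * d * g, hdg d hd⟩ * m⁻¹ ∈ ((m • Q : Sylow p M) : Subgroup M) := by
          rw [Sylow.coe_subgroup_smul]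
          exact smul_mem_pointwise_smul _ (MulAut.conj m) _ (hQ h1)
        rw [hm, Sylow.coe_subtype, mem_subgroupOf] at h2
        simpa [MulAut.conj_apply, mul_assoc] using h2
      have hg : g ∈ M := by
        have h1 : (m : H) * g⁻¹ ∈ M := hDM (hDg _ hle)
        have h2 := M.mul_mem (M.inv_mem m.2) h1
        rw [inv_mul_cancel_left] at h2
        simpa using M.inv_mem h2
      rw [ho₀, QuotientGroup.eq, mul_one]
      exact M.inv_mem hg
  haveI := Fintype.ofFinite (H ⧸ M)
  have hfixed : ∀ d ∈ D, d • o₀ = o₀ := fun d hd => by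
    rw [ho₀, MulAction.Quotient.smul_coe, smul_eq_mul, mul_one, QuotientGroup.eq, mul_one]
    exact M.inv_mem (hTM (hDT hd))
  -- invariant sets cancel
  have hcancel : ∀ n (s : Finset (H ⧸ M)), s.card ≤ n → (∀ d ∈ D, ∀ o ∈ s, d • o ∈ s) →
      ∏ o ∈ s, π (f o) = if o₀ ∈ s then π ⟨x, hxVx⟩ else 1 := by
    intro n
    induction n with
    | zero =>
      intro s hs _
      rw [Finset.card_eq_zero.mp (Nat.le_zero.mp hs)]
      simp
    | succ n ih =>
      intro s hs hinv
      by_cases hmov : ∀ o ∈ s, o = o₀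
      · by_cases h0 : o₀ ∈ s
        · have : s = {o₀} := by
            ext o; exact ⟨fun h => Finset.mem_singleton.mpr (hmov o h), fun h => by
              rw [Finset.mem_singleton.mp h]; exact h0⟩
          rw [if_pos h0, this, Finset.prod_singleton]
          congr 1
          rw [ho₀, hfmk]
          exact hfix' 1 (one_mem _)
        · have : s = ∅ := Finset.eq_empty_of_forall_notMem fun o h => h0 (hmov o h ▸ h)
          rw [if_neg h0, this, Finset.prod_empty]
      push Not at hmov
      obtain ⟨o, hos, hone⟩ := hmov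
      have hDp : IsPGroup p D := T.isPGroup'.to_le hDT
      -- a maximal subgroup of `D` above the stabilizer
      set R₀ := (MulAction.stabilizer H o).subgroupOf D with hR₀
      have hR₀ne : R₀ ≠ ⊤ := fun htop => hone (honly o fun d hd =>
        (mem_subgroupOf.mp (htop ▸ mem_top (⟨d, hd⟩ : D)) : d ∈ MulAction.stabilizer H o))
      obtain ⟨R', hR'max, hR'le⟩ : ∃ R' : Subgroup D, IsCoatom R' ∧ R₀ ≤ R' :=
        ((eq_top_or_exists_le_coatom R₀).resolve_left hR₀ne)
      haveI hR'n : R'.Normal := PGroup.normal_of_isCoatom hDp hR'max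
      have hR'i : R'.index = p := PGroup.index_of_isCoatom hDp hR'max
      obtain ⟨A, hA, hAR⟩ : ∃ A, IsMinOffender V (T : Subgroup H) A ∧ ¬ A ≤ R'.map D.subtype := by
        by_contra h
        push Not at h
        refine hR'max.1 (eq_top_iff.mpr fun d _ => ?_)
        obtain ⟨d', hd', e⟩ := (sSup_le (a := R'.map D.subtype) fun A hA => h A hA) d.2
        exact Subtype.ext e ▸ hd'
      have hAD : A ≤ D := le_sSup (show A ∈ {A | IsMinOffender V (T : Subgroup H) A} from hA)
      set C := A ⊓ R'.map D.subtype with hC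
      have hCR : ∀ {b : H} (hb : b ∈ A), b ∈ C ↔ (⟨b, hAD hb⟩ : D) ∈ R' := fun {b} hb =>
        ⟨fun h => by obtain ⟨d, hd, e⟩ := h.2; rwa [← (Subtype.ext e : d = ⟨b, hAD hb⟩)],
          fun h => ⟨hb, ⟨_, h, rfl⟩⟩⟩
      obtain ⟨a, haA, haC, haK⟩ : ∃ a ∈ A, a ∉ C ∧ (a ∈ K ∨ A ⊓ K ≤ C) := by
        by_cases h : A ⊓ K ≤ C
        · obtain ⟨a, ha, ha'⟩ := SetLike.not_le_iff_exists.mp hAR
          exact ⟨a, ha, fun h' => ha' h'.2, Or.inr h⟩
        · obtain ⟨a, ha, ha'⟩ := SetLike.not_le_iff_exists.mp h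
          exact ⟨a, ha.1, ha', Or.inl ha.2⟩
      set a' : D := ⟨a, hAD haA⟩ with ha'
      have haR' : a' ∉ R' := fun h => haC ((hCR haA).mpr h)
      -- the orbit under `R'`
      haveI := Fintype.ofFinite R'
      set O : Finset (H ⧸ M) := Finset.univ.image fun r : R' => ((r : D) : H) • o with hO
      set full : Finset (H ⧸ M) := (Finset.range p ×ˢ O).image fun iy => a ^ iy.1 • iy.2 with hfull
      have hinj : Set.InjOn (fun iy : ℕ × (H ⧸ M) => a ^ iy.1 • iy.2) ↑(Finset.range p ×ˢ O) := by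
        rintro ⟨i, y⟩ hiy ⟨j, y'⟩ hjy h
        simp only [Finset.coe_product, Set.mem_prod, Finset.mem_coe, Finset.mem_range, hO,
          Finset.mem_image, Finset.mem_univ, true_and] at hiy hjy
        obtain ⟨hi, r, rfl⟩ := hiy
        obtain ⟨hj, r', rfl⟩ := hjy
        replace h : a ^ i • ((r : D) : H) • o = a ^ j • ((r' : D) : H) • o := h
        rw [smul_smul, smul_smul] at h
        have hst : ((a' ^ j * (r' : D))⁻¹ * (a' ^ i * (r : D)) : D) ∈ R₀ := by
          rw [hR₀, mem_subgroupOf, MulAction.mem_stabilizer_iff]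
          show ((a ^ j * ((r' : D) : H))⁻¹ * (a ^ i * ((r : D) : H))) • o = o
          rw [mul_smul, h, inv_smul_smul]
        have h1 : ((a' ^ j * (r' : D))⁻¹ * (a' ^ i * (r : D)) : D) ∈ R' := hR'le hst
        have hq1 : ((a' : D ⧸ R') ^ i) = (a' : D ⧸ R') ^ j := by
          have h2 := (QuotientGroup.eq_one_iff _).mpr h1
          simp only [QuotientGroup.mk_mul, QuotientGroup.mk_inv, QuotientGroup.mk_pow,
            (QuotientGroup.eq_one_iff _).mpr r.2, (QuotientGroup.eq_one_iff _).mpr r'.2, mul_one] at h2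
          exact (inv_mul_eq_one.mp h2).symm
        have hord : orderOf (a' : D ⧸ R') = p := by
          refine orderOf_eq_prime ?_ fun h' => haR' ((QuotientGroup.eq_one_iff _).mp h')
          rw [← hR'i, index_eq_card]; exact pow_card_eq_one'
        have hij : i = j := pow_injOn_Iio_orderOf (by rw [hord]; exact hi) (by rw [hord]; exact hj) hq1
        subst hij
        rw [Prod.mk.injEq]
        refine ⟨rfl, ?_⟩
        rw [← smul_smul, ← smul_smul] at h
        exact smul_left_cancel _ h
      have hfulls : full ⊆ s := by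
        intro y hy
        simp only [hfull, hO, Finset.mem_image, Finset.mem_product, Finset.mem_univ, true_and] at hy
        obtain ⟨⟨i, _⟩, ⟨-, r, rfl⟩, rfl⟩ := hy
        exact hinv _ (pow_mem (hAD haA) i) _ (hinv _ (r : D).2 o hos)
      -- the orbit is invariant
      have hfullinv : ∀ d ∈ D, ∀ y ∈ full, d • y ∈ full := by
        intro d hd y hy
        simp only [hfull, hO, Finset.mem_image, Finset.mem_product, Finset.mem_univ, true_and,
          Finset.mem_range] at hy ⊢
        obtain ⟨⟨i, _⟩, ⟨-, r, rfl⟩, rfl⟩ := hy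
        haveI : Fact (Nat.card (D ⧸ R')).Prime := ⟨by rw [← index_eq_card, hR'i]; exact hp.out⟩
        have hg : (⟨d, hd⟩ * a' ^ i * (r : D) : D) = ⟨d, hd⟩ * a' ^ i * (r : D) := rfl
        set g' : D := ⟨d, hd⟩ * a' ^ i * (r : D)
        have hne : (a' : D ⧸ R') ≠ 1 := fun h => haR' ((QuotientGroup.eq_one_iff _).mp h)
        have hmem : (g' : D ⧸ R') ∈ zpowers (a' : D ⧸ R') := by
          rw [zpowers_eq_top_of_prime_card rfl hne]; exact mem_top _
        obtain ⟨j, hj⟩ := (isOfFinOrder_of_finite _).mem_powers_iff_mem_zpowers.mpr hmem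
        have hj' : (a' : D ⧸ R') ^ (j % p) = (g' : D ⧸ R') := by
          have h' : (a' : D ⧸ R') ^ p = 1 := by
            rw [← hR'i, index_eq_card]; exact pow_card_eq_one'
          rw [← hj]
          show _ = (a' : D ⧸ R') ^ j
          conv_rhs => rw [← Nat.mod_add_div j p, pow_add, pow_mul, h', one_pow, mul_one]
        have hr' : (a' ^ (j % p))⁻¹ * g' ∈ R' := by
          rw [← QuotientGroup.eq, QuotientGroup.mk_pow]
          exact hj'
        refine ⟨⟨j % p, _⟩, ⟨Nat.mod_lt _ hp.out.pos, ⟨_, hr'⟩, rfl⟩, ?_⟩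
        show a ^ (j % p) • (((a' ^ (j % p))⁻¹ * g' : D) : H) • o = d • a ^ i • ((r : D) : H) • o
        rw [smul_smul, smul_smul, smul_smul]
        congr 1
        simp [g', a', mul_assoc]
      -- the product over the orbit is trivial
      set w : Vx := ∏ y ∈ O, f y with hw
      have hwC : ∀ c ∈ C, conjV c w = w := by
        intro c hc
        rw [hw, map_prod]
        refine Finset.prod_bij (fun y _ => c • y) (fun y hy => ?_) (fun y _ y' _ h => smul_left_cancel c h)
          (fun y hy => ?_) (fun y _ => (hfsmul c y).symm)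
        · simp only [hO, Finset.mem_image, Finset.mem_univ, true_and] at hy ⊢
          obtain ⟨r, rfl⟩ := hy
          refine ⟨⟨⟨c, hAD hc.1⟩ * (r : D), mul_mem ((hCR hc.1).mp hc) r.2⟩, ?_⟩
          rw [smul_smul]; rfl
        · simp only [hO, Finset.mem_image, Finset.mem_univ, true_and] at hy
          obtain ⟨r, rfl⟩ := hy
          refine ⟨(((⟨c, hAD hc.1⟩ : D)⁻¹ * (r : D) : D) : H) • o, ?_, ?_⟩
          · simp only [hO, Finset.mem_image, Finset.mem_univ, true_and]
            exact ⟨⟨_, mul_mem (inv_mem ((hCR hc.1).mp hc)) r.2⟩, rfl⟩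
          · rw [smul_smul]; simp
      have hwV : (w : H) ∈ V := hVxV w.2
      have hwW : (w : H) ∈ V ⊓ centralizer (C : Set H) := ⟨hwV, mem_centralizer_iff.mpr fun c hc =>
        mul_inv_eq_iff_eq_mul.mp (congrArg Subtype.val (hwC c hc))⟩
      have hfixcase : a * (w : H) * a⁻¹ = (w : H) → ∏ i ∈ Finset.range p, π (conjV (a ^ i) w) = 1 := by
        intro h
        have h' : ∀ i, conjV (a ^ i) w = w := fun i => Subtype.ext (by
          show a ^ i * (w : H) * (a ^ i)⁻¹ = w
          have hc : Commute a (w : H) := mul_inv_eq_iff_eq_mul.mp h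
          rw [(hc.pow_left i).eq, mul_inv_cancel_right])
        simp only [h', Finset.prod_const, Finset.card_range]
        exact hπp w
      have hprod : ∏ i ∈ Finset.range p, π (conjV (a ^ i) w) = 1 := by
        rcases haK with haK | hAKC
        · exact hfixcase (by rw [← mem_centralizer_iff.mp haK _ hwV, mul_inv_cancel_right])
        obtain ⟨hAT, hAc, hAnK, hAoff, hAmin⟩ := hA
        have hCA : C < A := lt_of_le_of_ne inf_le_left fun h => haC (h.symm ▸ haA)
        have hidxC : Nat.card A ≤ p * Nat.card C := by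
          have h1 : Nat.card C * C.relIndex A = Nat.card A := Core.card_mul_relIndex inf_le_left
          have h2 : C.relIndex A ≤ p := by
            rw [hC, inf_comm, inf_relIndex_right]
            haveI : (R'.map D.subtype).IsFiniteRelIndex D := ⟨by
              rw [relIndex, subgroupOf, comap_map_eq_self_of_injective D.subtype_injective, hR'i]
              exact hp.out.ne_zero⟩
            calc (R'.map D.subtype).relIndex A ≤ (R'.map D.subtype).relIndex D :=
                  relIndex_le_of_le_right hAD relIndex_ne_zero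
              _ = p := by
                  rw [relIndex, subgroupOf, comap_map_eq_self_of_injective D.subtype_injective, hR'i]
          calc Nat.card A = Nat.card C * C.relIndex A := h1.symm
            _ ≤ Nat.card C * p := Nat.mul_le_mul_left _ h2
            _ = p * Nat.card C := mul_comm _ _
        have hCK : A ⊓ centralizer (V : Set H) = C ⊓ centralizer (V : Set H) :=
          le_antisymm (le_inf hAKC inf_le_right) (inf_le_inf_right _ inf_le_left)
        set U := V ⊓ centralizer (A : Set H) with hU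
        have haU : ∀ u ∈ U, a * u * a⁻¹ = u := fun u hu => by
          rw [mem_centralizer_iff.mp hu.2 a haA, mul_inv_cancel_right]
        by_cases hCK' : C ≤ K
        · -- a transvection
          have hidx : Nat.card V ≤ p * Nat.card U := by
            rw [hCK, inf_eq_left.mpr hCK'] at hAoff
            refine Nat.le_of_mul_le_mul_left ?_ (Nat.card_pos (α := C))
            calc Nat.card C * Nat.card V = Nat.card V * Nat.card C := mul_comm _ _
              _ ≤ Nat.card A * Nat.card U := hAoff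
              _ ≤ p * Nat.card C * Nat.card U := Nat.mul_le_mul_right _ hidxC
              _ = Nat.card C * (p * Nat.card U) := by ring
          obtain ⟨k, hk⟩ := IsPGroup.iff_orderOf.mp T.2 ⟨a, hAT haA⟩
          rw [← Subgroup.orderOf_coe] at hk
          have hkey := commutator_mem_of_index_le (inf_le_left : U ≤ V) hVc hVp hidx ⟨k, hk⟩
            (fun v hv => hVn.conj_mem v hv a) haU
          rcases hq with hp2 | ⟨hp2, hq2 | hS4⟩
          · -- `p` odd
            set e : Vx := conjV a w * w⁻¹ with he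
            have heU : (e : H) ∈ U := by
              have := (hkey w hwV).1
              rw [he]
              exact this
            have hpow : ∀ i : ℕ, conjV (a ^ i) w = e ^ i * w := by
              intro i
              induction i with
              | zero => exact Subtype.ext (by simp [conjV])
              | succ i ih =>
                have hae : conjV a (e ^ i) = e ^ i := Subtype.ext (by
                  show a * ((e ^ i : Vx) : H) * a⁻¹ = ((e ^ i : Vx) : H)
                  exact haU _ (by rw [SubgroupClass.coe_pow]; exact pow_mem heU i))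
                rw [pow_succ', conjV_mul, ih, map_mul, hae,
                  show conjV a w = e * w by rw [he, inv_mul_cancel_right], ← mul_assoc, ← pow_succ]
            simp only [hpow, map_mul, map_pow]
            rw [Finset.prod_mul_distrib, Finset.prod_pow_eq_pow_sum, Finset.prod_const,
              Finset.card_range, hπp, mul_one]
            obtain ⟨k', hk'⟩ := hp.out.odd_of_ne_two hp2
            have hsum : ∑ i ∈ Finset.range p, i = p * k' := by
              rw [Finset.sum_range_id, hk', show 2 * k' + 1 - 1 = 2 * k' by omega, mul_left_comm,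
                Nat.mul_div_cancel_left _ (by norm_num : 0 < 2)]
            rw [hsum, pow_mul, hπp, one_pow]
          · -- a square
            have hsq : ∀ v ∈ Vx, ∃ u ∈ V, u * u = v := by
              intro v hv
              have hle : Vx ≤ closure {w : H | ∃ u ∈ V, u * u = w} := by
                haveI : (closure {w : H | ∃ u ∈ V, u * u = w}).Normal := ⟨fun n hn g => by
                  have h1 : (closure {w : H | ∃ u ∈ V, u * u = w}).map (MulAut.conj g).toMonoidHom ≤
                      closure {w : H | ∃ u ∈ V, u * u = w} := by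
                    rw [MonoidHom.map_closure]
                    refine closure_mono ?_
                    rintro _ ⟨_, ⟨u, hu, rfl⟩, rfl⟩
                    exact ⟨g * u * g⁻¹, hVn.conj_mem u hu g, by simp [MulAut.conj_apply, mul_assoc]⟩
                  exact h1 ⟨n, hn, rfl⟩⟩
                refine normalClosure_le_normal (Set.singleton_subset_iff.mpr (subset_closure ?_))
                exact ⟨z, hzV, by rw [hxz, hq2, pow_two]⟩
              have hv' := hle hv
              clear hv
              induction hv' using closure_induction with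
              | mem s hs => exact hs
              | one => exact ⟨1, one_mem _, one_mul 1⟩
              | mul s t _ _ hs ht =>
                obtain ⟨u, hu, rfl⟩ := hs
                obtain ⟨u', hu', rfl⟩ := ht
                exact ⟨u * u', mul_mem hu hu', (hVc u' hu' u hu).mul_mul_mul_comm u u'⟩
              | inv s _ hs =>
                obtain ⟨u, hu, rfl⟩ := hs
                exact ⟨u⁻¹, inv_mem hu, by group⟩
            obtain ⟨u, hu, huw⟩ := hsq w w.2
            refine hfixcase (haU _ ?_)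
            rw [← huw, ← pow_two, ← hp2]
            exact (hkey u hu).2
          · -- no section isomorphic to the symmetric group of degree four
            subst hp2
            exfalso
            have hidx' : Nat.card V ≤ 2 * Nat.card ↥(V ⊓ centralizer ({a} : Set H)) :=
              hidx.trans (Nat.mul_le_mul_left _ (card_le_of_le (inf_le_inf_left _
                (centralizer_le (Set.singleton_subset_iff.mpr haA)))))
            obtain ⟨N, hN, haN, hKN, hN2⟩ := transvection_le_normal hS4 hVc hVp ⟨k, hk⟩ hidx'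
            refine haC (hAKC ⟨haA, hfix N hN (fun n hn => ?_) haN⟩)
            -- `N` fixes `z`
            set Z := (centralizer ({z} : Set H)).subgroupOf N
            have hZ : Z = ⊤ := by
              have hTN : ((T : Subgroup H) ⊓ N).subgroupOf N ≤ Z := fun m hm => by
                rw [mem_subgroupOf] at hm ⊢
                exact mem_centralizer_iff.mpr fun y hy => by
                  rw [Set.mem_singleton_iff.mp hy]; exact (hzT _ hm.1).symm.eq
              have h1 : ¬ 2 ∣ Z.index := fun hd => by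
                have h2 : ¬ 2 ∣ (((T : Subgroup H) ⊓ N).subgroupOf N).index := by
                  rw [← relIndex, inf_relIndex_right]
                  exact Solv.not_dvd_relIndex_of_isSubnormal T (Subgroup.Normal.isSubnormal hN)
                exact h2 (hd.trans (index_dvd_of_le hTN))
              have hKZ : K.subgroupOf N ≤ Z := fun m hm => by
                rw [mem_subgroupOf] at hm ⊢
                exact mem_centralizer_iff.mpr fun y hy => by
                  rw [Set.mem_singleton_iff.mp hy]; exact mem_centralizer_iff.mp hm z hzV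
              haveI := hKn
              have hpq : IsPGroup 2 (N ⧸ K.subgroupOf N) := fun c => by
                induction c using QuotientGroup.induction_on with
                | H m =>
                  obtain ⟨j, hj⟩ := hN2 m m.2
                  exact ⟨j, by rw [← QuotientGroup.mk_pow, QuotientGroup.eq_one_iff, mem_subgroupOf]; simpa using hj⟩
              obtain ⟨j, hj⟩ := IsPGroup.iff_card.mp hpq
              have h3 : Z.index ∣ 2 ^ j := hj ▸ index_dvd_of_le hKZ
              obtain ⟨l, -, hl⟩ := (Nat.dvd_prime_pow Nat.prime_two).mp h3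
              rw [← index_eq_one, hl]
              rcases l with _ | l
              · rfl
              · exact absurd (hl ▸ dvd_pow_self 2 (Nat.succ_ne_zero l)) h1
            have hn' : (⟨n, hn⟩ : N) ∈ Z := hZ ▸ mem_top _
            exact (mem_centralizer_iff.mp (mem_subgroupOf.mp hn') z rfl).symm
        · -- `C` does not centralize `V`
          have hlt := hAmin C hCA hCK'
          set W := V ⊓ centralizer (C : Set H) with hW
          have hUW : U ≤ W := inf_le_inf_left _ (centralizer_le hCA.le)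
          have hWlt : Nat.card W < p * Nat.card U := by
            refine Nat.lt_of_mul_lt_mul_left (a := Nat.card C) ?_
            calc Nat.card C * Nat.card W < Nat.card V * Nat.card ↥(C ⊓ centralizer (V : Set H)) := hlt
              _ = Nat.card V * Nat.card ↥(A ⊓ centralizer (V : Set H)) := by rw [hCK]
              _ ≤ Nat.card A * Nat.card U := hAoff
              _ ≤ p * Nat.card C * Nat.card U := Nat.mul_le_mul_right _ hidxC
              _ = Nat.card C * (p * Nat.card U) := by ring
          have hWU : U = W := by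
            refine eq_of_le_of_card_ge hUW ?_
            obtain ⟨i, hi⟩ := IsPGroup.iff_card.mp (hVp.to_le (inf_le_left : W ≤ V))
            obtain ⟨j, hj⟩ := IsPGroup.iff_card.mp (hVp.to_le (inf_le_left : U ≤ V))
            rw [hi, hj, ← pow_succ', Nat.pow_lt_pow_iff_right hp.out.one_lt] at hWlt
            rw [hi, hj]
            exact Nat.pow_le_pow_right hp.out.pos (by omega)
          exact hfixcase (haU _ (hWU ▸ hwW))
      have hprodfull : ∏ y ∈ full, π (f y) = 1 := by
        rw [hfull, Finset.prod_image hinj, Finset.prod_product]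
        refine Eq.trans (Finset.prod_congr rfl fun i _ => ?_) hprod
        rw [hw, map_prod, map_prod]
        exact Finset.prod_congr rfl fun y _ => by rw [hfsmul]
      have hofull : o ∈ full := by
        simp only [hfull, hO, Finset.mem_image, Finset.mem_product, Finset.mem_univ, true_and,
          Finset.mem_range]
        exact ⟨⟨0, o⟩, ⟨hp.out.pos, ⟨1, by simp⟩⟩, by simp⟩
      have ho₀full : o₀ ∉ full := fun h => by
        simp only [hfull, hO, Finset.mem_image, Finset.mem_product, Finset.mem_univ, true_and,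
          Finset.mem_range] at h
        obtain ⟨⟨i, _⟩, ⟨-, r, rfl⟩, e⟩ := h
        refine hone ?_
        have h1 : a ^ i * ((r : D) : H) ∈ D := mul_mem (pow_mem (hAD haA) i) (r : D).2
        rw [← hfixed _ h1, ← smul_smul] at e
        exact smul_left_cancel _ (smul_left_cancel _ e)
      have hlt : (s \ full).card ≤ n := by
        have : (s \ full).card < s.card :=
          Finset.card_lt_card (Finset.sdiff_ssubset hfulls ⟨o, hofull⟩)
        omega
      rw [← Finset.prod_sdiff hfulls, hprodfull, mul_one, ih _ hlt (fun d hd y hy => by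
        rw [Finset.mem_sdiff] at hy ⊢
        refine ⟨hinv d hd y hy.1, fun h => hy.2 ?_⟩
        have := hfullinv d⁻¹ (inv_mem hd) _ h
        rwa [inv_smul_smul] at this)]
      simp [ho₀full]
  -- conclusion
  set Pr : Vx := ∏ o : H ⧸ M, f o with hPr
  have hπPr : π Pr = π ⟨x, hxVx⟩ := by
    rw [hPr, map_prod, hcancel _ Finset.univ le_rfl (fun d _ o _ => Finset.mem_univ _),
      if_pos (Finset.mem_univ _)]
  have hPrfix : ∀ h, conjV h Pr = Pr := by
    intro h
    rw [hPr, map_prod]
    exact Fintype.prod_equiv (MulAction.toPerm h) _ _ fun o => (hfsmul h o).symm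
  have hstep : ∀ h : H, ∃ u : Vx, conjV h ⟨x, hxVx⟩ = ⟨x, hxVx⟩ * u ^ p := by
    intro h
    obtain ⟨u, hu⟩ : Pr⁻¹ * ⟨x, hxVx⟩ ∈ P := QuotientGroup.eq.mp (show (Pr : Vx ⧸ P) = ((⟨x, hxVx⟩ : Vx) : Vx ⧸ P) from hπPr)
    have e : (⟨x, hxVx⟩ : Vx) = Pr * u ^ p := by
      rw [show u ^ p = Pr⁻¹ * ⟨x, hxVx⟩ from hu, mul_inv_cancel_left]
    refine ⟨conjV h u * u⁻¹, ?_⟩
    rw [mul_pow, inv_pow, e, map_mul, hPrfix, map_pow]
    rw [mul_assoc, mul_left_comm (u ^ p), mul_inv_cancel, mul_one]
  -- the normal closure is cyclic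
  have hgen : ∀ v : Vx, ∃ (j : ℤ) (u : Vx), v = (⟨x, hxVx⟩ : Vx) ^ j * u ^ p := by
    let S : Subgroup Vx := zpowers (⟨x, hxVx⟩ : Vx) ⊔ P
    suffices h : S = ⊤ by
      intro v
      obtain ⟨c, hc, d, ⟨u, hu⟩, e⟩ := mem_sup.mp (h ▸ mem_top v : v ∈ S)
      obtain ⟨j, hj⟩ := mem_zpowers_iff.mp hc
      exact ⟨j, u, by rw [← e, ← hj, ← hu]; rfl⟩
    rw [eq_top_iff]
    rintro ⟨v, hv⟩ -
    have hS : ∀ (h : H) (v : Vx), v ∈ S → conjV h v ∈ S := by
      intro h v hv
      obtain ⟨c, hc, d, ⟨u, rfl⟩, rfl⟩ := mem_sup.mp hv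
      obtain ⟨j, rfl⟩ := mem_zpowers_iff.mp hc
      rw [map_mul, map_zpow]
      obtain ⟨u', hu'⟩ := hstep h
      refine mul_mem (zpow_mem ?_ j) ?_
      · rw [hu']; exact mul_mem (mem_sup_left (mem_zpowers _)) (mem_sup_right ⟨u', rfl⟩)
      · exact mem_sup_right ⟨conjV h u, by simp⟩
    haveI : (S.map Vx.subtype).Normal := ⟨fun n hn g => by
      obtain ⟨c, hc, rfl⟩ := hn
      exact ⟨conjV g c, hS g c hc, rfl⟩⟩
    have h1 : Vx ≤ S.map Vx.subtype := normalClosure_le_normal
      (Set.singleton_subset_iff.mpr ⟨_, mem_sup_left (mem_zpowers _), rfl⟩)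
    obtain ⟨c, hc, e⟩ := h1 hv
    exact (Subtype.ext e : c = ⟨v, hv⟩) ▸ hc
  obtain ⟨k, hk⟩ := hVp.to_le hVxV ⟨x, hxVx⟩
  have hcyc : ∀ v : Vx, v ∈ zpowers (⟨x, hxVx⟩ : Vx) := by
    intro v
    obtain ⟨N, hN⟩ := IsPGroup.iff_card.mp (hVp.to_le hVxV)
    have key : ∀ i : ℕ, ∀ v : Vx, ∃ (j : ℤ) (u : Vx), v = (⟨x, hxVx⟩ : Vx) ^ j * u ^ p ^ i := by
      intro i
      induction i with
      | zero => intro v; exact ⟨0, v, by simp⟩
      | succ i ih =>
        intro v
        obtain ⟨j, u, e⟩ := ih v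
        obtain ⟨j', u', e'⟩ := hgen u
        refine ⟨j + j' * p ^ i, u', ?_⟩
        rw [e, e', mul_pow, ← zpow_natCast ((⟨x, hxVx⟩ : Vx) ^ j'), ← zpow_mul, zpow_add, mul_assoc,
          ← pow_mul u', pow_succ']
        push_cast
        rfl
    obtain ⟨j, u, e⟩ := key N v
    rw [← hN, pow_card_eq_one', mul_one] at e
    exact ⟨j, e.symm⟩
  intro h _
  obtain ⟨u, hu⟩ := hstep h
  obtain ⟨t, ht⟩ := hcyc u
  replace hu : conjV h ⟨x, hxVx⟩ = (⟨x, hxVx⟩ : Vx) ^ (1 + (p : ℤ) * t) := by
    rw [hu, ← ht, zpow_add, zpow_one]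
    congr 1
    show ((⟨x, hxVx⟩ : Vx) ^ t) ^ p = _
    rw [← zpow_natCast, ← zpow_mul, mul_comm]
  have hiter : ∀ n : ℕ, conjV (h ^ n) ⟨x, hxVx⟩ = (⟨x, hxVx⟩ : Vx) ^ ((1 + (p : ℤ) * t) ^ n) := by
    intro n
    induction n with
    | zero => exact Subtype.ext (by simp [conjV])
    | succ n ih => rw [pow_succ', conjV_mul, ih, map_zpow, hu, ← zpow_mul, pow_succ']
  have hpk : h ^ p ^ k ∈ M := by
    obtain ⟨c, hc⟩ : ((p : ℤ) ^ (k + 1)) ∣ (1 + (p : ℤ) * t) ^ p ^ k - 1 ^ p ^ k :=
      dvd_sub_pow_of_dvd_sub (by simp) k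
    rw [one_pow, sub_eq_iff_eq_add] at hc
    have h1 := congrArg Subtype.val (hiter (p ^ k))
    rw [hc, zpow_add, zpow_one, pow_succ, mul_assoc, zpow_mul, ← Nat.cast_pow, zpow_natCast, hk,
      one_zpow, one_mul] at h1
    exact hmemM.mpr (mul_inv_eq_iff_eq_mul.mp h1)
  have hMn : M.Normal := ⟨fun m hm g => by
    rw [hmemM]
    obtain ⟨j, hj⟩ := hcyc (conjV g⁻¹ ⟨x, hxVx⟩)
    have hj' : x ^ j = g⁻¹ * x * g := by simpa [conjV] using congrArg Subtype.val hj
    have hc : Commute m (g⁻¹ * x * g) := hj' ▸ (hmemM.mp hm).zpow_right j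
    have := hc.map (MulAut.conj g).toMonoidHom
    simpa [MulAut.conj_apply, mul_assoc] using this⟩
  have hidx : h ^ M.index ∈ M := pow_index_mem M h
  have hco : (p ^ k).Coprime M.index :=
    ((hp.out.coprime_iff_not_dvd).mpr fun hd => T.not_dvd_index (hd.trans (index_dvd_of_le hTM))).pow_left k
  obtain ⟨r, s, hrs⟩ : IsCoprime ((p ^ k : ℕ) : ℤ) (M.index : ℤ) :=
    Int.isCoprime_iff_nat_coprime.mpr hco
  rw [← zpow_one h, ← hrs, zpow_add, mul_comm r, zpow_mul, mul_comm s, zpow_mul, zpow_natCast,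
    zpow_natCast]
  exact mul_mem (zpow_mem hpk r) (zpow_mem hidx s)

end Cfsg.Lib.Local.Central
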