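import Cfsg.Prelude.Def_Amalgam
import Cfsg.Agent.Lib.Core.Cores
import Cfsg.Agent.Lib.Fusion.Basic

/-!
The coset graph of a pair of subgroups and the first steps of the amalgam method.
-/

set_option autoImplicit false

namespace Cfsg.Lib.Local

open Subgroup Cfsg.Lib MulAction

variable {X : Type*} [Group X] {M₁ M₂ : Subgroup X}

theorem cosetGraph_adj {a b : CosetVertex M₁ M₂} :
    (cosetGraph M₁ M₂).Adj a b ↔ ∃ x : X,
      (a = Sum.inl (x : X ⧸ M₁) ∧ b = Sum.inr (x : X ⧸ M₂)) ∨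
      (b = Sum.inl (x : X ⧸ M₁) ∧ a = Sum.inr (x : X ⧸ M₂)) := by
  rw [cosetGraph, SimpleGraph.fromRel_adj]
  constructor
  · rintro ⟨-, ⟨x, h⟩ | ⟨x, h⟩⟩
    exacts [⟨x, Or.inl h⟩, ⟨x, Or.inr h⟩]
  · rintro ⟨x, ⟨rfl, rfl⟩ | ⟨rfl, rfl⟩⟩
    · exact ⟨Sum.inl_ne_inr, Or.inl ⟨x, rfl, rfl⟩⟩
    · exact ⟨Sum.inr_ne_inl, Or.inr ⟨x, rfl, rfl⟩⟩

theorem cosetGraph_adj_smul {a b : CosetVertex M₁ M₂} (h : (cosetGraph M₁ M₂).Adj a b) (g : X) :
    (cosetGraph M₁ M₂).Adj (g • a) (g • b) := by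
  obtain ⟨x, ⟨rfl, rfl⟩ | ⟨rfl, rfl⟩⟩ := cosetGraph_adj.mp h
  · exact cosetGraph_adj.mpr ⟨g * x, Or.inl ⟨rfl, rfl⟩⟩
  · exact cosetGraph_adj.mpr ⟨g * x, Or.inr ⟨rfl, rfl⟩⟩

theorem stabilizer_coset (M : Subgroup X) (x : X) :
    stabilizer X (x : X ⧸ M) = M.map (MulAut.conj x).toMonoidHom := by
  ext g
  rw [mem_stabilizer_iff, Core.mem_map_conj]
  show ((g * x : X) : X ⧸ M) = (x : X ⧸ M) ↔ _
  rw [eq_comm, QuotientGroup.eq, mul_assoc]

theorem stabilizer_inl (x : X) :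
    stabilizer X (Sum.inl (x : X ⧸ M₁) : CosetVertex M₁ M₂) = M₁.map (MulAut.conj x).toMonoidHom := by
  rw [← stabilizer_coset]
  ext g
  rw [mem_stabilizer_iff, mem_stabilizer_iff]
  show (Sum.inl (g • (x : X ⧸ M₁)) : CosetVertex M₁ M₂) = Sum.inl _ ↔ _
  exact ⟨fun h => Sum.inl_injective h, fun h => congrArg Sum.inl h⟩

theorem stabilizer_inr (x : X) :
    stabilizer X (Sum.inr (x : X ⧸ M₂) : CosetVertex M₁ M₂) = M₂.map (MulAut.conj x).toMonoidHom := by
  rw [← stabilizer_coset]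
  ext g
  rw [mem_stabilizer_iff, mem_stabilizer_iff]
  show (Sum.inr (g • (x : X ⧸ M₂)) : CosetVertex M₁ M₂) = Sum.inr _ ↔ _
  exact ⟨fun h => Sum.inr_injective h, fun h => congrArg Sum.inr h⟩

theorem edgeStabilizer_of_adj {a b : CosetVertex M₁ M₂} (h : (cosetGraph M₁ M₂).Adj a b) :
    ∃ x : X, edgeStabilizer a b = (M₁ ⊓ M₂).map (MulAut.conj x).toMonoidHom ∧
      ((stabilizer X a = M₁.map (MulAut.conj x).toMonoidHom ∧
          stabilizer X b = M₂.map (MulAut.conj x).toMonoidHom) ∨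
        (stabilizer X a = M₂.map (MulAut.conj x).toMonoidHom ∧
          stabilizer X b = M₁.map (MulAut.conj x).toMonoidHom)) := by
  obtain ⟨x, ⟨rfl, rfl⟩ | ⟨rfl, rfl⟩⟩ := cosetGraph_adj.mp h
  · refine ⟨x, ?_, Or.inl ⟨stabilizer_inl x, stabilizer_inr x⟩⟩
    rw [edgeStabilizer, stabilizer_inl, stabilizer_inr, Subgroup.map_inf _ _ _ (MulAut.conj x).injective]
  · refine ⟨x, ?_, Or.inr ⟨stabilizer_inr x, stabilizer_inl x⟩⟩
    rw [edgeStabilizer, stabilizer_inl, stabilizer_inr, Subgroup.map_inf _ _ _ (MulAut.conj x).injective,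
      inf_comm]

theorem exists_smul_eq_of_adj {δ μ μ' : CosetVertex M₁ M₂} (hμ : (cosetGraph M₁ M₂).Adj δ μ)
    (hμ' : (cosetGraph M₁ M₂).Adj δ μ') : ∃ g ∈ stabilizer X δ, g • μ = μ' := by
  obtain ⟨y, ⟨h1, rfl⟩ | ⟨rfl, h1⟩⟩ := cosetGraph_adj.mp hμ <;>
    obtain ⟨z, ⟨h2, rfl⟩ | ⟨rfl, h2⟩⟩ := cosetGraph_adj.mp hμ' <;>
    rw [h1] at h2 <;> first | exact absurd h2 Sum.inl_ne_inr | exact absurd h2 Sum.inr_ne_inl | skip
  · refine ⟨z * y⁻¹, mem_stabilizer_iff.mpr ?_, ?_⟩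
    · rw [h1]
      conv_rhs => rw [h2]
      exact congrArg Sum.inl (congrArg QuotientGroup.mk (inv_mul_cancel_right z y) :)
    · exact congrArg Sum.inr (congrArg QuotientGroup.mk (inv_mul_cancel_right z y) :)
  · refine ⟨z * y⁻¹, mem_stabilizer_iff.mpr ?_, ?_⟩
    · rw [h1]
      conv_rhs => rw [h2]
      exact congrArg Sum.inr (congrArg QuotientGroup.mk (inv_mul_cancel_right z y) :)
    · exact congrArg Sum.inl (congrArg QuotientGroup.mk (inv_mul_cancel_right z y) :)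

/-- The vertex action as a graph homomorphism. -/
def smulHom (g : X) : cosetGraph M₁ M₂ →g cosetGraph M₁ M₂ :=
  ⟨fun v => g • v, fun h => cosetGraph_adj_smul h g⟩

theorem cosetGraph_connected (hgen : M₁ ⊔ M₂ = ⊤) : (cosetGraph M₁ M₂).Connected := by
  set G := cosetGraph M₁ M₂
  let o : CosetVertex M₁ M₂ := Sum.inl ((1 : X) : X ⧸ M₁)
  let R : Subgroup X :=
    { carrier := {x | G.Reachable o (x • o)}
      one_mem' := by simp
      mul_mem' := fun {a b} ha hb => by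
        refine SimpleGraph.Reachable.trans ha ?_
        rw [mul_smul]
        exact hb.map (smulHom a)
      inv_mem' := fun {a} ha => by
        have := (ha.map (smulHom a⁻¹)).symm
        simpa [smulHom] using this }
  have hR : ∀ x : X, x ∈ R := by
    intro x
    refine (hgen ▸ sup_le (fun m hm => ?_) (fun m hm => ?_) : (⊤ : Subgroup X) ≤ R) (mem_top x)
    · show G.Reachable o (m • o)
      have : m • o = o := by
        refine congrArg Sum.inl (QuotientGroup.eq.mpr ?_)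
        simpa using M₁.inv_mem hm
      rw [this]
    · show G.Reachable o (m • o)
      have h1 : G.Adj o (Sum.inr ((1 : X) : X ⧸ M₂)) := cosetGraph_adj.mpr ⟨1, Or.inl ⟨rfl, rfl⟩⟩
      have h2 : G.Adj (Sum.inr ((m * 1 : X) : X ⧸ M₂)) (m • o) :=
        cosetGraph_adj.mpr ⟨m * 1, Or.inr ⟨rfl, rfl⟩⟩
      have h3 : ((m * 1 : X) : X ⧸ M₂) = ((1 : X) : X ⧸ M₂) :=
        QuotientGroup.eq.mpr (by simpa using M₂.inv_mem hm)
      rw [h3] at h2
      exact h1.reachable.trans h2.reachable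
  have hl : ∀ x : X, G.Reachable o (Sum.inl (x : X ⧸ M₁)) := fun x => by
    have h : G.Reachable o (Sum.inl ((x * 1 : X) : X ⧸ M₁)) := hR x
    rwa [mul_one] at h
  have hall : ∀ v, G.Reachable o v := by
    rintro (c | c) <;> obtain ⟨x, rfl⟩ := QuotientGroup.mk_surjective c
    · exact hl x
    · exact (hl x).trans (cosetGraph_adj.mpr ⟨x, Or.inl ⟨rfl, rfl⟩⟩ : G.Adj _ _).reachable
  exact SimpleGraph.Connected.mk fun u v => (hall u).symm.trans (hall v)

theorem toPermHom_injective (h : ∀ N : Subgroup X, N ≤ M₁ ⊓ M₂ → N.Normal → N = ⊥) :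
    Function.Injective (MulAction.toPermHom X (CosetVertex M₁ M₂)) := by
  refine (MonoidHom.ker_eq_bot_iff _).mp (h _ (fun g hg => ?_) inferInstance)
  have hfix : ∀ v : CosetVertex M₁ M₂, g • v = v := fun v =>
    congrArg (fun e : Equiv.Perm _ => e v) (MonoidHom.mem_ker.mp hg)
  constructor
  · have h1 := mem_stabilizer_iff.mpr (hfix (Sum.inl ((1 : X) : X ⧸ M₁)))
    rw [stabilizer_inl, Core.mem_map_conj] at h1
    simpa using h1
  · have h1 := mem_stabilizer_iff.mpr (hfix (Sum.inr ((1 : X) : X ⧸ M₂)))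
    rw [stabilizer_inr, Core.mem_map_conj] at h1
    simpa using h1

/-- A subgroup of an edge stabilizer whose normalizer is transitive on both neighbourhoods is
trivial. -/
theorem eq_bot_of_transitive (h : IsAmalgamPair M₁ M₂) {δ μ : CosetVertex M₁ M₂}
    (hμ : (cosetGraph M₁ M₂).Adj δ μ) {T : Subgroup X} (hT : T ≤ edgeStabilizer δ μ)
    (hδ : ∀ ν ν' : CosetVertex M₁ M₂, (cosetGraph M₁ M₂).Adj δ ν → (cosetGraph M₁ M₂).Adj δ ν' →
      ∃ g ∈ normalizer (T : Set X) ⊓ stabilizer X δ, g • ν = ν')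
    (hμ' : ∀ ν ν' : CosetVertex M₁ M₂, (cosetGraph M₁ M₂).Adj μ ν → (cosetGraph M₁ M₂).Adj μ ν' →
      ∃ g ∈ normalizer (T : Set X) ⊓ stabilizer X μ, g • ν = ν') : T = ⊥ := by
  set G := cosetGraph M₁ M₂
  set N := normalizer (T : Set X)
  let P : CosetVertex M₁ M₂ → Prop := fun v => ∃ n ∈ N, v = n • δ ∨ v = n • μ
  have hstep : ∀ v w, G.Adj v w → P v → P w := by
    rintro v w hvw ⟨n, hn, rfl | rfl⟩
    · obtain ⟨g, hg, hgw⟩ := hδ μ (n⁻¹ • w) hμ (by simpa using cosetGraph_adj_smul hvw n⁻¹)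
      exact ⟨n * g, mul_mem hn hg.1, Or.inr (by rw [mul_smul, hgw, smul_inv_smul])⟩
    · obtain ⟨g, hg, hgw⟩ := hμ' δ (n⁻¹ • w) hμ.symm (by simpa using cosetGraph_adj_smul hvw n⁻¹)
      exact ⟨n * g, mul_mem hn hg.1, Or.inl (by rw [mul_smul, hgw, smul_inv_smul])⟩
  have hall : ∀ v, P v := by
    intro v
    obtain ⟨w⟩ := (cosetGraph_connected h.1).preconnected δ v
    have key : ∀ {a b : CosetVertex M₁ M₂}, G.Walk a b → P a → P b := by
      intro a b w
      induction w with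
      | nil => exact id
      | cons hadj _ ih => exact fun ha => ih (hstep _ _ hadj ha)
    exact key w ⟨1, one_mem _, Or.inl (one_smul X δ).symm⟩
  rw [eq_bot_iff]
  intro t ht
  refine mem_bot.mpr (toPermHom_injective h.2.2.2 (Equiv.ext fun v => ?_))
  rw [map_one]
  show t • v = v
  obtain ⟨n, hn, hv⟩ := hall v
  have ht' : n⁻¹ * t * n ∈ edgeStabilizer δ μ := hT ((mem_normalizer_iff''.mp hn t).mp ht)
  rcases hv with rfl | rfl
  · have := mem_stabilizer_iff.mp ht'.1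
    rwa [mul_smul, mul_smul, inv_smul_eq_iff] at this
  · have := mem_stabilizer_iff.mp ht'.2
    rwa [mul_smul, mul_smul, inv_smul_eq_iff] at this

end Cfsg.Lib.Local
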