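import Cfsg.Prelude.Def_Amalgam
import Cfsg.Agent.Lib.Local.CosetGraph

/-!
First steps of the amalgam method for a characteristic `p` pair: `Q_δ` fixes the neighbours,
the groups `Z_δ`, critical pairs.
-/

set_option autoImplicit false
set_option linter.style.haveILetI false

namespace Cfsg.Lib.Local

open Subgroup Cfsg.Lib MulAction

variable {X : Type*} [Group X] {p : ℕ}

/-- `T` is (the image in `X` of) a Sylow `p`-subgroup of `H`. -/
def IsSylowIn (p : ℕ) (T H : Subgroup X) : Prop := ∃ P : Sylow p H, (P : Subgroup H).map H.subtype = T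

theorem IsSylowIn.le {T H : Subgroup X} (h : IsSylowIn p T H) : T ≤ H := by
  obtain ⟨P, rfl⟩ := h
  exact map_subtype_le _

theorem IsSylowIn.isPGroup {T H : Subgroup X} (h : IsSylowIn p T H) : IsPGroup p T := by
  obtain ⟨P, rfl⟩ := h
  exact P.isPGroup'.map _

theorem IsSylowIn.card_eq [Fact p.Prime] {T H : Subgroup X} [Finite H] (h : IsSylowIn p T H) :
    Nat.card T = p ^ (Nat.card H).factorization p := by
  obtain ⟨P, rfl⟩ := h
  rw [← Nat.card_congr ((P : Subgroup H).equivMapOfInjective _ H.subtype_injective).toEquiv]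
  exact P.card_eq_multiplicity

theorem isSylowIn_of_card [Fact p.Prime] {T H : Subgroup X} [Finite H] (hle : T ≤ H) (hp : IsPGroup p T)
    (hc : p ^ (Nat.card H).factorization p ≤ Nat.card T) : IsSylowIn p T H := by
  obtain ⟨P, hP⟩ := (hp.comap_subtype : IsPGroup p (T.subgroupOf H)).exists_le_sylow
  refine ⟨P, ?_⟩
  have h1 : T ≤ (P : Subgroup H).map H.subtype := by
    rw [← map_subgroupOf_eq_of_le hle]; exact map_mono hP
  haveI : Finite ((P : Subgroup H).map H.subtype) := (Set.toFinite _ |>.image H.subtype).to_subtype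
  refine (Subgroup.eq_of_le_of_card_ge h1 ?_).symm
  rwa [← Nat.card_congr ((P : Subgroup H).equivMapOfInjective _ H.subtype_injective).toEquiv,
    P.card_eq_multiplicity]

theorem card_map_equiv (e : X ≃* X) (H : Subgroup X) :
    Nat.card (H.map e.toMonoidHom) = Nat.card H :=
  (Nat.card_congr (e.subgroupMap H).toEquiv).symm

theorem IsSylowIn.map [Fact p.Prime] {T H : Subgroup X} [Finite H] (h : IsSylowIn p T H) (e : X ≃* X) :
    IsSylowIn p (T.map e.toMonoidHom) (H.map e.toMonoidHom) := by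
  haveI : Finite (H.map e.toMonoidHom) := Finite.of_equiv _ (e.subgroupMap H).toEquiv
  refine isSylowIn_of_card (map_mono h.le) (h.isPGroup.map _) (le_of_eq ?_)
  rw [card_map_equiv, card_map_equiv, h.card_eq]

theorem IsSylowIn.le_of_isPGroup [Fact p.Prime] {T H R : Subgroup X} [Finite H] (h : IsSylowIn p T H)
    (hR : R ≤ H) (hp : IsPGroup p R) (hTR : T ≤ R) : R = T := by
  obtain ⟨P, hP⟩ := h
  have : R.subgroupOf H = (P : Subgroup H) := P.is_maximal' hp.comap_subtype (fun x hx =>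
    mem_subgroupOf.mpr (hTR (hP ▸ mem_map_of_mem _ hx)))
  rw [← hP, ← this, map_subgroupOf_eq_of_le hR]

theorem IsSylowIn.exists_conj [Fact p.Prime] {T T' H : Subgroup X} [Finite H] (h : IsSylowIn p T H)
    (h' : IsSylowIn p T' H) : ∃ g ∈ H, T.map (MulAut.conj g).toMonoidHom = T' := by
  obtain ⟨P, rfl⟩ := h
  obtain ⟨P', rfl⟩ := h'
  obtain ⟨g, rfl⟩ := exists_smul_eq H P P'
  refine ⟨g, g.2, ?_⟩
  rw [Sylow.coe_subgroup_smul, Subgroup.pointwise_smul_def, map_map]
  exact (map_map (P : Subgroup H) H.subtype (MulAut.conj g).toMonoidHom).symm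

theorem pCoreOf_map (H : Subgroup X) [Finite H] (e : X ≃* X) :
    pCoreOf p (H.map e.toMonoidHom) = (pCoreOf p H).map e.toMonoidHom := by
  haveI hfin : Finite (H.map e.toMonoidHom) := Finite.of_equiv _ (e.subgroupMap H).toEquiv
  let e' : H ≃* H.map e.toMonoidHom := e.subgroupMap H
  rw [pCoreOf, ← Core.map_pCore_equiv (p := p) e', map_map, pCoreOf, map_map]
  rfl

theorem omegaCenter_map (p : ℕ) (T : Subgroup X) (e : X ≃* X) :
    (omegaOne p (T ⊓ centralizer (T : Set X))).map e.toMonoidHom =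
      omegaOne p (T.map e.toMonoidHom ⊓ centralizer ((T.map e.toMonoidHom : Subgroup X) : Set X)) := by
  rw [omegaOne, MonoidHom.map_closure]
  refine congrArg Subgroup.closure (Set.ext fun x => ⟨?_, ?_⟩)
  · rintro ⟨y, ⟨⟨hyT, hyC⟩, hyp⟩, rfl⟩
    refine ⟨⟨mem_map_of_mem _ hyT, mem_centralizer_iff.mpr ?_⟩, ?_⟩
    · rintro _ ⟨z, hz, rfl⟩
      show e z * e y = e y * e z
      rw [← map_mul, mem_centralizer_iff.mp hyC z hz, map_mul]
    · show e y ^ p = 1
      rw [← map_pow, hyp, map_one]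
  · rintro ⟨⟨⟨y, hy, rfl⟩, hC⟩, hp⟩
    refine ⟨y, ⟨⟨hy, mem_centralizer_iff.mpr fun z hz => e.injective ?_⟩, e.injective ?_⟩, rfl⟩
    · rw [map_mul, map_mul]
      exact mem_centralizer_iff.mp hC (e z) (mem_map_of_mem _ hz)
    · rw [map_pow, map_one]
      exact hp

theorem sylowCenterClosure_le_self (H : Subgroup X) : sylowCenterClosure p H ≤ H :=
  iSup_le fun _ => (closure_le _).mpr fun _ hx => map_subtype_le _ hx.1.1

theorem omegaCenter_le_closure {T H : Subgroup X} (h : IsSylowIn p T H) :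
    omegaOne p (T ⊓ centralizer (T : Set X)) ≤ sylowCenterClosure p H := by
  obtain ⟨P, rfl⟩ := h
  exact le_iSup (fun S : Sylow p H => omegaOne p (((S : Subgroup H).map H.subtype) ⊓
    centralizer (((S : Subgroup H).map H.subtype : Subgroup X) : Set X))) P

theorem sylowCenterClosure_normalized [Fact p.Prime] (H : Subgroup X) [Finite H] :
    H ≤ normalizer (sylowCenterClosure p H : Set X) := by
  refine Core.le_normalizer_iff_conj_mem.mpr fun g hg z hz => ?_
  suffices hsuff : sylowCenterClosure p H ≤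
      (sylowCenterClosure p H).comap (MulAut.conj g).toMonoidHom from hsuff hz
  refine iSup_le fun S => map_le_iff_le_comap.mp ?_
  have hH : H.map (MulAut.conj g).toMonoidHom = H :=
    Core.map_conj_eq_of_mem_normalizer (le_normalizer hg)
  have hS := IsSylowIn.map (p := p) (H := H) (T := (S : Subgroup H).map H.subtype) ⟨S, rfl⟩
    (MulAut.conj g)
  rw [hH] at hS
  rw [omegaCenter_map]
  exact omegaCenter_le_closure hS

theorem pElementClosure_le (H : Subgroup X) : pElementClosure p H ≤ H :=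
  (closure_le _).mpr fun _ hx => hx.1

theorem pElementClosure_normalized (H : Subgroup X) :
    H ≤ normalizer (pElementClosure p H : Set X) := by
  refine Core.le_normalizer_iff_conj_mem.mpr fun g hg x hx => ?_
  suffices hsuff : pElementClosure p H ≤
      (pElementClosure p H).comap (MulAut.conj g).toMonoidHom from hsuff hx
  refine (closure_le _).mpr ?_
  rintro y ⟨hy, k, hk⟩
  refine subset_closure ⟨H.mul_mem (H.mul_mem hg hy) (H.inv_mem hg), k, ?_⟩
  rw [← hk]
  exact orderOf_injective (MulAut.conj g).toMonoidHom (MulAut.conj g).injective y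

theorem IsSylowIn.le_pElementClosure [Fact p.Prime] {T H : Subgroup X} (h : IsSylowIn p T H) :
    T ≤ pElementClosure p H := fun t ht => by
  obtain ⟨k, hk⟩ := IsPGroup.iff_orderOf.mp h.isPGroup ⟨t, ht⟩
  exact subset_closure ⟨h.le ht, k, (Subgroup.orderOf_mk t ht).symm.trans hk⟩

section Pair

variable {M₁ M₂ : Subgroup X}

theorem mem_neighbourKernel {δ : CosetVertex M₁ M₂} {g : X} :
    g ∈ neighbourKernel δ ↔
      g ∈ stabilizer X δ ∧ ∀ μ, (cosetGraph M₁ M₂).Adj δ μ → g ∈ stabilizer X μ := by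
  simp only [neighbourKernel, mem_inf, mem_iInf, SimpleGraph.mem_neighborSet]

theorem le_neighbourKernel_iff {δ : CosetVertex M₁ M₂} {A : Subgroup X} :
    A ≤ neighbourKernel δ ↔
      A ≤ stabilizer X δ ∧ ∀ μ, (cosetGraph M₁ M₂).Adj δ μ → A ≤ stabilizer X μ :=
  ⟨fun h => ⟨fun _ ha => (mem_neighbourKernel.mp (h ha)).1,
    fun μ hμ _ ha => (mem_neighbourKernel.mp (h ha)).2 μ hμ⟩,
    fun h _ ha => mem_neighbourKernel.mpr ⟨h.1 ha, fun μ hμ => h.2 μ hμ ha⟩⟩

theorem exists_map_stabilizer (δ : CosetVertex M₁ M₂) :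
    ∃ x : X, stabilizer X δ = M₁.map (MulAut.conj x).toMonoidHom ∨
      stabilizer X δ = M₂.map (MulAut.conj x).toMonoidHom := by
  rcases δ with c | c <;> obtain ⟨x, rfl⟩ := QuotientGroup.mk_surjective c
  · exact ⟨x, Or.inl (stabilizer_inl x)⟩
  · exact ⟨x, Or.inr (stabilizer_inr x)⟩

theorem finite_stabilizer (h1 : Finite M₁) (h2 : Finite M₂) (δ : CosetVertex M₁ M₂) :
    Finite (stabilizer X δ) := by
  obtain ⟨x, hx | hx⟩ := exists_map_stabilizer δ <;> rw [hx] <;>
    exact Finite.of_equiv _ ((MulAut.conj x).subgroupMap _).toEquiv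

theorem factorization_card_eq [Fact p.Prime] (h : IsCharPAmalgamPair p M₁ M₂) :
    (Nat.card ↥(M₁ ⊓ M₂)).factorization p = (Nat.card M₁).factorization p ∧
      (Nat.card ↥(M₁ ⊓ M₂)).factorization p = (Nat.card M₂).factorization p := by
  haveI := h.2.1
  haveI := h.2.2.1
  haveI : Finite ↥(M₁ ⊓ M₂) := Finite.of_injective _ (Subgroup.inclusion_injective inf_le_left)
  have hp := (Fact.out : p.Prime).two_le
  have := h.2.2.2.2.2.1 default default default
  rw [Sylow.card_eq_multiplicity, Sylow.card_eq_multiplicity, Sylow.card_eq_multiplicity] at this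
  exact ⟨Nat.pow_right_injective hp this.1, Nat.pow_right_injective hp this.2⟩

/-- A Sylow subgroup of an edge stabilizer is a Sylow subgroup of both vertex stabilizers. -/
theorem isSylowIn_of_edge [Fact p.Prime] (h : IsCharPAmalgamPair p M₁ M₂) {δ μ : CosetVertex M₁ M₂}
    (hμ : (cosetGraph M₁ M₂).Adj δ μ) {T : Subgroup X} (hT : IsSylowIn p T (edgeStabilizer δ μ)) :
    IsSylowIn p T (stabilizer X δ) ∧ IsSylowIn p T (stabilizer X μ) := by
  obtain ⟨f1, f2⟩ := factorization_card_eq h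
  haveI := finite_stabilizer h.2.1 h.2.2.1 δ
  haveI := finite_stabilizer h.2.1 h.2.2.1 μ
  haveI : Finite ↥(edgeStabilizer δ μ) :=
    Finite.of_injective _ (Subgroup.inclusion_injective inf_le_left)
  obtain ⟨x, he, hcase⟩ := edgeStabilizer_of_adj hμ
  have hcT := hT.card_eq
  rw [he, card_map_equiv] at hcT
  refine ⟨isSylowIn_of_card (hT.le.trans inf_le_left) hT.isPGroup ?_,
    isSylowIn_of_card (hT.le.trans inf_le_right) hT.isPGroup ?_⟩ <;>
    rcases hcase with ⟨hd, hm⟩ | ⟨hd, hm⟩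
  · rw [hcT, hd, card_map_equiv, f1]
  · rw [hcT, hd, card_map_equiv, f2]
  · rw [hcT, hm, card_map_equiv, f2]
  · rw [hcT, hm, card_map_equiv, f1]

theorem pCoreOf_le_other [Fact p.Prime] (h : IsCharPAmalgamPair p M₁ M₂) :
    pCoreOf p M₁ ≤ M₂ ∧ pCoreOf p M₂ ≤ M₁ := by
  obtain ⟨f1, f2⟩ := factorization_card_eq h
  haveI := h.2.1
  haveI := h.2.2.1
  haveI : Finite ↥(M₁ ⊓ M₂) := Finite.of_injective _ (Subgroup.inclusion_injective inf_le_left)
  obtain ⟨S⟩ : Nonempty (Sylow p ↥(M₁ ⊓ M₂)) := inferInstance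
  have hS : IsSylowIn p _ (M₁ ⊓ M₂) := ⟨S, rfl⟩
  have key : ∀ (M : Subgroup X) [Finite M], M₁ ⊓ M₂ ≤ M →
      (Nat.card ↥(M₁ ⊓ M₂)).factorization p = (Nat.card M).factorization p →
        pCoreOf p M ≤ (S : Subgroup ↥(M₁ ⊓ M₂)).map (M₁ ⊓ M₂).subtype := by
    intro M _ hle hf
    obtain ⟨P, hP⟩ := isSylowIn_of_card (hS.le.trans hle) hS.isPGroup (le_of_eq (hf ▸ hS.card_eq.symm))
    rw [← hP]
    exact map_mono (Core.pCore_le_sylow P)
  exact ⟨(key M₁ inf_le_left f1).trans (hS.le.trans inf_le_right),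
    (key M₂ inf_le_right f2).trans (hS.le.trans inf_le_left)⟩

theorem vertexQ_le_neighbourKernel [Fact p.Prime] (h : IsCharPAmalgamPair p M₁ M₂)
    (δ : CosetVertex M₁ M₂) : vertexQ p δ ≤ neighbourKernel δ := by
  obtain ⟨q1, q2⟩ := pCoreOf_le_other h
  haveI := h.2.1
  haveI := h.2.2.1
  refine le_neighbourKernel_iff.mpr ⟨map_subtype_le _, fun μ hμ => ?_⟩
  obtain ⟨x, -, ⟨hd, hm⟩ | ⟨hd, hm⟩⟩ := edgeStabilizer_of_adj hμ <;>
    rw [vertexQ, hd, hm, pCoreOf_map]
  exacts [map_mono q1, map_mono q2]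

/-- Characteristic `p` of a vertex stabilizer. -/
theorem inf_centralizer_vertexQ_le [Fact p.Prime] (h : IsCharPAmalgamPair p M₁ M₂)
    (δ : CosetVertex M₁ M₂) :
    stabilizer X δ ⊓ centralizer (vertexQ p δ : Set X) ≤ vertexQ p δ := by
  haveI := h.2.1
  haveI := h.2.2.1
  have key : ∀ (M : Subgroup X) [Finite M], centralizer (pCore p M : Set M) ≤ pCore p M →
      ∀ e : X ≃* X, M.map e.toMonoidHom ⊓
        centralizer (pCoreOf p (M.map e.toMonoidHom) : Set X) ≤ pCoreOf p (M.map e.toMonoidHom) := by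
    rintro M _ hM e _ ⟨⟨m, hm, rfl⟩, hc⟩
    rw [pCoreOf_map] at hc ⊢
    refine mem_map_of_mem _ ⟨⟨m, hm⟩, hM (mem_centralizer_iff.mpr fun q hq => Subtype.ext ?_), rfl⟩
    apply e.injective
    show e ((q : X) * m) = e (m * q)
    rw [map_mul, map_mul]
    exact mem_centralizer_iff.mp hc (e q) (mem_map_of_mem _ (mem_map_of_mem _ hq))
  obtain ⟨x, hx | hx⟩ := exists_map_stabilizer δ <;> rw [vertexQ, hx]
  exacts [key M₁ h.2.2.2.2.2.2.1 _, key M₂ h.2.2.2.2.2.2.2 _]

theorem IsSylowIn.vertexQ_le [Fact p.Prime] (h : IsCharPAmalgamPair p M₁ M₂) {δ : CosetVertex M₁ M₂}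
    {T : Subgroup X} (hT : IsSylowIn p T (stabilizer X δ)) : vertexQ p δ ≤ T := by
  haveI := finite_stabilizer h.2.1 h.2.2.1 δ
  obtain ⟨P, rfl⟩ := hT
  exact map_mono (Core.pCore_le_sylow P)

theorem vertexZ_le_vertexQ [Fact p.Prime] (h : IsCharPAmalgamPair p M₁ M₂) (δ : CosetVertex M₁ M₂) :
    vertexZ p δ ≤ vertexQ p δ := by
  refine iSup_le fun S => (closure_le _).mpr fun z hz => inf_centralizer_vertexQ_le h δ
    ⟨map_subtype_le _ hz.1.1, centralizer_le ?_ hz.1.2⟩
  exact IsSylowIn.vertexQ_le h (δ := δ) ⟨S, rfl⟩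

theorem vertexZ_le_kernel_of_dist_lt {δ μ : CosetVertex M₁ M₂}
    (hd : (cosetGraph M₁ M₂).dist δ μ < criticalDistance p M₁ M₂) :
    vertexZ p δ ≤ neighbourKernel μ := by
  by_contra hcon
  exact Nat.notMem_of_lt_sInf hd ⟨δ, μ, rfl, hcon⟩

theorem criticalDistance_pos [Fact p.Prime] (h : IsCharPAmalgamPair p M₁ M₂)
    {α α' : CosetVertex M₁ M₂} (hc : IsCriticalPair p α α') : 0 < criticalDistance p M₁ M₂ := by
  by_contra hcon
  have hd : (cosetGraph M₁ M₂).dist α α' = 0 := by rw [hc.2]; omega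
  rw [((cosetGraph_connected h.1.1).preconnected α α').dist_eq_zero_iff] at hd
  exact hc.1 (hd ▸ (vertexZ_le_vertexQ h α).trans (vertexQ_le_neighbourKernel h α))

theorem exists_adj_dist {V : Type*} {G : SimpleGraph V} (hG : G.Connected) {a b : V} (h : 0 < G.dist a b) :
    ∃ v, G.Adj a v ∧ G.dist v b + 1 = G.dist a b := by
  obtain ⟨w, hw⟩ := hG.exists_walk_length_eq_dist a b
  cases w with
  | nil => simp at h
  | @cons _ v _ hadj w' =>
    refine ⟨v, hadj, ?_⟩
    have h1 := SimpleGraph.dist_le w'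
    have h2 := hG.dist_triangle (u := a) (v := v) (w := b)
    rw [SimpleGraph.dist_eq_one_iff_adj.mpr hadj] at h2
    rw [SimpleGraph.Walk.length_cons] at hw
    omega

theorem vertexZ_le_stabilizer_of_dist_le [Fact p.Prime] (h : IsCharPAmalgamPair p M₁ M₂)
    {δ μ : CosetVertex M₁ M₂} (hd : (cosetGraph M₁ M₂).dist δ μ ≤ criticalDistance p M₁ M₂) :
    vertexZ p δ ≤ stabilizer X μ := by
  rcases Nat.eq_zero_or_pos ((cosetGraph M₁ M₂).dist δ μ) with h0 | h0
  · rw [((cosetGraph_connected h.1.1).preconnected δ μ).dist_eq_zero_iff] at h0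
    exact h0 ▸ sylowCenterClosure_le_self _
  · rw [SimpleGraph.dist_comm] at h0
    obtain ⟨v, hv, hvd⟩ := exists_adj_dist (cosetGraph_connected h.1.1) h0
    rw [SimpleGraph.dist_comm, SimpleGraph.dist_comm (u := μ)] at hvd
    exact (le_neighbourKernel_iff.mp (vertexZ_le_kernel_of_dist_lt (by omega : _ < _))).2 μ hv.symm

end Pair

end Cfsg.Lib.Local
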