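import Cfsg.Agent.Lib.Local.AsymLFactor
import Cfsg.Agent.Lib.Local.WeaklyClosed
import Cfsg.Agent.Lib.Invol.BaerSuzuki
import Cfsg.Agent.Lib.PGroup.Basic

/-!
# The asymmetric `L`-lemma

`Y` is an asymmetric abelian subgroup centralized by the weakly closed `p`-subgroup `O ≥ Y`, `H` has
characteristic `p` with `O ≤ H`, and `L ≤ H` is a subgroup over `Y` with `H = ⟨L, O⟩`.
-/

set_option autoImplicit false

namespace Cfsg.Lib.Local.AsymL

open Subgroup
open scoped commutatorElement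

variable {G : Type*} [Group G]

local notation:max "cj" g:max K:max => Subgroup.map (MulEquiv.toMonoidHom (MulAut.conj g)) K

/-- The hypotheses of the asymmetric `L`-lemma. -/
structure Data (p : ℕ) (Y O H L : Subgroup G) : Prop where
  op : IsPGroup p O
  yab : Y ≤ centralizer (Y : Set G)
  yo : Y ≤ O
  oy : O ≤ centralizer (Y : Set G)
  oh : O ≤ H
  normO : ∀ R : Subgroup G, IsPGroup p R → O ≤ R → normalizer (R : Set G) ≤ normalizer (Y : Set G)
  wc : IsWeaklyClosedSubgroup p O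
  asym : ∀ g : G, Y ≤ normalizer ((cj g Y : Subgroup G) : Set G) →
    (cj g Y : Subgroup G) ≤ normalizer (Y : Set G) → (cj g Y : Subgroup G) ≤ centralizer (Y : Set G)
  charp : IsCharP p H
  lh : L ≤ H
  yl : Y ≤ L
  gen : L ⊔ O = H

/-- A chief factor `X / X'` of `H` inside `O_p(H)`. -/
structure Chief (p : ℕ) (H X' X : Subgroup G) : Prop where
  lt : X' < X
  le_core : X ≤ pCoreOf p H
  normal' : H ≤ normalizer (X' : Set G)
  normal : H ≤ normalizer (X : Set G)
  min : ∀ Z : Subgroup G, H ≤ normalizer (Z : Set G) → X' ≤ Z → Z ≤ X → Z = X' ∨ Z = X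

/-- The image of a subgroup of `G` in `H / X'`. -/
def bar (H X' : Subgroup G) [(X'.subgroupOf H).Normal] (K : Subgroup G) :
    Subgroup (↥H ⧸ X'.subgroupOf H) :=
  (K.subgroupOf H).map (QuotientGroup.mk' (X'.subgroupOf H))

section Bar

variable {H X' : Subgroup G} [(X'.subgroupOf H).Normal]

theorem mem_bar {K : Subgroup G} {a : G} (ha : a ∈ H) (haK : a ∈ K) :
    QuotientGroup.mk' (X'.subgroupOf H) ⟨a, ha⟩ ∈ bar H X' K :=
  ⟨⟨a, ha⟩, haK, rfl⟩

theorem bar_mono {A B : Subgroup G} (h : A ≤ B) : bar H X' A ≤ bar H X' B :=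
  map_mono fun _ hx => h hx

theorem bar_self : bar H X' H = ⊤ := by
  rw [bar, subgroupOf_self]
  exact map_top_of_surjective _ (QuotientGroup.mk'_surjective _)

theorem bar_commutator {A B : Subgroup G} (hA : A ≤ H) (hB : B ≤ H) :
    bar H X' ⁅A, B⁆ = ⁅bar H X' A, bar H X' B⁆ := by
  rw [bar, bar, bar, ← map_commutator]
  congr 1
  refine map_injective H.subtype_injective ?_
  rw [map_commutator, map_subgroupOf_eq_of_le hA, map_subgroupOf_eq_of_le hB,
    map_subgroupOf_eq_of_le]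
  rw [commutator_le]
  intro a ha b hb
  rw [commutatorElement_def]
  exact mul_mem (mul_mem (mul_mem (hA ha) (hB hb)) (inv_mem (hA ha))) (inv_mem (hB hb))

theorem bar_sup {A B : Subgroup G} (hA : A ≤ H) (hB : B ≤ H) :
    bar H X' (A ⊔ B) = bar H X' A ⊔ bar H X' B := by
  rw [bar, subgroupOf_sup hA hB, Subgroup.map_sup]
  rfl

theorem bar_centralizer {A B : Subgroup G} (h : A ≤ centralizer (B : Set G)) :
    bar H X' A ≤ centralizer (bar H X' B : Set (↥H ⧸ X'.subgroupOf H)) := by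
  rintro _ ⟨a, ha, rfl⟩
  refine mem_centralizer_iff.2 ?_
  rintro _ ⟨b, hb, rfl⟩
  rw [← map_mul, ← map_mul]
  exact congrArg _ (Subtype.ext (mem_centralizer_iff.1 (h ha) _ hb))

theorem bar_conj {A : Subgroup G} {g : G} (hg : g ∈ H) :
    bar H X' (cj g A) = cj (QuotientGroup.mk' (X'.subgroupOf H) ⟨g, hg⟩) (bar H X' A) := by
  ext z
  constructor
  · rintro ⟨⟨_, hb⟩, ⟨a, ha, rfl⟩, rfl⟩
    have haH : a ∈ H := by
      have h1 := mul_mem (mul_mem (inv_mem hg) hb) hg
      simpa [mul_assoc] using h1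
    refine ⟨_, mem_bar haH ha, ?_⟩
    simp only [MulEquiv.coe_toMonoidHom, MulAut.conj_apply]
    rw [← map_inv, ← map_mul, ← map_mul]
    rfl
  · rintro ⟨_, ⟨a, ha, rfl⟩, rfl⟩
    refine ⟨⟨g, hg⟩ * a * ⟨g, hg⟩⁻¹, ⟨a, ha, rfl⟩, ?_⟩
    simp only [MulEquiv.coe_toMonoidHom, MulAut.conj_apply, map_mul, map_inv]

theorem bar_isPGroup {p : ℕ} {A : Subgroup G} (hA : IsPGroup p A) : IsPGroup p (bar H X' A) :=
  (hA.comap_of_injective H.subtype H.subtype_injective).map _

theorem mem_of_bar {A : Subgroup G} (hAH : A ≤ H) (hX'A : X' ≤ A) {a : G} (ha : a ∈ H)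
    (h : QuotientGroup.mk' (X'.subgroupOf H) ⟨a, ha⟩ ∈ bar H X' A) : a ∈ A := by
  obtain ⟨b, hb, he⟩ := h
  have h1 : b⁻¹ * (⟨a, ha⟩ : H) ∈ X'.subgroupOf H := QuotientGroup.eq.1 he
  have h2 : (b : G)⁻¹ * a ∈ A := hX'A h1
  have := A.mul_mem hb h2
  simpa using this

end Bar

section Main

variable [Finite G] {p : ℕ} [hp : Fact p.Prime] {Y O H L : Subgroup G}

theorem Data.yH (h : Data p Y O H L) : Y ≤ H := h.yo.trans h.oh

theorem Data.y_isPGroup (h : Data p Y O H L) : IsPGroup p Y := h.op.to_le h.yo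

theorem Data.core_le (h : Data p Y O H L) : pCoreOf p H ≤ normalizer (Y : Set G) :=
  le_sup_left.trans (le_normalizer.trans (h.normO _
    (IsPGroup.to_sup_of_normal_left' (pCoreOf_isPGroup H) h.op
      (h.oh.trans (le_normalizer_pCoreOf H))) le_sup_right))

theorem Data.core_le_conj (h : Data p Y O H L) {x : G} (hx : x ∈ H) :
    pCoreOf p H ≤ normalizer ((cj x Y : Subgroup G) : Set G) := by
  rw [normalizer_map_conj]
  have := map_mono (f := (MulAut.conj x).toMonoidHom) h.core_le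
  rwa [Core.map_conj_eq_of_mem_normalizer (le_normalizer_pCoreOf H hx)] at this

theorem Data.conj_le (h : Data p Y O H L) {x : G} (hx : x ∈ H) : (cj x Y : Subgroup G) ≤ H := by
  rintro _ ⟨y, hy, rfl⟩
  exact mul_mem (mul_mem hx (h.yH hy)) (inv_mem hx)

theorem Data.commutator_conj_le (h : Data p Y O H L) {x : G} (hx : x ∈ H) {X : Subgroup G}
    (hX : X ≤ pCoreOf p H) : ⁅X, (cj x Y : Subgroup G)⁆ ≤ cj x Y := by
  rw [commutator_comm]
  exact Coprime.commutator_le_of_le_normalizer (hX.trans (h.core_le_conj hx))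

omit [Finite G] hp in
theorem Chief.bar_min {X' X : Subgroup G} (hC : Chief p H X' X) [(X'.subgroupOf H).Normal]
    (hX : X ≤ H) (Z : Subgroup (↥H ⧸ X'.subgroupOf H)) (hZn : Z.Normal) (hZ : Z ≤ bar H X' X) :
    Z = ⊥ ∨ Z = bar H X' X := by
  set π := QuotientGroup.mk' (X'.subgroupOf H) with hπ
  set Z' := (Z.comap π).map H.subtype with hZ'
  have hn : H ≤ normalizer (Z' : Set G) := by
    refine Core.le_normalizer_iff_conj_mem.2 ?_
    rintro g hg _ ⟨z, hz, rfl⟩
    exact ⟨⟨g, hg⟩ * z * ⟨g, hg⟩⁻¹, (hZn.comap π).conj_mem z hz _, rfl⟩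
  have h1 : X' ≤ Z' := fun z hz => by
    have hzH : z ∈ H := hX (hC.lt.le hz)
    refine ⟨⟨z, hzH⟩, ?_, rfl⟩
    show π _ ∈ Z
    rw [show π ⟨z, hzH⟩ = 1 from (QuotientGroup.eq_one_iff _).2 hz]
    exact one_mem _
  have h2 : Z' ≤ X := by
    rintro _ ⟨z, hz, rfl⟩
    exact mem_of_bar hX hC.lt.le z.2 (hZ hz)
  have h3 : Z = bar H X' Z' := by
    show Z = (((Z.comap π).map H.subtype).comap H.subtype).map π
    rw [comap_map_eq_self_of_injective H.subtype_injective,
      map_comap_eq_self_of_surjective (QuotientGroup.mk'_surjective _)]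
  rcases hC.min Z' hn h1 h2 with h | h
  · left
    rw [h3, h, bar, Subgroup.map_eq_bot_iff, QuotientGroup.ker_mk']
  · right
    rw [h3, h]

theorem Data.chief_facts (h : Data p Y O H L) {X' X : Subgroup G} (hC : Chief p H X' X)
    [(X'.subgroupOf H).Normal] :
    (bar H X' X).Normal ∧
    bar H X' X ≤ centralizer (bar H X' (pCoreOf p H) : Set (↥H ⧸ X'.subgroupOf H)) ∧
    bar H X' X ≤ centralizer (bar H X' X : Set (↥H ⧸ X'.subgroupOf H)) := by
  have hWH : pCoreOf p H ≤ H := pCoreOf_le H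
  have hXH : X ≤ H := hC.le_core.trans hWH
  have hnV : (bar H X' X).Normal :=
    (normal_subgroupOf_of_le_normalizer hC.normal).map _ (QuotientGroup.mk'_surjective _)
  have hnW : (bar H X' (pCoreOf p H)).Normal :=
    (normal_subgroupOf_of_le_normalizer (le_normalizer_pCoreOf H)).map _ (QuotientGroup.mk'_surjective _)
  set V := bar H X' X with hV
  set W := bar H X' (pCoreOf p H) with hW
  have hVW : V ≤ W := bar_mono hC.le_core
  have hD : V ⊓ centralizer (W : Set _) = V := by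
    refine (hC.bar_min hXH _ inferInstance inf_le_left).resolve_left fun h0 => ?_
    have hV1 : V ≠ ⊥ := by
      intro h1
      obtain ⟨a, ha, haX⟩ := SetLike.exists_of_lt hC.lt
      have h2 := mem_bar (X' := X') (hXH ha) ha
      rw [← hV, h1, mem_bot] at h2
      exact haX ((QuotientGroup.eq_one_iff _).1 h2 : (⟨a, hXH ha⟩ : H) ∈ X'.subgroupOf H)
    haveI : (V.subgroupOf W).Normal := hnV.comap _
    refine PGroup.inf_center_ne_bot (p := p) (bar_isPGroup (pCoreOf_isPGroup H)) (N := V.subgroupOf W)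
      (fun h1 => hV1 ?_) ?_
    · rw [← map_subgroupOf_eq_of_le hVW, h1, Subgroup.map_bot]
    · rw [eq_bot_iff]
      intro z hz
      have : (z : ↥H ⧸ X'.subgroupOf H) ∈ V ⊓ centralizer (W : Set _) :=
        ⟨hz.1, mem_centralizer_iff.2 fun w hw =>
          congrArg Subtype.val (mem_center_iff.1 hz.2 ⟨w, hw⟩)⟩
      rw [h0, mem_bot] at this
      exact mem_bot.2 (Subtype.ext this)
  exact ⟨hnV, inf_eq_left.1 hD, (inf_eq_left.1 hD).trans (cent_mono hVW)⟩

/-- A pair of conjugates of `Y` generating `L`. -/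
def Gen (Y L : Subgroup G) (k : G) : Prop := k ∈ L ∧ Y ⊔ (cj k Y : Subgroup G) = L

theorem Data.pair (h : Data p Y O H L) {k : G} (hk : Gen Y L k) {X' X : Subgroup G}
    (hC : Chief p H X' X) [(X'.subgroupOf H).Normal]
    (hnc : ¬ bar H X' X ≤ center (↥H ⧸ X'.subgroupOf H)) :
    Pair (bar H X' X) (bar H X' Y) (bar H X' (cj k Y)) (bar H X' O) (bar H X' (cj k O)) := by
  obtain ⟨hnV, -, hab⟩ := h.chief_facts hC
  have hXH : X ≤ H := hC.le_core.trans (pCoreOf_le H)
  have hkH : k ∈ H := h.lh hk.1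
  have hkY := h.conj_le hkH
  have hcjO : (cj k O : Subgroup G) ≤ H := by
    rintro _ ⟨o, ho, rfl⟩
    exact mul_mem (mul_mem hkH (h.oh ho)) (inv_mem hkH)
  have hconjc : ∀ A B : Subgroup G, A ≤ centralizer (B : Set G) →
      (cj k A : Subgroup G) ≤ centralizer ((cj k B : Subgroup G) : Set G) := fun A B hAB => by
    rw [centralizer_map_conj]
    exact map_mono hAB
  have hgen1 : (cj k Y : Subgroup G) ⊔ O = H := by
    refine le_antisymm (sup_le hkY h.oh) ?_
    conv_lhs => rw [← h.gen, ← hk.2]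
    exact sup_le (sup_le (h.yo.trans le_sup_right) le_sup_left) le_sup_right
  have hgen2 : Y ⊔ (cj k O : Subgroup G) = H := by
    refine le_antisymm (sup_le h.yH hcjO) ?_
    conv_lhs => rw [← Core.map_conj_eq_of_mem_normalizer (le_normalizer hkH), ← h.gen,
      Subgroup.map_sup, Core.map_conj_eq_of_mem_normalizer (le_normalizer hk.1), ← hk.2]
    exact sup_le (sup_le le_sup_left ((map_mono h.yo).trans le_sup_right)) le_sup_right
  exact
  { vab := hab
    min := fun Z hZn hZ => hC.bar_min hXH Z hZn hZ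
    nc := hnc
    oy := bar_centralizer h.oy
    oy₁ := bar_centralizer (hconjc O Y h.oy)
    yab := bar_centralizer h.yab
    yab₁ := bar_centralizer (hconjc Y Y h.yab)
    vy := by
      have h1 := h.commutator_conj_le (one_mem H) hC.le_core
      simp only [map_conj_one] at h1
      rw [← bar_commutator hXH h.yH]
      exact bar_mono h1
    vy₁ := by
      rw [← bar_commutator hXH hkY]
      exact bar_mono (h.commutator_conj_le hkH hC.le_core)
    gen := by rw [← bar_sup hkY h.oh, hgen1, bar_self]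
    gen₁ := by rw [← bar_sup h.yH hcjO, hgen2, bar_self] }

/-- An element of `H` centralizing every chief factor inside `O_p(H)` lies in `O_p(H)`. -/
theorem mem_core_of_chief (hH : IsCharP p H) {x : G} (hx : x ∈ H)
    (hxc : ∀ X' X : Subgroup G, Chief p H X' X → ∀ v ∈ X, ⁅v, x⁆ ∈ X') : x ∈ pCoreOf p H := by
  let K : Subgroup G :=
  { carrier := {x | x ∈ H ∧ ∀ X' X : Subgroup G, Chief p H X' X → ∀ v ∈ X, ⁅v, x⁆ ∈ X'}
    one_mem' := ⟨one_mem _, fun X' X _ v _ => by simp⟩
    mul_mem' := by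
      rintro a b ⟨ha, ha'⟩ ⟨hb, hb'⟩
      refine ⟨mul_mem ha hb, fun X' X hC v hv => ?_⟩
      rw [show ⁅v, a * b⁆ = ⁅v, a⁆ * (a * ⁅v, b⁆ * a⁻¹) by simp [commutatorElement_def, mul_assoc]]
      exact mul_mem (ha' X' X hC v hv) ((mem_normalizer_iff.1 (hC.normal' ha) _).1 (hb' X' X hC v hv))
    inv_mem' := by
      rintro a ⟨ha, ha'⟩
      refine ⟨inv_mem ha, fun X' X hC v hv => ?_⟩
      rw [show ⁅v, a⁻¹⁆ = a⁻¹ * ⁅v, a⁆⁻¹ * a⁻¹⁻¹ by simp [commutatorElement_def, mul_assoc]]
      exact (mem_normalizer_iff.1 (hC.normal' (inv_mem ha)) _).1 (inv_mem (ha' X' X hC v hv)) }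
  have hKH : K ≤ H := fun y hy => hy.1
  have hKn : H ≤ normalizer (K : Set G) := by
    refine Core.le_normalizer_iff_conj_mem.2 ?_
    rintro g hg y ⟨hy, hy'⟩
    refine ⟨mul_mem (mul_mem hg hy) (inv_mem hg), fun X' X hC v hv => ?_⟩
    have hv' : g⁻¹ * v * g ∈ X := by
      simpa using (mem_normalizer_iff.1 (inv_mem (hC.normal hg)) v).1 hv
    have h1 := (mem_normalizer_iff.1 (hC.normal' hg) _).1 (hy' X' X hC _ hv')
    simpa [commutatorElement_def, mul_assoc] using h1
  have hKp : IsPGroup p K := by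
    refine isPGroup_of_forall_coprime fun y hy hyp => ?_
    have key : ∀ n, ∀ X : Subgroup G, Nat.card X = n → X ≤ pCoreOf p H → H ≤ normalizer (X : Set G) →
        y ∈ centralizer (X : Set G) := by
      intro n
      induction n using Nat.strong_induction_on with
      | _ n ih =>
        intro X hXn hXW hXn'
        rcases eq_or_ne X ⊥ with rfl | hne
        · simp [mem_centralizer_iff]
        obtain ⟨X', hX'⟩ := (Set.toFinite {Z : Subgroup G | H ≤ normalizer (Z : Set G) ∧ Z < X}).exists_maximal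
          ⟨⊥, le_normalizer_normal H, bot_lt_iff_ne_bot.2 hne⟩
        have hC : Chief p H X' X := ⟨hX'.1.2, hXW, hX'.1.1, hXn', fun Z hZ h1 h2 => by
          rcases h2.lt_or_eq with h3 | h3
          · exact Or.inl (le_antisymm (hX'.2 ⟨hZ, h3⟩ h1) h1)
          · exact Or.inr h3⟩
        have hcard : Nat.card X' < n := by
          rw [← hXn]
          exact lt_of_not_ge fun h => hX'.1.2.ne (eq_of_le_of_card_ge hX'.1.2.le h)
        refine mem_centralizer_of_two_step ((pCoreOf_isPGroup H).to_le hXW) (hXn' hy.1) hyp (N := X') ?_ ?_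
        · rw [commutator_le]
          exact fun v hv g hg => (zpowers_le.2 hy hg : g ∈ K).2 X' X hC v hv
        · intro z hz
          exact mem_centralizer_singleton_iff.2
            (mem_centralizer_iff.1 (ih _ hcard X' rfl (hX'.1.2.le.trans hXW) hX'.1.1) z hz)
    have h1 := key _ (pCoreOf p H) rfl le_rfl (le_normalizer_pCoreOf H)
    exact orderOf_eq_one_of_coprime_mem (pCoreOf_isPGroup H) (hH ⟨hy.1, h1⟩) hyp
  exact le_pCoreOf hKH hKn hKp ⟨hx, hxc⟩

/-- On a central factor everything is trivial. -/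
theorem commutator_mem_of_central {X' X : Subgroup G} [(X'.subgroupOf H).Normal] (hXH : X ≤ H)
    (hc : bar H X' X ≤ center (↥H ⧸ X'.subgroupOf H)) {v x : G} (hv : v ∈ X) (hx : x ∈ H) :
    ⁅v, x⁆ ∈ X' := by
  have h1 := mem_center_iff.1 (hc (mem_bar (hXH hv) hv)) (QuotientGroup.mk' _ ⟨x, hx⟩)
  have h2 : QuotientGroup.mk' (X'.subgroupOf H) ⁅(⟨v, hXH hv⟩ : H), ⟨x, hx⟩⁆ = 1 := by
    rw [map_commutatorElement]
    exact commutatorElement_eq_one_iff_mul_comm.2 h1.symm
  exact (QuotientGroup.eq_one_iff (⁅(⟨v, hXH hv⟩ : H), (⟨x, hx⟩ : H)⁆ : H)).1 h2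

/-- On a factor centralized by the image of `x`, commutators with `x` are trivial. -/
theorem commutator_mem_of_centralizer {X' X : Subgroup G} [(X'.subgroupOf H).Normal] (hXH : X ≤ H)
    {v x : G} (hv : v ∈ X) (hx : x ∈ H) (hc : QuotientGroup.mk' (X'.subgroupOf H) ⟨x, hx⟩ ∈
      centralizer (bar H X' X : Set (↥H ⧸ X'.subgroupOf H))) : ⁅v, x⁆ ∈ X' := by
  have h1 := mem_centralizer_iff.1 hc _ (mem_bar (hXH hv) hv)
  have h2 : QuotientGroup.mk' (X'.subgroupOf H) ⁅(⟨v, hXH hv⟩ : H), ⟨x, hx⟩⁆ = 1 := by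
    rw [map_commutatorElement]
    exact commutatorElement_eq_one_iff_mul_comm.2 h1
  exact (QuotientGroup.eq_one_iff (⁅(⟨v, hXH hv⟩ : H), (⟨x, hx⟩ : H)⁆ : H)).1 h2

/-- `O` normalizes `Y^x O_p(H)` for a commuting conjugate `Y^x`. -/
theorem Data.commutator_conj_mem_core (h : Data p Y O H L) {k : G} (hk : Gen Y L k) {x : G}
    (hx : x ∈ L) (hc : (cj x Y : Subgroup G) ≤ centralizer (Y : Set G)) {o y : G} (ho : o ∈ O)
    (hy : y ∈ (cj x Y : Subgroup G)) : ⁅o, y⁆ ∈ pCoreOf p H := by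
  have hxH := h.lh hx
  have hoH := h.oh ho
  have hyH := h.conj_le hxH hy
  have hoyH : ⁅o, y⁆ ∈ H := by
    rw [commutatorElement_def]
    exact mul_mem (mul_mem (mul_mem hoH hyH) (inv_mem hoH)) (inv_mem hyH)
  refine mem_core_of_chief h.charp hoyH fun X' X hC v hv => ?_
  haveI : (X'.subgroupOf H).Normal := normal_subgroupOf_of_le_normalizer hC.normal'
  have hXH : X ≤ H := hC.le_core.trans (pCoreOf_le H)
  by_cases hcen : bar H X' X ≤ center (↥H ⧸ X'.subgroupOf H)
  · exact commutator_mem_of_central hXH hcen hv hoyH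
  haveI := (h.chief_facts hC).1
  have hP := h.pair hk hC hcen
  set π := QuotientGroup.mk' (X'.subgroupOf H) with hπ
  have hxL : π ⟨x, hxH⟩ ∈ bar H X' Y ⊔ bar H X' (cj k Y) := by
    rw [← bar_sup h.yH (h.conj_le (h.lh hk.1)), hk.2]
    exact mem_bar hxH hx
  have hxc : (cj (π ⟨x, hxH⟩) (bar H X' Y) : Subgroup _) ≤
      centralizer (bar H X' Y : Set (↥H ⧸ X'.subgroupOf H)) := by
    rw [← bar_conj hxH]
    exact bar_centralizer hc
  refine commutator_mem_of_centralizer hXH hv hoyH ?_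
  have h1 := hP.commutator_centralizes hxL hxc
  rw [← bar_conj hxH] at h1
  refine h1 ?_
  rw [show (⟨⁅o, y⁆, hoyH⟩ : H) = ⁅(⟨o, hoH⟩ : H), ⟨y, hyH⟩⁆ from Subtype.ext rfl, map_commutatorElement]
  exact commutator_mem_commutator (mem_bar hoH ho) (mem_bar hyH hy)

/-- The descending step along a chief factor. -/
theorem Data.step (h : Data p Y O H L) {k : G} (hk : Gen Y L k) {x : G}
    (hx : x ∈ L) (hc : (cj x Y : Subgroup G) ≤ centralizer (Y : Set G)) {X' X : Subgroup G}
    (hC : Chief p H X' X) (hn : x ∈ normalizer ((Y ⊔ X : Subgroup G) : Set G)) :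
    x ∈ normalizer ((Y ⊔ X' : Subgroup G) : Set G) := by
  haveI : (X'.subgroupOf H).Normal := normal_subgroupOf_of_le_normalizer hC.normal'
  obtain ⟨hnV, -, hab⟩ := h.chief_facts hC
  haveI := hnV
  have hWH := pCoreOf_le (p := p) H
  have hXH : X ≤ H := hC.le_core.trans hWH
  have hX'H : X' ≤ H := hC.lt.le.trans hXH
  have hxH := h.lh hx
  set π := QuotientGroup.mk' (X'.subgroupOf H) with hπ
  have hYXH : Y ⊔ X ≤ H := sup_le h.yH hXH
  have hVY : ⁅bar H X' X, bar H X' Y⁆ ≤ bar H X' Y := by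
    have h1 := h.commutator_conj_le (one_mem H) hC.le_core
    simp only [map_conj_one] at h1
    rw [← bar_commutator hXH h.yH]
    exact bar_mono h1
  have hlift : ∀ z : H, π z ∈ normalizer ((bar H X' Y ⊔ bar H X' X : Subgroup _) : Set _) →
      (z : G) ∈ normalizer ((Y ⊔ X : Subgroup G) : Set G) := by
    intro z hz
    rw [Core.mem_normalizer_iff_map_conj]
    refine eq_of_le_of_card_ge ?_ (card_cj _ _).ge
    rintro _ ⟨u, hu, rfl⟩
    have h1 := (mem_normalizer_iff.1 hz _).1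
      (bar_sup (X' := X') h.yH hXH ▸ mem_bar (X' := X') (hYXH hu) hu)
    rw [← bar_sup (X' := X') h.yH hXH, ← map_inv, ← map_mul, ← map_mul] at h1
    exact mem_of_bar hYXH (hC.lt.le.trans le_sup_right) _ h1
  have hcomm : ∀ z ∈ normalizer ((bar H X' Y ⊔ bar H X' X : Subgroup _) : Set _),
      (cj z (bar H X' Y) : Subgroup _) ≤ centralizer (bar H X' Y : Set (↥H ⧸ X'.subgroupOf H)) := by
    intro z hz
    obtain ⟨z, rfl⟩ := QuotientGroup.mk'_surjective _ z
    rw [show z = (⟨(z : G), z.2⟩ : H) from rfl, ← bar_conj z.2]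
    refine bar_centralizer ?_
    have hzn := hlift z hz
    have hYXY : Y ⊔ X ≤ normalizer (Y : Set G) :=
      sup_le le_normalizer (hC.le_core.trans h.core_le)
    refine h.asym z ?_ ?_
    · rw [normalizer_map_conj]
      have h1 := map_mono (f := (MulAut.conj (z : G)).toMonoidHom) hYXY
      rw [Core.map_conj_eq_of_mem_normalizer hzn] at h1
      exact le_sup_left.trans h1
    · exact ((map_mono le_sup_left).trans (Core.map_conj_eq_of_mem_normalizer hzn).le).trans hYXY
  have hN : ∀ T : Subgroup (↥H ⧸ X'.subgroupOf H), IsPGroup p T → bar H X' O ≤ T →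
      normalizer (T : Set (↥H ⧸ X'.subgroupOf H)) ≤
        normalizer (bar H X' Y : Set (↥H ⧸ X'.subgroupOf H)) := by
    intro T hT hOT z hz
    obtain ⟨z, rfl⟩ := QuotientGroup.mk'_surjective _ z
    set T' := (T.comap π).map H.subtype with hT'
    have hT'p : IsPGroup p T' := by
      refine IsPGroup.map (IsPGroup.comap_of_ker_isPGroup hT π ?_) _
      rw [QuotientGroup.ker_mk']
      exact ((pCoreOf_isPGroup H).to_le (hC.lt.le.trans hC.le_core)).comap_of_injective H.subtype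
        H.subtype_injective
    have hOT' : O ≤ T' := fun o ho => ⟨⟨o, h.oh ho⟩, hOT (mem_bar (h.oh ho) ho), rfl⟩
    have hzT : (z : G) ∈ normalizer (T' : Set G) := by
      rw [Core.mem_normalizer_iff_map_conj]
      refine eq_of_le_of_card_ge ?_ (card_cj _ _).ge
      rintro _ ⟨_, ⟨t, ht, rfl⟩, rfl⟩
      refine ⟨z * t * z⁻¹, ?_, rfl⟩
      show π (z * t * z⁻¹) ∈ T
      rw [map_mul, map_mul, map_inv]
      exact (mem_normalizer_iff.1 hz _).1 ht
    have hzY := h.normO T' hT'p hOT' hzT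
    rw [Core.mem_normalizer_iff_map_conj, show z = (⟨(z : G), z.2⟩ : H) from rfl, ← bar_conj z.2,
      Core.map_conj_eq_of_mem_normalizer hzY]
  have hh : π ⟨x, hxH⟩ ∈ normalizer ((bar H X' Y ⊔ bar H X' X : Subgroup _) : Set _) := by
    rw [Core.mem_normalizer_iff_map_conj, ← bar_sup (X' := X') h.yH hXH, ← bar_conj hxH,
      Core.map_conj_eq_of_mem_normalizer hn]
  have hC' : ∀ c ∈ bar H X' X ⊓ centralizer (bar H X' Y : Set _),
      ⁅c, π ⟨x, hxH⟩⁆ ∈ ⁅bar H X' X, bar H X' Y⁆ := by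
    by_cases hcen : bar H X' X ≤ center (↥H ⧸ X'.subgroupOf H)
    · intro c hc'
      rw [commutatorElement_eq_one_iff_mul_comm.2 (mem_center_iff.1 (hcen hc'.1) _).symm]
      exact one_mem _
    · have hP := h.pair hk hC hcen
      have hxL : π ⟨x, hxH⟩ ∈ bar H X' Y ⊔ bar H X' (cj k Y) := by
        rw [← bar_sup h.yH (h.conj_le (h.lh hk.1)), hk.2]
        exact mem_bar hxH hx
      intro c hc'
      refine hP.commutator_mem hxL ?_ hc'
      rw [← bar_conj hxH]
      exact bar_centralizer hc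
  have key := mem_normalizer_step hab
    (bar_isPGroup ((pCoreOf_isPGroup H).to_le hC.le_core)) (bar_isPGroup h.y_isPGroup)
    (bar_centralizer h.yab) hVY (bar_isPGroup h.op) (bar_centralizer h.oy) hN hcomm hh hC'
  rw [Core.mem_normalizer_iff_map_conj]
  refine eq_of_le_of_card_ge ?_ (card_cj _ _).ge
  rw [Subgroup.map_sup, Core.map_conj_eq_of_mem_normalizer (hC.normal' hxH)]
  refine sup_le ?_ le_sup_right
  rintro _ ⟨y, hy, rfl⟩
  have h1 := (mem_normalizer_iff.1 key _).1 (mem_bar (X' := X') (h.yH hy) hy)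
  rw [← map_inv, ← map_mul, ← map_mul] at h1
  exact mem_of_bar (sup_le h.yH hX'H) le_sup_right _ (bar_mono le_sup_left h1)

/-- An element of `L` carrying `Y` to a commuting conjugate normalizes `Y`. -/
theorem Data.mem_normalizer_of_commute (h : Data p Y O H L) {k : G} (hk : Gen Y L k) {x : G}
    (hx : x ∈ L) (hc : (cj x Y : Subgroup G) ≤ centralizer (Y : Set G)) :
    x ∈ normalizer (Y : Set G) := by
  set W := pCoreOf p H with hW
  have hxH := h.lh hx
  have hWn := le_normalizer_pCoreOf (p := p) H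
  have hRN : ∀ z ∈ H, z ∈ normalizer (Y : Set G) → z ∈ normalizer ((Y ⊔ W : Subgroup G) : Set G) := by
    intro z hz hzY
    rw [Core.mem_normalizer_iff_map_conj, Subgroup.map_sup, Core.map_conj_eq_of_mem_normalizer hzY,
      Core.map_conj_eq_of_mem_normalizer (hWn hz)]
  have hbase : x ∈ normalizer ((Y ⊔ W : Subgroup G) : Set G) := by
    set R := Y ⊔ W with hR
    set P := H ⊓ normalizer (R : Set G) with hP
    have hOP : O ≤ P := le_inf h.oh fun o ho =>
      hRN o (h.oh ho) (centralizer_le_normalizer _ (h.oy ho))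
    have hO' : (cj x⁻¹ O : Subgroup G) ≤ P := by
      rintro _ ⟨o, ho, rfl⟩
      refine ⟨H.mul_mem (H.mul_mem (H.inv_mem hxH) (h.oh ho)) (H.inv_mem (H.inv_mem hxH)), ?_⟩
      show x⁻¹ * o * x⁻¹⁻¹ ∈ normalizer (R : Set G)
      rw [Core.mem_normalizer_iff_map_conj]
      refine eq_of_le_of_card_ge ?_ (card_cj _ _).ge
      rw [hR, Subgroup.map_sup, Core.map_conj_eq_of_mem_normalizer
        (hWn (mul_mem (mul_mem (inv_mem hxH) (h.oh ho)) (inv_mem (inv_mem hxH))))]
      refine sup_le ?_ le_sup_right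
      rintro _ ⟨y, hy, rfl⟩
      have h1 := h.commutator_conj_mem_core hk hx hc ho (y := x * y * x⁻¹) ⟨y, hy, rfl⟩
      have h2 : x⁻¹ * ⁅o, x * y * x⁻¹⁆ * x⁻¹⁻¹ ∈ W :=
        (mem_normalizer_iff.1 (hWn (inv_mem hxH)) _).1 h1
      show (x⁻¹ * o * x⁻¹⁻¹) * y * (x⁻¹ * o * x⁻¹⁻¹)⁻¹ ∈ Y ⊔ W
      rw [show (x⁻¹ * o * x⁻¹⁻¹) * y * (x⁻¹ * o * x⁻¹⁻¹)⁻¹ =
        (x⁻¹ * ⁅o, x * y * x⁻¹⁆ * x⁻¹⁻¹) * y by simp [commutatorElement_def, mul_assoc]]
      exact mul_mem (mem_sup_right h2) (mem_sup_left hy)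
    obtain ⟨T, hOT, hTP, hTp, hconj⟩ := exists_sylow_in hOP h.op
    obtain ⟨m, hm, hmT⟩ := hconj _ hO' (h.op.map _)
    replace hmT : (cj (m * x⁻¹) O : Subgroup G) ≤ T := (Core.map_conj_mul O m x⁻¹).trans_le hmT
    have h1 : m * x⁻¹ ∈ normalizer (O : Set G) := by
      rw [Core.mem_normalizer_iff_map_conj]
      exact wc_conj_eq h.wc hTp hOT hmT
    have h2 : m * x⁻¹ ∈ normalizer (R : Set G) :=
      hRN _ (mul_mem hm.1 (inv_mem hxH)) (h.normO O h.op le_rfl h1)
    have h3 := Subgroup.mul_mem _ (Subgroup.inv_mem _ hm.2) h2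
    rw [inv_mul_cancel_left] at h3
    exact inv_mem_iff.1 h3
  have key : ∀ n, ∀ X : Subgroup G, Nat.card X = n → X ≤ W → H ≤ normalizer (X : Set G) →
      x ∈ normalizer ((Y ⊔ X : Subgroup G) : Set G) → x ∈ normalizer (Y : Set G) := by
    intro n
    induction n using Nat.strong_induction_on with
    | _ n ih =>
      intro X hXn hXW hXn' hxX
      rcases eq_or_ne X ⊥ with rfl | hne
      · rwa [sup_bot_eq] at hxX
      obtain ⟨X', hX'⟩ := (Set.toFinite {Z : Subgroup G | H ≤ normalizer (Z : Set G) ∧ Z < X}).exists_maximal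
        ⟨⊥, le_normalizer_normal H, bot_lt_iff_ne_bot.2 hne⟩
      have hC : Chief p H X' X := ⟨hX'.1.2, hXW, hX'.1.1, hXn', fun Z hZ h1 h2 => by
        rcases h2.lt_or_eq with h3 | h3
        · exact Or.inl (le_antisymm (hX'.2 ⟨hZ, h3⟩ h1) h1)
        · exact Or.inr h3⟩
      have hcard : Nat.card X' < n := by
        rw [← hXn]
        exact lt_of_not_ge fun h => hX'.1.2.ne (eq_of_le_of_card_ge hX'.1.2.le h)
      exact ih _ hcard X' rfl (hX'.1.2.le.trans hXW) hX'.1.1 (h.step hk hx hc hC hxX)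
  exact key _ W rfl le_rfl hWn hbase

/-- `Y` is normal in every `p`-subgroup of `L` containing it. -/
theorem Data.pGroup_le_normalizer (h : Data p Y O H L) {k : G} (hk : Gen Y L k) {R : Subgroup G}
    (hR : IsPGroup p R) (hRL : R ≤ L) (hYR : Y ≤ R) : R ≤ normalizer (Y : Set G) := by
  by_contra hne
  set N := R ⊓ normalizer (Y : Set G) with hN
  haveI : Group.IsNilpotent ↥R := hR.isNilpotent
  have h1 : N.subgroupOf R < ⊤ := by
    rw [lt_top_iff_ne_top, ne_eq, subgroupOf_eq_top]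
    exact fun hle => hne (hle.trans inf_le_right)
  obtain ⟨x, hx, hxN⟩ := SetLike.exists_of_lt (Group.normalizerCondition_of_isNilpotent _ h1)
  have hcj : (cj (x : G) N : Subgroup G) = N := by
    refine eq_of_le_of_card_ge ?_ (card_cj _ _).ge
    rintro _ ⟨y, hy, rfl⟩
    exact (mem_normalizer_iff.mp hx ⟨y, hy.1⟩).mp hy
  have hYN : Y ≤ N := le_inf hYR le_normalizer
  have hc := h.asym (x : G) (by
    rw [normalizer_map_conj]
    exact (hYN.trans hcj.ge).trans (map_mono inf_le_right))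
    (((map_mono hYN).trans hcj.le).trans inf_le_right)
  exact hxN (⟨x.2, h.mem_normalizer_of_commute hk (hRL x.2) hc⟩ : (x : G) ∈ N)

/-- Elements of a subgroup of `L` in whose `p`-core `Y` lies normalize `Y`. -/
theorem Data.le_normalizer_of_le_pCoreOf (h : Data p Y O H L) {k : G} (hk : Gen Y L k)
    {X : Subgroup G} (hXL : X ≤ L) (hYX : Y ≤ pCoreOf p X) : X ≤ normalizer (Y : Set G) := by
  intro x hx
  have hR := h.pGroup_le_normalizer hk (pCoreOf_isPGroup X) ((pCoreOf_le X).trans hXL) hYX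
  have hcR : (cj x (pCoreOf p X) : Subgroup G) = pCoreOf p X :=
    Core.map_conj_eq_of_mem_normalizer (le_normalizer_pCoreOf X hx)
  refine h.mem_normalizer_of_commute hk (hXL hx) (h.asym x ?_
    (((map_mono hYX).trans hcR.le).trans hR))
  rw [normalizer_map_conj]
  exact (hYX.trans hcR.ge).trans (map_mono hR)

/-- `L` has characteristic `p`. -/
theorem Data.isCharP_left (h : Data p Y O H L) {k : G} (hk : Gen Y L k) : IsCharP p L := by
  have hWL : pCoreOf p H ≤ normalizer (L : Set G) := by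
    intro w hw
    rw [Core.mem_normalizer_iff_map_conj, ← hk.2, Subgroup.map_sup,
      Core.map_conj_eq_of_mem_normalizer (h.core_le hw),
      Core.map_conj_eq_of_mem_normalizer (h.core_le_conj (h.lh hk.1) hw)]
  exact isCharP_of_normalized (pCoreOf_isPGroup H) (h.lh.trans (le_normalizer_pCoreOf H)) hWL
    ((inf_le_inf_right _ h.lh).trans h.charp)

/-- A nontrivial action of `H` on a chief factor restricts to a nontrivial action of `O^p(L)`. -/
theorem Data.residual_nontrivial (h : Data p Y O H L) {R : Subgroup G} (hRL : R ≤ L)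
    (hLYR : L ≤ Y ⊔ R) {X' X : Subgroup G} (hC : Chief p H X' X) (hnc : ¬ ⁅X, H⁆ ≤ X') :
    ¬ ⁅X, R⁆ ≤ X' := by
  intro hle
  haveI : (X'.subgroupOf H).Normal := normal_subgroupOf_of_le_normalizer hC.normal'
  have hXH : X ≤ H := hC.le_core.trans (pCoreOf_le H)
  haveI hnV := (h.chief_facts hC).1
  refine hnc ?_
  rw [commutator_le]
  intro v hv g hg
  refine commutator_mem_of_central hXH ?_ hv hg
  set V := bar H X' X with hV
  have hgen : bar H X' R ⊔ bar H X' O = ⊤ := by
    rw [← bar_sup (hRL.trans h.lh) h.oh, ← bar_self (H := H) (X' := X')]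
    refine le_antisymm (bar_mono (sup_le (hRL.trans h.lh) h.oh)) (bar_mono ?_)
    conv_lhs => rw [← h.gen]
    exact sup_le (hLYR.trans (sup_le (h.yo.trans le_sup_right) le_sup_left)) le_sup_right
  have hRV : bar H X' R ≤ centralizer (V : Set _) := by
    rw [← commutator_eq_bot_iff_le_centralizer, commutator_comm,
      ← bar_commutator hXH (hRL.trans h.lh), bar, Subgroup.map_eq_bot_iff, QuotientGroup.ker_mk']
    exact fun z hz => hle hz
  rcases eq_or_ne V ⊥ with h0 | h0
  · rw [h0]; exact bot_le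
  set P := V ⊔ bar H X' O with hP
  have hPp : IsPGroup p P :=
    IsPGroup.to_sup_of_normal_left' (bar_isPGroup ((pCoreOf_isPGroup H).to_le hC.le_core))
      (bar_isPGroup h.op) (le_normalizer_normal _)
  haveI : (V.subgroupOf P).Normal := hnV.comap _
  have hne : V.subgroupOf P ⊓ center P ≠ ⊥ := PGroup.inf_center_ne_bot hPp fun h1 =>
    h0 (by rw [← map_subgroupOf_eq_of_le (le_sup_left : V ≤ P), h1, Subgroup.map_bot])
  set D := (V.subgroupOf P ⊓ center P).map P.subtype with hD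
  have hDV : D ≤ V := by
    rintro _ ⟨d, hd, rfl⟩
    exact hd.1
  have hDc : D ≤ center (↥H ⧸ X'.subgroupOf H) := by
    intro d hd
    have h1 : (⊤ : Subgroup (↥H ⧸ X'.subgroupOf H)) ≤ centralizer ({d} : Set _) := by
      rw [← hgen]
      refine sup_le (fun r hr => mem_centralizer_singleton_iff.2
        (mem_centralizer_iff.1 (hRV hr) d (hDV hd)).symm) ?_
      obtain ⟨d, hd', rfl⟩ := hd
      intro o ho
      exact mem_centralizer_singleton_iff.2
        (congrArg Subtype.val (mem_center_iff.1 hd'.2 ⟨o, mem_sup_right ho⟩))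
    exact mem_center_iff.2 fun z => mem_centralizer_singleton_iff.1 (h1 (mem_top z))
  haveI : D.Normal := ⟨fun d hd g => by rwa [mem_center_iff.1 (hDc hd) g, mul_inv_cancel_right]⟩
  rcases hC.bar_min hXH D inferInstance hDV with h1 | h1
  · exact absurd ((map_eq_bot_iff_of_injective _ P.subtype_injective).1 h1) hne
  · rw [← hV] at h1
    exact h1 ▸ hDc

/-- `O_p(L) ∩ Y` lies in `O_p(H)`. -/
theorem Data.core_inf_le (h : Data p Y O H L) {k : G} (hk : Gen Y L k) :
    pCoreOf p L ⊓ Y ≤ pCoreOf p H := by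
  intro c hc
  have hkH := h.lh hk.1
  set c' := k * c * k⁻¹ with hc'
  have hcH : c' ∈ H := mul_mem (mul_mem hkH (h.lh (h.yl hc.2))) (inv_mem hkH)
  suffices hmain : c' ∈ pCoreOf p H by
    have := (mem_normalizer_iff.1 (le_normalizer_pCoreOf H (inv_mem hkH)) c').1 hmain
    simpa [hc', mul_assoc] using this
  refine mem_core_of_chief h.charp hcH fun X' X hC v hv => ?_
  haveI : (X'.subgroupOf H).Normal := normal_subgroupOf_of_le_normalizer hC.normal'
  have hXH : X ≤ H := hC.le_core.trans (pCoreOf_le H)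
  by_cases hcen : bar H X' X ≤ center (↥H ⧸ X'.subgroupOf H)
  · exact commutator_mem_of_central hXH hcen hv hcH
  haveI := (h.chief_facts hC).1
  have hP := h.pair hk hC hcen
  set D := (cj k (pCoreOf p L ⊓ Y) : Subgroup G) with hD
  have hDH : D ≤ H := (map_mono inf_le_right).trans (h.conj_le hkH)
  have hDL : D ≤ pCoreOf p L := (map_mono inf_le_left).trans
    (Core.map_conj_eq_of_mem_normalizer (le_normalizer_pCoreOf L hk.1)).le
  have hDY : ⁅D, Y⁆ ≤ Y := by
    rw [commutator_comm]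
    refine Coprime.commutator_le_of_le_normalizer (hDL.trans (le_sup_left.trans
      (h.pGroup_le_normalizer hk (R := pCoreOf p L ⊔ Y) ?_ (sup_le (pCoreOf_le L) h.yl) le_sup_right)))
    exact IsPGroup.to_sup_of_normal_left' (pCoreOf_isPGroup L) h.y_isPGroup
      (h.yl.trans (le_normalizer_pCoreOf L))
  refine commutator_mem_of_centralizer hXH hv hcH ?_
  refine hP.le_centralizer_of_commutator_le (D := bar H X' D) (bar_mono (map_mono inf_le_right)) ?_
    (mem_bar hcH ⟨c, hc, rfl⟩)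
  rw [← bar_commutator hDH h.yH]
  exact bar_mono hDY

end Main

end Cfsg.Lib.Local.AsymL
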