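import Mathlib
import Cfsg.Agent.Lib.Core.Basic
import Cfsg.Agent.Lib.Local.Basic

/-!
# A chief factor under a pair of commuting-quadratic subgroups

The group-level facts used for the asymmetric `L`-lemma: `V` is a minimal normal abelian subgroup,
`Y` and `Y₁` are generating conjugates whose commutators with `V` lie in `Y`, `Y₁`.
-/

set_option autoImplicit false

namespace Cfsg.Lib.Local.AsymL

open Subgroup
open scoped commutatorElement

variable {Γ : Type*} [Group Γ]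

local notation:max "cj" g:max K:max => Subgroup.map (MulEquiv.toMonoidHom (MulAut.conj g)) K

theorem card_cj (g : Γ) (K : Subgroup Γ) : Nat.card (cj g K : Subgroup Γ) = Nat.card K :=
  card_map_of_injective (MulAut.conj g).injective

theorem comm_eq_bot {A B : Subgroup Γ} (h : A ≤ centralizer (B : Set Γ)) : ⁅A, B⁆ = ⊥ :=
  commutator_eq_bot_iff_le_centralizer.2 h

theorem cent_mono {A B : Subgroup Γ} (h : A ≤ B) :
    centralizer (B : Set Γ) ≤ centralizer (A : Set Γ) :=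
  centralizer_le (SetLike.coe_subset_coe.2 h)

/-- An element normalizes `K` if it moves every element of `K` by an element of `K`. -/
theorem conj_mem_of_commutator {K : Subgroup Γ} {g x : Γ} (hx : x ∈ K) (h : ⁅g, x⁆ ∈ K) :
    g * x * g⁻¹ ∈ K := by
  rw [show g * x * g⁻¹ = ⁅g, x⁆ * x by simp [commutatorElement_def]]
  exact mul_mem h hx

/-- A maximal `p`-subgroup of `K` above `A`, with the conjugacy property. -/
theorem exists_sylow_in [Finite Γ] {p : ℕ} [Fact p.Prime] {K A : Subgroup Γ} (hA : A ≤ K)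
    (hAp : IsPGroup p A) : ∃ T : Subgroup Γ, A ≤ T ∧ T ≤ K ∧ IsPGroup p T ∧
      ∀ B : Subgroup Γ, B ≤ K → IsPGroup p B → ∃ k ∈ K, (cj k B : Subgroup Γ) ≤ T := by
  obtain ⟨P, hP⟩ := (hAp.comap_of_injective K.subtype K.subtype_injective).exists_le_sylow
  refine ⟨(P : Subgroup K).map K.subtype, fun a ha => ⟨⟨a, hA ha⟩, hP ha, rfl⟩, map_subtype_le _,
    P.isPGroup'.map _, fun B hB hBp => ?_⟩
  obtain ⟨P', hP'⟩ := (hBp.comap_of_injective K.subtype K.subtype_injective).exists_le_sylow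
  obtain ⟨k, hk⟩ := MulAction.exists_smul_eq K P' P
  refine ⟨k, k.2, ?_⟩
  rintro _ ⟨b, hb, rfl⟩
  refine ⟨k * ⟨b, hB hb⟩ * k⁻¹, ?_, rfl⟩
  rw [← hk]
  exact ⟨⟨b, hB hb⟩, hP' hb, rfl⟩

section Split

variable {V Y Y₁ O O₁ : Subgroup Γ} [hVn : V.Normal]

theorem pair_aux (hVab : V ≤ centralizer (V : Set Γ))
    (hmin : ∀ Z : Subgroup Γ, Z.Normal → Z ≤ V → Z = ⊥ ∨ Z = V)
    (hnc : ¬ V ≤ center Γ) (hOY : O ≤ centralizer (Y : Set Γ)) (hVY : ⁅V, Y⁆ ≤ Y)
    (hgen : Y₁ ⊔ O = ⊤) :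
    ⁅V, Y⁆ ⊓ centralizer (Y₁ : Set Γ) = ⊥ ∧
      (V ⊓ centralizer (Y : Set Γ)) ⊔ ⁅V, Y₁⁆ = V ∧ ⁅V, O⁆ ≤ centralizer (Y : Set Γ) := by
  have hAO : O ≤ centralizer ((⁅V, Y⁆ : Subgroup Γ) : Set Γ) := hOY.trans (cent_mono hVY)
  have hVO : ⁅V, O⁆ ≤ centralizer (Y : Set Γ) := by
    rw [← commutator_eq_bot_iff_le_centralizer]
    refine commutator_commutator_eq_bot_of_rotate (comm_eq_bot hOY |> fun h => ?_) ?_
    · rw [h, commutator_bot_left]
    · rw [commutator_comm Y V, commutator_eq_bot_iff_le_centralizer, le_centralizer_iff]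
      exact hAO
  refine ⟨?_, ?_, hVO⟩
  · set D := ⁅V, Y⁆ ⊓ centralizer (Y₁ : Set Γ) with hD
    have hDV : D ≤ V := inf_le_left.trans (commutator_le_left V Y)
    have hDc : D ≤ center Γ := by
      intro d hd
      have h1 : (⊤ : Subgroup Γ) ≤ centralizer ({d} : Set Γ) := by
        rw [← hgen]
        refine sup_le (fun y hy => ?_) fun o ho => ?_
        · exact mem_centralizer_singleton_iff.2 (mem_centralizer_iff.1 hd.2 y hy)
        · exact mem_centralizer_singleton_iff.2 (mem_centralizer_iff.1 (hAO ho) d hd.1).symm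
      exact mem_center_iff.2 fun x => mem_centralizer_singleton_iff.1 (h1 (mem_top x))
    haveI : D.Normal := ⟨fun d hd g => by
      rwa [mem_center_iff.1 (hDc hd) g, mul_inv_cancel_right]⟩
    exact (hmin D inferInstance hDV).resolve_right fun h => hnc (h ▸ hDc)
  · set X := (V ⊓ centralizer (Y : Set Γ)) ⊔ ⁅V, Y₁⁆ with hX
    have hXV : X ≤ V := sup_le inf_le_left (commutator_le_left V Y₁)
    have hY₁X : ∀ g ∈ Y₁, ∀ v ∈ V, ⁅v, g⁆ ∈ X := fun g hg v hv =>
      mem_sup_right (commutator_mem_commutator hv hg)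
    have hOX : ∀ g ∈ O, ∀ v ∈ V, ⁅v, g⁆ ∈ X := fun g hg v hv =>
      mem_sup_left ⟨commutator_le_left V O (commutator_mem_commutator hv hg),
        hVO (commutator_mem_commutator hv hg)⟩
    have hn : ∀ K : Subgroup Γ, (∀ g ∈ K, ∀ v ∈ V, ⁅v, g⁆ ∈ X) → K ≤ normalizer (X : Set Γ) := by
      intro K hK
      refine Core.le_normalizer_iff_conj_mem.2 fun g hg x hx => conj_mem_of_commutator hx ?_
      rw [← commutatorElement_inv]
      exact inv_mem (hK g hg x (hXV hx))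
    haveI : X.Normal := normalizer_eq_top_iff.1
      (top_le_iff.1 (hgen ▸ sup_le (hn Y₁ hY₁X) (hn O hOX)))
    rcases hmin X inferInstance hXV with h0 | h0
    · refine absurd (fun v hv => mem_center_iff.2 fun x => ?_) hnc
      have h1 : (⊤ : Subgroup Γ) ≤ centralizer ({v} : Set Γ) := by
        rw [← hgen]
        refine sup_le (fun y hy => ?_) fun o ho => ?_
        · have h2 := hY₁X y hy v hv
          rw [h0, mem_bot, commutatorElement_eq_one_iff_mul_comm] at h2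
          exact mem_centralizer_singleton_iff.2 h2.symm
        · have h2 := hOX o ho v hv
          rw [h0, mem_bot, commutatorElement_eq_one_iff_mul_comm] at h2
          exact mem_centralizer_singleton_iff.2 h2.symm
      exact mem_centralizer_singleton_iff.1 (h1 (mem_top x))
    · exact h0

/-- The splitting of a noncentral minimal normal subgroup by a generating pair. -/
structure Pair (V Y Y₁ O O₁ : Subgroup Γ) : Prop where
  vab : V ≤ centralizer (V : Set Γ)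
  min : ∀ Z : Subgroup Γ, Z.Normal → Z ≤ V → Z = ⊥ ∨ Z = V
  nc : ¬ V ≤ center Γ
  oy : O ≤ centralizer (Y : Set Γ)
  oy₁ : O₁ ≤ centralizer (Y₁ : Set Γ)
  yab : Y ≤ centralizer (Y : Set Γ)
  yab₁ : Y₁ ≤ centralizer (Y₁ : Set Γ)
  vy : ⁅V, Y⁆ ≤ Y
  vy₁ : ⁅V, Y₁⁆ ≤ Y₁
  gen : Y₁ ⊔ O = ⊤
  gen₁ : Y ⊔ O₁ = ⊤

variable (h : Pair V Y Y₁ O O₁)

include h

theorem Pair.decomp {v : Γ} (hv : v ∈ V) :
    ∃ c ∈ V ⊓ centralizer (Y₁ : Set Γ), ∃ a ∈ ⁅V, Y⁆, c * a = v := by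
  have h1 := (pair_aux h.vab h.min h.nc h.oy₁ h.vy₁ h.gen₁).2.1
  rw [← h1] at hv
  exact (Core.mem_sup_of_commute (eq_bot_iff.2 ((commutator_mono inf_le_left
    (commutator_le_left V Y)).trans (comm_eq_bot h.vab).le))).1 hv

theorem Pair.decomp_centralizer {v : Γ} (hv : v ∈ V ⊓ centralizer (Y : Set Γ)) :
    ∃ c ∈ V ⊓ centralizer ((Y ⊔ Y₁ : Subgroup Γ) : Set Γ), ∃ a ∈ ⁅V, Y⁆, c * a = v := by
  obtain ⟨c, hc, a, ha, rfl⟩ := h.decomp hv.1
  refine ⟨c, ⟨hc.1, ?_⟩, a, ha, rfl⟩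
  have hcY : c ∈ centralizer (Y : Set Γ) := by
    have := (centralizer (Y : Set Γ)).mul_mem hv.2 (inv_mem (h.yab (h.vy ha)))
    rwa [mul_inv_cancel_right] at this
  have : Y ⊔ Y₁ ≤ centralizer ({c} : Set Γ) := sup_le
    (fun y hy => mem_centralizer_singleton_iff.2 (mem_centralizer_iff.1 hcY y hy))
    fun y hy => mem_centralizer_singleton_iff.2 (mem_centralizer_iff.1 hc.2 y hy)
  exact mem_centralizer_iff.2 fun y hy => mem_centralizer_singleton_iff.1 (this hy)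

theorem Pair.commutator_join_le :
    ⁅V, Y ⊔ Y₁⁆ ≤ ⁅V, Y⁆ ⊔ ⁅V, Y₁⁆ := by
  set D := ⁅V, Y⁆ ⊔ ⁅V, Y₁⁆ with hD
  have hDV : D ≤ V := sup_le (commutator_le_left V Y) (commutator_le_left V Y₁)
  suffices H : ∀ g ∈ Y ⊔ Y₁, g ∈ normalizer (D : Set Γ) ∧ ∀ v ∈ V, ⁅v, g⁆ ∈ D by
    rw [commutator_le]
    exact fun v hv g hg => (H g hg).2 v hv
  have hgenerator : ∀ g, (g ∈ Y ∨ g ∈ Y₁) → g ∈ normalizer (D : Set Γ) ∧ ∀ v ∈ V, ⁅v, g⁆ ∈ D := by
    have hc : ∀ g, (g ∈ Y ∨ g ∈ Y₁) → ∀ v ∈ V, ⁅v, g⁆ ∈ D := by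
      rintro g (hg | hg) v hv
      · exact mem_sup_left (commutator_mem_commutator hv hg)
      · exact mem_sup_right (commutator_mem_commutator hv hg)
    intro g hg
    refine ⟨?_, hc g hg⟩
    have key : ∀ K : Subgroup Γ, (∀ g ∈ K, g ∈ Y ∨ g ∈ Y₁) → K ≤ normalizer (D : Set Γ) := by
      intro K hK
      refine Core.le_normalizer_iff_conj_mem.2 fun g hg x hx => conj_mem_of_commutator hx ?_
      rw [← commutatorElement_inv]
      exact inv_mem (hc g (hK g hg) x (hDV hx))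
    rcases hg with hg | hg
    · exact key Y (fun g hg => Or.inl hg) hg
    · exact key Y₁ (fun g hg => Or.inr hg) hg
  intro g hg
  rw [sup_eq_closure] at hg
  induction hg using closure_induction with
  | mem g hg => exact hgenerator g hg
  | one => exact ⟨one_mem _, fun v _ => by simp⟩
  | mul a b _ _ ha hb =>
    refine ⟨mul_mem ha.1 hb.1, fun v hv => ?_⟩
    rw [show ⁅v, a * b⁆ = ⁅v, a⁆ * (a * ⁅v, b⁆ * a⁻¹) by simp [commutatorElement_def, mul_assoc]]
    exact mul_mem (ha.2 v hv) ((mem_normalizer_iff.1 ha.1 _).1 (hb.2 v hv))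
  | inv a _ ha =>
    refine ⟨inv_mem ha.1, fun v hv => ?_⟩
    rw [show ⁅v, a⁻¹⁆ = a⁻¹ * ⁅v, a⁆⁻¹ * a by simp [commutatorElement_def, mul_assoc]]
    have := (mem_normalizer_iff.1 (inv_mem ha.1) _).1 (inv_mem (ha.2 v hv))
    rwa [inv_inv] at this

/-- A conjugate of `Y` in the join commuting with `Y` has the same commutator with `V`. -/
theorem Pair.commutator_conj_eq [Finite Γ] {x : Γ} (hx : x ∈ Y ⊔ Y₁)
    (hc : (cj x Y : Subgroup Γ) ≤ centralizer (Y : Set Γ)) : (cj x ⁅V, Y⁆ : Subgroup Γ) = ⁅V, Y⁆ := by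
  have hmap : (cj x ⁅V, Y⁆ : Subgroup Γ) = ⁅V, (cj x Y : Subgroup Γ)⁆ := by
    show map _ ⁅V, Y⁆ = ⁅V, map _ Y⁆
    rw [map_commutator, Core.map_conj_eq_of_mem_normalizer (H := V) (normalizer_eq_top V ▸ mem_top x)]
  refine eq_of_le_of_card_ge ?_ (card_cj x _).ge
  intro z hz
  have hzY : z ∈ (cj x Y : Subgroup Γ) := map_mono h.vy hz
  rw [hmap] at hz
  have hzV : z ∈ V := commutator_le_left _ _ hz
  obtain ⟨c, hc', a, ha, rfl⟩ := h.decomp_centralizer ⟨hzV, hc hzY⟩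
  have hYL : (cj x Y : Subgroup Γ) ≤ Y ⊔ Y₁ := by
    rintro _ ⟨y, hy, rfl⟩
    exact mul_mem (mul_mem hx (mem_sup_left hy)) (inv_mem hx)
  have h2 := h.commutator_join_le (commutator_mono le_rfl hYL hz)
  obtain ⟨a', ha', a₁, ha₁, he⟩ := (Core.mem_sup_of_commute (eq_bot_iff.2 ((commutator_mono
    (commutator_le_left V Y) (commutator_le_left V Y₁)).trans (comm_eq_bot h.vab).le))).1 h2
  obtain ⟨h11, -, -⟩ := pair_aux h.vab h.min h.nc h.oy h.vy h.gen
  obtain ⟨h21, -, -⟩ := pair_aux h.vab h.min h.nc h.oy₁ h.vy₁ h.gen₁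
  have hcY : c ∈ centralizer (Y : Set Γ) := cent_mono le_sup_left hc'.2
  have ha₁1 : a₁ = 1 := by
    rw [← mem_bot, ← h21]
    refine ⟨ha₁, ?_⟩
    have : a'⁻¹ * (c * a) ∈ centralizer (Y : Set Γ) :=
      mul_mem (inv_mem (h.yab (h.vy ha'))) (mul_mem hcY (h.yab (h.vy ha)))
    rwa [← he, inv_mul_cancel_left] at this
  rw [ha₁1, mul_one] at he
  have hc1 : c = 1 := by
    rw [← mem_bot, ← h11]
    refine ⟨?_, cent_mono le_sup_right hc'.2⟩
    rw [show c = a' * a⁻¹ by rw [he, mul_inv_cancel_right]]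
    exact Subgroup.mul_mem _ ha' (Subgroup.inv_mem _ ha)
  rw [hc1, one_mul]
  exact ha

/-- `O` centralizes `V` modulo what commutes with a commuting conjugate. -/
theorem Pair.commutator_centralizes [Finite Γ] {x : Γ} (hx : x ∈ Y ⊔ Y₁)
    (hc : (cj x Y : Subgroup Γ) ≤ centralizer (Y : Set Γ)) :
    ⁅O, (cj x Y : Subgroup Γ)⁆ ≤ centralizer (V : Set Γ) := by
  have hA := h.commutator_conj_eq hx hc
  set Y₂ := (cj x Y : Subgroup Γ) with hY₂
  have hmap : ⁅V, Y⁆ = ⁅V, Y₂⁆ := by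
    conv_lhs => rw [← hA]
    show map _ ⁅V, Y⁆ = ⁅V, map _ Y⁆
    rw [map_commutator, Core.map_conj_eq_of_mem_normalizer (H := V) (normalizer_eq_top V ▸ mem_top x)]
  have hYL : Y₂ ≤ Y ⊔ Y₁ := by
    rintro _ ⟨y, hy, rfl⟩
    exact mul_mem (mul_mem hx (mem_sup_left hy)) (inv_mem hx)
  have hY₂ab : Y₂ ≤ centralizer (Y₂ : Set Γ) := by
    rintro _ ⟨a, ha, rfl⟩
    refine mem_centralizer_iff.2 ?_
    rintro _ ⟨b, hb, rfl⟩
    show (MulAut.conj x).toMonoidHom b * (MulAut.conj x).toMonoidHom a = _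
    rw [← map_mul, mem_centralizer_iff.1 (h.yab ha) b hb, map_mul]
  have hA₂ : ⁅V, Y⁆ ≤ centralizer (Y₂ : Set Γ) := by
    rw [← hA]
    exact (map_mono h.vy).trans hY₂ab
  have hC : V ⊓ centralizer (Y : Set Γ) ≤ centralizer (Y₂ : Set Γ) := by
    intro v hv
    obtain ⟨c, hc', a, ha, rfl⟩ := h.decomp_centralizer hv
    exact mul_mem (cent_mono hYL hc'.2) (hA₂ ha)
  obtain ⟨-, -, hVO⟩ := pair_aux h.vab h.min h.nc h.oy h.vy h.gen
  rw [← commutator_eq_bot_iff_le_centralizer]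
  refine commutator_commutator_eq_bot_of_rotate ?_ ?_
  · rw [commutator_comm Y₂ V, ← hmap, commutator_eq_bot_iff_le_centralizer, le_centralizer_iff]
    exact h.oy.trans (cent_mono h.vy)
  · rw [commutator_eq_bot_iff_le_centralizer]
    exact (le_inf (commutator_le_left V O) hVO).trans hC

/-- An element of the join normalizing `[V, Y]` centralizes `C_V(Y)` modulo `[V, Y]`. -/
theorem Pair.commutator_mem [Finite Γ] {x : Γ} (hx : x ∈ Y ⊔ Y₁)
    (hc : (cj x Y : Subgroup Γ) ≤ centralizer (Y : Set Γ)) {v : Γ}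
    (hv : v ∈ V ⊓ centralizer (Y : Set Γ)) : ⁅v, x⁆ ∈ ⁅V, Y⁆ := by
  have hA := h.commutator_conj_eq hx hc
  obtain ⟨c, hc', a, ha, rfl⟩ := h.decomp_centralizer hv
  have hac : ⁅c * a, x⁆ = c * ⁅a, x⁆ * c⁻¹ * ⁅c, x⁆ := by
    simp [commutatorElement_def, mul_assoc]
  have hcx : ⁅c, x⁆ = 1 :=
    commutatorElement_eq_one_iff_mul_comm.2 (mem_centralizer_iff.1 hc'.2 x hx).symm
  have h1 : ⁅a, x⁆ ∈ ⁅V, Y⁆ := by
    rw [commutatorElement_def, mul_assoc, mul_assoc, ← mul_assoc x]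
    exact mul_mem ha (hA.le ⟨a⁻¹, inv_mem ha, rfl⟩)
  rw [hac, hcx, mul_one]
  have h2 : c * ⁅a, x⁆ * c⁻¹ = ⁅a, x⁆ := by
    rw [mem_centralizer_iff.1 (h.vab (commutator_le_left V Y h1)) c hc'.1, mul_inv_cancel_right]
  rwa [h2]

/-- A subgroup of `Y₁` moving `Y` into itself by commutators centralizes `V`. -/
theorem Pair.le_centralizer_of_commutator_le {D : Subgroup Γ} (hD : D ≤ Y₁)
    (hDY : ⁅D, Y⁆ ≤ Y) : D ≤ centralizer (V : Set Γ) := by
  obtain ⟨h21, -, -⟩ := pair_aux h.vab h.min h.nc h.oy₁ h.vy₁ h.gen₁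
  have hAD : ⁅⁅V, Y⁆, D⁆ = ⊥ := by
    rw [eq_bot_iff, ← h21]
    refine le_inf (commutator_mono (commutator_le_left V Y) hD) ?_
    rw [← commutator_eq_bot_iff_le_centralizer]
    refine commutator_commutator_eq_bot_of_rotate ?_ ?_
    · rw [commutator_eq_bot_iff_le_centralizer]
      exact (hDY.trans h.yab).trans (cent_mono h.vy)
    · rw [show ⁅Y, ⁅V, Y⁆⁆ = ⊥ from comm_eq_bot (h.yab.trans (cent_mono h.vy)),
        commutator_bot_left]
  rw [le_centralizer_iff]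
  intro v hv
  obtain ⟨c, hc, a, ha, rfl⟩ := h.decomp hv
  exact mul_mem (cent_mono hD hc.2) (commutator_eq_bot_iff_le_centralizer.1 hAD ha)

end Split

/-- The descending step: an element centralizing `C_V(Y)` modulo `[V, Y]` and normalizing `Y V`
normalizes `Y`, provided `p`-subgroups containing `O` have normalizers inside that of `Y`. -/
theorem mem_normalizer_step [Finite Γ] {p : ℕ} [hp : Fact p.Prime] {V Y O : Subgroup Γ} [hVn : V.Normal]
    (hVab : V ≤ centralizer (V : Set Γ)) (hVp : IsPGroup p V) (hYp : IsPGroup p Y)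
    (hYab : Y ≤ centralizer (Y : Set Γ)) (hVY : ⁅V, Y⁆ ≤ Y) (hOp : IsPGroup p O)
    (hOY : O ≤ centralizer (Y : Set Γ))
    (hN : ∀ T : Subgroup Γ, IsPGroup p T → O ≤ T →
      normalizer (T : Set Γ) ≤ normalizer (Y : Set Γ))
    (hcomm : ∀ x ∈ normalizer ((Y ⊔ V : Subgroup Γ) : Set Γ),
      (cj x Y : Subgroup Γ) ≤ centralizer (Y : Set Γ))
    {h : Γ} (hh : h ∈ normalizer ((Y ⊔ V : Subgroup Γ) : Set Γ))
    (hC : ∀ c ∈ V ⊓ centralizer (Y : Set Γ), ⁅c, h⁆ ∈ ⁅V, Y⁆) :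
    h ∈ normalizer (Y : Set Γ) := by
  classical
  set P := normalizer ((Y ⊔ V : Subgroup Γ) : Set Γ) with hP
  set C := V ⊓ centralizer (Y : Set Γ) with hCdef
  set A := ⁅V, Y⁆ with hAdef
  have hYV : Y ≤ normalizer (V : Set Γ) := le_normalizer_normal Y
  have hCeq : C = V ⊓ centralizer ((Y ⊔ V : Subgroup Γ) : Set Γ) := by
    refine le_antisymm (le_inf inf_le_left ?_) (inf_le_inf_left _ (cent_mono le_sup_left))
    intro c hc
    have h1 : Y ⊔ V ≤ centralizer ({c} : Set Γ) := sup_le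
      (fun y hy => mem_centralizer_singleton_iff.2 (mem_centralizer_iff.1 hc.2 y hy))
      fun v hv => mem_centralizer_singleton_iff.2 (mem_centralizer_iff.1 (hVab hc.1) v hv)
    exact mem_centralizer_iff.2 fun y hy => mem_centralizer_singleton_iff.1 (h1 hy)
  have hAeq : A = ⁅V, Y ⊔ V⁆ := by
    refine le_antisymm (commutator_mono le_rfl le_sup_left) ?_
    rw [commutator_le]
    intro v hv g hg
    obtain ⟨y, hy, w, hw, rfl⟩ := (Core.mem_sup_of_le_normalizer hYV).1 hg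
    rw [show ⁅v, y * w⁆ = ⁅v, y⁆ * (y * ⁅v, w⁆ * y⁻¹) by simp [commutatorElement_def, mul_assoc],
      commutatorElement_eq_one_iff_mul_comm.2 (mem_centralizer_iff.1 (hVab hw) v hv),
      mul_one, mul_inv_cancel, mul_one]
    exact commutator_mem_commutator hv hy
  have hVcj : ∀ x : Γ, V.map (MulAut.conj x).toMonoidHom = V := fun x =>
    Core.map_conj_eq_of_mem_normalizer (normalizer_eq_top V ▸ mem_top x)
  have hPA : P ≤ normalizer (A : Set Γ) := by
    intro x hx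
    rw [Core.mem_normalizer_iff_map_conj, hAeq, map_commutator, hVcj,
      Core.map_conj_eq_of_mem_normalizer hx]
  have hPC : P ≤ normalizer (C : Set Γ) := by
    rw [hCeq]
    exact le_normalizer_inf (le_normalizer_normal P) (normalizer_le_normalizer_centralizer _)
  have hAY : A ≤ Y := hVY
  have hOP : O ≤ P := by
    intro o ho
    rw [hP, Core.mem_normalizer_iff_map_conj, Subgroup.map_sup, hVcj,
      Core.map_conj_eq_of_mem_normalizer ((hOY.trans (centralizer_le_normalizer _)) ho)]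
  -- the two kernels
  let K0 : Subgroup Γ :=
  { carrier := {x | x ∈ P ∧ ∀ c ∈ C, ⁅c, x⁆ ∈ A}
    one_mem' := ⟨one_mem _, fun c _ => by simp⟩
    mul_mem' := by
      rintro a b ⟨ha, ha'⟩ ⟨hb, hb'⟩
      refine ⟨mul_mem ha hb, fun c hc => ?_⟩
      rw [show ⁅c, a * b⁆ = ⁅c, a⁆ * (a * ⁅c, b⁆ * a⁻¹) by simp [commutatorElement_def, mul_assoc]]
      exact mul_mem (ha' c hc) ((mem_normalizer_iff.1 (hPA ha) _).1 (hb' c hc))
    inv_mem' := by
      rintro a ⟨ha, ha'⟩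
      refine ⟨inv_mem ha, fun c hc => ?_⟩
      rw [show ⁅c, a⁻¹⁆ = a⁻¹ * ⁅c, a⁆⁻¹ * a⁻¹⁻¹ by simp [commutatorElement_def, mul_assoc]]
      exact (mem_normalizer_iff.1 (hPA (inv_mem ha)) _).1 (inv_mem (ha' c hc)) }
  let K1 : Subgroup Γ :=
  { carrier := {x | x ∈ P ∧ ∀ y ∈ Y, ⁅y, x⁆ ∈ V}
    one_mem' := ⟨one_mem _, fun y _ => by simp⟩
    mul_mem' := by
      rintro a b ⟨ha, ha'⟩ ⟨hb, hb'⟩
      refine ⟨mul_mem ha hb, fun c hc => ?_⟩
      rw [show ⁅c, a * b⁆ = ⁅c, a⁆ * (a * ⁅c, b⁆ * a⁻¹) by simp [commutatorElement_def, mul_assoc]]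
      exact mul_mem (ha' c hc) (hVn.conj_mem _ (hb' c hc) a)
    inv_mem' := by
      rintro a ⟨ha, ha'⟩
      refine ⟨inv_mem ha, fun c hc => ?_⟩
      rw [show ⁅c, a⁻¹⁆ = a⁻¹ * ⁅c, a⁆⁻¹ * a⁻¹⁻¹ by simp [commutatorElement_def, mul_assoc]]
      exact hVn.conj_mem _ (inv_mem (ha' c hc)) a⁻¹ }
  have hK0n : P ≤ normalizer (K0 : Set Γ) := by
    refine Core.le_normalizer_iff_conj_mem.2 ?_
    rintro g hg x ⟨hx, hx'⟩
    refine ⟨mul_mem (mul_mem hg hx) (inv_mem hg), fun c hc => ?_⟩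
    have hc' : g⁻¹ * c * g ∈ C := by
      simpa using (mem_normalizer_iff.1 (inv_mem (hPC hg)) c).1 hc
    have h1 := (mem_normalizer_iff.1 (hPA hg) _).1 (hx' _ hc')
    simpa [commutatorElement_def, mul_assoc] using h1
  have hK1n : P ≤ normalizer (K1 : Set Γ) := by
    refine Core.le_normalizer_iff_conj_mem.2 ?_
    rintro g hg x ⟨hx, hx'⟩
    refine ⟨mul_mem (mul_mem hg hx) (inv_mem hg), fun y hy => ?_⟩
    have hy' : g⁻¹ * y * g ∈ Y ⊔ V := by
      simpa using (mem_normalizer_iff.1 (inv_mem hg) y).1 (mem_sup_left hy)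
    obtain ⟨y₀, hy₀, w, hw, he⟩ := (Core.mem_sup_of_le_normalizer hYV).1 hy'
    have h0 : ⁅y₀ * w, x⁆ ∈ V := by
      rw [show ⁅y₀ * w, x⁆ = y₀ * (w * (x * w⁻¹ * x⁻¹)) * y₀⁻¹ * ⁅y₀, x⁆ by
        simp [commutatorElement_def, mul_assoc]]
      exact mul_mem (hVn.conj_mem _ (mul_mem hw (hVn.conj_mem _ (inv_mem hw) x)) y₀) (hx' y₀ hy₀)
    rw [he] at h0
    have h1 := hVn.conj_mem _ h0 g
    simpa [commutatorElement_def, mul_assoc] using h1
  have hOK1 : O ≤ K1 := fun o ho => ⟨hOP ho, fun y hy => by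
    rw [commutatorElement_eq_one_iff_mul_comm.2 (mem_centralizer_iff.1 (hOY ho) y hy)]
    exact one_mem _⟩
  have hOn2 : O ≤ normalizer ((K0 ⊓ K1 : Subgroup Γ) : Set Γ) :=
    hOP.trans (le_normalizer_inf hK0n hK1n)
  set K3 := (K0 ⊓ K1) ⊔ O with hK3
  have hK3K1 : K3 ≤ K1 := sup_le inf_le_right hOK1
  have hK3P : K3 ≤ P := fun x hx => (hK3K1 hx).1
  have hK0K3 : K0 ≤ normalizer (K3 : Set Γ) := by
    intro x hx
    rw [Core.mem_normalizer_iff_map_conj]
    refine eq_of_le_of_card_ge ?_ (card_cj x _).ge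
    rw [hK3, Subgroup.map_sup]
    refine sup_le ?_ ?_
    · rw [Core.map_conj_eq_of_mem_normalizer (le_normalizer_inf hK0n hK1n hx.1)]
      exact le_sup_left
    · rintro _ ⟨o, ho, rfl⟩
      have h1 : o⁻¹ * (x * o * x⁻¹) ∈ K0 ⊓ K1 := by
        refine ⟨?_, K1.mul_mem (K1.inv_mem (hOK1 ho)) ((mem_normalizer_iff.1 (hK1n hx.1) o).1 (hOK1 ho))⟩
        rw [show o⁻¹ * (x * o * x⁻¹) = (o⁻¹ * x * o⁻¹⁻¹) * x⁻¹ by group]
        exact K0.mul_mem ((mem_normalizer_iff.1 (hK0n (hOP (O.inv_mem ho))) x).1 hx) (K0.inv_mem hx)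
      show x * o * x⁻¹ ∈ K0 ⊓ K1 ⊔ O
      rw [show x * o * x⁻¹ = o * (o⁻¹ * (x * o * x⁻¹)) by group]
      exact mul_mem (mem_sup_right ho) (mem_sup_left h1)
  obtain ⟨T, hOT, hTK, hTp, hTconj⟩ := exists_sylow_in (K := K3) le_sup_right hOp
  have hTY : T ≤ normalizer (Y : Set Γ) := le_normalizer.trans (hN T hTp hOT)
  -- `K0 ⊓ K1` normalizes `Y`
  set K2 := K0 ⊓ K1 with hK2
  have hp'elem : ∀ x ∈ K2, (orderOf x).Coprime p → x ∈ normalizer (Y : Set Γ) := by
    intro x hx hxp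
    set E := Y ⊔ C with hE
    have hYC : Y ≤ normalizer (C : Set Γ) :=
      (le_sup_left.trans (le_normalizer (H := Y ⊔ V))).trans hPC
    have hEp : IsPGroup p E := isPGroup_sup_of_le_normalizer hYp (hVp.to_le inf_le_left) hYC
    have hxE : x ∈ normalizer (E : Set Γ) := by
      rw [Core.mem_normalizer_iff_map_conj]
      refine eq_of_le_of_card_ge ?_ (card_cj x _).ge
      rw [hE, Subgroup.map_sup]
      refine sup_le ?_ ((Core.map_conj_eq_of_mem_normalizer (hPC hx.1.1)).le.trans le_sup_right)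
      intro z hz
      have h1 : z ∈ Y ⊔ V := (Core.map_conj_eq_of_mem_normalizer hx.1.1).le
        (map_mono le_sup_left hz)
      obtain ⟨y, hy, w, hw, rfl⟩ := (Core.mem_sup_of_le_normalizer hYV).1 h1
      have hwC : w ∈ C := ⟨hw, by
        have := mul_mem (inv_mem (hYab hy)) (hcomm x hx.1.1 hz)
        rwa [inv_mul_cancel_left] at this⟩
      exact mul_mem_sup hy hwC
    have hz : zpowers x ≤ normalizer (E : Set Γ) := zpowers_le.2 hxE
    have h2 : ⁅E, zpowers x⁆ ≤ C := by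
      rw [commutator_le]
      intro e he g hg
      have hgK : g ∈ K2 := zpowers_le.2 hx hg
      obtain ⟨y, hy, c, hc, rfl⟩ := (Core.mem_sup_of_le_normalizer hYC).1 he
      have hE' : ⁅y * c, g⁆ ∈ E :=
        Coprime.commutator_le_of_le_normalizer hz (commutator_mem_commutator (mul_mem_sup hy hc) hg)
      have hV' : ⁅y * c, g⁆ ∈ V := by
        rw [show ⁅y * c, g⁆ = y * ⁅c, g⁆ * y⁻¹ * ⁅y, g⁆ by simp [commutatorElement_def, mul_assoc]]
        exact mul_mem (hVn.conj_mem _ (commutator_le_left V Y (hgK.1.2 c hc)) y) (hgK.2.2 y hy)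
      obtain ⟨y', hy', c', hc', he'⟩ := (Core.mem_sup_of_le_normalizer hYC).1 hE'
      rw [← he'] at hV' ⊢
      refine ⟨hV', mul_mem (hYab hy') hc'.2⟩
    have hcop := coprime_card_zpowers hEp hxp
    have h3 := Coprime.commutator_commutator_eq hz hcop (Or.inl (isSolvable_zpowers x))
    have h4 : ⁅E, zpowers x⁆ ≤ Y := by
      rw [← h3]
      refine (commutator_mono h2 le_rfl).trans ?_
      rw [commutator_le]
      exact fun c hc g hg => hAY ((zpowers_le.2 hx hg : g ∈ K2).1.2 c hc)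
    rw [Core.mem_normalizer_iff_map_conj]
    refine eq_of_le_of_card_ge ?_ (card_cj x _).ge
    rintro _ ⟨y, hy, rfl⟩
    refine conj_mem_of_commutator hy ?_
    rw [← commutatorElement_inv]
    exact inv_mem (h4 (commutator_mem_commutator (mem_sup_left hy) (mem_zpowers x)))
  have hK2Y : K2 ≤ normalizer (Y : Set Γ) := by
    set N2 := K2 ⊓ normalizer (Y : Set Γ) with hN2
    suffices hdvd : Nat.card K2 ∣ Nat.card N2 from
      (eq_of_le_of_card_ge (inf_le_left : N2 ≤ K2) (Nat.le_of_dvd Nat.card_pos hdvd)).ge.trans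
        inf_le_right
    rw [Nat.dvd_iff_prime_pow_dvd_dvd]
    intro q n hq hdvd
    haveI := Fact.mk hq
    obtain ⟨Q, hQ⟩ := Sylow.exists_subgroup_card_pow_prime q hdvd
    set Q' := Q.map K2.subtype with hQ'
    have hQ'c : Nat.card Q' = q ^ n := by rw [hQ', card_map_of_injective K2.subtype_injective, hQ]
    have hQ'K : Q' ≤ K2 := map_subtype_le _
    by_cases hqp : q = p
    · subst hqp
      obtain ⟨k, hk, hkT⟩ := hTconj Q' (hQ'K.trans le_sup_left) (IsPGroup.of_card hQ'c)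
      have hkK : k ∈ normalizer (K2 : Set Γ) := le_normalizer_inf hK0n hK1n (hK3P hk)
      rw [← hQ'c, ← card_cj k Q']
      refine card_dvd_of_le (le_inf ?_ (hkT.trans hTY))
      exact (map_mono hQ'K).trans (Core.map_conj_eq_of_mem_normalizer hkK).le
    · rw [← hQ'c]
      refine card_dvd_of_le (le_inf hQ'K fun z hz => hp'elem z (hQ'K hz) ?_)
      have h1 : orderOf z ∣ q ^ n := hQ'c ▸ orderOf_dvd_natCard Q' hz
      exact Nat.Coprime.coprime_dvd_left h1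
        (Nat.Coprime.pow_left n ((Nat.coprime_primes hq hp.out).2 hqp))
  -- Frattini argument
  have hhK : h ∈ K0 := ⟨hh, hC⟩
  obtain ⟨k, hk, hkT⟩ := hTconj (cj h T)
    ((map_mono hTK).trans (Core.map_conj_eq_of_mem_normalizer (hK0K3 hhK)).le) (hTp.map _)
  have hkh : k * h ∈ normalizer (T : Set Γ) := by
    rw [Core.mem_normalizer_iff_map_conj, Core.map_conj_mul]
    exact eq_of_le_of_card_ge hkT (by rw [card_cj, card_cj])
  have hkY : k ∈ normalizer (Y : Set Γ) := by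
    have : K3 ≤ normalizer (Y : Set Γ) := sup_le hK2Y (hOY.trans (centralizer_le_normalizer _))
    exact this hk
  rw [show h = k⁻¹ * (k * h) by group]
  exact mul_mem (inv_mem hkY) (hN T hTp hOT hkh)

end Cfsg.Lib.Local.AsymL
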