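import Cfsg.Agent.Lib.Local.Uniq.Tools
import Cfsg.Agent.Lib.Local.Sigma.Fusion
import Cfsg.Agent.Lib.Coprime.Generation

/-!
An operator without fixed points on an abelian group, fixed points of Frobenius groups of operators,
and projections onto the centralizers of hyperplanes of an abelian group of operators.
-/

set_option autoImplicit false
set_option linter.style.haveILetI false

namespace Cfsg.Lib.Local.Averaging

open Subgroup
open scoped commutatorElement

universe u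

variable {G : Type u} [Group G]

theorem exists_zpow_pow {x : G} {r i : ℕ} (hr : r.Prime) (hx : x ^ r = 1) (hi : ¬ r ∣ i) :
    ∃ m : ℤ, x = (x ^ i) ^ m := by
  refine ⟨Nat.gcdA i r, ?_⟩
  have h1 := Nat.gcd_eq_gcd_ab i r
  rw [((hr.coprime_iff_not_dvd).mpr hi).symm.gcd_eq_one] at h1
  calc x = x ^ (1 : ℤ) := (zpow_one x).symm
    _ = _ := by
      rw [show (1 : ℤ) = ((1 : ℕ) : ℤ) from rfl, h1, zpow_add, zpow_mul, zpow_mul, zpow_natCast,
        zpow_natCast, hx, one_zpow, mul_one]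

theorem mem_of_pow_mem {x : G} {r i : ℕ} (hr : r.Prime) (hx : x ^ r = 1) (hi : ¬ r ∣ i) {K : Subgroup G}
    (h : x ^ i ∈ K) : x ∈ K := by
  obtain ⟨m, hm⟩ := exists_zpow_pow hr hx hi
  rw [hm]
  exact zpow_mem h m

theorem commute_of_pow {x a : G} {r i : ℕ} (hr : r.Prime) (hx : x ^ r = 1) (hi : ¬ r ∣ i)
    (h : x ^ i * a = a * x ^ i) : x * a = a * x :=
  mem_centralizer_singleton_iff.mp (mem_of_pow_mem (K := centralizer ({a} : Set G)) hr hx hi
    (mem_centralizer_singleton_iff.mpr h))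

/-- An operator without fixed points on an abelian group moves it onto itself by displacements. -/
theorem disp_surj [Finite G] {A : Subgroup G} [IsMulCommutative A] {x : G} (hxA : x ∈ normalizer (A : Set G))
    (hfpf : ∀ a ∈ A, x * a = a * x → a = 1) {b : G} (hb : b ∈ A) : ∃ a ∈ A, x * a * x⁻¹ * a⁻¹ = b := by
  let d : A → A := fun a => ⟨x * a * x⁻¹ * (a : G)⁻¹,
    mul_mem ((mem_normalizer_iff.mp hxA a).mp a.2) (inv_mem a.2)⟩
  have hinj : Function.Injective d := by
    intro a a' h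
    have h' : x * a * x⁻¹ * (a : G)⁻¹ = x * a' * x⁻¹ * (a' : G)⁻¹ := congrArg Subtype.val h
    have hc : (a : G) * (a' : G)⁻¹ = (a' : G)⁻¹ * a :=
      congrArg Subtype.val (mul_comm' a a'⁻¹)
    have h1 : x * ((a' : G)⁻¹ * a) = ((a' : G)⁻¹ * a) * x := by
      rw [← mul_inv_eq_iff_eq_mul]
      calc x * ((a' : G)⁻¹ * a) * x⁻¹ = (x * a' * x⁻¹)⁻¹ * ((x * a * x⁻¹ * (a : G)⁻¹) * a) := by group
        _ = (x * a' * x⁻¹)⁻¹ * ((x * a' * x⁻¹ * (a' : G)⁻¹) * a) := by rw [h']
        _ = (a' : G)⁻¹ * a := by group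
    exact Subtype.ext (inv_mul_eq_one.mp (hfpf _ (mul_mem (inv_mem a'.2) a.2) h1)).symm
  obtain ⟨a, ha⟩ := (Finite.injective_iff_surjective.mp hinj) ⟨b, hb⟩
  exact ⟨a, a.2, congrArg Subtype.val ha⟩

theorem mem_of_disp_mem [Finite G] {A K : Subgroup G} [IsMulCommutative A] {x : G} (hKA : K ≤ A)
    (hxK : x ∈ normalizer (K : Set G)) (hfpf : ∀ a ∈ A, x * a = a * x → a = 1) {a : G} (ha : a ∈ A)
    (h : x * a * x⁻¹ * a⁻¹ ∈ K) : a ∈ K := by
  haveI : IsMulCommutative K :=
    ⟨⟨fun k l => Subtype.ext (congrArg Subtype.val (mul_comm' (⟨k, hKA k.2⟩ : A) ⟨l, hKA l.2⟩) :)⟩⟩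
  obtain ⟨k, hk, he⟩ := disp_surj hxK (fun k hk => hfpf k (hKA hk)) h
  have hc : a * k⁻¹ = k⁻¹ * a :=
    congrArg Subtype.val (mul_comm' (⟨a, ha⟩ : A) ⟨k⁻¹, inv_mem (hKA hk)⟩)
  have h1 : x * (k⁻¹ * a) = (k⁻¹ * a) * x := by
    rw [← mul_inv_eq_iff_eq_mul]
    calc x * (k⁻¹ * a) * x⁻¹ = (x * k * x⁻¹)⁻¹ * ((x * a * x⁻¹ * a⁻¹) * a) := by group
      _ = (x * k * x⁻¹)⁻¹ * ((x * k * x⁻¹ * k⁻¹) * a) := by rw [he]
      _ = k⁻¹ * a := by group
  rw [← inv_mul_eq_one.mp (hfpf _ (mul_mem (inv_mem (hKA hk)) ha) h1)]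
  exact hk

/-- A power of a fixed-point-free operator of odd prime order does not invert. -/
theorem mem_of_conj_mul_self_mem [Finite G] {A K : Subgroup G} [IsMulCommutative A] {x : G} {r q i : ℕ}
    (hr : r.Prime) (hr2 : r ≠ 2) (hq : Odd q) (hx : x ^ r = 1) (hKA : K ≤ A)
    (hxA : x ∈ normalizer (A : Set G)) (hxK : x ∈ normalizer (K : Set G))
    (hfpf : ∀ a ∈ A, x * a = a * x → a = 1) {a : G} (ha : a ∈ A) (haq : a ^ q = 1)
    (h : x ^ i * a * (x ^ i)⁻¹ * a ∈ K) : a ∈ K := by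
  by_cases hi : r ∣ i
  · obtain ⟨j, rfl⟩ := hi
    rw [pow_mul, hx, one_pow, one_mul, inv_one, mul_one] at h
    obtain ⟨k, hk⟩ := hq
    have h2 : a = (a * a) ^ (k + 1) := by
      rw [← pow_two, ← pow_mul, show 2 * (k + 1) = q + 1 by omega, pow_succ, haq, one_mul]
    rw [h2]
    exact pow_mem h _
  have hi2 : ¬ r ∣ i + i := by
    intro hd
    rw [← two_mul] at hd
    rcases hr.dvd_mul.mp hd with h' | h'
    · exact hr2 ((Nat.prime_dvd_prime_iff_eq hr Nat.prime_two).mp h')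
    · exact hi h'
  set y := x ^ i with hy
  have hyA : y * a * y⁻¹ ∈ A := (mem_normalizer_iff.mp (pow_mem hxA i) a).mp ha
  refine mem_of_disp_mem hKA (pow_mem hxK (i + i)) (fun b hb hc => hfpf b hb (commute_of_pow hr hx hi2 hc))
    ha ?_
  have hc : y * a * y⁻¹ * a = a * (y * a * y⁻¹) :=
    congrArg Subtype.val (mul_comm' (⟨_, hyA⟩ : A) ⟨a, ha⟩)
  have e : x ^ (i + i) * a * (x ^ (i + i))⁻¹ * a⁻¹ =
      y * (y * a * y⁻¹ * a) * y⁻¹ * (a * (y * a * y⁻¹))⁻¹ := by
    rw [pow_add, ← hy]; group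
  rw [e, ← hc]
  exact mul_mem ((mem_normalizer_iff.mp (pow_mem hxK i) _).mp h) (inv_mem h)

/-- A Frobenius group of operators of coprime order whose complement fixes only fixed points of the
kernel has trivial kernel. -/
theorem eq_bot_of_frobenius_group {W : Type u} [CommGroup W] [Finite W] {r : ℕ} (hr : r.Prime)
    {A : Subgroup (MulAut W)} [Finite A] (hA : ∀ a ∈ A, ∀ b ∈ A, a * b = b * a)
    (hcop : (Nat.card W).Coprime (Nat.card A)) {β : MulAut W} (hβ : β ^ r = 1)
    (hconj : ∀ a ∈ A, β * a * β⁻¹ ∈ A) (hfpf : ∀ a ∈ A, β * a = a * β → a = 1)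
    (hfix : ∀ w, β w = w → ∀ a ∈ A, a w = w) : A = ⊥ := by
  classical
  letI := Fintype.ofFinite A
  refine (Subgroup.eq_bot_iff_forall A).mpr fun a ha => MulEquiv.ext fun w => ?_
  rw [MulAut.one_apply]
  set N : W → W := fun u => ∏ j ∈ Finset.range r, (β ^ j) u with hN
  have hN1 : ∀ u, ∀ b ∈ A, b (N u) = N u := fun u => hfix _ (Uniq.apply_prod_pow β hβ u)
  have hconj' : ∀ (j : ℕ), ∀ b ∈ A, β ^ j * b * (β ^ j)⁻¹ ∈ A := by
    intro j
    induction j with
    | zero => intro b hb; simpa using hb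
    | succ j ih =>
      intro b hb
      rw [show β ^ (j + 1) * b * (β ^ (j + 1))⁻¹ = β * (β ^ j * b * (β ^ j)⁻¹) * β⁻¹ by
        rw [pow_succ']; group]
      exact hconj _ (ih b hb)
  set P := ∏ b : A, (b : MulAut W) (N ((b : MulAut W)⁻¹ w)) with hP
  have hPa : a P = P := by
    rw [hP, map_prod]
    refine Finset.prod_congr rfl fun b _ => ?_
    rw [hN1 _ b b.2, hN1 _ a ha]
  -- the orbit sum of `A`
  set e : W → W := fun u => ∏ b : A, (b : MulAut W) u with he
  have he1 : ∀ u, a (e u) = e u := by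
    intro u
    rw [he, map_prod]
    exact Fintype.prod_equiv (Equiv.mulLeft (⟨a, ha⟩ : A)) _ _ fun b => rfl
  obtain ⟨m, hm⟩ : ∃ m, r = m + 1 := ⟨r - 1, by have := hr.pos; omega⟩
  have hterm : ∀ j ∈ Finset.range m,
      ∏ b : A, (b : MulAut W) ((β ^ (j + 1)) ((b : MulAut W)⁻¹ w)) = e ((β ^ (j + 1)) w) := by
    intro j hj
    let f : A → A := fun b => ⟨b * (β ^ (j + 1) * (b : MulAut W)⁻¹ * (β ^ (j + 1))⁻¹),
      mul_mem b.2 (hconj' _ _ (inv_mem b.2))⟩
    have hrj : ¬ r ∣ j + 1 := fun hd => by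
      have := Nat.le_of_dvd (by omega) hd
      have := Finset.mem_range.mp hj
      omega
    have hinj : Function.Injective f := by
      intro b c h
      have h' : (b : MulAut W) * (β ^ (j + 1) * (b : MulAut W)⁻¹ * (β ^ (j + 1))⁻¹) =
          c * (β ^ (j + 1) * (c : MulAut W)⁻¹ * (β ^ (j + 1))⁻¹) := congrArg Subtype.val h
      have hc : (c : MulAut W)⁻¹ * b = (b : MulAut W) * (c : MulAut W)⁻¹ := hA _ (inv_mem c.2) _ b.2
      refine Subtype.ext (inv_mul_eq_one.mp (hfpf _ (mul_mem (inv_mem c.2) b.2)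
        (commute_of_pow hr hβ hrj ?_))).symm
      rw [← mul_inv_eq_iff_eq_mul]
      calc β ^ (j + 1) * ((c : MulAut W)⁻¹ * b) * (β ^ (j + 1))⁻¹
          = β ^ (j + 1) * (c : MulAut W)⁻¹ * (β ^ (j + 1))⁻¹ *
            (β ^ (j + 1) * (b : MulAut W)⁻¹ * (β ^ (j + 1))⁻¹)⁻¹ := by group
        _ = (c : MulAut W)⁻¹ * (c * (β ^ (j + 1) * (c : MulAut W)⁻¹ * (β ^ (j + 1))⁻¹)) *
            (β ^ (j + 1) * (b : MulAut W)⁻¹ * (β ^ (j + 1))⁻¹)⁻¹ := by group
        _ = (c : MulAut W)⁻¹ * (b * (β ^ (j + 1) * (b : MulAut W)⁻¹ * (β ^ (j + 1))⁻¹)) *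
            (β ^ (j + 1) * (b : MulAut W)⁻¹ * (β ^ (j + 1))⁻¹)⁻¹ := by rw [h']
        _ = (c : MulAut W)⁻¹ * b := by group
    refine Fintype.prod_bijective f (Finite.injective_iff_bijective.mp hinj) _ _ fun b => ?_
    show (b : MulAut W) ((β ^ (j + 1)) ((b : MulAut W)⁻¹ w)) = _
    rw [← MulAut.mul_apply, ← MulAut.mul_apply, ← MulAut.mul_apply]
    congr 1
    show _ = (b : MulAut W) * (β ^ (j + 1) * (b : MulAut W)⁻¹ * (β ^ (j + 1))⁻¹) * β ^ (j + 1)
    group
  have hP2 : P = ∏ j ∈ Finset.range r, ∏ b : A, (b : MulAut W) ((β ^ j) ((b : MulAut W)⁻¹ w)) := by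
    simp only [hP, hN, map_prod]
    exact Finset.prod_comm
  rw [hP2, hm, Finset.prod_range_succ', Finset.prod_congr rfl hterm, map_mul, map_prod,
    Finset.prod_congr rfl fun j _ => he1 _] at hPa
  simp only [pow_zero, MulAut.one_apply, MulAut.apply_inv_self,
    Finset.prod_const, Finset.card_univ, mul_right_inj, map_pow] at hPa
  rw [← Nat.card_eq_fintype_card] at hPa
  exact (powCoprime hcop).injective hPa

variable [Finite G]

/-- In an `s`-group acted on by a Frobenius group of coprime order, the kernel is trivial if the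
complement fixes only fixed points of the kernel. -/
theorem centralizes_of_frobenius_group {s r : ℕ} [Fact s.Prime] [hr : Fact r.Prime] {T A : Subgroup G}
    [IsMulCommutative A] (hT : IsPGroup s T) (hcop : (Nat.card A).Coprime (Nat.card T)) (hsr : s ≠ r)
    (hAT : A ≤ normalizer (T : Set G)) {x : G} (hxT : x ∈ normalizer (T : Set G))
    (hxA : x ∈ normalizer (A : Set G)) (hx : x ^ r = 1) (hfpf : ∀ a ∈ A, x * a = a * x → a = 1)
    (hfix : T ⊓ centralizer ({x} : Set G) ≤ centralizer (A : Set G)) :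
    A ≤ centralizer (T : Set G) := by
  haveI : Group.IsNilpotent T := hT.isNilpotent
  have hcopx : (Nat.card (zpowers x)).Coprime (Nat.card T) := by
    obtain ⟨n, hn⟩ := IsPGroup.iff_card.mp hT
    rw [Nat.card_zpowers, hn]
    exact (Nat.Coprime.coprime_dvd_left (orderOf_dvd_of_pow_eq_one hx)
      ((Nat.coprime_primes hr.out Fact.out).mpr hsr.symm)).pow_right n
  have hsol : ∀ B : Subgroup G, Group.IsSolvable B ∨ Group.IsSolvable T := fun _ => Or.inr inferInstance
  set N := normalizer (T : Set G)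
  set x' : N := ⟨x, hxT⟩ with hx'
  set φ := Uniq.abAut T
  set A' := A.subgroupOf N
  haveI : Finite (Abelianization T) := inferInstanceAs (Finite (T ⧸ commutator T))
  haveI : Finite (A'.map φ) := Finite.of_surjective _ (φ.subgroupMap_surjective A')
  have hcA : ∀ a ∈ A', ∀ b ∈ A', a * b = b * a := fun a ha b hb =>
    Subtype.ext (congrArg Subtype.val (mul_comm' (⟨(a : G), ha⟩ : A) ⟨(b : G), hb⟩) :)
  have hbot : A'.map φ = ⊥ := by
    refine eq_bot_of_frobenius_group hr.out ?_ ?_ (β := φ x')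
      (by rw [← map_pow, show x' ^ r = 1 from Subtype.ext hx, map_one]) ?_ ?_ ?_
    · rintro _ ⟨a, ha, rfl⟩ _ ⟨b, hb, rfl⟩
      rw [← map_mul, ← map_mul, hcA a ha b hb]
    · refine Nat.Coprime.coprime_dvd_left (card_quotient_dvd_card (commutator T))
        (hcop.symm.coprime_dvd_right ?_)
      rw [← Nat.card_congr (subgroupOfEquivOfLe hAT).toEquiv]
      exact Subgroup.card_map_dvd A' φ
    · rintro _ ⟨a, ha, rfl⟩
      exact ⟨x' * a * x'⁻¹, (mem_normalizer_iff.mp hxA a).mp ha, by rw [map_mul, map_mul, map_inv]⟩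
    · rintro _ ⟨a, ha, rfl⟩ he
      have hK : x * (a : G) * x⁻¹ * (a : G)⁻¹ ∈ A ⊓ φ.ker.map N.subtype := by
        refine mem_inf.mpr ⟨mul_mem ((mem_normalizer_iff.mp hxA a).mp ha) (A.inv_mem ha),
          x' * a * x'⁻¹ * a⁻¹, ?_, rfl⟩
        simp only [SetLike.mem_coe, MonoidHom.mem_ker, map_mul, map_inv]
        rw [he,
          mul_inv_cancel_right, mul_inv_cancel]
      have hxK : x ∈ normalizer ((A ⊓ φ.ker.map N.subtype : Subgroup G) : Set G) := by
        refine Subgroup.inf_normalizer_le_normalizer_inf ⟨hxA, ?_⟩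
        refine (le_normalizer_map N.subtype) ⟨x', ?_, rfl⟩
        rw [SetLike.mem_coe, normalizer_eq_top]
        trivial
      obtain ⟨-, b, hb, hba⟩ := mem_of_disp_mem inf_le_left hxK hfpf ha hK
      rw [show b = a from Subtype.ext hba] at hb
      exact hb
    · rintro w hw _ ⟨a, ha, rfl⟩
      obtain ⟨y, rfl⟩ := QuotientGroup.mk_surjective w
      have hcomm' : ∀ b ∈ zpowers x, ⁅(y : G), b⁆ ∈ (commutator T).map T.subtype := by
        rintro _ ⟨i, rfl⟩
        have h1 : φ (x' ^ i) (Abelianization.of y) = Abelianization.of y := by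
          rw [map_zpow]
          exact Uniq.apply_eq_of_mem_zpowers (zpow_mem (mem_zpowers _) i) hw
        have h2 : y * (autOf T (x' ^ i) y)⁻¹ ∈ commutator T := by
          rw [← QuotientGroup.eq_one_iff]
          change Abelianization.of (y * (autOf T (x' ^ i) y)⁻¹) = 1
          rw [map_mul, map_inv]
          change Abelianization.of y * (φ (x' ^ i) (Abelianization.of y))⁻¹ = 1
          rw [h1, mul_inv_cancel]
        refine ⟨_, h2, ?_⟩
        simp [autOf, hx', commutatorElement_def, mul_assoc]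
      obtain ⟨m, hm, c, hc, hy⟩ := Cfsg.Lib.Coprime.exists_mul_centralizer_of_commutator_mem
        (zpowers_le.mpr hxT) hcopx (hsol _) (map_subtype_le _)
        ((zpowers_le.mpr hxT).trans (Core.normalizer_le_normalizer_map_char (commutator T)))
        y.2 hcomm'
      obtain ⟨m, hm', rfl⟩ := hm
      have hyc : y = m * ⟨c, hc.1⟩ := Subtype.ext hy
      have hfx : c ∈ centralizer (A : Set G) :=
        hfix ⟨hc.1, mem_centralizer_singleton_iff.mpr (mem_centralizer_iff.mp hc.2 x (mem_zpowers x)).symm⟩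
      have e : Abelianization.of y = Abelianization.of (⟨c, hc.1⟩ : T) := by
        rw [hyc, map_mul, show Abelianization.of m = 1 from (QuotientGroup.eq_one_iff m).mpr hm', one_mul]
      show φ a (Abelianization.of y) = Abelianization.of y
      rw [e]
      change Abelianization.of (autOf T a ⟨c, hc.1⟩) = Abelianization.of (⟨c, hc.1⟩ : T)
      congr 1
      apply Subtype.ext
      show (a : G) * c * (a : G)⁻¹ = c
      rw [mem_centralizer_iff.mp hfx a ha, mul_inv_cancel_right]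
  refine Cfsg.Lib.Coprime.le_centralizer_of_commutator_le_frattini hAT hcop (hsol _) ?_
  refine le_trans ?_ (map_mono (Cfsg.Lib.PGroup.commutator_le_frattini hT))
  rw [commutator_le]
  intro y hy a ha
  have h1 : φ ⟨a, hAT ha⟩ (Abelianization.of (⟨y, hy⟩ : T)) = Abelianization.of (⟨y, hy⟩ : T) := by
    rw [show φ ⟨a, hAT ha⟩ = 1 from mem_bot.mp (hbot.le (mem_map_of_mem φ (show (⟨a, hAT ha⟩ : N) ∈ A' from ha)))]
    rfl
  have h2 : (⟨y, hy⟩ : T) * (autOf T ⟨a, hAT ha⟩ ⟨y, hy⟩)⁻¹ ∈ commutator T := by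
    rw [← QuotientGroup.eq_one_iff]
    change Abelianization.of ((⟨y, hy⟩ : T) * (autOf T ⟨a, hAT ha⟩ ⟨y, hy⟩)⁻¹) = 1
    rw [map_mul, map_inv]
    change Abelianization.of (⟨y, hy⟩ : T) * (φ ⟨a, hAT ha⟩ (Abelianization.of (⟨y, hy⟩ : T)))⁻¹ = 1
    rw [h1, mul_inv_cancel]
  exact ⟨_, h2, by simp [autOf, commutatorElement_def, mul_assoc]⟩

/-- A subgroup of `A` that together with one more element generates `A`. -/
def Hyp (A T : Subgroup G) : Prop := ∃ a ∈ A, a ∉ T ∧ T ⊔ zpowers a = A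

theorem Hyp.le {A T : Subgroup G} (h : Hyp A T) : T ≤ A := by
  obtain ⟨a, -, -, e⟩ := h
  exact e ▸ le_sup_left

theorem Hyp.map {A T : Subgroup G} (h : Hyp A T) {g : G} (hg : g ∈ normalizer (A : Set G)) :
    Hyp A (Sigma.cj g T) := by
  obtain ⟨a, ha, haT, e⟩ := h
  refine ⟨g * a * g⁻¹, (mem_normalizer_iff.mp hg a).mp ha, fun hm => haT ?_, ?_⟩
  · have := Cfsg.Lib.Coprime.mem_map_conj_iff.mp hm
    simpa [mul_assoc] using this
  · have h1 := congrArg (Subgroup.map (MulAut.conj g).toMonoidHom) e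
    rw [Subgroup.map_sup, MonoidHom.map_zpowers, Cfsg.Lib.Coprime.map_conj_eq_self hg] at h1
    exact h1

theorem Hyp.sup_zpowers {q : ℕ} [Fact q.Prime] {A T : Subgroup G} [IsMulCommutative A]
    (hAq : ∀ a ∈ A, a ^ q = 1) (h : Hyp A T) {b : G} (hb : b ∈ A) (hbT : b ∉ T) :
    T ⊔ zpowers b = A := by
  refine le_antisymm (sup_le h.le (zpowers_le.mpr hb)) ?_
  obtain ⟨a, ha, haT, e⟩ := h
  have hTA : T ≤ A := e ▸ le_sup_left
  have hn : zpowers a ≤ normalizer (T : Set G) := by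
    refine zpowers_le.mpr (centralizer_le_normalizer _ (mem_centralizer_iff.mpr fun t ht => ?_))
    exact congrArg Subtype.val (mul_comm' (⟨t, hTA ht⟩ : A) ⟨a, ha⟩)
  obtain ⟨t, ht, c, hc, rfl⟩ := Cfsg.Lib.Coprime.exists_mul_of_mem_sup hn (e.symm ▸ hb : b ∈ T ⊔ zpowers a)
  have hc1 : c ≠ 1 := by rintro rfl; rw [mul_one] at hbT; exact hbT ht
  rw [← e]
  refine sup_le le_sup_left ?_
  rw [← Uniq.zpowers_eq_of_mem (hAq a ha) hc hc1, zpowers_le]
  have := mul_mem (inv_mem (mem_sup_left (T := zpowers (t * c)) ht)) (mem_sup_right (mem_zpowers (t * c)))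
  rwa [inv_mul_cancel_left] at this

theorem Hyp.sup_eq {q : ℕ} [Fact q.Prime] {A T T' : Subgroup G} [IsMulCommutative A]
    (hAq : ∀ a ∈ A, a ^ q = 1) (h : Hyp A T) (h' : Hyp A T') (hne : T ≠ T') : T ⊔ T' = A := by
  refine le_antisymm (sup_le h.le h'.le) ?_
  by_cases hle : T' ≤ T
  · obtain ⟨b, hb, hbT'⟩ := SetLike.exists_of_lt (lt_of_le_of_ne hle (Ne.symm hne))
    have e := h'.sup_zpowers hAq (h.le hb) hbT'
    obtain ⟨a, ha, haT, -⟩ := h
    exact absurd ((e ▸ sup_le hle (zpowers_le.mpr hb) : A ≤ T) ha) haT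
  · obtain ⟨b, hb, hbT⟩ := SetLike.not_le_iff_exists.mp hle
    rw [← h.sup_zpowers hAq (h'.le hb) hbT]
    exact sup_le_sup le_rfl (zpowers_le.mpr hb)

/-- The data of an abelian group `A` of exponent `q` acting on an abelian group `U` without fixed points,
together with an operator `x` of prime order `r` whose fixed points on `U` lie in a group of order `p`. -/
structure Setup (p q r : ℕ) (A U : Subgroup G) (x z : G) : Prop where
  commA : IsMulCommutative A
  commU : IsMulCommutative U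
  pU : IsPGroup p U
  expA : ∀ a ∈ A, a ^ q = 1
  norm : A ≤ normalizer (U : Set G)
  cop : (Nat.card A).Coprime (Nat.card U)
  fixA : U ⊓ centralizer (A : Set G) = ⊥
  hr : r.Prime
  hx : x ^ r = 1
  normU : x ∈ normalizer (U : Set G)
  normA : x ∈ normalizer (A : Set G)
  hz : z ^ p = 1
  fixU : U ⊓ centralizer ({x} : Set G) ≤ zpowers z

namespace Setup

variable {p q r : ℕ} {A U : Subgroup G} {x z : G}

/-- Some hyperplane has fixed points. -/
theorem exists_hyp (S : Setup p q r A U x z) (hU : U ≠ ⊥) :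
    ∃ T, Hyp A T ∧ U ⊓ centralizer (T : Set G) ≠ ⊥ := by
  haveI := S.commA
  by_contra hne
  push Not at hne
  refine hU (le_bot_iff.mp ((Cfsg.Lib.Coprime.le_iSup_centralizer_cocyclic U S.norm S.cop).trans
    (iSup₂_le fun B hB => ?_)))
  obtain ⟨hBA, a, ha, hBa⟩ := hB
  by_cases haB : a ∈ B
  · rw [sup_eq_left.mpr (zpowers_le.mpr haB)] at hBa
    rw [hBa, S.fixA]
  · exact (hne B ⟨a, ha, haB, hBa⟩).le

theorem cj_mem (S : Setup p q r A U x z) {T : Subgroup G} (hT : Hyp A T)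
    (hW : U ⊓ centralizer (T : Set G) ≠ ⊥) {g : G} (hgA : g ∈ normalizer (A : Set G))
    (hgU : g ∈ normalizer (U : Set G)) :
    Hyp A (Sigma.cj g T) ∧ U ⊓ centralizer (Sigma.cj g T : Set G) ≠ ⊥ := by
  refine ⟨hT.map hgA, fun e => hW ((Subgroup.eq_bot_iff_forall _).mpr fun u hu => ?_)⟩
  have hm : g * u * g⁻¹ ∈ U ⊓ centralizer (Sigma.cj g T : Set G) := by
    refine ⟨(mem_normalizer_iff.mp hgU u).mp hu.1, mem_centralizer_iff.mpr ?_⟩
    rintro _ ⟨t, ht, rfl⟩
    show g * t * g⁻¹ * (g * u * g⁻¹) = g * u * g⁻¹ * (g * t * g⁻¹)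
    calc g * t * g⁻¹ * (g * u * g⁻¹) = g * (t * u) * g⁻¹ := by group
      _ = g * (u * t) * g⁻¹ := by rw [mem_centralizer_iff.mp hu.2 t ht]
      _ = _ := by group
  rw [e, mem_bot] at hm
  exact conj_eq_one_iff.mp hm

/-- A hyperplane moved by `x` has at most `p` fixed points, and two of them with fixed points lie in one
orbit of `x`. -/
theorem moved [Fact p.Prime] [Fact q.Prime] (S : Setup p q r A U x z) {T : Subgroup G} (hT : Hyp A T)
    (hxT : x ∉ normalizer (T : Set G)) :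
    Nat.card ↥(U ⊓ centralizer (T : Set G)) ≤ p ∧
    (U ⊓ centralizer (T : Set G) ≠ ⊥ → ∀ T', Hyp A T' → x ∉ normalizer (T' : Set G) →
      U ⊓ centralizer (T' : Set G) ≠ ⊥ → ∃ i : ℕ, T' = Sigma.cj (x ^ i) T) := by
  classical
  haveI := S.commA
  haveI := S.commU
  letI : CommGroup U := { (inferInstance : Group U) with mul_comm := fun a b => mul_comm' a b }
  set φ := autOf U
  set X : MulAut U := φ ⟨x, S.normU⟩
  have hX : X ^ r = 1 := by
    rw [← map_pow, show (⟨x, S.normU⟩ : normalizer (U : Set G)) ^ r = 1 from Subtype.ext S.hx, map_one]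
  have hXi : ∀ (i : ℕ) (u : U), (((X ^ i) u : U) : G) = x ^ i * u * (x ^ i)⁻¹ := by
    intro i u
    rw [← map_pow]
    rfl
  let act : A →* MulAut U := φ.comp (inclusion S.norm)
  letI := Fintype.ofFinite A
  -- the projection attached to a hyperplane
  let e : Subgroup G → U →* U := fun V =>
    { toFun := fun u => ∏ t ∈ Finset.univ.filter (fun t : A => (t : G) ∈ V), act t u
      map_one' := by simp
      map_mul' := fun u v => by simp [Finset.prod_mul_distrib] }
  have he_fix : ∀ (V : Subgroup G) (a : A), (a : G) ∈ V → ∀ u, act a (e V u) = e V u := by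
    intro V a ha u
    show act a (∏ t ∈ _, act t u) = _
    rw [map_prod]
    refine Finset.prod_equiv (Equiv.mulLeft a) (fun t => ?_) (fun t _ => ?_)
    · simp [Subgroup.mul_mem_cancel_left V ha]
    · show act a (act t u) = act (a * t) u
      rw [map_mul, MulAut.mul_apply]
  have hact : ∀ (a : A) (u : U), act a u = u ↔ (a : G) * u = u * a := by
    intro a u
    rw [← mul_inv_eq_iff_eq_mul]
    exact ⟨fun h => congrArg Subtype.val h, fun h => Subtype.ext h⟩
  have he0 : ∀ (V V' : Subgroup G), Hyp A V → Hyp A V' → V ≠ V' → ∀ u : U,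
      (u : G) ∈ centralizer (V' : Set G) → e V u = 1 := by
    intro V V' hV hV' hne u hu
    have h1 : ((e V u : U) : G) ∈ centralizer ((V ⊔ V' : Subgroup G) : Set G) := by
      refine mem_centralizer_iff.mpr fun s hs => mem_centralizer_singleton_iff.mp
        ((sup_le (fun t ht => mem_centralizer_singleton_iff.mpr ?_)
          (fun t ht => mem_centralizer_singleton_iff.mpr ?_) :
            V ⊔ V' ≤ centralizer ({((e V u : U) : G)} : Set G)) hs)
      · exact (hact ⟨t, hV.le ht⟩ _).mp (he_fix V _ ht u)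
      · refine (hact ⟨t, hV'.le ht⟩ _).mp ?_
        show act _ (∏ s ∈ _, act s u) = ∏ s ∈ _, act s u
        rw [map_prod]
        refine Finset.prod_congr rfl fun s _ => ?_
        rw [← MulAut.mul_apply, ← map_mul, mul_comm' (⟨t, hV'.le ht⟩ : A) s, map_mul, MulAut.mul_apply,
          (hact ⟨t, hV'.le ht⟩ u).mpr (mem_centralizer_iff.mp hu t ht)]
    rw [hV.sup_eq S.expA hV' hne] at h1
    exact Subtype.ext (mem_bot.mp (S.fixA.le ⟨SetLike.coe_mem _, h1⟩))
  have he1 : ∀ (V : Subgroup G) (u : U), (u : G) ∈ centralizer (V : Set G) →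
      e V u = u ^ (Finset.univ.filter (fun t : A => (t : G) ∈ V)).card := by
    intro V u hu
    show ∏ t ∈ _, act t u = _
    refine (Finset.prod_congr rfl fun t ht => ?_).trans (Finset.prod_const u)
    exact (hact t u).mpr (mem_centralizer_iff.mp hu t (Finset.mem_filter.mp ht).2)
  have hinj : ∀ (V : Subgroup G), V ≤ A → ∀ u : U,
      u ^ (Finset.univ.filter (fun t : A => (t : G) ∈ V)).card = 1 → u = 1 := by
    intro V hV u hu
    have hc : (Finset.univ.filter (fun t : A => (t : G) ∈ V)).card = Nat.card V := by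
      rw [← Nat.card_congr (subgroupOfEquivOfLe hV).toEquiv, ← Fintype.card_subtype,
        ← Nat.card_eq_fintype_card]
      rfl
    rw [hc] at hu
    exact (powCoprime (S.cop.symm.coprime_dvd_right (card_dvd_of_le hV))).injective
      (show u ^ Nat.card V = 1 ^ Nat.card V by rw [hu, one_pow])
  -- the sum over the orbit of `x`
  let w : U →* U :=
    { toFun := fun u => ∏ i ∈ Finset.range r, (X ^ i) u
      map_one' := by simp
      map_mul' := fun u v => by simp [Finset.prod_mul_distrib] }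
  have hw : ∀ u : U, ((w u : U) : G) ∈ zpowers z := by
    intro u
    refine S.fixU ⟨SetLike.coe_mem _, mem_centralizer_singleton_iff.mpr ?_⟩
    have h1 : x * (w u : U) * x⁻¹ = (w u : U) := congrArg Subtype.val (Uniq.apply_prod_pow X hX u)
    exact (mul_inv_eq_iff_eq_mul.mp h1).symm
  have hXc : ∀ (V : Subgroup G) (i : ℕ) (u : U), (u : G) ∈ centralizer (V : Set G) →
      (((X ^ i) u : U) : G) ∈ centralizer (Sigma.cj (x ^ i) V : Set G) := by
    intro V i u hu
    rw [hXi, mem_centralizer_iff]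
    rintro _ ⟨t, ht, rfl⟩
    show x ^ i * t * (x ^ i)⁻¹ * (x ^ i * u * (x ^ i)⁻¹) = x ^ i * u * (x ^ i)⁻¹ * (x ^ i * t * (x ^ i)⁻¹)
    calc x ^ i * t * (x ^ i)⁻¹ * (x ^ i * u * (x ^ i)⁻¹) = x ^ i * (t * u) * (x ^ i)⁻¹ := by group
      _ = x ^ i * (u * t) * (x ^ i)⁻¹ := by rw [mem_centralizer_iff.mp hu t ht]
      _ = _ := by group
  have hmove : ∀ (V : Subgroup G), x ∉ normalizer (V : Set G) → ∀ i, 0 < i → i < r →
      Sigma.cj (x ^ i) V ≠ V := fun V hV i hi hir h => hV (mem_of_pow_mem S.hr S.hx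
    (fun hd => (Nat.le_of_dvd hi hd).not_gt hir) (mem_normalizer_iff_map_conj_eq.mpr h))
  have hew : ∀ (V : Subgroup G), Hyp A V → x ∉ normalizer (V : Set G) → ∀ u : U,
      (u : G) ∈ centralizer (V : Set G) → e V (w u) = e V u := by
    intro V hV hxV u hu
    show e V (∏ i ∈ Finset.range r, (X ^ i) u) = e V u
    rw [map_prod, Finset.prod_eq_single 0]
    · simp
    · intro i hi hi0
      exact he0 V _ hV (hV.map (pow_mem S.normA i))
        (Ne.symm (hmove V hxV i (Nat.pos_of_ne_zero hi0) (Finset.mem_range.mp hi))) _ (hXc V i u hu)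
    · intro h
      exact absurd (Finset.mem_range.mpr S.hr.pos) h
  constructor
  · let f : ↥(U ⊓ centralizer (T : Set G)) → zpowers z := fun u => ⟨_, hw ⟨(u : G), u.2.1⟩⟩
    have hf : Function.Injective f := by
      intro u v h
      have h' : w ⟨(u : G), u.2.1⟩ = w ⟨(v : G), v.2.1⟩ := Subtype.ext (congrArg Subtype.val h :)
      have huv : ((⟨(u : G), u.2.1⟩ : U) * ⟨(v : G), v.2.1⟩⁻¹ : U) = 1 := by
        refine hinj T hT.le _ ?_
        have hc : (((⟨(u : G), u.2.1⟩ : U) * ⟨(v : G), v.2.1⟩⁻¹ : U) : G) ∈ centralizer (T : Set G) :=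
          mul_mem u.2.2 (inv_mem v.2.2)
        rw [← he1 T _ hc, ← hew T hT hxT _ hc, map_mul, map_inv, h', mul_inv_cancel, map_one]
      exact Subtype.ext (congrArg Subtype.val (mul_inv_eq_one.mp huv) :)
    refine (Nat.card_le_card_of_injective f hf).trans ?_
    rw [Nat.card_zpowers]
    exact Nat.le_of_dvd (Fact.out : p.Prime).pos (orderOf_dvd_of_pow_eq_one S.hz)
  · intro hW T' hT' hxT' hW'
    by_contra hne
    push Not at hne
    obtain ⟨u, hu, hu1⟩ := (Subgroup.bot_or_exists_ne_one _).resolve_left hW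
    obtain ⟨u', hu', hu1'⟩ := (Subgroup.bot_or_exists_ne_one _).resolve_left hW'
    have h0 : w ⟨u, hu.1⟩ ≠ 1 := by
      intro h
      refine hu1 (congrArg Subtype.val (hinj T hT.le ⟨u, hu.1⟩ ?_) :)
      rw [← he1 T _ hu.2, ← hew T hT hxT _ hu.2, h, map_one]
    have h0' : e T' (w ⟨u, hu.1⟩) = 1 := by
      show e T' (∏ i ∈ Finset.range r, (X ^ i) ⟨u, hu.1⟩) = 1
      rw [map_prod]
      exact Finset.prod_eq_one fun i _ =>
        he0 T' _ hT' (hT.map (pow_mem S.normA i)) (hne i) _ (hXc T i _ hu.2)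
    have hzw : ((w ⟨u', hu'.1⟩ : U) : G) ∈ zpowers ((w ⟨u, hu.1⟩ : U) : G) := by
      rw [Uniq.zpowers_eq_of_mem S.hz (hw _) fun h => h0 (Subtype.ext h)]
      exact hw _
    obtain ⟨k, hk⟩ := mem_zpowers_iff.mp hzw
    refine hu1' (congrArg Subtype.val (hinj T' hT'.le ⟨u', hu'.1⟩ ?_) :)
    rw [← he1 T' _ hu'.2, ← hew T' hT' hxT' _ hu'.2,
      show w ⟨u', hu'.1⟩ = w ⟨u, hu.1⟩ ^ k from Subtype.ext (by simpa using hk.symm), map_zpow, h0',
      one_zpow]

theorem isCyclic [Fact p.Prime] [Fact q.Prime] (S : Setup p q r A U x z) {T : Subgroup G} (hT : Hyp A T)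
    (hxT : x ∉ normalizer (T : Set G)) : IsCyclic ↥(U ⊓ centralizer (T : Set G)) := by
  have hp : p.Prime := Fact.out
  obtain ⟨n, hn⟩ := IsPGroup.iff_card.mp (S.pU.to_le (inf_le_left : U ⊓ centralizer (T : Set G) ≤ U))
  have h := (S.moved hT hxT).1
  rw [hn] at h
  rcases Nat.le_one_iff_eq_zero_or_eq_one.mp ((Nat.pow_le_pow_iff_right hp.one_lt).mp (h.trans (pow_one p).ge))
    with rfl | rfl
  · rw [pow_zero] at hn
    exact isCyclic_iff_exists_zpowers_eq_top.mpr ⟨1, by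
      rw [zpowers_one_eq_bot]; exact (Subgroup.eq_bot_of_card_eq ⊤ (by rw [card_top, hn])).symm⟩
  · exact isCyclic_of_prime_card (by rw [hn, pow_one])

end Setup

theorem commutative_of_le {B V : Subgroup G} [IsMulCommutative V] (h : B ≤ V) : IsMulCommutative B :=
  ⟨⟨fun a b => Subtype.ext (congrArg Subtype.val (mul_comm' (⟨a, h a.2⟩ : V) ⟨b, h b.2⟩) :)⟩⟩

end Cfsg.Lib.Local.Averaging
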