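import Cfsg.Prelude.Def_LocalEven
import Cfsg.Agent.Lib.Core.Layer
import Cfsg.Agent.Lib.Core.Cores
import Cfsg.Agent.Lib.Fusion.Basic
import Cfsg.Agent.Lib.Local.SubnormalSylow

/-!
General facts about `p`-minimal groups used for the structure of those with components.
-/

set_option autoImplicit false

namespace Cfsg.Lib.Local.PMin

open Subgroup

variable {P : Type*} [Group P] [Finite P] {p : ℕ} [hp : Fact p.Prime]

omit hp in
theorem index_eq_relIndex_of_sup_eq_top {H N : Subgroup P} [N.Normal] (h : H ⊔ N = ⊤) :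
    H.index = H.relIndex N := by
  have e1 : N.relIndex H = N.index := by
    rw [← relIndex_top_right N, ← h, relIndex_sup_right]
  have e2 := relIndex_mul_index (inf_le_left : H ⊓ N ≤ H)
  have e3 := relIndex_mul_index (inf_le_right : H ⊓ N ≤ N)
  rw [inf_relIndex_left, e1] at e2
  rw [inf_relIndex_right, ← e2, mul_comm] at e3
  exact (Nat.eq_of_mul_eq_mul_left (Nat.pos_of_ne_zero index_ne_zero_of_finite) e3).symm

/-- A supplement of a normal `p'`-subgroup contains a conjugate of every Sylow `p`-subgroup. -/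
theorem exists_conj_le_of_sup_eq_top (S : Sylow p P) {H N : Subgroup P} [N.Normal]
    (h : H ⊔ N = ⊤) (hN : ¬ p ∣ Nat.card N) :
    ∃ g : P, (S : Subgroup P) ≤ H.map (MulAut.conj g).toMonoidHom := by
  have hnd : ¬ p ∣ H.index := fun hd => hN (by
    rw [index_eq_relIndex_of_sup_eq_top h] at hd
    exact hd.trans (relIndex_dvd_card H N))
  obtain ⟨S₀⟩ : Nonempty (Sylow p ↥H) := inferInstance
  have hnd' : ¬ p ∣ ((S₀ : Subgroup ↥H).map H.subtype).index := by
    rw [index_map_subtype]
    exact fun hd => hp.out.dvd_mul.1 hd |>.elim S₀.not_dvd_index hnd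
  obtain ⟨g, hg⟩ := MulAction.exists_smul_eq P ((S₀.isPGroup'.map _).toSylow hnd') S
  refine ⟨g, ?_⟩
  rw [← hg]
  rintro x hx
  rw [Sylow.smul_def] at hx
  obtain ⟨y, hy, rfl⟩ := hx
  exact ⟨y, map_subtype_le _ hy, rfl⟩

/-- In a `p`-minimal situation every normal `p'`-subgroup is nilpotent. -/
theorem isNilpotent_of_normal (S : Sylow p P) {M : Subgroup P} (hM : IsCoatom M)
    (huM : ∀ K : Subgroup P, (S : Subgroup P) ≤ K → K = ⊤ ∨ K ≤ M)
    (hdich : ∀ N : Subgroup P, N.Normal → Cfsg.pResidual p P ≤ N ∨ N ≤ M)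
    {N : Subgroup P} [hNn : N.Normal] (hN : ¬ p ∣ Nat.card N) : Group.IsNilpotent N := by
  by_cases hNM : N ≤ M
  · refine ((Group.isNilpotent_of_finite_tfae (G := N)).out 0 3 rfl rfl).mpr fun q hq Q₀ => ?_
    set H := normalizer (((Q₀ : Subgroup N).map N.subtype : Subgroup P) : Set P) with hH
    have htop : H ⊔ N = ⊤ := Sylow.normalizer_sup_eq_top Q₀
    obtain ⟨g, hg⟩ := exists_conj_le_of_sup_eq_top S htop hN
    have hHtop : H = ⊤ := by
      rcases huM _ hg with h | h
      · refine eq_top_iff.2 fun x _ => ?_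
        obtain ⟨y, hy, he⟩ := h.ge (mem_top (g * x * g⁻¹))
        have : y = x := by simpa using he
        exact this ▸ hy
      · exfalso
        refine hM.1 (top_le_iff.1 ?_)
        have := congrArg (Subgroup.map (MulAut.conj g).toMonoidHom) htop
        rw [Subgroup.map_sup, Subgroup.map_top_of_surjective _ (MulAut.conj g).surjective,
          Cfsg.Lib.Core.map_conj_eq_of_mem_normalizer (H := N) (by
            rw [normalizer_eq_top]; exact mem_top g)] at this
        exact this.ge.trans (sup_le h hNM)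
    have h1 : ((Q₀ : Subgroup N).map N.subtype).Normal := normalizer_eq_top_iff.1 hHtop
    have h2 := h1.comap N.subtype
    rwa [comap_map_eq_self_of_injective N.subtype_injective] at h2
  · obtain ⟨r, hr, Q, hQN, hQr, hQM, hQn⟩ : ∃ r, r.Prime ∧ ∃ Q : Subgroup P,
        Q ≤ N ∧ IsPGroup r Q ∧ ¬ Q ≤ M ∧ Q.Normal := by
      by_contra! hcon
      apply hNM
      refine le_trans (relIndex_eq_one.1 ?_) (inf_le_right : N ⊓ M ≤ M)
      by_contra h1
      obtain ⟨q, hq, hqd⟩ := Nat.exists_prime_and_dvd h1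
      haveI : Fact q.Prime := ⟨hq⟩
      obtain ⟨Q₀⟩ : Nonempty (Sylow q ↥N) := inferInstance
      obtain ⟨g, hg⟩ := exists_conj_le_of_sup_eq_top S (Sylow.normalizer_sup_eq_top Q₀) hN
      set Q := ((Q₀ : Subgroup N).map N.subtype).map (MulAut.conj g).toMonoidHom with hQ
      have hNfix : N.map (MulAut.conj g).toMonoidHom = N :=
        Cfsg.Lib.Core.map_conj_eq_of_mem_normalizer (by rw [normalizer_eq_top]; exact mem_top g)
      have hQN : Q ≤ N := le_trans (map_mono (map_subtype_le _)) hNfix.le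
      have hQrel : Q.relIndex N = (Q₀ : Subgroup N).index := by
        conv_lhs => rw [← hNfix]
        rw [hQ, relIndex_map_map_of_injective _ _ (MulAut.conj g).injective, relIndex, subgroupOf,
          comap_map_eq_self_of_injective N.subtype_injective]
      have hQM : ¬ Q ≤ M := fun h => Q₀.not_dvd_index
        (hqd.trans (hQrel ▸ relIndex_dvd_of_le_left N (le_inf hQN h)))
      have hQp : IsPGroup q Q := (Q₀.isPGroup'.map _).map _
      have hSQ : (S : Subgroup P) ≤ normalizer (Q : Set P) := by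
        refine hg.trans ?_
        rintro _ ⟨x, hx, rfl⟩
        rw [Cfsg.Lib.Core.mem_normalizer_iff_map_conj, hQ, Subgroup.map_map]
        conv_rhs => rw [← Cfsg.Lib.Core.map_conj_eq_of_mem_normalizer hx, Subgroup.map_map]
        congr 1
        ext z
        simp [mul_assoc]
      rcases huM _ hSQ with h | h
      · exact hcon q hq Q hQN hQp hQM (normalizer_eq_top_iff.1 h)
      · exact hQM (le_normalizer.trans h)
    have hNR : N ≤ Cfsg.pResidual p P :=
      Cfsg.Lib.Fusion.le_pResidual_of_coprime_card ((hp.out.coprime_iff_not_dvd.2 hN).symm)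
    have hNQ : N ≤ Q := hNR.trans ((hdich Q hQn).resolve_right hQM)
    haveI : Fact r.Prime := ⟨hr⟩
    exact (hQr.to_le hNQ).isNilpotent

/-- It is enough to check `p`-minimality at one Sylow subgroup. -/
theorem isPMinimal_of_sylow {H : Type*} [Group H] [Finite H] (T : Sylow p H)
    (hT : ¬ (T : Subgroup H).Normal) {A : Subgroup H} (hA : A ≠ ⊤) (hTA : (T : Subgroup H) ≤ A)
    (hmax : ∀ X : Subgroup H, (T : Subgroup H) ≤ X → X ≠ ⊤ → X ≤ A) : Cfsg.IsPMinimal p H := by
  intro S'
  obtain ⟨g, rfl⟩ := MulAction.exists_smul_eq H T S'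
  have hg : ((g • T : Sylow p H) : Subgroup H) =
      (T : Subgroup H).map (MulAut.conj g).toMonoidHom := rfl
  rw [hg]
  have hsur := (MulAut.conj g).surjective
  have hinj := (MulAut.conj g).injective
  refine ⟨fun h => hT ?_, A.map (MulAut.conj g).toMonoidHom, ⟨?_, map_mono hTA⟩, ?_⟩
  · have := h.comap (MulAut.conj g).toMonoidHom
    rwa [comap_map_eq_self_of_injective hinj] at this
  · have hAc : IsCoatom A := ⟨hA, fun X hX => by
      by_contra hne
      exact hX.not_ge (hmax X (hTA.trans hX.le) hne)⟩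
    exact ((MulAut.conj g).mapSubgroup.isCoatom_iff A).2 hAc
  · rintro X ⟨hX, hTX⟩
    set X' := X.comap (MulAut.conj g).toMonoidHom with hX'
    have h1 : X' ≤ A := hmax X' ((map_le_iff_le_comap).1 hTX) fun h => hX.1 (by
      rw [← map_comap_eq_self_of_surjective (f := (MulAut.conj g).toMonoidHom) hsur X, ← hX', h,
        map_top_of_surjective _ hsur])
    have h2 : X ≤ A.map (MulAut.conj g).toMonoidHom := by
      rw [← map_comap_eq_self_of_surjective (f := (MulAut.conj g).toMonoidHom) hsur X]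
      exact map_mono h1
    refine ((hX.le_iff.1 h2).resolve_left fun h => hA ?_).symm
    exact map_injective hinj (h.trans (map_top_of_surjective _ hsur).symm)

omit hp in
theorem normal_of_sup_eq_top {N S : Subgroup P} (h : N ⊔ S = ⊤) (hS : S ≤ normalizer (N : Set P)) :
    N.Normal :=
  normalizer_eq_top_iff.1 (eq_top_iff.2 (h ▸ sup_le le_normalizer hS))

theorem pResidual_le_of_sup_sylow (S : Sylow p P) (N : Subgroup P) [N.Normal]
    (h : N ⊔ (S : Subgroup P) = ⊤) : Cfsg.pResidual p P ≤ N := by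
  refine Cfsg.Lib.Fusion.pResidual_le_of_isPGroup_quotient N
    (S.isPGroup'.of_surjective ((QuotientGroup.mk' N).comp (S : Subgroup P).subtype) ?_)
  intro y
  obtain ⟨x, rfl⟩ := QuotientGroup.mk'_surjective N y
  obtain ⟨n, hn, s, hs, rfl⟩ := mem_sup_of_normal_left.1 (h ▸ mem_top x)
  exact ⟨⟨s, hs⟩, by simp [(QuotientGroup.eq_one_iff n).2 hn]⟩

omit hp in
theorem orbit_sup_normalized (S A : Subgroup P) :
    S ≤ normalizer (((⨆ s : ↥S, A.map (MulAut.conj (s : P)).toMonoidHom) : Subgroup P) : Set P) := by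
  intro t ht
  rw [Cfsg.Lib.Core.mem_normalizer_iff_map_conj, Subgroup.map_iSup]
  refine (Equiv.mulLeft (⟨t, ht⟩ : ↥S)).iSup_congr fun s => ?_
  rw [Subgroup.map_map]
  congr 1
  ext z
  simp [mul_assoc]

omit hp in
theorem perfect_le_pResidual [Fact p.Prime] {E : Subgroup P} (hE : ⁅E, E⁆ = E) :
    E ≤ Cfsg.pResidual p P := by
  haveI : (Cfsg.pResidual p P).Normal := Cfsg.Lib.Fusion.pResidual_normal p P
  set f := QuotientGroup.mk' (Cfsg.pResidual p P)
  have hq : IsPGroup p (P ⧸ Cfsg.pResidual p P) := Cfsg.Lib.Fusion.isPGroup_quotient_pResidual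
  haveI := hq.isNilpotent
  have h : E.map f = ⊥ := by
    by_contra hne
    haveI : Nontrivial (E.map f) := (Subgroup.nontrivial_iff_ne_bot _).2 hne
    haveI : Group.IsPerfect (E.map f) := Subgroup.isPerfect_iff.2 (by rw [← map_commutator, hE])
    exact Group.IsPerfect.not_isSolvable (E.map f) IsNilpotent.to_isSolvable
  rwa [Subgroup.map_eq_bot_iff, QuotientGroup.ker_mk'] at h

end Cfsg.Lib.Local.PMin
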