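import Cfsg.Prelude.Def_LocalStructure
import Cfsg.Agent.Lib.Local.Basic
import Cfsg.Agent.Lib.Local.Sylow
import Cfsg.Agent.Lib.PGroup.Basic

/-!
`p`-reduced normal subgroups and the largest one, `Y_L`.
-/

set_option autoImplicit false

namespace Cfsg.Lib.Local

open Subgroup

variable {G : Type*} [Group G] [Finite G] {p : ℕ} [Fact p.Prime]

theorem isPReducedNormal_iff {V : Subgroup G} :
    IsPReducedNormal p V ↔ V.Normal ∧ IsElementaryAbelian p V ∧
      ∀ N : Subgroup G, N.Normal → (∀ x ∈ N, ∃ k : ℕ, x ^ p ^ k ∈ centralizer (V : Set G)) →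
        N ≤ centralizer (V : Set G) := by
  constructor
  · rintro ⟨hV, hel, hC, hcore⟩
    refine ⟨hV, hel, fun N hN h => ?_⟩
    have hp : IsPGroup p (N.map (QuotientGroup.mk' (centralizer (V : Set G)))) := by
      rintro ⟨_, x, hx, rfl⟩
      obtain ⟨k, hk⟩ := h x hx
      refine ⟨k, Subtype.ext ?_⟩
      rw [SubgroupClass.coe_pow, OneMemClass.coe_one, ← map_pow, QuotientGroup.mk'_apply,
        QuotientGroup.eq_one_iff]
      exact hk
    have hb := Core.le_pCore' (Subgroup.Normal.map hN _ (QuotientGroup.mk'_surjective _)) hp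
    rw [hcore, le_bot_iff, Subgroup.map_eq_bot_iff, QuotientGroup.ker_mk'] at hb
    exact hb
  · rintro ⟨hV, hel, h⟩
    have hC : (centralizer (V : Set G)).Normal := inferInstance
    refine ⟨hV, hel, hC, ?_⟩
    have hN := h ((pCore p (G ⧸ centralizer (V : Set G))).comap (QuotientGroup.mk' _))
      (Subgroup.Normal.comap inferInstance _) fun x hx => by
        obtain ⟨k, hk⟩ := Core.pCore_isPGroup p (G ⧸ centralizer (V : Set G)) ⟨_, hx⟩
        refine ⟨k, (QuotientGroup.eq_one_iff _).mp ?_⟩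
        rw [QuotientGroup.mk_pow]
        exact congrArg Subtype.val hk
    rw [eq_bot_iff, ← map_comap_eq_self_of_surjective (QuotientGroup.mk'_surjective _) (pCore p _),
      map_le_iff_le_comap, MonoidHom.comap_bot, QuotientGroup.ker_mk']
    exact hN

theorem pCore_le_centralizer_of_isPReduced {V : Subgroup G} (h : IsPReducedNormal p V) :
    pCore p G ≤ centralizer (V : Set G) :=
  (isPReducedNormal_iff.mp h).2.2 _ inferInstance fun x hx => by
    obtain ⟨k, hk⟩ := Core.pCore_isPGroup p G ⟨x, hx⟩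
    exact ⟨k, by rw [show x ^ p ^ k = 1 from congrArg Subtype.val hk]; exact one_mem _⟩

theorem isPReducedNormal_sup {V W : Subgroup G} (hV : IsPReducedNormal p V)
    (hW : IsPReducedNormal p W) : IsPReducedNormal p (V ⊔ W) := by
  have := hV.1
  have := hW.1
  have hc : W ≤ centralizer (V : Set G) :=
    (Core.le_pCore (PGroup.isPGroup_of_isElementaryAbelian hW.2.1)).trans (pCore_le_centralizer_of_isPReduced hV)
  refine isPReducedNormal_iff.mpr ⟨inferInstance, ?_, fun N hN h => ?_⟩
  · have hcomm : ∀ v ∈ V, ∀ w ∈ W, Commute v w := fun v hv w hw =>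
      mem_centralizer_iff.mp (hc hw) v hv
    refine ⟨⟨⟨fun a b => Subtype.ext ?_⟩⟩, fun a ha => ?_⟩
    · obtain ⟨v, hv, w, hw, hab⟩ := mem_sup_of_normal_left.mp a.2
      obtain ⟨v', hv', w', hw', hab'⟩ := mem_sup_of_normal_left.mp b.2
      have h1 : Commute v v' := congrArg Subtype.val (hV.2.1.1.1.comm ⟨v, hv⟩ ⟨v', hv'⟩)
      have h2 : Commute w w' := congrArg Subtype.val (hW.2.1.1.1.comm ⟨w, hw⟩ ⟨w', hw'⟩)
      show (a : G) * b = b * a
      rw [← hab, ← hab']
      exact ((h1.mul_right (hcomm v hv w' hw')).mul_left ((hcomm v' hv' w hw).symm.mul_right h2)).eq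
    · obtain ⟨v, hv, w, hw, rfl⟩ := mem_sup_of_normal_left.mp ha
      rw [(hcomm v hv w hw).mul_pow, hV.2.1.2 v hv, hW.2.1.2 w hw, one_mul]
  · have h1 := (isPReducedNormal_iff.mp hV).2.2 N hN fun x hx => by
      obtain ⟨k, hk⟩ := h x hx
      exact ⟨k, centralizer_le (fun y hy => mem_sup_left hy) hk⟩
    have h2 := (isPReducedNormal_iff.mp hW).2.2 N hN fun x hx => by
      obtain ⟨k, hk⟩ := h x hx
      exact ⟨k, centralizer_le (fun y hy => mem_sup_right hy) hk⟩
    rw [le_centralizer_iff]
    exact sup_le (le_centralizer_iff.mp h1) (le_centralizer_iff.mp h2)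

theorem isPReducedNormal_bot : IsPReducedNormal p (⊥ : Subgroup G) :=
  isPReducedNormal_iff.mpr ⟨inferInstance,
    ⟨inferInstance, fun a ha => by rw [mem_bot.mp ha, one_pow]⟩,
    fun N _ _ x _ => mem_centralizer_iff.mpr fun y hy => by
      rw [show y = 1 from mem_bot.mp hy]; simp⟩

theorem largestPReduced_isPReducedNormal : IsPReducedNormal p (largestPReduced p G) :=
  Core.sSup_mem_of_sup_mem (S := {V : Subgroup G | IsPReducedNormal p V}) isPReducedNormal_bot
    fun _ ha _ hb => isPReducedNormal_sup ha hb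

theorem le_largestPReduced {V : Subgroup G} (h : IsPReducedNormal p V) : V ≤ largestPReduced p G :=
  le_sSup h

theorem le_omegaOne {V Z : Subgroup G} (hle : V ≤ Z) (hV : ∀ v ∈ V, v ^ p = 1) :
    V ≤ omegaOne p Z := fun v hv => subset_closure ⟨hle hv, hV v hv⟩

theorem omegaOne_le {Z : Subgroup G} : omegaOne p Z ≤ Z := (closure_le _).mpr fun _ hx => hx.1

theorem isElementaryAbelian_omegaOne {Z : Subgroup G} (hZ : IsMulCommutative Z) :
    IsElementaryAbelian p (omegaOne p Z) := by
  refine ⟨⟨⟨fun a b => Subtype.ext ?_⟩⟩, fun a ha => ?_⟩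
  · exact (congrArg Subtype.val (hZ.1.comm ⟨a, omegaOne_le a.2⟩ ⟨b, omegaOne_le b.2⟩) :)
  · refine closure_induction (p := fun z _ => z ^ p = 1) (fun x hx => hx.2) (one_pow _) ?_ ?_ ha
    · intro x y hx hy hx' hy'
      have hc : Commute x y :=
        congrArg Subtype.val (hZ.1.comm ⟨x, omegaOne_le hx⟩ ⟨y, omegaOne_le hy⟩)
      rw [hc.mul_pow, hx', hy', one_mul]
    · intro x _ hx'
      rw [inv_pow, hx', inv_one]

theorem isMulCommutative_center_inf (S : Subgroup G) :
    IsMulCommutative ↥(S ⊓ centralizer (S : Set G)) :=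
  ⟨⟨fun a b => Subtype.ext (mem_centralizer_iff.mp b.2.2 a a.2.1)⟩⟩

/-- For characteristic `p` a `p`-reduced normal subgroup lies in `Ω₁ Z(O_p)`. -/
theorem le_omegaOne_center_of_isPReduced {V : Subgroup G} (h : IsPReducedNormal p V) :
    V ≤ omegaOne p (pCore p G ⊓ centralizer (pCore p G : Set G)) := by
  have := h.1
  exact le_omegaOne (le_inf (Core.le_pCore (PGroup.isPGroup_of_isElementaryAbelian h.2.1))
    (le_centralizer_iff.mp (pCore_le_centralizer_of_isPReduced h))) h.2.1.2

/-- The normal closure of a `p`-reduced normal subgroup of an overgroup of a Sylow subgroup. -/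
theorem isPReducedNormal_normalClosure (hG : centralizer (pCore p G : Set G) ≤ pCore p G)
    (T : Sylow p G) {R : Subgroup G} (hTR : (T : Subgroup G) ≤ R) {X : Subgroup R}
    (hX : IsPReducedNormal p X) :
    IsPReducedNormal p (normalClosure ((X.map R.subtype : Subgroup G) : Set G)) := by
  set X' := X.map R.subtype with hX'
  set Y := normalClosure (X' : Set G) with hY
  have hcent : ∀ g ∈ R, g ∈ centralizer (X' : Set G) ↔ ∃ h, (⟨g, h⟩ : R) ∈ centralizer (X : Set R) := by
    intro g hg
    constructor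
    · intro h
      exact ⟨hg, mem_centralizer_iff.mpr fun y hy =>
        Subtype.ext (mem_centralizer_iff.mp h y ⟨y, hy, rfl⟩)⟩
    · rintro ⟨h', h⟩
      rw [mem_centralizer_iff]
      rintro _ ⟨y, hy, rfl⟩
      exact congrArg Subtype.val (mem_centralizer_iff.mp h y hy)
  have hW : pCore p G ≤ centralizer (X' : Set G) := by
    intro w hw
    have hwR : w ∈ R := hTR (Core.pCore_le_sylow T hw)
    refine (hcent w hwR).mpr ⟨hwR, (pCore_le_centralizer_of_isPReduced hX) ?_⟩
    obtain ⟨y, hy, hyw⟩ := Core.inf_pCore_le (p := p) R ⟨hw, hwR⟩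
    have : y = ⟨w, hwR⟩ := Subtype.ext hyw
    exact this ▸ hy
  have hXZ : X' ≤ pCore p G ⊓ centralizer (pCore p G : Set G) :=
    le_inf ((le_centralizer_iff.mp hW).trans hG) (le_centralizer_iff.mp hW)
  have hXo : X' ≤ omegaOne p (pCore p G ⊓ centralizer (pCore p G : Set G)) := by
    refine le_omegaOne hXZ ?_
    rintro _ ⟨y, hy, rfl⟩
    exact congrArg Subtype.val (hX.2.1.2 y hy)
  have hZn : (omegaOne p (pCore p G ⊓ centralizer (pCore p G : Set G))).Normal := by
    refine Core.normal_iff_map_conj.mpr fun g => le_antisymm ?_ ?_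
    · rw [omegaOne, MonoidHom.map_closure]
      refine closure_mono ?_
      rintro _ ⟨x, ⟨hx, hxp⟩, rfl⟩
      exact ⟨(inferInstance : (pCore p G ⊓ centralizer (pCore p G : Set G)).Normal).conj_mem x hx g,
        by rw [← map_pow, hxp, map_one]⟩
    · intro x hx
      refine Core.mem_map_conj.mpr ?_
      refine closure_induction (p := fun z _ => g⁻¹ * z * g ∈ omegaOne p _) ?_ ?_ ?_ ?_ hx
      · rintro z ⟨hz, hzp⟩
        refine subset_closure
          ⟨(inferInstance : (pCore p G ⊓ centralizer (pCore p G : Set G)).Normal).conj_mem' z hz g, ?_⟩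
        have := conj_pow (a := g⁻¹) (b := z) (i := p)
        rw [inv_inv] at this
        rw [this, hzp]; simp
      · simp
      · intro a b _ _ ha hb
        have e : g⁻¹ * (a * b) * g = g⁻¹ * a * g * (g⁻¹ * b * g) := by group
        rw [e]; exact mul_mem ha hb
      · intro a _ ha
        have e : g⁻¹ * a⁻¹ * g = (g⁻¹ * a * g)⁻¹ := by group
        rw [e]; exact inv_mem ha
  have hYle : Y ≤ omegaOne p (pCore p G ⊓ centralizer (pCore p G : Set G)) :=
    normalClosure_le_normal hXo
  refine isPReducedNormal_iff.mpr ⟨normalClosure_normal,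
    PGroup.isElementaryAbelian_of_le
      (isElementaryAbelian_omegaOne (isMulCommutative_center_inf _)) hYle, fun N hN h => ?_⟩
  have hCX : centralizer (Y : Set G) ≤ centralizer (X' : Set G) := centralizer_le le_normalClosure
  have hNR : N.subgroupOf R ≤ centralizer (X : Set R) :=
    (isPReducedNormal_iff.mp hX).2.2 _ inferInstance fun x hx => by
      obtain ⟨k, hk⟩ := h x hx
      refine ⟨k, ?_⟩
      obtain ⟨h', h''⟩ := (hcent _ (x ^ p ^ k).2).mp (by simpa using hCX hk)
      exact h''
  have hN' : N ≤ centralizer (X' : Set G) := by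
    refine (le_inf_sup_of_pow_mem T h).trans (sup_le ?_ hCX)
    intro t ht
    exact (hcent t (hTR ht.1)).mpr ⟨hTR ht.1, hNR (x := ⟨t, hTR ht.1⟩) ht.2⟩
  rw [le_centralizer_iff]
  exact normalClosure_le_normal (le_centralizer_iff.mp hN')

/-! ### `Y_L` for a subgroup `L` -/

theorem largestPReducedOf_le (L : Subgroup G) : largestPReducedOf p L ≤ L := map_subtype_le _

theorem normalizer_le_normalizer_largestPReducedOf (L : Subgroup G) :
    L ≤ normalizer (largestPReducedOf p L : Set G) := by
  have := (largestPReduced_isPReducedNormal (p := p) (G := L)).1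
  refine Core.le_normalizer_iff_conj_mem.mpr ?_
  rintro g hg _ ⟨y, hy, rfl⟩
  exact ⟨⟨g, hg⟩ * y * ⟨g, hg⟩⁻¹, this.conj_mem y hy _, rfl⟩

theorem isElementaryAbelian_map {H : Type*} [Group H] {A : Subgroup H} (f : H →* G)
    (hA : IsElementaryAbelian p A) : IsElementaryAbelian p (A.map f) := by
  refine ⟨⟨⟨?_⟩⟩, ?_⟩
  · rintro ⟨_, a, ha, rfl⟩ ⟨_, b, hb, rfl⟩
    exact Subtype.ext (by
      show f a * f b = f b * f a
      rw [← map_mul, ← map_mul]
      exact congrArg f (congrArg Subtype.val (hA.1.1.comm ⟨a, ha⟩ ⟨b, hb⟩)))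
  · rintro _ ⟨a, ha, rfl⟩
    rw [← map_pow, hA.2 a ha, map_one]

theorem largestPReducedOf_isElementaryAbelian (L : Subgroup G) :
    IsElementaryAbelian p (largestPReducedOf p L) :=
  isElementaryAbelian_map _ largestPReduced_isPReducedNormal.2.1

/-- `Y_L` is `p`-reduced: a normal subgroup of `L` with all `p`-power-images trivial centralizes it. -/
theorem le_centralizer_largestPReducedOf {L N : Subgroup G} (hNL : N ≤ L)
    (hn : L ≤ normalizer (N : Set G))
    (h : ∀ x ∈ N, ∃ k : ℕ, x ^ p ^ k ∈ centralizer (largestPReducedOf p L : Set G)) :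
    N ≤ centralizer (largestPReducedOf p L : Set G) := by
  have hN := (isPReducedNormal_iff.mp (largestPReduced_isPReducedNormal (p := p) (G := L))).2.2
    (N.subgroupOf L) (normal_subgroupOf_of_le_normalizer hn) fun x hx => by
      obtain ⟨k, hk⟩ := h x hx
      refine ⟨k, mem_centralizer_iff.mpr fun y hy => Subtype.ext ?_⟩
      have := mem_centralizer_iff.mp hk y ⟨y, hy, rfl⟩
      simpa using this
  intro x hx
  rw [mem_centralizer_iff]
  rintro _ ⟨y, hy, rfl⟩
  exact congrArg Subtype.val (mem_centralizer_iff.mp (hN (x := ⟨x, hNL hx⟩) hx) y hy)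

theorem pCoreOf_le_centralizer_largestPReducedOf (L : Subgroup G) :
    pCoreOf p L ≤ centralizer (largestPReducedOf p L : Set G) :=
  le_centralizer_largestPReducedOf (pCoreOf_le L) (le_normalizer_pCoreOf L) fun x hx => by
    obtain ⟨k, hk⟩ := pCoreOf_isPGroup L ⟨x, hx⟩
    exact ⟨k, by rw [show x ^ p ^ k = 1 from congrArg Subtype.val hk]; exact one_mem _⟩

theorem largestPReducedOf_le_pCoreOf (L : Subgroup G) : largestPReducedOf p L ≤ pCoreOf p L :=
  le_pCoreOf (largestPReducedOf_le L) (normalizer_le_normalizer_largestPReducedOf L)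
    (PGroup.isPGroup_of_isElementaryAbelian (largestPReducedOf_isElementaryAbelian L))

theorem le_largestPReducedOf {L V : Subgroup G} (hVL : V ≤ L) (hn : L ≤ normalizer (V : Set G))
    (hel : IsElementaryAbelian p V)
    (h : ∀ N : Subgroup G, N ≤ L → L ≤ normalizer (N : Set G) →
      (∀ x ∈ N, ∃ k : ℕ, x ^ p ^ k ∈ centralizer (V : Set G)) → N ≤ centralizer (V : Set G)) :
    V ≤ largestPReducedOf p L := by
  rw [← map_subgroupOf_eq_of_le hVL]
  refine map_mono (le_largestPReduced (isPReducedNormal_iff.mpr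
    ⟨normal_subgroupOf_of_le_normalizer hn, ?_, fun N hN hx => ?_⟩))
  · exact ⟨⟨⟨fun a b => Subtype.ext (Subtype.ext
      (congrArg Subtype.val (hel.1.1.comm ⟨(a : L), a.2⟩ ⟨(b : L), b.2⟩) :))⟩⟩,
      fun a ha => Subtype.ext (hel.2 a ha)⟩
  · have hc : ∀ y : L, y ∈ centralizer ((V.subgroupOf L : Subgroup L) : Set L) ↔
        (y : G) ∈ centralizer (V : Set G) := by
      intro y
      simp only [mem_centralizer_iff]
      exact ⟨fun h v hv => congrArg Subtype.val (h ⟨v, hVL hv⟩ hv),
        fun h v hv => Subtype.ext (h v hv)⟩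
    have := h (N.map L.subtype) (map_subtype_le _) (Core.le_normalizer_iff_conj_mem.mpr (by
        rintro g hg _ ⟨y, hy, rfl⟩
        exact ⟨⟨g, hg⟩ * y * ⟨g, hg⟩⁻¹, hN.conj_mem y hy _, rfl⟩)) (by
      rintro _ ⟨y, hy, rfl⟩
      obtain ⟨k, hk⟩ := hx y hy
      exact ⟨k, by simpa using (hc _).mp hk⟩)
    exact fun y hy => (hc y).mpr (this ⟨y, hy, rfl⟩)

end Cfsg.Lib.Local

namespace Cfsg.Lib.Local

open Subgroup

variable {G : Type*} [Group G] [Finite G] {p : ℕ} [Fact p.Prime]

/-- `Ω₁(Z(S))` lies in the largest `p`-reduced normal subgroup in characteristic `p`. -/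
theorem omegaCenter_le_largestPReduced (hG : centralizer (pCore p G : Set G) ≤ pCore p G)
    (S : Sylow p G) :
    omegaOne p ((S : Subgroup G) ⊓ centralizer ((S : Subgroup G) : Set G)) ≤ largestPReduced p G := by
  set V := omegaOne p ((S : Subgroup G) ⊓ centralizer ((S : Subgroup G) : Set G)) with hV
  have hVS : V ≤ (S : Subgroup G) := omegaOne_le.trans inf_le_left
  have hc : ∀ v ∈ V, ∀ s ∈ (S : Subgroup G), s * v = v * s := fun v hv s hs =>
    mem_centralizer_iff.mp (omegaOne_le hv).2 s hs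
  have hel := isElementaryAbelian_omegaOne (p := p) (isMulCommutative_center_inf (S : Subgroup G))
  have hX : IsPReducedNormal p (V.subgroupOf (S : Subgroup G)) := by
    refine isPReducedNormal_iff.mpr ⟨⟨fun n hn g => ?_⟩, ⟨⟨⟨fun a b => Subtype.ext (Subtype.ext ?_)⟩⟩,
      fun a ha => Subtype.ext (hel.2 a ha)⟩, fun N _ _ g _ => ?_⟩
    · have : g * n * g⁻¹ = n := mul_inv_eq_iff_eq_mul.mpr (Subtype.ext (hc n hn g g.2))
      rw [this]; exact hn
    · exact hc b b.2 a (hVS a.2)
    · rw [mem_centralizer_iff]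
      exact fun v hv => Subtype.ext (hc v hv g g.2).symm
  have h := le_largestPReduced (isPReducedNormal_normalClosure hG S le_rfl hX)
  rw [map_subgroupOf_eq_of_le hVS] at h
  exact le_normalClosure.trans h

omit [Finite G] [Fact p.Prime] in
theorem map_omegaOne_center (L : Subgroup G) (S : Subgroup L) :
    (omegaOne p (S ⊓ centralizer (S : Set L))).map L.subtype =
      omegaOne p (S.map L.subtype ⊓ centralizer ((S.map L.subtype : Subgroup G) : Set G)) := by
  rw [omegaOne, MonoidHom.map_closure]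
  refine congrArg Subgroup.closure (Set.ext fun x => ⟨?_, ?_⟩)
  · rintro ⟨y, ⟨⟨hyS, hyC⟩, hyp⟩, rfl⟩
    refine ⟨⟨⟨y, hyS, rfl⟩, mem_centralizer_iff.mpr ?_⟩, congrArg Subtype.val hyp⟩
    rintro _ ⟨z, hz, rfl⟩
    exact congrArg Subtype.val (mem_centralizer_iff.mp hyC z hz)
  · rintro ⟨⟨⟨y, hy, rfl⟩, hC⟩, hp⟩
    exact ⟨y, ⟨⟨hy, mem_centralizer_iff.mpr fun z hz =>
      Subtype.ext (mem_centralizer_iff.mp hC z ⟨z, hz, rfl⟩)⟩, Subtype.ext hp⟩, rfl⟩

theorem sylowCenterClosure_le_largestPReducedOf {L : Subgroup G}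
    (hL : centralizer (pCore p L : Set L) ≤ pCore p L) :
    sylowCenterClosure p L ≤ largestPReducedOf p L := by
  refine iSup_le fun S => ?_
  rw [← map_omegaOne_center]
  exact map_mono (omegaCenter_le_largestPReduced hL S)

theorem omegaCenter_le_sylowCenterClosure (T : Sylow p G) {L : Subgroup G}
    (hTL : (T : Subgroup G) ≤ L) :
    omegaOne p ((T : Subgroup G) ⊓ centralizer ((T : Subgroup G) : Set G)) ≤
      sylowCenterClosure p L := by
  refine le_iSup_of_le (T.subtype hTL) ?_
  rw [Sylow.coe_subtype, map_subgroupOf_eq_of_le hTL]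

/-- `Y_L ≤ Ω₁ Z(O_p L)`. -/
theorem largestPReducedOf_le_omegaOne (L : Subgroup G) :
    largestPReducedOf p L ≤
      omegaOne p (pCoreOf p L ⊓ centralizer (pCoreOf p L : Set G)) :=
  le_omegaOne (le_inf (largestPReducedOf_le_pCoreOf L)
    (le_centralizer_iff.mp (pCoreOf_le_centralizer_largestPReducedOf L)))
    (largestPReducedOf_isElementaryAbelian L).2

/-- The intersection of a Sylow subgroup with the centralizer of a subgroup it normalizes,
when the latter is normalized by an overgroup. -/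
theorem exists_sylow_centralizer (T : Sylow p G) {Y : Subgroup G}
    (hTY : (T : Subgroup G) ≤ normalizer (Y : Set G)) :
    ∃ P : Sylow p (centralizer (Y : Set G)),
      (P : Subgroup (centralizer (Y : Set G))) =
        ((T : Subgroup G) ⊓ centralizer (Y : Set G)).subgroupOf (centralizer (Y : Set G)) := by
  set N := normalizer (Y : Set G)
  set C := centralizer (Y : Set G)
  have hn : (C.subgroupOf N).Normal :=
    normal_subgroupOf_of_le_normalizer (normalizer_le_normalizer_centralizer Y)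
  have h := not_dvd_relIndex_of_normal (T.subtype hTY) (C.subgroupOf N)
  rw [Sylow.coe_subtype, relIndex_subgroupOf (centralizer_le_normalizer (Y : Set G))] at h
  have hp : IsPGroup p (((T : Subgroup G) ⊓ C).subgroupOf C) :=
    (T.2.to_le inf_le_left).comap_subtype
  refine ⟨hp.toSylow ?_, rfl⟩
  change ¬ p ∣ ((T : Subgroup G) ⊓ C).relIndex C
  rwa [inf_relIndex_right]

theorem largestPReducedOf_le_of_sup_eq {L M : Subgroup G} (hYL : largestPReducedOf p M ≤ L)
    (h : L ⊔ centralizer (largestPReducedOf p M : Set G) =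
      M ⊔ centralizer (largestPReducedOf p M : Set G)) :
    largestPReducedOf p M ≤ largestPReducedOf p L := by
  set Y := largestPReducedOf p M
  set C := centralizer (Y : Set G)
  have hMn : M ⊔ C ≤ normalizer (Y : Set G) :=
    sup_le (normalizer_le_normalizer_largestPReducedOf M) (centralizer_le_normalizer (Y : Set G))
  have hLn : L ≤ normalizer (Y : Set G) := (le_sup_left.trans h.le).trans hMn
  refine le_largestPReducedOf hYL hLn (largestPReducedOf_isElementaryAbelian M) fun N hNL hn hx => ?_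
  have hLC : L ≤ normalizer (C : Set G) := hLn.trans (normalizer_le_normalizer_centralizer Y)
  have hMC : M ≤ normalizer (C : Set G) :=
    (normalizer_le_normalizer_largestPReducedOf M).trans (normalizer_le_normalizer_centralizer Y)
  have hNC : N ≤ normalizer (C : Set G) := hNL.trans hLC
  have hnorm : M ≤ normalizer ((N ⊔ C : Subgroup G) : Set G) := by
    refine le_trans (le_sup_left.trans h.ge) (sup_le ?_ (le_sup_right.trans le_normalizer))
    refine Core.le_normalizer_iff_conj_mem.mpr fun g hg x hxm => ?_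
    obtain ⟨a, ha, c, hc, rfl⟩ := (Core.mem_sup_of_le_normalizer hNC).mp hxm
    have e : g * (a * c) * g⁻¹ = (g * a * g⁻¹) * (g * c * g⁻¹) := by group
    rw [e]
    exact mul_mem_sup ((mem_normalizer_iff.mp (hn hg) a).mp ha)
      ((mem_normalizer_iff.mp (hLC hg) c).mp hc)
  have hK : (N ⊔ C) ⊓ M ≤ C := by
    refine le_centralizer_largestPReducedOf inf_le_right (le_normalizer_inf hnorm le_normalizer)
      fun x hxm => ?_
    obtain ⟨a, ha, c, hc, rfl⟩ := (Core.mem_sup_of_le_normalizer hNC).mp hxm.1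
    obtain ⟨k, hk⟩ := hx a ha
    refine ⟨k, ?_⟩
    have key : ∀ j : ℕ, ∃ c' ∈ C, (a * c) ^ j = a ^ j * c' := by
      intro j
      induction j with
      | zero => exact ⟨1, one_mem _, by simp⟩
      | succ j ih =>
        obtain ⟨c', hc', he⟩ := ih
        refine ⟨a⁻¹ * c' * a * c, mul_mem ((mem_normalizer_iff''.mp (hNC ha) c').mp hc') hc, ?_⟩
        rw [pow_succ, he, pow_succ]; group
    obtain ⟨c', hc', he⟩ := key (p ^ k)
    rw [he]; exact mul_mem hk hc'
  intro x hxN
  have hxM : x ∈ M ⊔ C := h ▸ mem_sup_left (hNL hxN)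
  obtain ⟨m, hm, c, hc, rfl⟩ := (Core.mem_sup_of_le_normalizer hMC).mp hxM
  have hmN : m ∈ N ⊔ C := by
    have e : m = m * c * c⁻¹ := by group
    rw [e]; exact mul_mem_sup hxN (inv_mem hc)
  exact mul_mem (hK ⟨hmN, hm⟩) hc

end Cfsg.Lib.Local
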