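import Cfsg.Prelude.Def_LocalStructure
import Cfsg.Agent.Lib.Local.PReduced
import Cfsg.Agent.Lib.Local.Sylow
import Cfsg.Agent.Lib.Local.PMinimalComponents

/-!
Existence of members of `𝔐_H` above a given parabolic subgroup of characteristic `p`.
-/

set_option autoImplicit false

namespace Cfsg.Lib.Local.BasicExists

open Subgroup

variable {G : Type*} [Group G] [Finite G] {p : ℕ} [hp : Fact p.Prime]

local notation "Y[" L "]" => Cfsg.largestPReducedOf p L
local notation "C[" L "]" => Subgroup.centralizer ((Cfsg.largestPReducedOf p L : Subgroup G) : Set G)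

/-- Frattini's argument for `T ∩ C` inside a subgroup normalizing `C`. -/
theorem le_inf_normalizer_sup (T : Sylow p G) {X C : Subgroup G} (hTX : (T : Subgroup G) ≤ X)
    (hXC : X ≤ normalizer (C : Set G)) :
    X ≤ (X ⊓ normalizer (((T : Subgroup G) ⊓ C : Subgroup G) : Set G)) ⊔ C := by
  haveI hN : (C.subgroupOf X).Normal := normal_subgroupOf_of_le_normalizer hXC
  obtain ⟨S, hS⟩ := exists_sylow_inf (T.subtype hTX) (C.subgroupOf X)
  have htop := Sylow.normalizer_sup_eq_top S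
  intro x hx
  obtain ⟨n, hn, c, hc, hnc⟩ := mem_sup_of_normal_right.1 (htop ▸ mem_top (⟨x, hx⟩ : ↥X))
  have hmem : ∀ z : ↥X, z ∈ (S : Subgroup _).map (C.subgroupOf X).subtype ↔
      (z : G) ∈ (T : Subgroup G) ⊓ C := by
    intro z
    rw [hS]
    constructor
    · rintro ⟨w, hw, rfl⟩
      exact ⟨hw, w.2⟩
    · intro hz
      exact ⟨⟨z, hz.2⟩, hz.1, rfl⟩
  have hnN : (n : G) ∈ normalizer (((T : Subgroup G) ⊓ C : Subgroup G) : Set G) := by
    rw [mem_normalizer_iff]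
    intro y
    constructor
    · intro hy
      exact (hmem (n * ⟨y, hTX hy.1⟩ * n⁻¹)).1
        ((mem_normalizer_iff.1 hn ⟨y, hTX hy.1⟩).1 ((hmem _).2 hy))
    · intro hy
      have hyX : y ∈ X := by
        have := X.mul_mem (X.mul_mem (X.inv_mem n.2) (hTX hy.1)) n.2
        simpa [mul_assoc] using this
      exact (hmem ⟨y, hyX⟩).1 ((mem_normalizer_iff.1 hn ⟨y, hyX⟩).2 ((hmem _).2 hy))
  have : x = (n : G) * c := (congrArg Subtype.val hnc).symm
  rw [this]
  exact mul_mem_sup ⟨n.2, hnN⟩ hc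

/-- In parabolic characteristic `p` every parabolic subgroup with `O_p ≠ 1` lies in `𝓛_H`. -/
theorem mem_charP (hpar : Cfsg.IsOfParabolicCharacteristic p G) (T : Sylow p G) {R : Subgroup G}
    (hTR : (T : Subgroup G) ≤ R) (hR : Cfsg.pCoreOf p R ≠ ⊥) : R ∈ Cfsg.charPSubgroups p G := by
  refine ⟨fun h => hR (by rw [Cfsg.pCoreOf, h, Subgroup.map_bot]), ?_⟩
  change centralizer (Cfsg.pCoreOf p R : Set G) ≤ Cfsg.pCoreOf p R
  set N := normalizer (Cfsg.pCoreOf p R : Set G)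
  have hRN : R ≤ N := le_normalizer_pCoreOf R
  have hTN := hTR.trans hRN
  have h := hpar _ (pCoreOf_isPGroup R) hR ⟨T, hTN⟩
  have hle : Cfsg.pCoreOf p N ≤ Cfsg.pCoreOf p R := by
    have h1 : Cfsg.pCoreOf p N ≤ R := by
      rintro _ ⟨x, hx, rfl⟩
      have h2 := Core.pCore_le_sylow (T.subtype hTN) hx
      rw [Sylow.coe_subtype, mem_subgroupOf] at h2
      exact hTR h2
    exact le_pCoreOf h1 (hRN.trans (le_normalizer_pCoreOf N)) (pCoreOf_isPGroup N)
  intro x hx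
  refine hle ⟨⟨x, centralizer_le_normalizer _ hx⟩, h ?_, rfl⟩
  rw [mem_centralizer_iff]
  intro y hy
  exact Subtype.ext (mem_centralizer_iff.1 hx y (hle ⟨y, hy, rfl⟩))

omit hp in
theorem centralizer_core_of_mem {R : Subgroup G} (h : R ∈ Cfsg.charPSubgroups p G) :
    centralizer (pCore p R : Set R) ≤ pCore p R := by
  intro x hx
  have hx' : (x : G) ∈ centralizer (((pCore p R).map R.subtype : Subgroup G) : Set G) := by
    rw [mem_centralizer_iff]
    rintro _ ⟨y, hy, rfl⟩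
    exact congrArg Subtype.val (mem_centralizer_iff.1 hx y hy)
  obtain ⟨y, hy, e⟩ := h.2 hx'
  rwa [← Subtype.ext e]

theorem pReducedOf_ne_bot (hpar : Cfsg.IsOfParabolicCharacteristic p G) (T : Sylow p G)
    {R : Subgroup G} (hTR : (T : Subgroup G) ≤ R) (hR : Cfsg.pCoreOf p R ≠ ⊥) : Y[R] ≠ ⊥ := by
  intro h0
  have hle : Cfsg.pCoreOf p R ≤ (T : Subgroup G) := by
    rintro _ ⟨x, hx, rfl⟩
    have h2 := Core.pCore_le_sylow (T.subtype hTR) hx
    rwa [Sylow.coe_subtype, mem_subgroupOf] at h2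
  have hT : (T : Subgroup G) ≠ ⊥ := fun h => hR (le_bot_iff.1 (h ▸ hle))
  have h1 := (omegaCenter_le_sylowCenterClosure T hTR).trans
    (sylowCenterClosure_le_largestPReducedOf (centralizer_core_of_mem (mem_charP hpar T hTR hR)))
  rw [h0, le_bot_iff] at h1
  haveI : Nontrivial ↥(T : Subgroup G) := (nontrivial_iff_ne_bot _).2 hT
  haveI := T.isPGroup'.center_nontrivial
  obtain ⟨n, hn, hc⟩ :=
    (T.isPGroup'.to_subgroup (Subgroup.center ↥(T : Subgroup G))).nontrivial_iff_card.1 inferInstance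
  obtain ⟨z, hz⟩ := exists_prime_orderOf_dvd_card' (G := Subgroup.center ↥(T : Subgroup G)) p
    (hc ▸ dvd_pow_self p hn.ne')
  have hzo : orderOf ((z : ↥(T : Subgroup G)) : G) = p := by rwa [orderOf_coe, orderOf_coe]
  have hmem : ((z : ↥(T : Subgroup G)) : G) ∈
      omegaOne p ((T : Subgroup G) ⊓ centralizer ((T : Subgroup G) : Set G)) := by
    refine subset_closure ⟨⟨(z : ↥(T : Subgroup G)).2, ?_⟩, by have := pow_orderOf_eq_one ((z : ↥(T : Subgroup G)) : G); rwa [hzo] at this⟩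
    exact mem_centralizer_iff.2 fun t ht => congrArg Subtype.val (Subgroup.mem_center_iff.1 z.2 ⟨t, ht⟩)
  rw [h1, mem_bot] at hmem
  rw [hmem, orderOf_one] at hzo
  exact hp.out.ne_one hzo.symm

/-- `Y` is monotone on parabolic subgroups of characteristic `p`. -/
theorem pReducedOf_mono (T : Sylow p G) {X Z : Subgroup G} (hTX : (T : Subgroup G) ≤ X) (hXZ : X ≤ Z)
    (hZ : Z ∈ Cfsg.charPSubgroups p G) : Y[X] ≤ Y[Z] := by
  set R := X.subgroupOf Z
  set e : ↥R ≃* ↥X := subgroupOfEquivOfLe hXZ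
  set V := (Cfsg.largestPReduced p ↥X).comap e.toMonoidHom with hV
  have hY := isPReducedNormal_iff.1 (largestPReduced_isPReducedNormal (p := p) (G := ↥X))
  have hcent : ∀ r : ↥R, r ∈ centralizer (V : Set ↥R) ↔
      e r ∈ centralizer (Cfsg.largestPReduced p ↥X : Set ↥X) := by
    intro r
    simp only [mem_centralizer_iff]
    constructor
    · intro h y hy
      have := congrArg e (h (e.symm y) (by simpa [hV] using hy))
      simpa using this
    · intro h v hv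
      exact e.injective (by simpa using h (e v) (by simpa [hV] using hv))
  have hVr : IsPReducedNormal p V := by
    refine isPReducedNormal_iff.2 ⟨hY.1.comap _, ?_, fun N hN h => ?_⟩
    · refine ⟨⟨⟨fun a b => Subtype.ext (e.injective ?_)⟩⟩, fun a ha => e.injective ?_⟩
      · simp only [Subgroup.coe_mul, map_mul]
        exact congrArg Subtype.val (hY.2.1.1.1.comm ⟨e a, a.2⟩ ⟨e b, b.2⟩)
      · rw [map_pow, map_one]; exact hY.2.1.2 _ ha
    · intro r hr
      refine (hcent r).2 (hY.2.2 (N.map e.toMonoidHom) (hN.map _ e.surjective) ?_ ⟨r, hr, rfl⟩)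
      rintro _ ⟨s, hs, rfl⟩
      obtain ⟨k, hk⟩ := h s hs
      exact ⟨k, by simpa [map_pow] using (hcent _).1 hk⟩
  have h := le_largestPReduced (isPReducedNormal_normalClosure (centralizer_core_of_mem hZ)
    (T.subtype (hTX.trans hXZ)) (R := R) (fun z hz => hTX (mem_subgroupOf.1 hz)) hVr)
  rintro _ ⟨y, hy, rfl⟩
  refine ⟨((e.symm y : ↥R) : ↥Z), h (le_normalClosure ⟨e.symm y, by simpa [hV] using hy, rfl⟩), ?_⟩
  exact congrArg Subtype.val (e.apply_symm_apply y)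

theorem le_sylow_of_le (T : Sylow p G) {X : Subgroup G} (hTX : (T : Subgroup G) ≤ X) :
    Y[X] ≤ (T : Subgroup G) := by
  refine (largestPReducedOf_le_pCoreOf X).trans ?_
  rintro _ ⟨x, hx, rfl⟩
  have h2 := Core.pCore_le_sylow (T.subtype hTX) hx
  rwa [Sylow.coe_subtype, mem_subgroupOf] at h2

omit hp in
theorem map_conj_inf_sup_eq {M X C : Subgroup G} (hMC : M ≤ normalizer (C : Set G)) {m : G} (hm : m ∈ M)
    (h : M ≤ X ⊔ C) : M ≤ X.map (MulAut.conj m).toMonoidHom ⊔ C := by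
  have := map_mono (f := (MulAut.conj m).toMonoidHom) h
  rw [Subgroup.map_sup, Cfsg.Lib.Core.map_conj_eq_of_mem_normalizer (le_normalizer hm),
    Cfsg.Lib.Core.map_conj_eq_of_mem_normalizer (hMC hm)] at this
  exact this

omit [Finite G] hp in
theorem isCoatom_comap {N : Subgroup G} [N.Normal] (K : Subgroup (G ⧸ N)) (hK : IsCoatom K) :
    IsCoatom (K.comap (QuotientGroup.mk' N)) := by
  have hs := QuotientGroup.mk'_surjective N
  refine ⟨fun h => hK.1 (by rw [← map_comap_eq_self_of_surjective hs K, h, map_top_of_surjective _ hs]), fun X hX => ?_⟩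
  have hN : N ≤ X := le_trans (fun x hx => by simp [mem_comap, (QuotientGroup.eq_one_iff x).2 hx]) hX.le
  have h1 : K < X.map (QuotientGroup.mk' N) := by
    refine lt_of_le_not_ge (by rw [← map_comap_eq_self_of_surjective hs K]; exact map_mono hX.le) fun h => ?_
    exact hX.not_ge (map_le_iff_le_comap.1 h)
  have h2 := congrArg (Subgroup.comap (QuotientGroup.mk' N)) (hK.2 _ h1)
  rwa [comap_map_eq, QuotientGroup.ker_mk', sup_eq_left.2 hN, comap_top] at h2

omit [Finite G] hp in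
theorem le_comap_of_mk' {N : Subgroup G} [N.Normal] (K : Subgroup (G ⧸ N)) :
    N ≤ K.comap (QuotientGroup.mk' N) :=
  fun x hx => by simp [mem_comap, (QuotientGroup.eq_one_iff x).2 hx]

set_option maxHeartbeats 800000 in
/-- Above every parabolic `L` of characteristic `p` sits an `M ∈ 𝔐_H`. -/
theorem exists_inFrakM (hpar : Cfsg.IsOfParabolicCharacteristic p G) (T : Sylow p G) {L : Subgroup G}
    (hTL : (T : Subgroup G) ≤ L) (hL : L ∈ Cfsg.charPSubgroups p G) :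
    ∃ M Ls : Subgroup G, (T : Subgroup G) ≤ M ∧ Cfsg.IsInFrakM p M ∧ (T : Subgroup G) ≤ Ls ∧ Ls ≤ M ∧
      Ls ∈ Cfsg.charPSubgroups p G ∧ Y[L] = Y[Ls] ∧ Y[L] ≤ Y[M] ∧ L ⊔ C[L] = Ls ⊔ C[L] := by
  classical
  have hLcore : Cfsg.pCoreOf p L ≠ ⊥ := fun h =>
    hL.1 ((map_eq_bot_iff_of_injective _ L.subtype_injective).1 h)
  have hY0 : Y[L] ≠ ⊥ := pReducedOf_ne_bot hpar T hTL hLcore
  have hLn : L ≤ normalizer ((Y[L] : Subgroup G) : Set G) := normalizer_le_normalizer_largestPReducedOf L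
  have hLd : L ⊔ C[L] ≤ normalizer ((Y[L] : Subgroup G) : Set G) :=
    sup_le hLn (centralizer_le_normalizer _)
  set R₁ := (T : Subgroup G) ⊓ C[L] with hR₁
  set N₁ := (L ⊔ C[L]) ⊓ normalizer (R₁ : Set G) with hN₁
  set L₀ := L ⊓ normalizer (R₁ : Set G) with hL₀
  have hTR₁ : (T : Subgroup G) ≤ normalizer (R₁ : Set G) :=
    le_normalizer_inf le_normalizer ((hTL.trans hLn).trans (normalizer_le_normalizer_centralizer _))
  have hTL₀ : (T : Subgroup G) ≤ L₀ := le_inf hTL hTR₁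
  have hTN₁ : (T : Subgroup G) ≤ N₁ := le_inf (hTL.trans le_sup_left) hTR₁
  have hL₀C : L₀ ⊔ C[L] = L ⊔ C[L] :=
    le_antisymm (sup_le (inf_le_left.trans le_sup_left) le_sup_right)
      (sup_le (le_inf_normalizer_sup T hTL (hLn.trans (normalizer_le_normalizer_centralizer _))) le_sup_right)
  have hYL₀ : Y[L] ≤ Y[L₀] :=
    largestPReducedOf_le_of_sup_eq ((le_sylow_of_le T hTL).trans hTL₀) hL₀C
  have hYL₀' : Y[L₀] = Y[L] := le_antisymm (pReducedOf_mono T hTL₀ inf_le_left hL) hYL₀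
  -- every supplement in `N₁` has the same `Y`
  have hsame : ∀ X : Subgroup G, (T : Subgroup G) ≤ X → X ≤ N₁ → X ⊔ C[L] = L ⊔ C[L] →
      Y[X] = Y[L] ∧ X ∈ Cfsg.charPSubgroups p G := by
    intro X hTX hXN hXC
    have hcore : ∀ W : Subgroup G, (T : Subgroup G) ≤ W → W ≤ N₁ → W ∈ Cfsg.charPSubgroups p G := by
      intro W hTW hWN
      refine mem_charP hpar T hTW fun h => hY0 (le_bot_iff.1 (h ▸ le_pCoreOf
        ((le_sylow_of_le T hTL).trans hTW) ((hWN.trans inf_le_left).trans hLd)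
        (PGroup.isPGroup_of_isElementaryAbelian (largestPReducedOf_isElementaryAbelian L))))
    have hge : Y[L] ≤ Y[X] := largestPReducedOf_le_of_sup_eq ((le_sylow_of_le T hTL).trans hTX) hXC
    have hN₁C : N₁ ⊔ C[L] = L ⊔ C[L] :=
      le_antisymm (sup_le inf_le_left le_sup_right) (hXC ▸ sup_le_sup_right hXN _)
    have hgeN : Y[L] ≤ Y[N₁] := largestPReducedOf_le_of_sup_eq ((le_sylow_of_le T hTL).trans hTN₁) hN₁C
    have hR₁core : R₁ ≤ Cfsg.pCoreOf p N₁ :=
      le_pCoreOf (inf_le_left.trans hTN₁) inf_le_right (T.isPGroup'.to_le inf_le_left)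
    have hR₁c : R₁ ≤ C[N₁] := hR₁core.trans (pCoreOf_le_centralizer_largestPReducedOf N₁)
    have hL₀N : L₀ ≤ N₁ := inf_le_inf_right _ le_sup_left
    have hYN : Y[N₁] ≤ Y[L₀] := by
      have hnorm : L₀ ≤ normalizer ((Y[N₁] : Subgroup G) : Set G) :=
        hL₀N.trans (normalizer_le_normalizer_largestPReducedOf N₁)
      refine le_largestPReducedOf ((le_sylow_of_le T hTN₁).trans hTL₀) hnorm
        (largestPReducedOf_isElementaryAbelian N₁) fun P hPL hPn hP => ?_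
      have hPC : P ≤ C[L] := by
        rw [← hYL₀']
        refine le_centralizer_largestPReducedOf hPL hPn fun x hx => ?_
        obtain ⟨k, hk⟩ := hP x hx
        exact ⟨k, centralizer_le (hYL₀' ▸ hgeN : Y[L₀] ≤ Y[N₁]) hk⟩
      have hnC : L₀ ≤ normalizer ((C[N₁] : Subgroup G) : Set G) :=
        hnorm.trans (normalizer_le_normalizer_centralizer _)
      haveI : (P.subgroupOf L₀).Normal := normal_subgroupOf_of_le_normalizer hPn
      haveI : (C[N₁].subgroupOf L₀).Normal := normal_subgroupOf_of_le_normalizer hnC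
      have h1 := le_inf_sup_of_pow_mem (T.subtype hTL₀) (N := P.subgroupOf L₀)
        (C := C[N₁].subgroupOf L₀) fun x hx => by
          obtain ⟨k, hk⟩ := hP x hx
          exact ⟨k, by simpa [mem_subgroupOf] using hk⟩
      intro x hx
      obtain ⟨a, ha, c, hc, hac⟩ := mem_sup_of_normal_right.1 (h1 (x := ⟨x, hPL hx⟩) hx)
      have ha' : (a : G) ∈ C[N₁] := hR₁c ⟨mem_subgroupOf.1 ha.1, hPC ha.2⟩
      have : x = (a : G) * c := (congrArg Subtype.val hac).symm
      rw [this]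
      exact mul_mem ha' hc
    refine ⟨le_antisymm (((pReducedOf_mono T hTX hXN (hcore N₁ hTN₁ le_rfl)).trans hYN).trans hYL₀'.le) hge,
      hcore X hTX hXN⟩
  -- choose the maximal member
  let Good : Set (Subgroup G) := {X | (T : Subgroup G) ≤ X ∧ Cfsg.pCoreOf p X ≠ ⊥ ∧
    ∃ W, (T : Subgroup G) ≤ W ∧ W ≤ X ∧ W ≤ N₁ ∧ W ⊔ C[L] = L ⊔ C[L]}
  have hLgood : L ∈ Good := ⟨hTL, hLcore, L₀, hTL₀, inf_le_left, inf_le_inf_right _ le_sup_left, hL₀C⟩
  obtain ⟨Y1, hY1⟩ := (Set.toFinite ((fun X => Y[X]) '' Good)).exists_maximal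
    ⟨_, L, hLgood, rfl⟩
  obtain ⟨X₀, hX₀, hX₀Y⟩ := hY1.1
  obtain ⟨M₁, -, hM₁⟩ := (Set.toFinite {X | X ∈ Good ∧ Y[X] = Y1}).exists_le_maximal
    (show X₀ ∈ {X | X ∈ Good ∧ Y[X] = Y1} from ⟨hX₀, hX₀Y⟩)
  obtain ⟨⟨hTM₁, hM₁core, W₁, hTW₁, hW₁M, hW₁N, hW₁C⟩, hM₁Y⟩ := hM₁.1
  have hM₁mem := mem_charP hpar T hTM₁ hM₁core
  have htop : ∀ Z : Subgroup G, Z ∈ Good → M₁ ≤ Z → Z = M₁ := by
    intro Z hZ hle
    have h1 : Y1 ≤ Y[Z] := hM₁Y ▸ pReducedOf_mono T hTM₁ hle (mem_charP hpar T hZ.1 hZ.2.1)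
    have h2 : Y[Z] = Y1 := le_antisymm (hY1.2 ⟨Z, hZ, rfl⟩ h1) h1
    exact le_antisymm (hM₁.2 ⟨hZ, h2⟩ hle) hle
  have hYne : Y[M₁] ≠ ⊥ := pReducedOf_ne_bot hpar T hTM₁ hM₁core
  have hC1 : C[M₁] ≤ M₁ := by
    have hd : M₁ ⊔ C[M₁] ≤ normalizer ((Y[M₁] : Subgroup G) : Set G) :=
      sup_le (normalizer_le_normalizer_largestPReducedOf M₁) (centralizer_le_normalizer _)
    refine le_sup_right.trans (htop (M₁ ⊔ C[M₁]) ⟨hTM₁.trans le_sup_left, fun h => hYne (le_bot_iff.1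
      (h ▸ le_pCoreOf ((largestPReducedOf_le M₁).trans le_sup_left) hd
        (PGroup.isPGroup_of_isElementaryAbelian (largestPReducedOf_isElementaryAbelian M₁)))),
      W₁, hTW₁, hW₁M.trans le_sup_left, hW₁N, hW₁C⟩ le_sup_left).le
  -- a minimal supplement of `C(Y)` in it
  obtain ⟨M, -, hM⟩ := (Set.toFinite {X : Subgroup G | (T : Subgroup G) ≤ X ∧ X ⊔ C[M₁] = M₁}).exists_le_minimal
    (show M₁ ∈ {X : Subgroup G | (T : Subgroup G) ≤ X ∧ X ⊔ C[M₁] = M₁} from ⟨hTM₁, sup_eq_left.2 hC1⟩)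
  obtain ⟨hTM, hMC⟩ := hM.1
  have hMM₁ : M ≤ M₁ := hMC ▸ le_sup_left
  have hMn : M ≤ normalizer ((Y[M₁] : Subgroup G) : Set G) :=
    hMM₁.trans (normalizer_le_normalizer_largestPReducedOf M₁)
  have hMnC : M ≤ normalizer ((C[M₁] : Subgroup G) : Set G) :=
    hMn.trans (normalizer_le_normalizer_centralizer _)
  set R := (T : Subgroup G) ⊓ C[M₁] with hR
  have hTR : (T : Subgroup G) ≤ normalizer (R : Set G) :=
    le_normalizer_inf le_normalizer (hTM.trans hMnC)
  have hMR : M ≤ normalizer (R : Set G) := by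
    refine le_trans (hM.2 (y := M ⊓ normalizer (R : Set G)) ⟨le_inf hTM hTR, le_antisymm
      (sup_le (inf_le_left.trans hMM₁) hC1) ?_⟩ inf_le_left) inf_le_right
    calc M₁ = M ⊔ C[M₁] := hMC.symm
      _ ≤ _ := sup_le (le_inf_normalizer_sup T hTM hMnC) le_sup_right
  have hY1M : Y[M₁] ≤ M := (le_sylow_of_le T hTM₁).trans hTM
  have hYM : Y[M] = Y[M₁] := le_antisymm (pReducedOf_mono T hTM hMM₁ hM₁mem)
    (largestPReducedOf_le_of_sup_eq hY1M (by rw [hMC, sup_eq_left.2 hC1]))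
  have hMcore : Cfsg.pCoreOf p M ≠ ⊥ := fun h => hYne (le_bot_iff.1 (h ▸ (hYM ▸ largestPReducedOf_le_pCoreOf M)))
  have hMmem := mem_charP hpar T hTM hMcore
  have hYLM₁ : Y[L] ≤ Y[M₁] := by
    rw [← (hsame W₁ hTW₁ hW₁N hW₁C).1]
    exact pReducedOf_mono T hTW₁ hW₁M hM₁mem
  have hCC : C[M₁] ≤ C[L] := centralizer_le hYLM₁
  set Ls := M ⊓ (L ⊔ C[L]) ⊓ normalizer (R₁ : Set G) with hLs
  have hTLs : (T : Subgroup G) ≤ Ls := le_inf (le_inf hTM (hTL.trans le_sup_left)) hTR₁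
  have hLsN : Ls ≤ N₁ := inf_le_inf_right _ inf_le_right
  have hCn : L ⊔ C[L] ≤ normalizer ((C[L] : Subgroup G) : Set G) :=
    hLd.trans (normalizer_le_normalizer_centralizer _)
  have hLsC : Ls ⊔ C[L] = L ⊔ C[L] := by
    refine le_antisymm (sup_le (inf_le_left.trans inf_le_right) le_sup_right) ?_
    have h1 : L ⊔ C[L] ≤ (M ⊓ (L ⊔ C[L])) ⊔ C[L] := by
      rw [← hW₁C]
      refine sup_le (fun x hx => ?_) le_sup_right
      have hx₁ : x ∈ M ⊔ C[M₁] := by rw [hMC]; exact hW₁M hx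
      obtain ⟨m, hm, c, hc, rfl⟩ := (Core.mem_sup_of_le_normalizer hMnC).1 hx₁
      refine mul_mem_sup ⟨hm, ?_⟩ (hCC hc)
      have h2 := mul_mem (mem_sup_left (T := C[L]) hx) (inv_mem (mem_sup_right (S := W₁) (hCC hc)))
      simpa using h2
    refine h1.trans (sup_le ?_ le_sup_right)
    exact le_inf_normalizer_sup T (le_inf hTM (hTL.trans le_sup_left)) (inf_le_right.trans hCn)
  obtain ⟨hYLs, hLsmem⟩ := hsame Ls hTLs hLsN hLsC
  -- the basic property
  have hdag : M ⊔ C[M] = M₁ := by rw [hYM, hMC]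
  have hgoodM : ∀ Z : Subgroup G, Cfsg.pCoreOf p Z ≠ ⊥ → M ≤ Z → Z ∈ Good := fun Z hZ hMZ =>
    ⟨hTM.trans hMZ, hZ, Ls, hTLs, (inf_le_left.trans inf_le_left).trans hMZ, hLsN, hLsC⟩
  refine ⟨M, Ls, hTM, ⟨hMmem, ?_, ?_, ?_, ?_, ?_⟩, hTLs, inf_le_left.trans inf_le_left, hLsmem,
    hYLs.symm, hYM ▸ hYLM₁, hLsC.symm⟩
  · rw [hdag]
    exact ⟨hM₁mem, fun Z hZ hle => htop Z (hgoodM Z
      (fun h => hZ.1 ((map_eq_bot_iff_of_injective _ Z.subtype_injective).1 h)) (hMM₁.trans hle)) hle⟩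
  · intro Z hZ hMZ
    rw [hdag]
    have hZcore : Cfsg.pCoreOf p Z ≠ ⊥ := fun h =>
      hZ.1.1 ((map_eq_bot_iff_of_injective _ Z.subtype_injective).1 h)
    have hYZ : Y[M] ≤ Y[Z] := pReducedOf_mono T hTM hMZ hZ.1
    have h2 : Y[Z] = Y1 := le_antisymm
      (hY1.2 ⟨Z, hgoodM Z hZcore hMZ, rfl⟩ (hM₁Y ▸ hYM ▸ hYZ)) (hM₁Y ▸ hYM ▸ hYZ)
    have hd : Z ⊔ C[Z] ≤ normalizer ((Y[Z] : Subgroup G) : Set G) :=
      sup_le (normalizer_le_normalizer_largestPReducedOf Z) (centralizer_le_normalizer _)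
    have hZne : Cfsg.pCoreOf p (Z ⊔ C[Z]) ≠ ⊥ := fun h =>
      pReducedOf_ne_bot hpar T (hTM.trans hMZ) hZcore (le_bot_iff.1 (h ▸ le_pCoreOf
        ((largestPReducedOf_le Z).trans le_sup_left) hd
        (PGroup.isPGroup_of_isElementaryAbelian (largestPReducedOf_isElementaryAbelian Z))))
    have hmax := hZ.2 (Z ⊔ C[Z]) (mem_charP hpar T ((hTM.trans hMZ).trans le_sup_left) hZne) le_sup_left
    have hM₁Z : M₁ ≤ Z := by
      rw [← hMC]
      refine sup_le hMZ (le_trans ?_ hmax.le)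
      rw [hM₁Y, ← h2]
      exact le_sup_right
    exact htop Z (hgoodM Z hZcore hMZ) hM₁Z
  · rw [hdag, hYM]
  · -- `C_M(Y)` is `p`-closed
    intro P
    have hRD : R ≤ M ⊓ C[M] := le_inf (inf_le_left.trans hTM) (by rw [hYM]; exact inf_le_right)
    haveI hRn : (R.subgroupOf (M ⊓ C[M])).Normal :=
      normal_subgroupOf_of_le_normalizer (inf_le_left.trans hMR)
    have hnd : ¬ p ∣ (R.subgroupOf (M ⊓ C[M])).index := by
      haveI : ((C[M₁]).subgroupOf M).Normal := normal_subgroupOf_of_le_normalizer hMnC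
      have h := not_dvd_relIndex_of_normal (T.subtype hTM) ((C[M₁]).subgroupOf M)
      rw [Sylow.coe_subtype, ← inf_relIndex_right,
        show (T : Subgroup G).subgroupOf M ⊓ (C[M₁]).subgroupOf M = R.subgroupOf M from rfl,
        show (C[M₁]).subgroupOf M = (M ⊓ C[M₁]).subgroupOf M from (by simp), relIndex_subgroupOf inf_le_left] at h
      change ¬ p ∣ R.relIndex (M ⊓ C[M])
      rw [hYM]
      exact h
    have hRp : IsPGroup p (R.subgroupOf (M ⊓ C[M])) :=
      (T.isPGroup'.to_le inf_le_left : IsPGroup p R).comap_subtype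
    haveI : (hRp.toSylow hnd : Subgroup ↥(M ⊓ C[M])).Normal := by rwa [IsPGroup.toSylow_coe]
    haveI := Sylow.unique_of_normal (hRp.toSylow hnd) inferInstance
    rw [Subsingleton.elim P (hRp.toSylow hnd)]
    infer_instance
  · -- the image lies in the Frattini subgroup
    rw [hYM]
    set Q := Cfsg.pCore p ↥M
    set D := (M ⊓ C[M₁]).subgroupOf M with hD
    rw [frattini, Order.radical]
    simp only [le_iInf_iff, Set.mem_setOf_eq]
    intro K hK
    rw [map_le_iff_le_comap]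
    by_contra hDK
    set K' := K.comap (QuotientGroup.mk' Q)
    have hK'c : IsCoatom K' := isCoatom_comap K hK
    haveI hDn : D.Normal := by
      rw [hD, inf_subgroupOf_left]; exact normal_subgroupOf_of_le_normalizer hMnC
    have hsup : K' ⊔ D = ⊤ := (hK'c.le_iff.1 le_sup_left).resolve_right fun h =>
      hDK (le_sup_right.trans h.le)
    have hnd : ¬ p ∣ K'.index := by
      rw [PMin.index_eq_relIndex_of_sup_eq_top hsup]
      have hRQ : R.subgroupOf M ≤ K' := by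
        refine le_trans ?_ (le_comap_of_mk' K)
        exact Core.le_pCore' (normal_subgroupOf_of_le_normalizer hMR)
          ((T.isPGroup'.to_le inf_le_left : IsPGroup p R).comap_subtype)
      haveI : ((C[M₁]).subgroupOf M).Normal := normal_subgroupOf_of_le_normalizer hMnC
      have h := not_dvd_relIndex_of_normal (T.subtype hTM) ((C[M₁]).subgroupOf M)
      rw [Sylow.coe_subtype, ← inf_relIndex_right,
        show (T : Subgroup G).subgroupOf M ⊓ (C[M₁]).subgroupOf M = R.subgroupOf M from rfl,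
        show (C[M₁]).subgroupOf M = (M ⊓ C[M₁]).subgroupOf M from (by simp)] at h
      exact fun hd => h (hd.trans (relIndex_dvd_of_le_left D hRQ))
    obtain ⟨S₀⟩ : Nonempty (Sylow p ↥K') := inferInstance
    have hnd' : ¬ p ∣ ((S₀ : Subgroup ↥K').map K'.subtype).index := by
      rw [index_map_subtype]
      exact fun h => hp.out.dvd_mul.1 h |>.elim S₀.not_dvd_index hnd
    obtain ⟨m, hm⟩ := MulAction.exists_smul_eq ↥M ((S₀.isPGroup'.map K'.subtype).toSylow hnd') (T.subtype hTM)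
    set X := (K'.map M.subtype).map (MulAut.conj (m : G)).toMonoidHom with hX
    have hTX : (T : Subgroup G) ≤ X := by
      intro t ht
      have ht' : (⟨t, hTM ht⟩ : ↥M) ∈ (T.subtype hTM : Subgroup ↥M) := by
        rw [Sylow.coe_subtype, mem_subgroupOf]; exact ht
      rw [← hm, Sylow.smul_def] at ht'
      obtain ⟨y, hy, hye⟩ := ht'
      obtain ⟨s, hs, rfl⟩ := hy
      exact ⟨(s : ↥M), ⟨(s : ↥M), s.2, rfl⟩, congrArg Subtype.val hye⟩
    have hXM : X ≤ M := by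
      rintro _ ⟨_, ⟨y, -, rfl⟩, rfl⟩
      exact mul_mem (mul_mem m.2 y.2) (M.inv_mem m.2)
    have hsupX : M ≤ K'.map M.subtype ⊔ C[M₁] := by
      intro y hy
      obtain ⟨a, ha, b, hb, hab⟩ := mem_sup_of_normal_right.1 (hsup ▸ mem_top (⟨y, hy⟩ : ↥M))
      have : y = (a : G) * b := (congrArg Subtype.val hab).symm
      rw [this]
      exact mul_mem_sup ⟨a, ha, rfl⟩ (mem_inf.1 hb).2
    have hMle : M ≤ X ⊔ C[M₁] := map_conj_inf_sup_eq hMnC m.2 hsupX
    have hXC : X ⊔ C[M₁] = M₁ := le_antisymm (sup_le (hXM.trans hMM₁) hC1)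
      (hMC.symm.le.trans (sup_le hMle le_sup_right))
    have hmemX : X ∈ {Z : Subgroup G | (T : Subgroup G) ≤ Z ∧ Z ⊔ C[M₁] = M₁} := ⟨hTX, hXC⟩
    have hMX : M ≤ X := hM.2 hmemX hXM
    refine hK'c.1 (eq_top_iff.2 fun y _ => ?_)
    obtain ⟨_, ⟨z, hz, rfl⟩, hze⟩ := hMX (show (m : G) * y * (m : G)⁻¹ ∈ M from
      mul_mem (mul_mem m.2 y.2) (M.inv_mem m.2))
    have : z = y := Subtype.ext (by simpa using hze)
    exact this ▸ hz

end Cfsg.Lib.Local.BasicExists
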