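import Cfsg.Agent.Lib.Core.Basic
import Mathlib.GroupTheory.Index
import Mathlib.Analysis.SpecialFunctions.Pow.Real

/-!
Measuring arguments of Chermak–Delgado type.
-/

set_option autoImplicit false

namespace Cfsg.Lib.Local

open Subgroup

variable {G : Type*} [Group G] [Finite G]

theorem card_mul_card_le (H K : Subgroup G) :
    Nat.card ↥H * Nat.card ↥K ≤ Nat.card ↥(H ⊔ K) * Nat.card ↥(H ⊓ K) := by
  have h1 := Core.card_mul_relIndex (inf_le_left : H ⊓ K ≤ H)
  rw [inf_relIndex_left] at h1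
  have h2 := Core.card_mul_relIndex (le_sup_right : K ≤ H ⊔ K)
  have h3 : K.relIndex H ≤ K.relIndex (H ⊔ K) :=
    relIndex_le_of_le_right le_sup_left (by
      rw [ne_eq, relIndex]
      exact index_ne_zero_of_finite)
  calc Nat.card ↥H * Nat.card ↥K = Nat.card ↥(H ⊓ K) * (Nat.card ↥K * K.relIndex H) := by
        rw [← h1]; ring
    _ ≤ Nat.card ↥(H ⊓ K) * (Nat.card ↥K * K.relIndex (H ⊔ K)) := by gcongr
    _ = Nat.card ↥(H ⊔ K) * Nat.card ↥(H ⊓ K) := by rw [h2, mul_comm]

/-- If `|A| |B| = |G| |A ∩ B|` then `G = A B`. -/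
theorem exists_mul_of_card_eq (A B : Subgroup G)
    (h : Nat.card G * Nat.card ↥(A ⊓ B) ≤ Nat.card ↥A * Nat.card ↥B) (g : G) :
    ∃ a ∈ A, ∃ b ∈ B, g = a * b := by
  classical
  let f : ↥A ⧸ B.subgroupOf A → G ⧸ B :=
    Quotient.lift (fun a : ↥A => ((a : G) : G ⧸ B)) (fun a a' haa => by
      have h1 := QuotientGroup.leftRel_apply.mp haa
      exact QuotientGroup.eq.mpr h1)
  have hinj : Function.Injective f := by
    rintro ⟨a⟩ ⟨a'⟩ hf
    exact QuotientGroup.eq.mpr (QuotientGroup.eq.mp hf : (a : G)⁻¹ * a' ∈ B)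
  have hcard : Nat.card (G ⧸ B) ≤ Nat.card (↥A ⧸ B.subgroupOf A) := by
    have h1 := Core.card_mul_relIndex (inf_le_left : A ⊓ B ≤ A)
    rw [inf_relIndex_left] at h1
    rw [← h1, ← B.card_mul_index] at h
    have h2 : B.index * (Nat.card ↥(A ⊓ B) * Nat.card ↥B) ≤
        B.relIndex A * (Nat.card ↥(A ⊓ B) * Nat.card ↥B) := by
      calc B.index * (Nat.card ↥(A ⊓ B) * Nat.card ↥B)
          = Nat.card ↥B * B.index * Nat.card ↥(A ⊓ B) := by ring
        _ ≤ _ := h
        _ = _ := by ring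
    exact Nat.le_of_mul_le_mul_right h2 (Nat.mul_pos Nat.card_pos Nat.card_pos)
  have hbij := hinj.bijective_of_nat_card_le hcard
  obtain ⟨⟨a⟩, ha⟩ := hbij.2 (g : G ⧸ B)
  exact ⟨a, a.2, (a : G)⁻¹ * g, QuotientGroup.eq.mp ha, by group⟩

/-- `m(H) = |H| |C(H)|` is submultiplicative. -/
theorem cd_measure_le (H K : Subgroup G) :
    (Nat.card ↥H * Nat.card ↥(centralizer (H : Set G))) *
        (Nat.card ↥K * Nat.card ↥(centralizer (K : Set G))) ≤
      (Nat.card ↥(H ⊔ K) * Nat.card ↥(centralizer ((H ⊔ K : Subgroup G) : Set G))) *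
        (Nat.card ↥(H ⊓ K) * Nat.card ↥(centralizer ((H ⊓ K : Subgroup G) : Set G))) := by
  have h1 := card_mul_card_le H K
  have h2 := card_mul_card_le (centralizer (H : Set G)) (centralizer (K : Set G))
  have h3 : centralizer (H : Set G) ⊓ centralizer (K : Set G) ≤
      centralizer ((H ⊔ K : Subgroup G) : Set G) :=
    le_centralizer_iff.mpr (sup_le (le_centralizer_iff.mpr inf_le_left)
      (le_centralizer_iff.mpr inf_le_right))
  have h4 : centralizer (H : Set G) ⊔ centralizer (K : Set G) ≤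
      centralizer ((H ⊓ K : Subgroup G) : Set G) :=
    sup_le (centralizer_le (SetLike.coe_subset_coe.mpr inf_le_left))
      (centralizer_le (SetLike.coe_subset_coe.mpr inf_le_right))
  calc _ = (Nat.card ↥H * Nat.card ↥K) *
        (Nat.card ↥(centralizer (H : Set G)) * Nat.card ↥(centralizer (K : Set G))) := by ring
    _ ≤ (Nat.card ↥(H ⊔ K) * Nat.card ↥(H ⊓ K)) *
        (Nat.card ↥(centralizer ((H ⊓ K : Subgroup G) : Set G)) *
          Nat.card ↥(centralizer ((H ⊔ K : Subgroup G) : Set G))) :=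
      Nat.mul_le_mul h1 (h2.trans (Nat.mul_le_mul (card_le_of_le h4) (card_le_of_le h3)))
    _ = _ := by ring

theorem card_centralizer_map_conj (H : Subgroup G) (g : G) :
    Nat.card ↥(centralizer ((H.map (MulAut.conj g).toMonoidHom : Subgroup G) : Set G)) =
      Nat.card ↥(centralizer (H : Set G)) := by
  have e : centralizer ((H.map (MulAut.conj g).toMonoidHom : Subgroup G) : Set G) =
      (centralizer (H : Set G)).map (MulAut.conj g).toMonoidHom := by
    ext x
    rw [Core.mem_map_conj]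
    simp only [mem_centralizer_iff, SetLike.mem_coe]
    constructor
    · intro h q hq
      have h1 := h (g * q * g⁻¹) ⟨q, hq, rfl⟩
      calc q * (g⁻¹ * x * g) = g⁻¹ * (g * q * g⁻¹ * x) * g := by group
        _ = g⁻¹ * (x * (g * q * g⁻¹)) * g := by rw [h1]
        _ = g⁻¹ * x * g * q := by group
    · rintro h _ ⟨q, hq, rfl⟩
      have h1 := h q hq
      simp only [MulEquiv.coe_toMonoidHom, MulAut.conj_apply]
      calc g * q * g⁻¹ * x = g * (q * (g⁻¹ * x * g)) * g⁻¹ := by group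
        _ = g * (g⁻¹ * x * g * q) * g⁻¹ := by rw [h1]
        _ = x * (g * q * g⁻¹) := by group
  rw [e, card_map_of_injective (MulAut.conj g).injective]

end Cfsg.Lib.Local
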