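import Cfsg.Prelude.Def_BaumannBlocks
import Cfsg.Agent.Lib.Local.ChermakDelgado

/-!
Centrally large subgroups of a finite group: the subgroups of largest Chermak–Delgado measure.
-/

set_option autoImplicit false
set_option linter.style.haveILetI false

namespace Cfsg.Lib.Local.CLarge

open Subgroup Cfsg.Lib.Local
open scoped commutatorElement Pointwise

variable {P : Type*} [Group P]

/-- The centre of `R`, inside `P`. -/
def zc (R : Subgroup P) : Subgroup P := R ⊓ centralizer (R : Set P)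

theorem zc_le (R : Subgroup P) : zc R ≤ R := inf_le_left

theorem zc_eq_of_centralizer_le {R : Subgroup P} (h : centralizer (R : Set P) ≤ R) :
    zc R = centralizer (R : Set P) := inf_eq_right.mpr h

theorem zc_comm {R : Subgroup P} {x y : P} (hx : x ∈ zc R) (hy : y ∈ R) : y * x = x * y :=
  mem_centralizer_iff.1 hx.2 y hy

instance zc_isMulCommutative (R : Subgroup P) : IsMulCommutative ↥(zc R) :=
  ⟨⟨fun a b => Subtype.ext (zc_comm b.2 a.2.1)⟩⟩

theorem card_zc (R : Subgroup P) : Nat.card ↥(center ↥R) = Nat.card ↥(zc R) := by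
  have e : (center ↥R).map R.subtype = zc R := by
    ext x
    constructor
    · rintro ⟨y, hy, rfl⟩
      exact ⟨y.2, mem_centralizer_iff.2 fun z hz => congrArg Subtype.val (mem_center_iff.1 hy ⟨z, hz⟩)⟩
    · rintro hx
      exact ⟨⟨x, hx.1⟩, mem_center_iff.2 fun z => Subtype.ext (zc_comm hx z.2), rfl⟩
  rw [← e, card_map_of_injective R.subtype_injective]

theorem centralizer_sup (A B : Subgroup P) :
    centralizer ((A ⊔ B : Subgroup P) : Set P) = centralizer (A : Set P) ⊓ centralizer (B : Set P) := by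
  refine le_antisymm (le_inf (centralizer_le (SetLike.coe_subset_coe.2 le_sup_left))
    (centralizer_le (SetLike.coe_subset_coe.2 le_sup_right))) ?_
  rw [le_centralizer_iff]
  exact sup_le (le_centralizer_iff.1 inf_le_left) (le_centralizer_iff.1 inf_le_right)

variable [Finite P]

/-- A product of two subgroups of the right order is their join. -/
theorem coe_sup_eq_mul {A B : Subgroup P}
    (h : Nat.card ↥(A ⊔ B) * Nat.card ↥(A ⊓ B) ≤ Nat.card ↥A * Nat.card ↥B) :
    ((A ⊔ B : Subgroup P) : Set P) = (A : Set P) * (B : Set P) := by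
  refine Set.Subset.antisymm (fun x hx => ?_) ?_
  · have e1 : Nat.card ↥(A.subgroupOf (A ⊔ B) ⊓ B.subgroupOf (A ⊔ B)) = Nat.card ↥(A ⊓ B) := by
      rw [show A.subgroupOf (A ⊔ B) ⊓ B.subgroupOf (A ⊔ B) = (A ⊓ B).subgroupOf (A ⊔ B) from rfl,
        Nat.card_congr (subgroupOfEquivOfLe (inf_le_left.trans le_sup_left : A ⊓ B ≤ A ⊔ B)).toEquiv]
    obtain ⟨a, ha, b, hb, e⟩ := exists_mul_of_card_eq (A.subgroupOf (A ⊔ B)) (B.subgroupOf (A ⊔ B))
      (by rw [e1, Nat.card_congr (subgroupOfEquivOfLe (le_sup_left : A ≤ A ⊔ B)).toEquiv,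
        Nat.card_congr (subgroupOfEquivOfLe (le_sup_right : B ≤ A ⊔ B)).toEquiv]; exact h) ⟨x, hx⟩
    exact ⟨(a : P), ha, (b : P), hb, (congrArg Subtype.val e).symm⟩
  · rintro x ⟨a, ha, b, hb, rfl⟩
    exact mul_mem (mem_sup_left ha) (mem_sup_right hb)

omit [Finite P] in
theorem bddAbove_central [Finite P] :
    BddAbove {k : ℕ | ∃ R : Subgroup P, Nat.card ↥R * Nat.card ↥(center ↥R) = k} :=
  ⟨Nat.card P * Nat.card P, by
    rintro k ⟨R, rfl⟩
    exact Nat.mul_le_mul (card_le_card_group R) ((card_le_card_group _).trans (card_le_card_group R))⟩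

theorem bddAbove_centralizer :
    BddAbove {k : ℕ | ∃ R : Subgroup P, Nat.card ↥R * Nat.card ↥(centralizer (R : Set P)) = k} :=
  ⟨Nat.card P * Nat.card P, by
    rintro k ⟨R, rfl⟩
    exact Nat.mul_le_mul (card_le_card_group R) (card_le_card_group _)⟩

theorem measure_le (R : Subgroup P) :
    Nat.card ↥R * Nat.card ↥(centralizer (R : Set P)) ≤ maxCentralizerProduct P :=
  le_csSup bddAbove_centralizer ⟨R, rfl⟩

theorem central_le (R : Subgroup P) :
    Nat.card ↥R * Nat.card ↥(center ↥R) ≤ maxCentralProduct P :=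
  le_csSup bddAbove_central ⟨R, rfl⟩

theorem exists_large : ∃ R : Subgroup P, IsCentralizerLarge R :=
  Nat.sSup_mem (s := {k : ℕ | ∃ R : Subgroup P, Nat.card ↥R * Nat.card ↥(centralizer (R : Set P)) = k})
    ⟨_, ⊥, rfl⟩ bddAbove_centralizer

theorem exists_cl : ∃ R : Subgroup P, IsCentrallyLarge R :=
  Nat.sSup_mem (s := {k : ℕ | ∃ R : Subgroup P, Nat.card ↥R * Nat.card ↥(center ↥R) = k})
    ⟨_, ⊥, rfl⟩ bddAbove_central

theorem large_iff_le {R : Subgroup P} : IsCentralizerLarge R ↔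
    maxCentralizerProduct P ≤ Nat.card ↥R * Nat.card ↥(centralizer (R : Set P)) :=
  ⟨fun h => h.ge, fun h => le_antisymm (measure_le R) h⟩

/-- The centralizer of a large subgroup is large, and is a double centralizer. -/
theorem large_centralizer {Q : Subgroup P} (hQ : IsCentralizerLarge Q) :
    IsCentralizerLarge (centralizer (Q : Set P)) ∧
      centralizer ((centralizer (Q : Set P) : Subgroup P) : Set P) = Q := by
  have hle : Q ≤ centralizer ((centralizer (Q : Set P) : Subgroup P) : Set P) :=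
    le_centralizer_iff.1 le_rfl
  have h1 := measure_le (centralizer (Q : Set P))
  rw [← hQ, mul_comm (Nat.card ↥Q)] at h1
  have h2 := Nat.le_of_mul_le_mul_left h1 Nat.card_pos
  have heq := (eq_of_le_of_card_ge hle h2).symm
  refine ⟨?_, heq⟩
  unfold IsCentralizerLarge
  rw [heq, mul_comm]
  exact hQ

/-- The lattice properties. -/
theorem large_lattice {Q R : Subgroup P} (hQ : IsCentralizerLarge Q) (hR : IsCentralizerLarge R) :
    IsCentralizerLarge (Q ⊔ R) ∧ IsCentralizerLarge (Q ⊓ R) ∧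
      ((Q ⊔ R : Subgroup P) : Set P) = (Q : Set P) * (R : Set P) ∧
      Nat.card ↥Q * Nat.card ↥R = Nat.card ↥(Q ⊔ R) * Nat.card ↥(Q ⊓ R) ∧
      centralizer ((Q ⊓ R : Subgroup P) : Set P) = centralizer (Q : Set P) ⊔ centralizer (R : Set P) ∧
      ((centralizer (Q : Set P) ⊔ centralizer (R : Set P) : Subgroup P) : Set P) =
        (centralizer (Q : Set P) : Set P) * (centralizer (R : Set P) : Set P) := by
  set f := maxCentralizerProduct P with hf
  set CQ := centralizer (Q : Set P)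
  set CR := centralizer (R : Set P)
  have hQf : Nat.card ↥Q * Nat.card ↥CQ = f := hQ
  have hRf : Nat.card ↥R * Nat.card ↥CR = f := hR
  have hpos : 0 < f := hQf ▸ Nat.mul_pos Nat.card_pos Nat.card_pos
  have h1 := card_mul_card_le Q R
  have h2 := card_mul_card_le CQ CR
  have hinf : CQ ⊓ CR = centralizer ((Q ⊔ R : Subgroup P) : Set P) := (centralizer_sup Q R).symm
  have hsup : CQ ⊔ CR ≤ centralizer ((Q ⊓ R : Subgroup P) : Set P) :=
    sup_le (centralizer_le (SetLike.coe_subset_coe.2 inf_le_left))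
      (centralizer_le (SetLike.coe_subset_coe.2 inf_le_right))
  have hm1 := measure_le (Q ⊔ R)
  have hm2 := measure_le (Q ⊓ R)
  rw [← hinf] at hm1
  have hc := card_le_of_le hsup
  set a := Nat.card ↥(Q ⊔ R)
  set b := Nat.card ↥(Q ⊓ R)
  set c := Nat.card ↥(CQ ⊔ CR)
  set d := Nat.card ↥(CQ ⊓ CR)
  set e := Nat.card ↥(centralizer ((Q ⊓ R : Subgroup P) : Set P))
  have hb : 0 < b := Nat.card_pos
  have hd : 0 < d := Nat.card_pos
  have hsq : f * f ≤ (a * d) * (b * c) := by
    calc f * f = (Nat.card ↥Q * Nat.card ↥CQ) * (Nat.card ↥R * Nat.card ↥CR) := by rw [hQf, hRf]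
      _ = (Nat.card ↥Q * Nat.card ↥R) * (Nat.card ↥CQ * Nat.card ↥CR) := by ring
      _ ≤ (a * b) * (c * d) := Nat.mul_le_mul h1 h2
      _ = _ := by ring
  have hbe : b * c ≤ b * e := Nat.mul_le_mul_left _ hc
  have hA : a * d = f := by
    refine le_antisymm hm1 (Nat.le_of_mul_le_mul_right (hsq.trans (Nat.mul_le_mul_left _ ?_)) hpos)
    exact hbe.trans hm2
  have hB : b * c = f := by
    refine le_antisymm (hbe.trans hm2) (Nat.le_of_mul_le_mul_left ?_ hpos)
    calc f * f ≤ (a * d) * (b * c) := hsq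
      _ = f * (b * c) := by rw [hA]
  have hce : c = e := le_antisymm hc (Nat.le_of_mul_le_mul_left (hm2.trans hB.ge) hb)
  have hceq : CQ ⊔ CR = centralizer ((Q ⊓ R : Subgroup P) : Set P) := eq_of_le_of_card_ge hsup hce.ge
  have hab : Nat.card ↥Q * Nat.card ↥R = a * b ∧ Nat.card ↥CQ * Nat.card ↥CR = c * d := by
    have h3 : (Nat.card ↥Q * Nat.card ↥R) * (Nat.card ↥CQ * Nat.card ↥CR) = (a * b) * (c * d) := by
      calc _ = (Nat.card ↥Q * Nat.card ↥CQ) * (Nat.card ↥R * Nat.card ↥CR) := by ring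
        _ = f * f := by rw [hQf, hRf]
        _ = (a * d) * (b * c) := by rw [hA, hB]
        _ = _ := by ring
    have hcd : 0 < Nat.card ↥CQ * Nat.card ↥CR := Nat.mul_pos Nat.card_pos Nat.card_pos
    have h4 : Nat.card ↥Q * Nat.card ↥R = a * b := by
      refine le_antisymm h1 (Nat.le_of_mul_le_mul_right ?_ hcd)
      calc a * b * (Nat.card ↥CQ * Nat.card ↥CR) ≤ a * b * (c * d) := Nat.mul_le_mul_left _ h2
        _ = _ := h3.symm
    exact ⟨h4, Nat.eq_of_mul_eq_mul_left (Nat.mul_pos Nat.card_pos Nat.card_pos)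
      (h3.trans (by rw [← h4]))⟩
  refine ⟨?_, ?_, coe_sup_eq_mul hab.1.ge, hab.1, hceq.symm, coe_sup_eq_mul hab.2.ge⟩
  · unfold IsCentralizerLarge
    rw [← hinf]
    exact hA
  · unfold IsCentralizerLarge
    rw [← hceq]
    exact hB

/-- `f = f₁`. -/
theorem maxCentralProduct_eq : maxCentralProduct P = maxCentralizerProduct P := by
  obtain ⟨R, hR⟩ := exists_large (P := P)
  have hT := (large_lattice hR (large_centralizer hR).1).1
  have hle : centralizer ((R ⊔ centralizer (R : Set P) : Subgroup P) : Set P) ≤ R ⊔ centralizer (R : Set P) := by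
    rw [centralizer_sup, (large_centralizer hR).2]
    exact inf_le_right.trans le_sup_left
  refine le_antisymm ?_ ?_
  · obtain ⟨X, hX⟩ := exists_cl (P := P)
    calc maxCentralProduct P = _ := hX.symm
      _ ≤ Nat.card ↥X * Nat.card ↥(centralizer (X : Set P)) := by
          rw [card_zc]; exact Nat.mul_le_mul_left _ (card_le_of_le inf_le_right)
      _ ≤ _ := measure_le X
  · calc maxCentralizerProduct P = _ := hT.symm
      _ = Nat.card ↥(R ⊔ centralizer (R : Set P)) * Nat.card ↥(center ↥(R ⊔ centralizer (R : Set P))) := by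
          rw [card_zc, zc_eq_of_centralizer_le hle]
      _ ≤ _ := central_le _

/-- Centrally large means large and containing the centralizer. -/
theorem cl_iff {Q : Subgroup P} :
    IsCentrallyLarge Q ↔ IsCentralizerLarge Q ∧ centralizer (Q : Set P) ≤ Q := by
  have hle : zc Q ≤ centralizer (Q : Set P) := inf_le_right
  constructor
  · intro h
    have h1 := measure_le Q
    rw [← maxCentralProduct_eq, ← h, card_zc] at h1
    have heq : zc Q = centralizer (Q : Set P) :=
      eq_of_le_of_card_ge hle (Nat.le_of_mul_le_mul_left h1 Nat.card_pos)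
    refine ⟨?_, heq ▸ zc_le Q⟩
    unfold IsCentralizerLarge
    rw [← maxCentralProduct_eq, ← heq, ← card_zc]
    exact h
  · rintro ⟨h, hC⟩
    unfold IsCentrallyLarge
    rw [maxCentralProduct_eq, card_zc, zc_eq_of_centralizer_le hC]
    exact h

theorem cl_large {Q : Subgroup P} (h : IsCentrallyLarge Q) : IsCentralizerLarge Q := (cl_iff.1 h).1

theorem cl_centralizer {Q : Subgroup P} (h : IsCentrallyLarge Q) : centralizer (Q : Set P) = zc Q :=
  (zc_eq_of_centralizer_le (cl_iff.1 h).2).symm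

theorem cl_sup {Q R : Subgroup P} (hQ : IsCentrallyLarge Q) (hR : IsCentrallyLarge R) :
    IsCentrallyLarge (Q ⊔ R) := by
  refine cl_iff.2 ⟨(large_lattice (cl_large hQ) (cl_large hR)).1, ?_⟩
  exact (centralizer_le (SetLike.coe_subset_coe.2 le_sup_left)).trans ((cl_iff.1 hQ).2.trans le_sup_left)

/-- A nonempty family of centrally large subgroups has a centrally large join. -/
theorem cl_sSup {s : Set (Subgroup P)} (hne : s.Nonempty) (h : ∀ R ∈ s, IsCentrallyLarge R) :
    IsCentrallyLarge (sSup s) := by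
  obtain ⟨R0, hR0⟩ := hne
  obtain ⟨M, ⟨hM, hMs⟩, hmax⟩ := Set.Finite.exists_maximal
    (s := {X : Subgroup P | IsCentrallyLarge X ∧ X ≤ sSup s}) (Set.toFinite _)
    ⟨R0, h R0 hR0, le_sSup hR0⟩
  have : sSup s = M := le_antisymm
    (sSup_le fun R hR => le_sup_right.trans (hmax ⟨cl_sup hM (h R hR), sup_le hMs (le_sSup hR)⟩ le_sup_left)) hMs
  rwa [this]

theorem exists_minimal_cl : ∃ Q : Subgroup P, IsMinimalCentrallyLarge Q := by
  obtain ⟨Q, hQ, hmin⟩ := Set.Finite.exists_minimal (s := {X : Subgroup P | IsCentrallyLarge X})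
    (Set.toFinite _) exists_cl
  exact ⟨Q, hQ, fun R hR hc => le_antisymm hR (hmin hc hR)⟩

/-- An abelian subgroup of largest order is self-centralizing. -/
theorem centralizer_maxAbelian {A : Subgroup P} (hA : A ∈ maxAbelianSubgroups P) :
    centralizer (A : Set P) = A := by
  have hAc : A ≤ centralizer (A : Set P) := fun a ha => mem_centralizer_iff.2 fun b hb =>
    (congrArg Subtype.val (hA.1.is_comm.comm ⟨b, hb⟩ ⟨a, ha⟩) :)
  refine le_antisymm (fun x hx => ?_) hAc
  have hX : IsMulCommutative ↥(A ⊔ zpowers x) := by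
    have h1 : A ⊔ zpowers x ≤ centralizer ((A ⊔ zpowers x : Subgroup P) : Set P) := by
      rw [centralizer_sup]
      refine sup_le (le_inf hAc ?_) (le_inf (zpowers_le.2 hx) ?_)
      · rw [le_centralizer_iff]; exact zpowers_le.2 hx
      · rw [le_centralizer_iff]
        intro y hy
        rw [mem_centralizer_iff]
        rintro z hz
        obtain ⟨i, rfl⟩ := mem_zpowers_iff.1 hy
        obtain ⟨j, rfl⟩ := mem_zpowers_iff.1 hz
        exact (Commute.refl x).zpow_zpow j i
    exact ⟨⟨fun a b => Subtype.ext (mem_centralizer_iff.1 (h1 b.2) a a.2)⟩⟩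
  have h2 := eq_of_le_of_card_ge (le_sup_left : A ≤ A ⊔ zpowers x) (hA.2 _ hX)
  rw [h2]
  exact mem_sup_right (mem_zpowers x)

theorem exists_maxAbelian : ∃ A : Subgroup P, A ∈ maxAbelianSubgroups P := by
  haveI : Nonempty {A : Subgroup P // IsMulCommutative ↥A} := ⟨⟨⊥, inferInstance⟩⟩
  obtain ⟨A, hA⟩ := Finite.exists_max fun A : {A : Subgroup P // IsMulCommutative ↥A} => Nat.card ↥A.1
  exact ⟨A.1, A.2, fun B hB => hA ⟨B, hB⟩⟩

/-- Centrally large times abelian of largest order. -/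
theorem cl_sup_maxAbelian {Q A : Subgroup P} (hQ : IsCentrallyLarge Q) (hA : A ∈ maxAbelianSubgroups P) :
    IsCentrallyLarge (Q ⊔ A) ∧ ((Q ⊔ A : Subgroup P) : Set P) = (Q : Set P) * (A : Set P) ∧
      (zc Q ⊔ (Q ⊓ A)) ∈ maxAbelianSubgroups P := by
  have hCA := centralizer_maxAbelian hA
  have hC : centralizer ((Q ⊔ A : Subgroup P) : Set P) = zc Q ⊓ A := by
    rw [centralizer_sup, cl_centralizer hQ, hCA]
  set B := zc Q ⊔ (Q ⊓ A) with hB
  haveI := hA.1
  have hBab : IsMulCommutative ↥B := by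
    have h1 : B ≤ centralizer (B : Set P) := by
      rw [hB, centralizer_sup]
      refine sup_le (le_inf (fun x hx => ?_) (fun x hx => ?_)) (le_inf (fun x hx => ?_) (fun x hx => ?_))
      · exact mem_centralizer_iff.2 fun y hy => zc_comm hx (zc_le Q hy)
      · exact mem_centralizer_iff.2 fun y hy => zc_comm hx hy.1
      · exact mem_centralizer_iff.2 fun y hy => (zc_comm hy hx.1).symm
      · exact mem_centralizer_iff.2 fun y hy =>
          (congrArg Subtype.val (hA.1.is_comm.comm ⟨y, hy.2⟩ ⟨x, hx.2⟩) :)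
    exact ⟨⟨fun a b => Subtype.ext (mem_centralizer_iff.1 (h1 b.2) a a.2)⟩⟩
  have h1 := card_mul_card_le Q A
  have h2 := card_mul_card_le (zc Q) (Q ⊓ A)
  have e : zc Q ⊓ (Q ⊓ A) = zc Q ⊓ A := by
    rw [← inf_assoc, inf_eq_left.2 (zc_le Q)]
  rw [e, ← hB] at h2
  have h3 := hA.2 B hBab
  have h4 := measure_le (Q ⊔ A)
  rw [hC, ← maxCentralProduct_eq, ← hQ, card_zc] at h4
  set q := Nat.card ↥Q
  set a := Nat.card ↥A
  set z := Nat.card ↥(zc Q)
  set d := Nat.card ↥(Q ⊓ A)
  set t := Nat.card ↥(Q ⊔ A)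
  set s := Nat.card ↥(zc Q ⊓ A)
  have hd : 0 < d := Nat.card_pos
  have hs : 0 < s := Nat.card_pos
  have hq : 0 < q := Nat.card_pos
  have ha : 0 < a := Nat.card_pos
  have key : q * z * d ≤ t * s * d := by
    calc q * z * d = q * (z * d) := by ring
      _ ≤ q * (Nat.card ↥B * s) := Nat.mul_le_mul_left _ h2
      _ ≤ q * (a * s) := Nat.mul_le_mul_left _ (Nat.mul_le_mul_right _ h3)
      _ = (q * a) * s := by ring
      _ ≤ (t * d) * s := Nat.mul_le_mul_right _ h1
      _ = t * s * d := by ring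
  have hts : t * s = q * z := le_antisymm h4 (Nat.le_of_mul_le_mul_right key hd)
  have htd : t * d = q * a := by
    refine le_antisymm (Nat.le_of_mul_le_mul_right ?_ hs) h1
    calc t * d * s = t * s * d := by ring
      _ = q * z * d := by rw [hts]
      _ ≤ q * (Nat.card ↥B * s) := by rw [mul_assoc]; exact Nat.mul_le_mul_left _ h2
      _ ≤ q * (a * s) := Nat.mul_le_mul_left _ (Nat.mul_le_mul_right _ h3)
      _ = q * a * s := by ring
  have hBcard : a ≤ Nat.card ↥B := by
    refine Nat.le_of_mul_le_mul_right (Nat.le_of_mul_le_mul_left ?_ hq) hs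
    calc q * (a * s) = t * d * s := by rw [htd]; ring
      _ = t * s * d := by ring
      _ = q * (z * d) := by rw [hts]; ring
      _ ≤ _ := Nat.mul_le_mul_left _ h2
  refine ⟨cl_iff.2 ⟨?_, ?_⟩, coe_sup_eq_mul htd.le, hBab, fun X hX => (hA.2 X hX).trans hBcard⟩
  · unfold IsCentralizerLarge
    rw [hC, ← maxCentralProduct_eq, ← hQ, card_zc]
    exact hts
  · rw [hC]
    exact inf_le_right.trans le_sup_right

/-- `Q ⊔ J(P)` is centrally large and contains `C(Z(J(P)))`. -/
theorem centralizer_le_sup {Q : Subgroup P} (hQ : IsCentrallyLarge Q) :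
    centralizer ((thompsonSubgroupA P ⊓ centralizer (thompsonSubgroupA P : Set P) : Subgroup P) : Set P) ≤
      Q ⊔ thompsonSubgroupA P ∧ IsCentrallyLarge (Q ⊔ thompsonSubgroupA P) := by
  set J := thompsonSubgroupA P with hJ
  set s : Set (Subgroup P) := insert Q ((fun A => Q ⊔ A) '' maxAbelianSubgroups P) with hs
  have hK : sSup s = Q ⊔ J := by
    refine le_antisymm (sSup_le ?_) (sup_le (le_sSup (Set.mem_insert _ _)) (sSup_le fun A hA => ?_))
    · rintro X (rfl | ⟨A, hA, rfl⟩)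
      · exact le_sup_left
      · exact sup_le_sup_left (le_sSup hA) _
    · exact le_sup_right.trans (le_sSup (Set.mem_insert_of_mem _ ⟨A, hA, rfl⟩))
  have hKcl : IsCentrallyLarge (Q ⊔ J) := by
    rw [← hK]
    refine cl_sSup ⟨Q, Set.mem_insert _ _⟩ ?_
    rintro X (rfl | ⟨A, hA, rfl⟩)
    · exact hQ
    · exact (cl_sup_maxAbelian hQ hA).1
  refine ⟨?_, hKcl⟩
  conv_rhs => rw [← (large_centralizer (cl_large hKcl)).2]
  refine centralizer_le (SetLike.coe_subset_coe.2 ?_)
  have h1 : centralizer ((Q ⊔ J : Subgroup P) : Set P) ≤ centralizer (J : Set P) :=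
    centralizer_le (SetLike.coe_subset_coe.2 le_sup_right)
  refine le_inf ?_ h1
  obtain ⟨A, hA⟩ := exists_maxAbelian (P := P)
  refine h1.trans ((centralizer_le (SetLike.coe_subset_coe.2 (le_sSup hA))).trans ?_)
  rw [centralizer_maxAbelian hA]
  exact le_sSup hA

/-- Two minimal centrally large subgroups. -/
theorem inf_sup_zc {Q R : Subgroup P} (hQ : IsMinimalCentrallyLarge Q) (hR : IsCentrallyLarge R) :
    (Q ⊓ R) ⊔ zc Q = Q := by
  have hQl := cl_large hQ.1
  have hRl := cl_large hR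
  have hW := (large_lattice hQl hRl).2.1
  have hzQ : IsCentralizerLarge (zc Q) := by
    rw [← cl_centralizer hQ.1]; exact (large_centralizer hQl).1
  have hX := (large_lattice hW hzQ).1
  have hCX : centralizer (((Q ⊓ R) ⊔ zc Q : Subgroup P) : Set P) ≤ (Q ⊓ R) ⊔ zc Q := by
    rw [centralizer_sup, (large_lattice hQl hRl).2.2.2.2.1, ← cl_centralizer hQ.1,
      (large_centralizer hQl).2, cl_centralizer hQ.1, cl_centralizer hR]
    intro x hx
    have hx1 : x ∈ ((zc Q ⊔ zc R : Subgroup P) : Set P) := hx.1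
    have h6 := (large_lattice hQl hRl).2.2.2.2.2
    rw [cl_centralizer hQ.1, cl_centralizer hR] at h6
    rw [h6] at hx1
    obtain ⟨a, ha, b, hb, rfl⟩ := hx1
    have hbQ : b ∈ Q := by
      have := Q.mul_mem (Q.inv_mem (zc_le Q ha)) hx.2
      simpa using this
    exact mul_mem (mem_sup_right ha) (mem_sup_left ⟨hbQ, zc_le R hb⟩)
  exact hQ.2 _ (sup_le inf_le_left (zc_le Q)) (cl_iff.2 ⟨hX, hCX⟩)

theorem commutator_eq_inf {Q R : Subgroup P} (hQ : IsMinimalCentrallyLarge Q) (hR : IsCentrallyLarge R) :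
    ⁅Q, Q⁆ = ⁅Q ⊓ R, Q ⊓ R⁆ := by
  refine le_antisymm ?_ (commutator_mono inf_le_left inf_le_left)
  set W := Q ⊓ R
  have hWz : W ≤ normalizer (zc Q : Set P) := fun w hw => by
    refine centralizer_le_normalizer _ (mem_centralizer_iff.2 fun y hy => ?_)
    exact (zc_comm hy hw.1).symm
  rw [commutator_le]
  intro x hx y hy
  have hmem : ∀ g ∈ Q, ∃ w ∈ W, ∃ z ∈ zc Q, w * z = g := fun g hg => by
    rw [← inf_sup_zc hQ hR] at hg
    exact (Core.mem_sup_of_le_normalizer hWz).1 hg
  obtain ⟨w, hw, z, hz, rfl⟩ := hmem x hx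
  obtain ⟨w', hw', z', hz', rfl⟩ := hmem y hy
  have c1 : ∀ g ∈ Q, Commute g z := fun g hg => zc_comm hz hg
  have c2 : ∀ g ∈ Q, Commute g z' := fun g hg => zc_comm hz' hg
  have e : ⁅w * z, w' * z'⁆ = ⁅w, w'⁆ := by
    simp only [commutatorElement_def, mul_inv_rev]
    calc w * z * (w' * z') * (z⁻¹ * w⁻¹) * (z'⁻¹ * w'⁻¹)
        = w * (z * (w' * z') * z⁻¹) * w⁻¹ * z'⁻¹ * w'⁻¹ := by simp [mul_assoc]
      _ = w * (w' * z') * w⁻¹ * z'⁻¹ * w'⁻¹ := by
          rw [← (c1 (w' * z') (Q.mul_mem hw'.1 (zc_le Q hz'))).eq, mul_inv_cancel_right]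
      _ = w * w' * (z' * w⁻¹ * z'⁻¹) * w'⁻¹ := by simp [mul_assoc]
      _ = w * w' * w⁻¹ * w'⁻¹ := by
          rw [← (c2 w⁻¹ (Q.inv_mem hw.1)).eq, mul_inv_cancel_right]
  rw [e]
  exact commutator_mem_commutator hw hw'

theorem card_minimal_eq {Q R : Subgroup P} (hQ : IsMinimalCentrallyLarge Q) (hR : IsMinimalCentrallyLarge R) :
    Nat.card ↥Q = Nat.card ↥R ∧ Nat.card ↥(zc Q) = Nat.card ↥(zc R) := by
  set W := Q ⊓ R with hW
  have key : ∀ Q' R' : Subgroup P, IsMinimalCentrallyLarge Q' → IsMinimalCentrallyLarge R' →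
      Nat.card ↥Q' * Nat.card ↥Q' * Nat.card ↥(zc (Q' ⊓ R')) =
        Nat.card ↥(Q' ⊓ R') * maxCentralProduct P := by
    intro Q' R' h1 h2
    have hl := large_lattice (large_lattice (cl_large h1.1) (cl_large h2.1)).2.1
      (show IsCentralizerLarge (zc Q') by
        rw [← cl_centralizer h1.1]; exact (large_centralizer (cl_large h1.1)).1)
    have h3 := hl.2.2.2.1
    rw [inf_sup_zc h1 h2.1] at h3
    have e : Q' ⊓ R' ⊓ zc Q' = zc (Q' ⊓ R') := by
      ext x
      constructor
      · rintro ⟨h, h'⟩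
        exact ⟨h, mem_centralizer_iff.2 fun y hy => zc_comm h' hy.1⟩
      · intro hx
        refine ⟨hx.1, hx.1.1, mem_centralizer_iff.2 fun y hy => ?_⟩
        have hy' : y ∈ (Q' ⊓ R') ⊔ zc Q' := by rwa [inf_sup_zc h1 h2.1]
        have hle : (Q' ⊓ R') ⊔ zc Q' ≤ centralizer ({x} : Set P) :=
          sup_le (fun w hw => mem_centralizer_singleton_iff.2 (zc_comm hx hw))
            (fun w hw => mem_centralizer_singleton_iff.2 (zc_comm hw hx.1.1).symm)
        exact mem_centralizer_singleton_iff.1 (hle hy')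
    rw [e] at h3
    have hf : Nat.card ↥Q' * Nat.card ↥(zc Q') = maxCentralProduct P := by rw [← card_zc]; exact h1.1
    rw [← hf, mul_assoc, ← h3]
    ring
  have k1 := key Q R hQ hR
  have k2 := key R Q hR hQ
  rw [inf_comm R Q] at k2
  have h4 : Nat.card ↥Q = Nat.card ↥R :=
    Nat.mul_self_inj.1 (Nat.eq_of_mul_eq_mul_right Nat.card_pos (k1.trans k2.symm))
  refine ⟨h4, ?_⟩
  have f1 : Nat.card ↥Q * Nat.card ↥(zc Q) = maxCentralProduct P := by rw [← card_zc]; exact hQ.1
  have f2 : Nat.card ↥R * Nat.card ↥(zc R) = maxCentralProduct P := by rw [← card_zc]; exact hR.1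
  rw [h4] at f1
  exact Nat.eq_of_mul_eq_mul_left Nat.card_pos (f1.trans f2.symm)

theorem maxAbelian_of_abelian {Q : Subgroup P} (hQ : IsMinimalCentrallyLarge Q)
    (hab : IsMulCommutative ↥Q) {A : Subgroup P} (hA : A ∈ maxAbelianSubgroups P) :
    IsMinimalCentrallyLarge A ∧ Nat.card ↥A = Nat.card ↥Q := by
  have hz : ∀ X : Subgroup P, IsMulCommutative ↥X → zc X = X := fun X hX =>
    inf_eq_left.2 fun x hx => mem_centralizer_iff.2 fun y hy =>
      (congrArg Subtype.val (hX.is_comm.comm ⟨y, hy⟩ ⟨x, hx⟩) :)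
  have f1 : Nat.card ↥Q * Nat.card ↥Q = maxCentralProduct P := by
    have := hQ.1
    unfold IsCentrallyLarge at this
    rwa [card_zc, hz Q hab] at this
  have hge := hA.2 Q hab
  have hle : Nat.card ↥A * Nat.card ↥A ≤ maxCentralProduct P := by
    have := central_le A
    rwa [card_zc, hz A hA.1] at this
  have heq : Nat.card ↥A = Nat.card ↥Q :=
    le_antisymm (Nat.mul_self_le_mul_self_iff.1 (hle.trans f1.ge)) hge
  refine ⟨⟨?_, fun X hXA hX => eq_of_le_of_card_ge hXA ?_⟩, heq⟩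
  · unfold IsCentrallyLarge
    rw [card_zc, hz A hA.1, heq, f1]
  · unfold IsCentrallyLarge at hX
    rw [card_zc, ← f1, ← heq] at hX
    exact Nat.mul_self_le_mul_self_iff.1 (hX.ge.trans (Nat.mul_le_mul_left _ (card_le_of_le (zc_le X))))

end Cfsg.Lib.Local.CLarge
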