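import Cfsg.Agent.Lib.Local.CentrallyLarge
import Mathlib.GroupTheory.Nilpotent

/-!
A replacement theorem for minimal centrally large subgroups: some minimal centrally large subgroup
of a finite nilpotent group is normalized by every abelian subgroup of largest order, hence by
every minimal centrally large subgroup.
-/

set_option autoImplicit false
set_option linter.style.haveILetI false

namespace Cfsg.Lib.Local.CLarge

open Subgroup Cfsg.Lib.Local
open scoped commutatorElement Pointwise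

variable {P : Type*} [Group P] [Finite P]

omit [Finite P] in
theorem commute_of_comm {A : Subgroup P} (h : IsMulCommutative ↥A) {x y : P} (hx : x ∈ A) (hy : y ∈ A) :
    x * y = y * x :=
  (congrArg Subtype.val (h.is_comm.comm ⟨x, hx⟩ ⟨y, hy⟩) :)

/-- A set of products has at most `|H| |K| / |H ∩ K|` elements. -/
theorem card_mul_inf_le {H K S : Subgroup P} (hS : ∀ s ∈ S, ∃ h ∈ H, ∃ k ∈ K, h * k = s) :
    Nat.card ↥S * Nat.card ↥(H ⊓ K) ≤ Nat.card ↥H * Nat.card ↥K := by
  classical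
  choose h hh k hk he using hS
  let F : ↥S × ↥(H ⊓ K) → ↥H × ↥K := fun sc =>
    (⟨h sc.1.1 sc.1.2 * sc.2.1, H.mul_mem (hh _ _) sc.2.2.1⟩,
      ⟨sc.2.1⁻¹ * k sc.1.1 sc.1.2, K.mul_mem (K.inv_mem sc.2.2.2) (hk _ _)⟩)
  have hF : Function.Injective F := by
    rintro ⟨⟨s, hs⟩, ⟨c, hc⟩⟩ ⟨⟨s', hs'⟩, ⟨c', hc'⟩⟩ e
    simp only [F, Prod.mk.injEq, Subtype.mk.injEq] at e
    obtain ⟨e1, e2⟩ := e
    have hss : s = s' := by
      rw [← he s hs, ← he s' hs']
      calc h s hs * k s hs = (h s hs * c) * (c⁻¹ * k s hs) := by group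
        _ = (h s' hs' * c') * (c'⁻¹ * k s' hs') := by rw [e1, e2]
        _ = _ := by group
    subst hss
    have hcc : c = c' := mul_left_cancel e1
    subst hcc
    rfl
  rw [← Nat.card_prod, ← Nat.card_prod]
  exact Nat.card_le_card_of_injective F hF

theorem map_cl {Q : Subgroup P} (hQ : IsCentrallyLarge Q) (e : P ≃* P) :
    IsCentrallyLarge (Q.map e.toMonoidHom) := by
  unfold IsCentrallyLarge at *
  rw [← hQ]
  congr 1
  · exact card_map_of_injective e.injective
  · exact (Nat.card_congr (Subgroup.centerCongr (Q.equivMapOfInjective e.toMonoidHom e.injective)).toEquiv).symm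

/-- One replacement step. -/
theorem exists_replacement {Q A : Subgroup P} (hQ : IsMinimalCentrallyLarge Q)
    (hA : A ∈ maxAbelianSubgroups P) {x : P} (hxA : x ∈ A)
    (hx : ¬ (∀ q ∈ Q, x * q * x⁻¹ ∈ Q)) :
    ∃ T X : Subgroup P, IsMinimalCentrallyLarge X ∧ Q ≤ T ∧ X ≤ T ∧ ¬ T ≤ X ∧
      (∀ e ∈ T, x * e * x⁻¹ * e⁻¹ ∈ T) ∧ ∀ e ∈ T, x * e * x⁻¹ * e⁻¹ ∈ Q → e ∈ X := by
  classical
  obtain ⟨-, hprod, hB⟩ := cl_sup_maxAbelian hQ.1 hA
  set f := maxCentralProduct P with hf
  set z := zc Q with hz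
  set W := Q ⊓ A with hW
  set B := z ⊔ W with hBdef
  set σ : P ≃* P := MulAut.conj x⁻¹ with hσ
  set Q2 := Q.map σ.toMonoidHom with hQ2
  have hQ2cl : IsCentrallyLarge Q2 := map_cl hQ.1 σ
  have mem2 : ∀ q : P, q ∈ Q2 ↔ x * q * x⁻¹ ∈ Q := fun q => by
    constructor
    · rintro ⟨r, hr, rfl⟩
      simpa [hσ, mul_assoc] using hr
    · intro h
      exact ⟨_, h, by simp [hσ, mul_assoc]⟩
  have hWx : ∀ w ∈ W, x * w * x⁻¹ = w := fun w hw => by
    rw [commute_of_comm hA.1 hxA hw.2, mul_inv_cancel_right]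
  set T := Q ⊔ Q2 with hT
  set U := Q ⊓ Q2 with hU
  set D := centralizer (U : Set P) with hD
  set T' := centralizer (T : Set P) with hT'
  have hQl := cl_large hQ.1
  have hQ2l := cl_large hQ2cl
  obtain ⟨hTl, hUl, -, hTU, hDeq, -⟩ := large_lattice hQl hQ2l
  rw [← hT, ← hU] at hTU
  rw [← hU, ← hD] at hDeq
  have hTU' : Nat.card ↥T * Nat.card ↥U = Nat.card ↥Q * Nat.card ↥Q := by
    rw [← hTU, hQ2, card_map_of_injective σ.injective]
  have hnz : Nat.card ↥Q * Nat.card ↥z = f := by rw [hz, ← card_zc]; exact hQ.1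
  have htt : Nat.card ↥T * Nat.card ↥T' = f := by rw [hf, maxCentralProduct_eq]; exact hTl
  have hud : Nat.card ↥U * Nat.card ↥D = f := by rw [hf, maxCentralProduct_eq]; exact hUl
  have hWU : W ≤ U := fun w hw => ⟨hw.1, (mem2 w).2 (by rw [hWx w hw]; exact hw.1)⟩
  have hT'z : T' ≤ z := by
    rw [hz, ← cl_centralizer hQ.1]
    exact centralizer_le (SetLike.coe_subset_coe.2 le_sup_left)
  have hT'Q2 : T' ≤ Q2 :=
    (centralizer_le (SetLike.coe_subset_coe.2 le_sup_right)).trans (cl_iff.1 hQ2cl).2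
  have hT'U : T' ≤ U := le_inf (hT'z.trans (zc_le Q)) hT'Q2
  have hDT : D ≤ T := by
    rw [hDeq]
    exact sup_le ((cl_iff.1 hQ.1).2.trans le_sup_left) ((cl_iff.1 hQ2cl).2.trans le_sup_right)
  -- `T = Q B1`
  have hTQA : T ≤ Q ⊔ A := by
    refine sup_le le_sup_left ?_
    rintro q ⟨r, hr, rfl⟩
    have h1 := mem_sup_right (S := Q) hxA
    simpa [hσ] using mul_mem (mul_mem (inv_mem h1) (mem_sup_left hr)) h1
  set B1 := T ⊓ A with hB1
  have hdec : ∀ e ∈ T, ∃ q ∈ Q, ∃ b ∈ B1, q * b = e := fun e he => by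
    have h1 : e ∈ ((Q ⊔ A : Subgroup P) : Set P) := hTQA he
    rw [hprod] at h1
    obtain ⟨q, hq, b, hb, rfl⟩ := h1
    refine ⟨q, hq, b, ⟨?_, hb⟩, rfl⟩
    simpa using T.mul_mem (T.inv_mem (mem_sup_left hq)) he
  have hB1x : ∀ b ∈ B1, x * b = b * x := fun b hb => commute_of_comm hA.1 hxA hb.2
  have hcomm : ∀ q : P, ∀ b ∈ B1, x * (q * b) * x⁻¹ * (q * b)⁻¹ = x * q * x⁻¹ * q⁻¹ := fun q b hb => by
    have : b * x⁻¹ = x⁻¹ * b := by
      have h2 := commute_of_comm hA.1 (A.inv_mem hxA) hb.2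
      exact h2.symm
    rw [mul_inv_rev, ← mul_assoc, mul_assoc x, mul_assoc q, this]
    simp [mul_assoc]
  have hQB1 : Q ⊓ B1 = W := by
    rw [hB1, ← inf_assoc, inf_eq_left.2 (le_sup_left : Q ≤ T)]
  have ht : Nat.card ↥T * Nat.card ↥W ≤ Nat.card ↥Q * Nat.card ↥B1 := by
    rw [← hQB1]; exact card_mul_inf_le hdec
  -- sizes
  set s := z ⊓ A with hs
  have hzW : z ⊓ W = s := by
    rw [hW, ← inf_assoc, inf_eq_left.2 (zc_le Q)]
  have hWz : W ≤ normalizer (z : Set P) := fun w hw =>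
    centralizer_le_normalizer _ (mem_centralizer_iff.2 fun y hy => (zc_comm hy hw.1).symm)
  have hds : Nat.card ↥B * Nat.card ↥s = Nat.card ↥z * Nat.card ↥W := by
    refine le_antisymm ?_ ?_
    · rw [← hzW]
      refine card_mul_inf_le fun e he => ?_
      rw [hBdef, sup_comm] at he
      obtain ⟨w, hw, y, hy, rfl⟩ := (Core.mem_sup_of_le_normalizer hWz).1 he
      exact ⟨y, hy, w, hw, (zc_comm hy hw.1).symm⟩
    · rw [← hzW]; exact card_mul_card_le z W
  have hT'A : T' ⊓ A = s := by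
    refine le_antisymm (inf_le_inf_right A hT'z) (le_inf (fun y hy => ?_) inf_le_right)
    refine mem_centralizer_iff.2 fun e he => ?_
    obtain ⟨q, hq, b, hb, rfl⟩ := hdec e he
    rw [mul_assoc, commute_of_comm hA.1 hb.2 hy.2, ← mul_assoc, zc_comm hy.1 hq, mul_assoc]
  set B2 := T' ⊔ B1 with hB2
  have hT'B1 : T' ⊓ B1 = s := by
    rw [hB1, ← inf_assoc,
      inf_eq_left.2 ((hT'U.trans inf_le_left).trans (le_sup_left : Q ≤ T)), hT'A]
  have hB1c : B1 ≤ centralizer (T' : Set P) := fun b hb =>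
    mem_centralizer_iff.2 fun y hy => (mem_centralizer_iff.1 hy b hb.1).symm
  have hB2ab : IsMulCommutative ↥B2 := by
    have h1 : B2 ≤ centralizer (B2 : Set P) := by
      rw [hB2, centralizer_sup]
      refine sup_le (le_inf (fun y hy => ?_) (le_centralizer_iff.1 hB1c)) (le_inf hB1c (fun b hb => ?_))
      · exact mem_centralizer_iff.2 fun y' hy' =>
          mem_centralizer_iff.1 hy y' ((hT'U.trans inf_le_left |>.trans le_sup_left) hy')
      · exact mem_centralizer_iff.2 fun b' hb' => commute_of_comm hA.1 hb'.2 hb.2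
    exact ⟨⟨fun a b => Subtype.ext (mem_centralizer_iff.1 (h1 b.2) a a.2)⟩⟩
  have hdA : Nat.card ↥B = Nat.card ↥A := le_antisymm (hA.2 _ hB.1) (hB.2 _ hA.1)
  set n := Nat.card ↥Q with hn
  set d := Nat.card ↥B with hd
  set t := Nat.card ↥T
  set u := Nat.card ↥U
  set t' := Nat.card ↥T'
  have hnpos : 0 < n := Nat.card_pos
  have hspos : 0 < Nat.card ↥s := Nat.card_pos
  have htpos : 0 < t := Nat.card_pos
  have huz : u * Nat.card ↥z = n * t' := by
    refine Nat.eq_of_mul_eq_mul_left htpos ?_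
    calc t * (u * Nat.card ↥z) = (t * u) * Nat.card ↥z := by ring
      _ = n * (n * Nat.card ↥z) := by rw [hTU']; ring
      _ = n * (t * t') := by rw [hnz, htt]
      _ = _ := by ring
  have hB2card : d ≤ Nat.card ↥B2 := by
    refine Nat.le_of_mul_le_mul_right ?_ hspos
    have h1 := card_mul_card_le T' B1
    rw [← hB2, hT'B1] at h1
    refine le_trans ?_ h1
    refine Nat.le_of_mul_le_mul_right ?_ hnpos
    calc d * Nat.card ↥s * n = (n * Nat.card ↥z) * Nat.card ↥W := by rw [hds]; ring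
      _ = t' * (t * Nat.card ↥W) := by rw [hnz, ← htt]; ring
      _ ≤ t' * (n * Nat.card ↥B1) := Nat.mul_le_mul_left _ ht
      _ = _ := by ring
  have hB2max : B2 ∈ maxAbelianSubgroups P :=
    ⟨hB2ab, fun X hX => (hB.2 X hX).trans hB2card⟩
  have hB2c := centralizer_maxAbelian hB2max
  have hB2d : Nat.card ↥B2 = d := le_antisymm (hB.2 _ hB2ab) hB2card
  -- the new subgroup
  set X := U ⊔ B2 with hX
  set M := T ⊓ centralizer (W : Set P) with hM
  have hMQ : M ⊓ Q ≤ B := fun q hq => by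
    rw [← centralizer_maxAbelian hB, hBdef, centralizer_sup]
    exact ⟨mem_centralizer_iff.2 fun y hy => (zc_comm hy hq.2).symm, hq.1.2⟩
  have hm : Nat.card ↥M * n ≤ t * d := by
    refine (card_mul_card_le M Q).trans (Nat.mul_le_mul (card_le_of_le ?_) (card_le_of_le hMQ))
    exact sup_le inf_le_left le_sup_left
  have hB2T : B2 ≤ T := sup_le ((hT'U.trans inf_le_left).trans le_sup_left) inf_le_left
  have hB2W : B2 ≤ centralizer (W : Set P) := by
    refine sup_le (fun y hy => ?_) (fun b hb => ?_)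
    · exact mem_centralizer_iff.2 fun w hw => mem_centralizer_iff.1 hy w (mem_sup_left hw.1)
    · exact mem_centralizer_iff.2 fun w hw => commute_of_comm hA.1 hw.2 hb.2
  have hDB2 : Nat.card ↥z ≤ Nat.card ↥(D ⊓ B2) := by
    have h1 := card_mul_card_le D B2
    have h2 : Nat.card ↥(D ⊔ B2) ≤ Nat.card ↥M :=
      card_le_of_le (sup_le (le_inf hDT (centralizer_le (SetLike.coe_subset_coe.2 hWU))) (le_inf hB2T hB2W))
    rw [hB2d] at h1
    have h3 : Nat.card ↥D * d ≤ Nat.card ↥M * Nat.card ↥(D ⊓ B2) :=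
      h1.trans (Nat.mul_le_mul_right _ h2)
    have h4 : Nat.card ↥D * n ≤ t * Nat.card ↥(D ⊓ B2) := by
      refine Nat.le_of_mul_le_mul_right ?_ (Nat.card_pos : 0 < Nat.card ↥B)
      calc Nat.card ↥D * n * d = (Nat.card ↥D * d) * n := by ring
        _ ≤ (Nat.card ↥M * Nat.card ↥(D ⊓ B2)) * n := Nat.mul_le_mul_right _ h3
        _ = (Nat.card ↥M * n) * Nat.card ↥(D ⊓ B2) := by ring
        _ ≤ (t * d) * Nat.card ↥(D ⊓ B2) := Nat.mul_le_mul_right _ hm
        _ = _ := by ring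
    refine Nat.le_of_mul_le_mul_left ?_ htpos
    refine le_trans (le_of_eq ?_) h4
    refine Nat.eq_of_mul_eq_mul_left hnpos ?_
    calc n * (t * Nat.card ↥z) = t * (n * Nat.card ↥z) := by ring
      _ = (t * u) * Nat.card ↥D := by rw [hnz, ← hud]; ring
      _ = _ := by rw [hTU']; ring
  have hT'W : W ≤ normalizer (T' : Set P) := fun w hw =>
    centralizer_le_normalizer _
      (mem_centralizer_iff.2 fun y hy => (mem_centralizer_iff.1 hy w (mem_sup_left hw.1)).symm)
  have hUB2 : U ⊓ B2 ≤ T' ⊔ W := by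
    intro e he
    have hB1n : B1 ≤ normalizer (T' : Set P) := hB1c.trans (centralizer_le_normalizer _)
    have he2 : e ∈ B1 ⊔ T' := by rw [sup_comm]; exact he.2
    obtain ⟨b, hb, y, hy, rfl⟩ := (Core.mem_sup_of_le_normalizer hB1n).1 he2
    refine mul_mem (mem_sup_right ⟨?_, hb.2⟩) (mem_sup_left hy)
    simpa using Q.mul_mem he.1.1 (Q.inv_mem ((hT'U hy).1))
  have hxn : n ≤ Nat.card ↥X := by
    have h1 := card_mul_card_le U B2
    rw [← hX, hB2d] at h1
    have h2 : Nat.card ↥(U ⊓ B2) * Nat.card ↥s ≤ t' * Nat.card ↥W := by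
      have hs' : T' ⊓ W = s := by
        rw [hW, ← inf_assoc, inf_eq_left.2 (hT'U.trans inf_le_left), hT'A]
      rw [← hs']
      refine card_mul_inf_le fun e he => ?_
      have he' : e ∈ W ⊔ T' := by rw [sup_comm]; exact hUB2 he
      obtain ⟨w, hw, y, hy, rfl⟩ := (Core.mem_sup_of_le_normalizer hT'W).1 he'
      exact ⟨y, hy, w, hw, (mem_centralizer_iff.1 hy w (mem_sup_left hw.1)).symm⟩
    have h3 : u * Nat.card ↥z * Nat.card ↥W ≤ Nat.card ↥X * t' * Nat.card ↥W := by
      calc u * Nat.card ↥z * Nat.card ↥W = (u * d) * Nat.card ↥s := by rw [mul_assoc u, ← hds]; ring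
        _ ≤ (Nat.card ↥X * Nat.card ↥(U ⊓ B2)) * Nat.card ↥s := Nat.mul_le_mul_right _ h1
        _ = Nat.card ↥X * (Nat.card ↥(U ⊓ B2) * Nat.card ↥s) := by ring
        _ ≤ Nat.card ↥X * (t' * Nat.card ↥W) := Nat.mul_le_mul_left _ h2
        _ = _ := by ring
    have h4 := Nat.le_of_mul_le_mul_right h3 Nat.card_pos
    rw [huz] at h4
    exact Nat.le_of_mul_le_mul_right h4 Nat.card_pos
  have hCX : centralizer (X : Set P) = D ⊓ B2 := by
    rw [hX, centralizer_sup, hB2c]
  have hmeas := measure_le X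
  rw [← maxCentralProduct_eq, ← hf, hCX] at hmeas
  have hXn : Nat.card ↥X = n := by
    refine le_antisymm ?_ hxn
    refine Nat.le_of_mul_le_mul_right ?_ (Nat.card_pos : 0 < Nat.card ↥z)
    exact ((Nat.mul_le_mul_left _ hDB2).trans hmeas).trans hnz.ge
  have hXcl : IsCentrallyLarge X := by
    refine cl_iff.2 ⟨large_iff_le.2 ?_, ?_⟩
    · rw [hCX, ← maxCentralProduct_eq, ← hf, ← hnz, hXn]
      exact Nat.mul_le_mul_left _ hDB2
    · rw [hCX]; exact inf_le_right.trans le_sup_right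
  have hXmin : IsMinimalCentrallyLarge X := by
    obtain ⟨X0, ⟨hX0, hX0X⟩, hmin⟩ := Set.Finite.exists_minimal
      (s := {Y : Subgroup P | IsCentrallyLarge Y ∧ Y ≤ X}) (Set.toFinite _) ⟨X, hXcl, le_rfl⟩
    have hX0min : IsMinimalCentrallyLarge X0 :=
      ⟨hX0, fun Y hY hYc => le_antisymm hY (hmin ⟨hYc, hY.trans hX0X⟩ hY)⟩
    have := (card_minimal_eq hX0min hQ).1
    rwa [← eq_of_le_of_card_ge hX0X (by rw [hXn, this])]
  refine ⟨T, X, hXmin, le_sup_left, sup_le (inf_le_left.trans le_sup_left) hB2T, fun h => ?_, ?_, ?_⟩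
  · apply hx
    intro q hq
    have hQT : Q = T := eq_of_le_of_card_ge le_sup_left (by rw [← hn, ← hXn]; exact card_le_of_le h)
    have hQ2Q : Q2 = Q := eq_of_le_of_card_ge (le_sup_right.trans hQT.ge)
      (by rw [hQ2, card_map_of_injective σ.injective])
    exact (mem2 q).1 (by rw [hQ2Q]; exact hq)
  · intro e he
    obtain ⟨q, hq, b, hb, rfl⟩ := hdec e he
    rw [hcomm q b hb]
    refine T.mul_mem ?_ (T.inv_mem (mem_sup_left hq))
    -- `x T x⁻¹ = T`
    have hconj : T.map σ.toMonoidHom = T := by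
      refine eq_of_le_of_card_ge ?_ (by rw [card_map_of_injective σ.injective])
      rintro y ⟨r, hr, rfl⟩
      obtain ⟨q', hq', b', hb', rfl⟩ := hdec r hr
      rw [map_mul]
      refine T.mul_mem (mem_sup_right ⟨q', hq', rfl⟩) ?_
      have : σ.toMonoidHom b' = b' := by
        simp [hσ, mul_assoc, ← hB1x b' hb']
      rw [this]; exact hb'.1
    have hqT : q ∈ T := mem_sup_left hq
    rw [← hconj] at hqT
    obtain ⟨r, hr, rfl⟩ := hqT
    simpa [hσ, mul_assoc] using hr
  · intro e he heQ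
    obtain ⟨q, hq, b, hb, rfl⟩ := hdec e he
    rw [hcomm q b hb] at heQ
    refine mul_mem (mem_sup_left ⟨hq, (mem2 q).2 ?_⟩) (mem_sup_right (mem_sup_right hb))
    simpa [mul_assoc] using Q.mul_mem heQ hq

/-- Some minimal centrally large subgroup is normalized by all abelian subgroups of largest order. -/
theorem exists_minimal_normalized [Group.IsNilpotent P] :
    ∃ Q : Subgroup P, IsMinimalCentrallyLarge Q ∧
      ∀ A ∈ maxAbelianSubgroups P, A ≤ normalizer (Q : Set P) := by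
  classical
  obtain ⟨c, hc⟩ := Group.IsNilpotent.nilpotent P
  haveI : Nonempty {Q : Subgroup P // IsMinimalCentrallyLarge Q} :=
    exists_minimal_cl.elim fun Q hQ => ⟨⟨Q, hQ⟩⟩
  obtain ⟨⟨Q, hQ⟩, hmax⟩ := Finite.exists_max fun Q : {Q : Subgroup P // IsMinimalCentrallyLarge Q} =>
    toLex fun j : Fin (c + 1) => Nat.card ↥(Q.1 ⊓ Subgroup.upperCentralSeries P (j : ℕ))
  refine ⟨Q, hQ, fun A hA => ?_⟩
  have key : ∀ x ∈ A, ∀ q ∈ Q, x * q * x⁻¹ ∈ Q := by
    intro x hxA
    by_contra hx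
    obtain ⟨T, X, hX, hQT, hXT, hnle, hstab, hstep⟩ := exists_replacement hQ hA hxA hx
    have claim : ∀ j, (∀ k < j, X ⊓ Subgroup.upperCentralSeries P k ≤ Q) → T ⊓ Subgroup.upperCentralSeries P j ≤ X := by
      intro j
      induction j with
      | zero =>
        intro _ e he
        have h1 : e = 1 := by simpa using he.2
        rw [h1]; exact X.one_mem
      | succ j ih =>
        intro h e he
        refine hstep e he.1 (h j (Nat.lt_succ_self j) ⟨ih (fun k hk => h k (hk.trans (Nat.lt_succ_self j)))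
          ⟨hstab e he.1, ?_⟩, ?_⟩)
        all_goals
          have h1 := Subgroup.mem_upperCentralSeries_succ_iff.1 he.2 x
          rw [show x * e * x⁻¹ * e⁻¹ = ⁅e, x⁆⁻¹ by simp [commutatorElement_def, mul_assoc]]
          exact Subgroup.inv_mem _ h1
    have hex : ∃ k, k ≤ c ∧ ¬ X ⊓ Subgroup.upperCentralSeries P k ≤ Q := by
      by_contra h
      push_neg at h
      have h1 := claim c (fun k hk => h k hk.le)
      rw [hc, inf_top_eq] at h1
      exact hnle h1
    obtain ⟨hk, hbad⟩ := Nat.find_spec hex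
    set k := Nat.find hex with hkdef
    have hgood : ∀ i < k, X ⊓ Subgroup.upperCentralSeries P i ≤ Q := fun i hi => by
      have := Nat.find_min hex hi
      push_neg at this
      exact this (hi.le.trans hk)
    have hle : ∀ i ≤ k, Q ⊓ Subgroup.upperCentralSeries P i ≤ X ⊓ Subgroup.upperCentralSeries P i := fun i hi =>
      le_inf ((inf_le_inf_right _ hQT).trans (claim i fun l hl => hgood l (lt_of_lt_of_le hl hi))) inf_le_right
    refine absurd (hmax ⟨X, hX⟩) (not_le.2 ?_)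
    refine ⟨⟨k, Nat.lt_succ_of_le hk⟩, fun i hi => ?_, ?_⟩
    · have hi' : (i : ℕ) < k := hi
      exact congrArg (fun S : Subgroup P => Nat.card ↥S)
        (le_antisymm (hle i hi'.le) (le_inf (hgood i hi') inf_le_right))
    · refine lt_of_le_of_ne (card_le_of_le (hle k le_rfl)) fun he => hbad ?_
      have h2 := eq_of_le_of_card_ge (hle k le_rfl) he.ge
      exact h2 ▸ inf_le_left
  intro x hx
  rw [mem_normalizer_iff]
  intro q
  refine ⟨key x hx q, fun h => ?_⟩
  simpa [mul_assoc] using key x⁻¹ (A.inv_mem hx) _ h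

end Cfsg.Lib.Local.CLarge
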