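import Cfsg.Agent.Lib.Core.Layer
import Cfsg.Agent.Lib.Coprime.PGroupAction
import Cfsg.Agent.Lib.Fusion.Basic

/-!
# Subnormal subgroups of `F*(A)` containing their centralizers
-/

set_option autoImplicit false

namespace Cfsg.Lib.Local.SelfCent

open Subgroup
open scoped commutatorElement

variable {A : Type*} [Group A] [Finite A]

/-- A subgroup containing every element of prime power order is everything. -/
theorem le_of_primePow {H C : Subgroup A}
    (h : ∀ (t : ℕ), t.Prime → ∀ x ∈ H, (∃ k, x ^ t ^ k = 1) → x ∈ C) : H ≤ C := by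
  rw [← subgroupOf_eq_top, ← index_eq_one]
  by_contra hne
  obtain ⟨q, hq, hd⟩ := Nat.exists_prime_and_dvd hne
  haveI : Fact q.Prime := ⟨hq⟩
  obtain ⟨P⟩ : Nonempty (Sylow q H) := inferInstance
  refine P.not_dvd_index (hd.trans (index_dvd_of_le fun x hx => ?_))
  obtain ⟨k, hk⟩ := P.isPGroup' ⟨x, hx⟩
  exact h q hq x x.2 ⟨k, congrArg (fun y : (P : Subgroup H) => ((y : H) : A)) hk⟩

/-- A prime power element of the Fitting subgroup lies in the corresponding core. -/
theorem mem_pCore_of_fitting {t : ℕ} (ht : t.Prime) {f : A} (hf : f ∈ Cfsg.fittingSubgroup A) {k : ℕ}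
    (hk : f ^ t ^ k = 1) : f ∈ Cfsg.pCore t A := by
  haveI : Fact t.Prime := ⟨ht⟩
  haveI := Core.fittingSubgroup_normal' A
  haveI := Core.fittingSubgroup_isNilpotent A
  set N := Cfsg.fittingSubgroup A
  have hp : IsPGroup t (zpowers (⟨f, hf⟩ : N)) := by
    obtain ⟨j, -, hj⟩ := (Nat.dvd_prime_pow ht).1
      (orderOf_dvd_of_pow_eq_one (Subtype.ext (by simpa using hk) : (⟨f, hf⟩ : N) ^ t ^ k = 1))
    exact IsPGroup.of_card (n := j) (by rw [Nat.card_zpowers, hj])
  obtain ⟨P, hP⟩ := hp.exists_le_sylow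
  haveI := Sylow.characteristic_of_normal P inferInstance
  exact Core.le_pCore' (Core.normal_map_char_of_normal _) (P.isPGroup'.map _)
    ⟨⟨f, hf⟩, hP (mem_zpowers _), rfl⟩

theorem pCore_commute {r t : ℕ} (hr : r.Prime) (ht : t.Prime) (h : r ≠ t) :
    ⁅Cfsg.pCore r A, Cfsg.pCore t A⁆ = ⊥ := by
  haveI : Fact r.Prime := ⟨hr⟩
  haveI : Fact t.Prime := ⟨ht⟩
  have hd : Disjoint (Cfsg.pCore r A) (Cfsg.pCore t A) :=
    IsPGroup.disjoint_of_ne r t h _ _ (Core.pCore_isPGroup r A) (Core.pCore_isPGroup t A)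
  exact le_bot_iff.1 ((commutator_le_inf _ _).trans hd.le_bot)

variable (S : Subgroup A) (hSF : S ≤ Cfsg.generalizedFittingSubgroup A) (hSsn : S.IsSubnormal)
  (hSC : Cfsg.generalizedFittingSubgroup A ⊓ centralizer (S : Set A) ≤ S)

include hSC hSsn in
theorem layer_le : Cfsg.layer A ≤ S := by
  refine sSup_le fun K hK => ?_
  rcases Core.component_le_or_commute hK hSsn with h | h
  · exact h
  · exact (le_inf ((Core.le_layer hK).trans Core.layer_le_generalizedFitting)
      (commutator_eq_bot_iff_le_centralizer.1 h)).trans hSC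

include hSF hSsn hSC in
/-- `O_r(A)` centralizing the `r`-part of `S` lies in `S`. -/
theorem pCore_inf_centralizer {r : ℕ} (hr : r.Prime) :
    Cfsg.pCore r A ⊓ centralizer ((S ⊓ Cfsg.pCore r A : Subgroup A) : Set A) ≤ S := by
  intro x hx
  haveI : Fact r.Prime := ⟨hr⟩
  refine hSC ⟨Core.fitting_le_generalizedFitting (Core.pCore_le_fittingSubgroup r A hx.1), ?_⟩
  have hF : S ⊓ Cfsg.fittingSubgroup A ≤ centralizer ({x} : Set A) := by
    refine le_of_primePow fun t ht f hf ⟨k, hk⟩ => ?_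
    have hft := mem_pCore_of_fitting ht hf.2 hk
    rw [mem_centralizer_singleton_iff]
    by_cases h : t = r
    · subst h
      exact mem_centralizer_iff.1 hx.2 f ⟨hf.1, hft⟩
    · exact Core.commutator_eq_bot_iff_forall.1 (pCore_commute ht hr h) f hft x hx.1
  show x ∈ centralizer (S : Set A)
  rw [mem_centralizer_iff]
  intro s hs
  obtain ⟨e, he, f, hf, rfl⟩ := Core.mem_generalizedFitting.1 (hSF hs)
  have hfS : f ∈ S := by simpa using mul_mem (inv_mem (layer_le S hSsn hSC he)) hs
  have c1 : Commute e x := Core.commutator_eq_bot_iff_forall.1 Core.commutator_layer_fitting e he x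
    (Core.pCore_le_fittingSubgroup r A hx.1)
  exact (c1.mul_left (mem_centralizer_singleton_iff.1 (hF ⟨hfS, hf⟩))).eq

include hSF hSsn hSC in
/-- A `q`-group centralizing the `r`-part of `S` centralizes `O_r(A)`. -/
theorem le_centralizer_pCore {r q : ℕ} (hr : r.Prime) (hq : q.Prime) (hrq : q ≠ r) {X : Subgroup A}
    (hX : IsPGroup q X) (hc : X ≤ centralizer ((S ⊓ Cfsg.pCore r A : Subgroup A) : Set A)) :
    X ≤ centralizer (Cfsg.pCore r A : Set A) := by
  haveI : Fact r.Prime := ⟨hr⟩
  haveI : Fact q.Prime := ⟨hq⟩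
  have hN : ∀ H : Subgroup A, H ≤ normalizer (Cfsg.pCore r A : Set A) := fun H => by
    rw [normalizer_eq_top]; exact le_top
  obtain ⟨k, hk⟩ := IsPGroup.iff_card.1 hX
  have h := Coprime.commutator_eq_bot_of_AxB (p := r) (Cfsg.pCore r A) (S ⊓ Cfsg.pCore r A) X
    (Core.pCore_isPGroup r A) ((Core.pCore_isPGroup r A).to_le inf_le_right)
    (by rw [hk]; exact ((Nat.coprime_primes hq hr).2 hrq).pow_left k) (hN _) (hN _) hc
    (fun v hv => mem_centralizer_iff.2 fun x hx =>
      (mem_centralizer_iff.1 (hc hx) v ⟨pCore_inf_centralizer S hSF hSsn hSC hr hv, hv.1⟩).symm)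
  exact le_centralizer_iff.1 (commutator_eq_bot_iff_le_centralizer.1 h)

include hSF hSsn hSC in
/-- The action of an `S`-invariant `q`-group. -/
theorem invariant_centralizes {q : ℕ} (hq : q.Prime) {X : Subgroup A} (hX : IsPGroup q X)
    (hn : S ≤ normalizer (X : Set A)) :
    X ≤ centralizer (Cfsg.layer A : Set A) ∧
      ∀ r : ℕ, r.Prime → r ≠ q → X ≤ centralizer (Cfsg.pCore r A : Set A) := by
  haveI : Fact q.Prime := ⟨hq⟩
  set E := Cfsg.layer A with hE
  have hES := layer_le S hSsn hSC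
  haveI : E.Normal := inferInstance
  refine ⟨?_, fun r hr hrq => ?_⟩
  · have hEn : E ≤ normalizer (X : Set A) := hES.trans hn
    have hW : E ⊓ X ≤ Cfsg.pCore q A := by
      refine Core.le_pCore_of_isSubnormal ?_ (hX.to_le inf_le_right)
      suffices h : ((E ⊓ X).subgroupOf E).IsSubnormal by
        have h' := h.trans' (inferInstance : E.Normal).isSubnormal
        rwa [map_subgroupOf_eq_of_le inf_le_left] at h'
      refine Subgroup.Normal.isSubnormal ((normal_subgroupOf_iff_le_normalizer inf_le_left).2 ?_)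
      intro e he
      refine mem_normalizer_fintype fun x hx => ⟨?_, (mem_normalizer_iff.1 (hEn he) x).1 hx.2⟩
      exact Subgroup.Normal.conj_mem inferInstance x hx.1 e
    have h1 : ⁅E, X⁆ ≤ E ⊓ X := le_inf (commutator_le_left E X) (commutator_le.2 fun e he x hx => by
      rw [commutatorElement_def]
      exact mul_mem ((mem_normalizer_iff.1 (hEn he) x).1 hx) (inv_mem hx))
    have h2 : ⁅⁅E, X⁆, E⁆ = ⊥ := by
      refine commutator_eq_bot_iff_le_centralizer.2 fun w hw => mem_centralizer_iff.2 fun e he => ?_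
      exact Core.commutator_eq_bot_iff_forall.1 Core.commutator_layer_fitting e he w
        (Core.pCore_le_fittingSubgroup q A (hW (h1 hw)))
    have h3 := commutator_commutator_eq_bot_of_rotate h2 (by rw [commutator_comm X E]; exact h2)
    rw [Core.layer_perfect] at h3
    exact le_centralizer_iff.1 (commutator_eq_bot_iff_le_centralizer.1 h3)
  · haveI : Fact r.Prime := ⟨hr⟩
    refine le_centralizer_pCore S hSF hSsn hSC hr hq (Ne.symm hrq) hX ?_
    refine commutator_eq_bot_iff_le_centralizer.1 (le_bot_iff.1 ?_)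
    refine le_trans (le_inf ?_ ?_) (IsPGroup.disjoint_of_ne q r (Ne.symm hrq) _ _ hX (Core.pCore_isPGroup r A)).le_bot
    · exact commutator_le.2 fun x hx s hs => by
        rw [commutatorElement_def, show x * s * x⁻¹ * s⁻¹ = x * (s * x⁻¹ * s⁻¹) by group]
        exact mul_mem hx ((mem_normalizer_iff.1 (hn hs.1) _).1 (inv_mem hx))
    · exact commutator_le.2 fun x _ s hs => by
        rw [commutatorElement_def]
        exact mul_mem (Subgroup.Normal.conj_mem inferInstance s hs.2 x) (inv_mem hs.2)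

theorem generalizedFitting_le {C : Subgroup A} (hE : Cfsg.layer A ≤ C)
    (hF : ∀ r : ℕ, r.Prime → Cfsg.pCore r A ≤ C) : Cfsg.generalizedFittingSubgroup A ≤ C :=
  sup_le hE (Core.fittingSubgroup_eq_iSup_pCore.trans_le (iSup_le fun r => hF r r.2))

include hSF hSsn hSC in
/-- An `S`-invariant `q`-subgroup is trivial when `q` does not divide `|F(A)|`. -/
theorem invariant_eq_bot {q : ℕ} (hq : q.Prime) (hnd : ¬ q ∣ Nat.card (Cfsg.fittingSubgroup A))
    {X : Subgroup A} (hX : IsPGroup q X) (hn : S ≤ normalizer (X : Set A)) : X = ⊥ := by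
  haveI : Fact q.Prime := ⟨hq⟩
  have hbot : Cfsg.pCore q A = ⊥ := by
    by_contra hne
    haveI := (Subgroup.nontrivial_iff_ne_bot _).2 hne
    obtain ⟨k, hk0, hk⟩ := (Core.pCore_isPGroup q A).nontrivial_iff_card.1 inferInstance
    exact hnd (((dvd_pow_self q hk0.ne').trans hk.symm.dvd).trans
      (card_dvd_of_le (Core.pCore_le_fittingSubgroup q A)))
  obtain ⟨hE, hF⟩ := invariant_centralizes S hSF hSsn hSC hq hX hn
  have hXc : X ≤ centralizer (Cfsg.generalizedFittingSubgroup A : Set A) := by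
    refine le_centralizer_iff.1 (generalizedFitting_le (le_centralizer_iff.1 hE) fun r hr => ?_)
    by_cases h : r = q
    · subst h; rw [hbot]; exact bot_le
    · exact le_centralizer_iff.1 (hF r hr h)
  set Z := Cfsg.generalizedFittingSubgroup A ⊓ centralizer (Cfsg.generalizedFittingSubgroup A : Set A)
  have hXZ : X ≤ Z := le_inf (hXc.trans Core.centralizer_generalizedFitting_le) hXc
  have hZ : Z.Normal := inferInstance
  have hsn : X.IsSubnormal := by
    suffices h : (X.subgroupOf Z).IsSubnormal by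
      have h' := h.trans' hZ.isSubnormal
      rwa [map_subgroupOf_eq_of_le hXZ] at h'
    refine Subgroup.Normal.isSubnormal ⟨fun n hn' g => ?_⟩
    rw [mem_subgroupOf] at hn' ⊢
    have h1 : (g : A) * (n : A) = (n : A) * (g : A) := (mem_centralizer_iff.1 n.2.2 (g : A) g.2.1)
    rw [coe_mul, coe_mul, coe_inv, h1, mul_inv_cancel_right]
    exact hn'
  exact le_bot_iff.1 ((Core.le_pCore_of_isSubnormal hsn hX).trans hbot.le)

include hSF hSsn hSC in
/-- An `S`-invariant `p`-group centralizes the `p'`-elements of `F*(A)`. -/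
theorem invariant_commute {p : ℕ} (hp : p.Prime) {X : Subgroup A} (hX : IsPGroup p X)
    (hn : S ≤ normalizer (X : Set A)) {y : A} (hy : y ∈ Cfsg.generalizedFittingSubgroup A)
    (hcop : (orderOf y).Coprime p) : y ∈ centralizer (X : Set A) := by
  haveI : Fact p.Prime := ⟨hp⟩
  obtain ⟨hE, hF⟩ := invariant_centralizes S hSF hSsn hSC hp hX hn
  set N := Cfsg.layer A ⊔ ⨆ r : {r : ℕ // r.Prime ∧ r ≠ p}, Cfsg.pCore (r : ℕ) A with hN
  have hNC : N ≤ centralizer (X : Set A) :=
    sup_le (le_centralizer_iff.1 hE) (iSup_le fun r => le_centralizer_iff.1 (hF r r.2.1 r.2.2))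
  haveI : (⨆ r : {r : ℕ // r.Prime ∧ r ≠ p}, Cfsg.pCore (r : ℕ) A).Normal := inferInstance
  haveI hNn : N.Normal := inferInstance
  have hle : Cfsg.generalizedFittingSubgroup A ≤ N ⊔ Cfsg.pCore p A :=
    generalizedFitting_le (le_sup_of_le_left le_sup_left) fun r hr => by
      by_cases h : r = p
      · subst h; exact le_sup_right
      · exact le_sup_of_le_left (le_sup_of_le_right
          (le_iSup (fun r : {r : ℕ // r.Prime ∧ r ≠ p} => Cfsg.pCore (r : ℕ) A) ⟨r, hr, h⟩))
  obtain ⟨c, hc, f, hf, he⟩ := mem_sup_of_normal_left.1 (hle hy)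
  refine hNC ?_
  have hfy : QuotientGroup.mk' N y = QuotientGroup.mk' N f := by
    rw [← he, map_mul, show QuotientGroup.mk' N c = 1 from (QuotientGroup.eq_one_iff c).2 hc, one_mul]
  obtain ⟨k, hk⟩ := Core.pCore_isPGroup p A ⟨f, hf⟩
  have hk' : f ^ p ^ k = 1 := congrArg Subtype.val hk
  have h1 : orderOf (QuotientGroup.mk' N y) ∣ p ^ k :=
    orderOf_dvd_of_pow_eq_one (by rw [hfy, ← map_pow, hk', map_one])
  have h2 := Nat.eq_one_of_dvd_coprimes (hcop.pow_right k) (orderOf_map_dvd _ y) h1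
  exact (QuotientGroup.eq_one_iff y).1 (orderOf_eq_one_iff.1 h2)

end Cfsg.Lib.Local.SelfCent
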