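import Mathlib.GroupTheory.IsSubnormal
import Mathlib.GroupTheory.SpecificGroups.Cyclic

/-!
# Subnormal subgroups moving only a plane

Subnormal subgroups acting on an abelian group of exponent `p ∈ {2, 3}` like a cyclic group of order
three or a quaternion group of order eight on a plane: two of them move the same plane or each
centralizes the plane of the other.
-/

set_option autoImplicit false

namespace Cfsg.Lib.Local.BlockBirefl

open Subgroup

universe u v

variable {G : Type u} [Group G] {M : Type v} [CommGroup M] (φ : G →* MulAut M)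

/-- The subgroup `[M, A]`. -/
def commSub (A : Subgroup G) : Subgroup M := closure {x | ∃ a ∈ A, ∃ m : M, x = φ a m / m}

theorem mem_commSub {A : Subgroup G} {a : G} (ha : a ∈ A) (m : M) : φ a m / m ∈ commSub φ A :=
  subset_closure ⟨a, ha, m, rfl⟩

theorem commSub_mono {A B : Subgroup G} (h : A ≤ B) : commSub φ A ≤ commSub φ B :=
  (closure_le _).2 fun _ ⟨a, ha, m, e⟩ => e ▸ mem_commSub φ (h ha) m

theorem apply_mem {A : Subgroup G} {U : Subgroup M} (hAU : commSub φ A ≤ U) {a : G} (ha : a ∈ A)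
    {d : M} (hd : d ∈ U) : φ a d ∈ U := by
  have := mul_mem (hAU (mem_commSub φ ha d)) hd
  rwa [div_mul_cancel] at this

theorem commSub_conj (A : Subgroup G) (g : G) :
    commSub φ (A.map (MulAut.conj g).toMonoidHom) = (commSub φ A).map (φ g).toMonoidHom := by
  rw [commSub, commSub, MonoidHom.map_closure]
  congr 1
  ext x
  constructor
  · rintro ⟨_, ⟨a, ha, rfl⟩, m, rfl⟩
    refine ⟨_, ⟨a, ha, φ g⁻¹ m, rfl⟩, ?_⟩
    simp [MulAut.mul_apply, map_div]
  · rintro ⟨_, ⟨a, ha, m, rfl⟩, rfl⟩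
    refine ⟨_, ⟨a, ha, rfl⟩, φ g m, ?_⟩
    simp [MulAut.mul_apply, map_div]

/-- `A` acts on the plane `[M, A]` like `C₃` (`k = 1`) or `Q₈` (`k = 0`), and faithfully there. -/
structure Birefl (p k : ℕ) (A : Subgroup G) : Prop where
  sn : A.IsSubnormal
  card : Nat.card (commSub φ A) = p ^ 2
  trans : ∀ d ∈ commSub φ A, d ≠ 1 → ∀ d' ∈ commSub φ A, d' ≠ 1 → ∃ a ∈ A, φ a d = d'
  cls : ∀ a ∈ A, (∀ d ∈ commSub φ A, φ a d = d) ∨ (∀ d ∈ commSub φ A, φ a d = d⁻¹) ∨
    (∀ d ∈ commSub φ A, φ a (φ a d) = d⁻¹ * (φ a d) ^ k)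
  faith : ∀ a ∈ A, ∀ b ∈ A, (∀ d ∈ commSub φ A, φ a d = φ b d) → ∀ m, φ a m = φ b m

/-- The two admissible parameter pairs, with exponent `p`. -/
structure Params (p k : ℕ) (M : Type v) [CommGroup M] : Prop where
  pk : (p = 2 ∧ k = 1) ∨ (p = 3 ∧ k = 0)
  exp : ∀ m : M, m ^ p = 1

variable {φ} {p k : ℕ}

theorem Birefl.ne_bot {A : Subgroup G} (hA : Birefl φ p k A) (hP : Params p k M) :
    commSub φ A ≠ ⊥ := by
  intro h
  have := hA.card
  rw [h, card_bot] at this
  rcases hP.pk with ⟨rfl, -⟩ | ⟨rfl, -⟩ <;> norm_num at this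

theorem Params.inv_eq (hP : Params p k M) (hp : p = 2) (d : M) : d⁻¹ = d := by
  have h2 : d * d = 1 := by rw [← pow_two, ← hp]; exact hP.exp d
  exact inv_eq_of_mul_eq_one_left h2

theorem Params.eq_one_of_inv (hP : Params p k M) (hp : p = 3) {d : M} (h : d⁻¹ = d) : d = 1 := by
  have h2 : d * d = 1 := by
    calc d * d = d⁻¹ * d := by rw [h]
      _ = 1 := inv_mul_cancel d
  have h3 := hP.exp d
  rw [hp, pow_succ, pow_two, h2, one_mul] at h3
  exact h3

/-- The quadratic relation has no eigenvector for `±1`. -/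
theorem Params.quad_ne (hP : Params p k M) {f : MulAut M} {d : M} (hq : f (f d) = d⁻¹ * (f d) ^ k)
    (hf : f (f d) = d) : d = 1 := by
  rw [hf] at hq
  rcases hP.pk with ⟨hp, hk⟩ | ⟨hp, hk⟩
  · rw [hk, pow_one, hP.inv_eq hp] at hq
    exact f.injective (by rw [map_one]; exact mul_eq_left.mp hq.symm)
  · rw [hk, pow_zero, mul_one] at hq
    exact hP.eq_one_of_inv hp hq.symm

theorem Birefl.eq_self_of_fixed {A : Subgroup G} (hA : Birefl φ p k A) (hP : Params p k M) {a : G}
    (ha : a ∈ A) {d : M} (hd : d ∈ commSub φ A) (hd1 : d ≠ 1) (hfix : φ a d = d) :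
    ∀ d' ∈ commSub φ A, φ a d' = d' := by
  rcases hA.cls a ha with h | h | h
  · exact h
  · intro d' hd'
    rw [h d hd] at hfix
    rcases hP.pk with ⟨hp, -⟩ | ⟨hp, -⟩
    · rw [h d' hd', hP.inv_eq hp]
    · exact absurd (hP.eq_one_of_inv hp hfix) hd1
  · exact absurd (hP.quad_ne (h d hd) (by rw [hfix, hfix])) hd1

variable [Finite G] [Finite M]

theorem Birefl.exists_not_mem_zpowers {A : Subgroup G} (hA : Birefl φ p k A) (hP : Params p k M)
    (d : M) : ∃ d' ∈ commSub φ A, d' ∉ zpowers d := by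
  by_contra h
  push Not at h
  have h1 := Subgroup.card_le_of_le (show commSub φ A ≤ zpowers d from h)
  have hp : 1 < p := by rcases hP.pk with ⟨rfl, -⟩ | ⟨rfl, -⟩ <;> norm_num
  rw [hA.card, Nat.card_zpowers] at h1
  have h2 : orderOf d ≤ p := orderOf_le_of_pow_eq_one (by omega) (hP.exp d)
  have h3 : p < p ^ 2 := by rw [pow_two]; exact lt_mul_left (by omega) hp
  omega

theorem Birefl.fixed_eq_one {A : Subgroup G} (hA : Birefl φ p k A) (hP : Params p k M) {d : M}
    (hd : d ∈ commSub φ A) (hfix : ∀ a ∈ A, φ a d = d) : d = 1 := by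
  by_contra h1
  obtain ⟨d', hd', hne⟩ := hA.exists_not_mem_zpowers hP d
  obtain ⟨a, ha, he⟩ := hA.trans d hd h1 d' hd' fun e => hne (e ▸ one_mem _)
  exact hne (by rw [← he, hfix a ha]; exact mem_zpowers d)

omit [Finite G] [Finite M] in
theorem Birefl.conj {A : Subgroup G} (hA : Birefl φ p k A) (g : G) :
    Birefl φ p k (A.map (MulAut.conj g).toMonoidHom) := by
  have hc := commSub_conj φ A g
  have key : ∀ a d, φ (g * a * g⁻¹) (φ g d) = φ g (φ a d) := fun a d => by
    simp [MulAut.mul_apply]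
  refine ⟨hA.sn.map (MulAut.conj g).surjective, ?_, ?_, ?_, ?_⟩
  · rw [hc, card_map_of_injective (φ g).injective, hA.card]
  · rw [hc]
    rintro _ ⟨d, hd, rfl⟩ h1 _ ⟨d', hd', rfl⟩ h1'
    obtain ⟨a, ha, he⟩ := hA.trans d hd (fun e => h1 (by simp [e])) d' hd' fun e => h1' (by simp [e])
    exact ⟨_, ⟨a, ha, rfl⟩, (key a d).trans (congrArg (φ g) he)⟩
  · rintro _ ⟨a, ha, rfl⟩
    rw [hc]
    rcases hA.cls a ha with h | h | h
    · refine Or.inl ?_
      rintro _ ⟨d, hd, rfl⟩
      exact (key a d).trans (congrArg (φ g) (h d hd))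
    · refine Or.inr (Or.inl ?_)
      rintro _ ⟨d, hd, rfl⟩
      exact (key a d).trans ((congrArg (φ g) (h d hd)).trans (map_inv _ _))
    · refine Or.inr (Or.inr ?_)
      rintro _ ⟨d, hd, rfl⟩
      show φ (g * a * g⁻¹) (φ (g * a * g⁻¹) (φ g d)) = (φ g d)⁻¹ * φ (g * a * g⁻¹) (φ g d) ^ k
      rw [key, key, h d hd, map_mul, map_inv, map_pow]
  · rintro _ ⟨a, ha, rfl⟩ _ ⟨b, hb, rfl⟩ h m
    rw [hc] at h
    have h1 := hA.faith a ha b hb (fun d hd => (φ g).injective (by
      rw [← key, ← key]; exact h _ ⟨d, hd, rfl⟩)) (φ g⁻¹ m)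
    simpa [MulAut.mul_apply] using congrArg (φ g) h1

/-- If `B` preserves the plane of `A`, the planes are equal or `B` centralizes it. -/
theorem eq_or_fix_of_invariant {A B : Subgroup G} (hA : Birefl φ p k A) (hB : Birefl φ p k B)
    (hinv : ∀ b ∈ B, ∀ d ∈ commSub φ A, φ b d ∈ commSub φ A) :
    commSub φ A = commSub φ B ∨ ∀ b ∈ B, ∀ d ∈ commSub φ A, φ b d = d := by
  by_contra h
  push Not at h
  obtain ⟨hne, b, hb, d, hd, hbd⟩ := h
  set x := φ b d / d
  have hx1 : x ≠ 1 := fun e => hbd (div_eq_one.mp e)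
  have hxA : x ∈ commSub φ A := div_mem (hinv b hb d hd) hd
  refine hne (Subgroup.eq_of_le_of_card_ge ?_ (by rw [hA.card, hB.card])).symm
  intro y hy
  by_cases hy1 : y = 1
  · exact hy1 ▸ one_mem _
  obtain ⟨c, hc, rfl⟩ := hB.trans x (mem_commSub φ hb d) hx1 y hy hy1
  exact hinv c hc x hxA

omit [Finite G] in
theorem card_sup_le (U W : Subgroup M) : Nat.card ↥(U ⊔ W) ≤ Nat.card U * Nat.card W := by
  have hsurj : Function.Surjective (fun x : U × W =>
      (⟨x.1 * x.2, mul_mem (mem_sup_left x.1.2) (mem_sup_right x.2.2)⟩ : ↥(U ⊔ W))) := by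
    rintro ⟨y, hy⟩
    obtain ⟨u, hu, w, hw, rfl⟩ := mem_sup.mp hy
    exact ⟨(⟨u, hu⟩, ⟨w, hw⟩), rfl⟩
  exact (Nat.card_le_card_of_surjective _ hsurj).trans (le_of_eq (Nat.card_prod _ _))

/-- Either the planes are equal or the second subgroup centralizes the first plane. -/
theorem eq_or_fix (hP : Params p k M) : ∀ {A B : Subgroup G}, Birefl φ p k A → Birefl φ p k B →
    commSub φ A = commSub φ B ∨ ∀ b ∈ B, ∀ d ∈ commSub φ A, φ b d = d := by
  suffices h : ∀ n, ∀ {A B : Subgroup G}, Nat.card ↥(A ⊔ B) ≤ n → Birefl φ p k A →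
      Birefl φ p k B → commSub φ A = commSub φ B ∨ ∀ b ∈ B, ∀ d ∈ commSub φ A, φ b d = d from
    fun {_ _} hA hB => h _ le_rfl hA hB
  intro n
  induction n with
  | zero => intro A B hn; have := Nat.card_pos (α := ↥(A ⊔ B)); omega
  | succ n ih =>
  intro A B hn hA hB
  set X := A ⊔ B with hX
  rcases (hA.sn.subgroupOf (K := X)).lt_normal with htop | ⟨N, hNn, hAN, hNlt⟩
  · refine Or.inl (Subgroup.eq_of_le_of_card_ge (commSub_mono φ ?_) (by rw [hA.card, hB.card])).symm
    exact le_sup_right.trans (subgroupOf_eq_top.mp htop)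
  -- conjugates under `X` stay in a proper subgroup
  set N' := N.map X.subtype
  have hN' : Nat.card N' ≤ n := by
    have h1 : Nat.card N' = Nat.card N := card_map_of_injective X.subtype_injective
    have h2 : Nat.card N < Nat.card X :=
      lt_of_le_of_ne N.card_le_card_group fun h => hNlt.ne (eq_top_of_card_eq N h)
    omega
  have hconj : ∀ x ∈ X, A.map (MulAut.conj x).toMonoidHom ≤ N' := by
    rintro x hx _ ⟨a, ha, rfl⟩
    exact ⟨⟨x, hx⟩ * ⟨a, mem_sup_left ha⟩ * (⟨x, hx⟩ : X)⁻¹,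
      hNn.conj_mem _ (hAN (mem_subgroupOf.mpr ha)) _, rfl⟩
  have hAN' : A ≤ N' := fun a ha => ⟨⟨a, mem_sup_left ha⟩, hAN (mem_subgroupOf.mpr ha), rfl⟩
  -- the image planes
  set D := commSub φ A with hD
  let im : G → Subgroup M := fun x => D.map (φ x).toMonoidHom
  have him : ∀ x, im x = commSub φ (A.map (MulAut.conj x).toMonoidHom) := fun x =>
    (commSub_conj φ A x).symm
  have himc : ∀ x, Nat.card (im x) = p ^ 2 := fun x => by
    rw [card_map_of_injective (φ x).injective, hA.card]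
  have hfix : ∀ x ∈ X, im x ≠ D → ∀ a ∈ A, ∀ d ∈ im x, φ a d = d := by
    intro x hx hne
    rcases ih (le_trans (Subgroup.card_le_of_le
      (sup_le (hconj x hx) hAN')) hN') (hA.conj x) hA with h | h
    · exact absurd ((him x).trans h) hne
    · intro a ha d hd
      exact h a ha d (him x ▸ hd)
  have hdisj : ∀ x ∈ X, im x ≠ D → ∀ d ∈ D, d ∈ im x → d = 1 := fun x hx hne d hd hdx =>
    hA.fixed_eq_one hP hd fun a ha => hfix x hx hne a ha d hdx
  set U := D ⊔ commSub φ B with hU
  have himU : ∀ b ∈ B, im b ≤ U := by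
    rintro b hb _ ⟨d, hd, rfl⟩
    have := mul_mem (mem_sup_right (mem_commSub φ hb d) : φ b d / d ∈ U) (mem_sup_left hd)
    rwa [div_mul_cancel] at this
  -- squares preserve `D`
  have hsq : ∀ b ∈ B, im b ≠ D → im (b * b) = D := by
    intro b hb hne
    by_contra hne2
    have hbX : b ∈ X := mem_sup_right hb
    have hne3 : im (b * b) ≠ im b := by
      intro e
      apply hne
      have e' : (im b).map (φ b).toMonoidHom = D.map (φ b).toMonoidHom := by
        refine Eq.trans ?_ e
        simp only [im, Subgroup.map_map]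
        congr 1
        ext m
        simp [MulAut.mul_apply]
      exact Subgroup.map_injective (φ b).injective e'
    have hcard : U = D ⊔ im b := by
      symm
      refine Subgroup.eq_of_le_of_card_ge (sup_le le_sup_left (himU b hb)) ?_
      have hinj : Function.Injective (fun x : D × im b =>
          (⟨x.1 * x.2, mul_mem (mem_sup_left x.1.2) (mem_sup_right x.2.2)⟩ : ↥(D ⊔ im b))) := by
        rintro ⟨a, c⟩ ⟨a', c'⟩ e
        have e1 : (a : M) * c = (a' : M) * c' := congrArg Subtype.val e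
        have e2 : (a : M) / a' = (c' : M) / c := by
          rw [div_eq_div_iff_mul_eq_mul, e1, mul_comm]
        have h1 := hdisj b hbX hne _ (div_mem a.2 a'.2) (e2 ▸ div_mem c'.2 c.2)
        rw [h1, eq_comm] at e2
        exact Prod.ext (Subtype.ext (div_eq_one.mp h1)) (Subtype.ext (div_eq_one.mp e2).symm)
      refine le_trans (card_sup_le _ _) ?_
      refine le_trans ?_ (Nat.card_le_card_of_injective _ hinj)
      rw [Nat.card_prod, hA.card, hB.card, himc]
    have hbot : ∀ y ∈ im (b * b), y = 1 := by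
      intro y hy
      obtain ⟨w, hw, w', hw', rfl⟩ := mem_sup.mp (hcard ▸ himU _ (mul_mem hb hb) hy : y ∈ D ⊔ im b)
      have hw1 : w = 1 := hA.fixed_eq_one hP hw fun a ha => by
        have h1 := hfix _ (mul_mem hbX hbX) hne2 a ha _ hy
        rw [map_mul, hfix b hbX hne a ha _ hw'] at h1
        exact mul_right_cancel h1
      subst hw1
      rw [one_mul] at hy ⊢
      -- distinct conjugate planes meet trivially
      have hAb := hA.conj b
      rw [him b] at hw'
      rcases ih (le_trans (Subgroup.card_le_of_le (sup_le (hconj _ (mul_mem hbX hbX)) (hconj b hbX)))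
        hN') (hA.conj (b * b)) hAb with h | h
      · exact absurd ((him _).trans (h.trans (him b).symm)) hne3
      · exact hAb.fixed_eq_one hP hw' fun a ha => h a ha w' (him (b * b) ▸ hy)
    have h1 : im (b * b) = ⊥ := (eq_bot_iff_forall _).mpr hbot
    have h2 := himc (b * b)
    rw [h1, card_bot] at h2
    rcases hP.pk with ⟨rfl, -⟩ | ⟨rfl, -⟩ <;> norm_num at h2
  refine eq_or_fix_of_invariant hA hB fun f hf d hd => ?_
  suffices hfD : im f = D from hfD.le ⟨d, hd, rfl⟩
  by_contra hne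
  have hfX : f ∈ X := mem_sup_right hf
  have hcases : ∀ g ∈ B, (∀ d ∈ commSub φ B, φ g d = d) → im g = D := by
    intro g hg h
    have h1 := hB.faith g hg 1 (one_mem _) (fun d hd => by rw [h d hd, map_one]; rfl)
    have : (φ g).toMonoidHom = MonoidHom.id M := MonoidHom.ext fun m => by simpa using h1 m
    show D.map _ = D
    rw [this, Subgroup.map_id]
  rcases hB.cls f hf with h | h | h
  · exact hne (hcases f hf h)
  · rcases hP.pk with ⟨hp, -⟩ | ⟨hp, hk⟩
    · exact hne (hcases f hf fun d hd => by rw [h d hd, hP.inv_eq hp])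
    -- `f` acts as a square
    obtain ⟨d0, hd0, hd01⟩ := (bot_or_exists_ne_one _).resolve_left (hB.ne_bot hP)
    obtain ⟨d1, hd1, hd1z⟩ := hB.exists_not_mem_zpowers hP d0
    obtain ⟨g, hg, hg0⟩ := hB.trans d0 hd0 hd01 d1 hd1 fun e => hd1z (e ▸ one_mem _)
    rcases hB.cls g hg with h' | h' | h'
    · exact hd1z (by rw [← hg0, h' d0 hd0]; exact mem_zpowers d0)
    · exact hd1z (by rw [← hg0, h' d0 hd0]; exact inv_mem (mem_zpowers d0))
    · have hgg : ∀ m, φ f m = φ (g * g) m := hB.faith f hf _ (mul_mem hg hg) fun d hd => by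
        rw [h d hd, map_mul, MulAut.mul_apply, h' d hd, hk, pow_zero, mul_one]
      have he : (φ f).toMonoidHom = (φ (g * g)).toMonoidHom := MonoidHom.ext hgg
      apply hne
      show D.map _ = D
      rw [he]
      by_cases hgD : im g = D
      · have hmem : ∀ d ∈ D, φ g d ∈ D := fun d hd => hgD.le ⟨d, hd, rfl⟩
        refine Subgroup.eq_of_le_of_card_ge ?_ (le_of_eq ?_)
        · rintro _ ⟨d, hd, rfl⟩
          simpa [MulAut.mul_apply] using hmem _ (hmem d hd)
        · rw [card_map_of_injective (φ (g * g)).injective]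
      · exact hsq g hg hgD
  · -- `f` interchanges two planes
    have hzD : ∀ w ∈ D, φ f (φ f w) ∈ D := fun w hw => by
      have : φ (f * f) w ∈ D := (hsq f hf hne).le ⟨w, hw, rfl⟩
      rwa [map_mul, MulAut.mul_apply] at this
    have hdis : ∀ w ∈ D, φ f w / w ∈ D → w = 1 := fun w hw hmem => by
      have : φ f w ∈ D := by simpa using mul_mem hmem hw
      exact (φ f).injective (by rw [map_one]; exact hdisj f hfX hne _ this ⟨w, hw, rfl⟩)
    have hsurj : ∀ e ∈ commSub φ B, ∃ w ∈ D, φ f w / w = e := by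
      let t : D → commSub φ B := fun w => ⟨φ f w / w, mem_commSub φ hf w⟩
      have hinj : Function.Injective t := by
        intro w w' e
        have e' : φ f (w : M) / w = φ f (w' : M) / w' := congrArg Subtype.val e
        have h1 : φ f ((w : M) / w') / ((w : M) / w') = 1 := by
          rw [map_div, div_div_div_comm, e', div_self']
        exact Subtype.ext (div_eq_one.mp (hdis _ (div_mem w.2 w'.2) (h1 ▸ one_mem _)))
      have hbij := hinj.bijective_of_nat_card_le (by rw [hA.card, hB.card])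
      intro e he
      obtain ⟨w, hw⟩ := hbij.2 ⟨e, he⟩
      exact ⟨w, w.2, congrArg Subtype.val hw⟩
    have hz : ∀ w ∈ D, φ f (φ f w) = w := by
      intro w hw
      have hmem : φ f (φ f w) / w ∈ commSub φ B := by
        simpa [MulAut.mul_apply] using mem_commSub φ (mul_mem hf hf) w
      obtain ⟨w', hw', e⟩ := hsurj _ hmem
      have := hdis w' hw' (e ▸ div_mem (hzD w hw) hw)
      subst this
      rw [map_one, div_one, eq_comm] at e
      exact div_eq_one.mp e
    refine hB.ne_bot hP ((eq_bot_iff_forall _).mpr fun e he => ?_)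
    obtain ⟨w, hw, rfl⟩ := hsurj e he
    exact hP.quad_ne (h _ he) (by rw [map_div, map_div, hz w hw])

/-- For equal planes every element of `A` agrees there with one of `B`. -/
theorem exists_agree (hP : Params p k M) {A B : Subgroup G} (hA : Birefl φ p k A)
    (hB : Birefl φ p k B) (hD : commSub φ A = commSub φ B) {a : G} (ha : a ∈ A) :
    ∃ b ∈ B, ∀ d ∈ commSub φ A, φ a d = φ b d := by
  obtain ⟨d0, hd0, hd01⟩ := (bot_or_exists_ne_one _).resolve_left (hA.ne_bot hP)
  have hd1 : φ a d0 ∈ commSub φ A := apply_mem φ le_rfl ha hd0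
  have hd11 : φ a d0 ≠ 1 := fun e => hd01 ((φ a).injective (e.trans (map_one _).symm))
  obtain ⟨b, hb, hb0⟩ := hB.trans d0 (hD ▸ hd0) hd01 _ (hD ▸ hd1) hd11
  refine ⟨b, hb, fun d hd => ?_⟩
  rcases hA.cls a ha with h | h | h
  · rw [h d hd, hB.eq_self_of_fixed hP hb (hD ▸ hd0) hd01 (hb0.trans (h d0 hd0)) d (hD ▸ hd)]
  · rcases hB.cls b hb with h' | h' | h'
    · rw [h d hd, h' d (hD ▸ hd)]
      have he : d0⁻¹ = d0 := (h d0 hd0).symm.trans (hb0.symm.trans (h' d0 (hD ▸ hd0)))
      rcases hP.pk with ⟨hp, -⟩ | ⟨hp, -⟩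
      · exact hP.inv_eq hp d
      · exact absurd (hP.eq_one_of_inv hp he) hd01
    · rw [h d hd, h' d (hD ▸ hd)]
    · refine absurd (hP.quad_ne (h' d0 (hD ▸ hd0)) ?_) hd01
      rw [hb0, h d0 hd0, map_inv, hb0, h d0 hd0, inv_inv]
  · rcases hB.cls b hb with h' | h' | h'
    · refine absurd (hP.quad_ne (h d0 hd0) ?_) hd01
      rw [h' d0 (hD ▸ hd0)] at hb0
      rw [← hb0, ← hb0]
    · refine absurd (hP.quad_ne (h d0 hd0) ?_) hd01
      rw [h' d0 (hD ▸ hd0)] at hb0
      rw [← hb0, map_inv, ← hb0, inv_inv]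
    · -- agree on two generators
      have hp' : p.Prime := by
        rcases hP.pk with ⟨rfl, -⟩ | ⟨rfl, -⟩
        · exact Nat.prime_two
        · exact Nat.prime_three
      let S : Subgroup M := MonoidHom.eqLocus (φ a).toMonoidHom (φ b).toMonoidHom
      have h0S : d0 ∈ S := hb0.symm
      have h1S : φ a d0 ∈ S := by
        show φ a (φ a d0) = φ b (φ a d0)
        rw [h d0 hd0, ← hb0, h' d0 (hD ▸ hd0)]
      have hne : φ a d0 ∉ zpowers d0 := by
        intro hz
        apply hd01
        obtain ⟨i, hi⟩ := (isOfFinOrder_of_finite d0).mem_powers_iff_mem_zpowers.mpr hz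
        replace hi : d0 ^ (i % p) = φ a d0 := (pow_eq_pow_mod i (hP.exp d0)).symm.trans hi
        refine hP.quad_ne (h d0 hd0) ?_
        have hlt : i % p < p := Nat.mod_lt _ hp'.pos
        rcases (show i % p = 0 ∨ i % p = 1 ∨ (i % p = 2 ∧ p = 3) by
          rcases hP.pk with ⟨hp, -⟩ | ⟨hp, -⟩ <;> omega) with e | e | ⟨e, hp⟩
        · rw [e, pow_zero] at hi
          exact absurd hi.symm hd11
        · rw [e, pow_one] at hi
          rw [← hi, ← hi]
        · rw [e] at hi
          rw [← hi, map_pow, ← hi, ← pow_mul, show 2 * 2 = 3 + 1 from rfl, pow_succ, ← hp, hP.exp,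
            one_mul]
      have hcard : p < Nat.card ↥(S ⊓ commSub φ A) := by
        have hle : zpowers d0 ≤ S ⊓ commSub φ A := le_inf (zpowers_le.mpr h0S) (zpowers_le.mpr hd0)
        have hlt : zpowers d0 < S ⊓ commSub φ A :=
          lt_of_le_of_ne hle fun e => hne (e ▸ ⟨h1S, hd1⟩)
        have h2 : Nat.card (zpowers d0) = p := by
          haveI := Fact.mk hp'
          rw [Nat.card_zpowers]
          exact orderOf_eq_prime (hP.exp d0) hd01
        rw [← h2]
        exact lt_of_le_of_ne (Subgroup.card_le_of_le hle) fun e =>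
          hlt.ne (Subgroup.eq_of_le_of_card_ge hle e.ge)
      obtain ⟨j, hj, hj'⟩ := (Nat.dvd_prime_pow hp').mp
        (hA.card ▸ Subgroup.card_dvd_of_le (inf_le_right : S ⊓ commSub φ A ≤ _))
      have hall : S ⊓ commSub φ A = commSub φ A := by
        refine Subgroup.eq_of_le_of_card_ge inf_le_right ?_
        rw [hA.card, hj']
        refine Nat.pow_le_pow_right hp'.pos ?_
        by_contra hlt
        have : p ^ j ≤ p ^ 1 := Nat.pow_le_pow_right hp'.pos (by omega)
        rw [pow_one] at this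
        omega
      exact (hall.ge hd).1

end Cfsg.Lib.Local.BlockBirefl
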