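import Cfsg.Agent.Lib.Local.BlockSmall
import Mathlib.RingTheory.LittleWedderburn

/-!
# Blocks commuting modulo `O_p(G)`

The centralizer of an irreducible module is commutative, so a perfect block commuting with another one
modulo `O_p(G)` centralizes it.
-/

set_option autoImplicit false
set_option linter.style.haveILetI false

namespace Cfsg.Lib.Local.BlockLarge

open Subgroup Cfsg Cfsg.Lib Cfsg.Lib.Local.GlaubermanZJ Cfsg.Lib.Local.BaumannBlock
  Cfsg.Lib.Local.BlockType Cfsg.Lib.Local.BlockSmall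
open scoped commutatorElement

universe u v

/-- Automorphisms commuting with an irreducible set of automorphisms commute. -/
theorem commute_of_irreducible {M : Type v} [CommGroup M] [Finite M] [Nontrivial M]
    (S : Set (MulAut M))
    (hirr : ∀ U : Subgroup M, (∀ s ∈ S, ∀ u ∈ U, s u ∈ U) → U = ⊥ ∨ U = ⊤)
    {a a' : MulAut M} (ha : ∀ s ∈ S, ∀ m, a (s m) = s (a m)) (ha' : ∀ s ∈ S, ∀ m, a' (s m) = s (a' m)) :
    Commute a a' := by
  let endo : MulAut M → AddMonoid.End (Additive M) := fun s => MonoidHom.toAdditive s.toMonoidHom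
  let R : Subring (AddMonoid.End (Additive M)) := Subring.centralizer (endo '' S)
  haveI : NoZeroDivisors R := by
    refine ⟨fun {x y} hxy => ?_⟩
    by_contra h
    push Not at h
    obtain ⟨hx, hy⟩ := h
    let K : Subgroup M :=
      { carrier := {m | (x : AddMonoid.End (Additive M)) (Additive.ofMul m) = 0}
        one_mem' := map_zero (x : AddMonoid.End (Additive M))
        mul_mem' := fun {m n} (hm : (x : AddMonoid.End (Additive M)) (Additive.ofMul m) = 0)
            (hn : (x : AddMonoid.End (Additive M)) (Additive.ofMul n) = 0) => by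
          show (x : AddMonoid.End (Additive M)) (Additive.ofMul m + Additive.ofMul n) = 0
          rw [map_add, hm, hn, add_zero]
        inv_mem' := fun {m} (hm : (x : AddMonoid.End (Additive M)) (Additive.ofMul m) = 0) => by
          show (x : AddMonoid.End (Additive M)) (-Additive.ofMul m) = 0
          rw [map_neg, hm, neg_zero] }
    have hKinv : ∀ s ∈ S, ∀ u ∈ K, s u ∈ K := fun s hs u hu => by
      have h1 := DFunLike.congr_fun (Subring.mem_centralizer_iff.1 x.2 _ ⟨s, hs, rfl⟩) (Additive.ofMul u)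
      show (x : AddMonoid.End (Additive M)) (endo s (Additive.ofMul u)) = 0
      refine (h1.symm.trans ?_)
      show endo s ((x : AddMonoid.End (Additive M)) (Additive.ofMul u)) = 0
      rw [show (x : AddMonoid.End (Additive M)) (Additive.ofMul u) = 0 from hu, map_zero]
    rcases hirr K hKinv with hK | hK
    · refine hy (Subtype.ext (AddMonoidHom.ext fun m => ?_))
      have h1 : Additive.toMul ((y : AddMonoid.End (Additive M)) m) ∈ K := by
        show ((x * y : R) : AddMonoid.End (Additive M)) m = 0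
        rw [hxy]; rfl
      rw [hK, mem_bot] at h1
      exact congrArg Additive.ofMul h1
    · refine hx (Subtype.ext (AddMonoidHom.ext fun m => ?_))
      exact (hK.ge (mem_top (Additive.toMul m)) :)
  haveI : Nontrivial R := by
    obtain ⟨m, hm⟩ := exists_ne (1 : M)
    refine ⟨⟨0, 1, fun h => hm ?_⟩⟩
    exact congrArg Additive.toMul (DFunLike.congr_fun (congrArg Subtype.val h) (Additive.ofMul m)).symm
  haveI : IsDomain R := NoZeroDivisors.to_isDomain R
  haveI : Finite R := Finite.of_injective (fun r : R => ((r : AddMonoid.End (Additive M)) : _ → _))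
    fun r r' h => Subtype.ext (DFunLike.coe_injective h)
  have hcomm := (Finite.isDomain_to_isField R).mul_comm
  have hmem : ∀ b : MulAut M, (∀ s ∈ S, ∀ m, b (s m) = s (b m)) → endo b ∈ R := fun b hb =>
    Subring.mem_centralizer_iff.2 (by
      rintro _ ⟨s, hs, rfl⟩
      exact AddMonoidHom.ext fun m => congrArg Additive.ofMul (hb s hs (Additive.toMul m)).symm)
  have h := congrArg Subtype.val (hcomm ⟨endo a, hmem a ha⟩ ⟨endo a', hmem a' ha'⟩)
  exact MulEquiv.ext fun m => congrArg Additive.toMul (DFunLike.congr_fun h (Additive.ofMul m))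

variable {G : Type u} [Group G] {p : ℕ}

/-- The natural section is irreducible. -/
theorem sl_irreducible [Fact p.Prime] {F : Type} [Field F] [Fintype F] {n : ℕ}
    (hF : Fintype.card F = p ^ n) {E U U₀ : Subgroup G}
    (hsec : ActsAsSL2OnSection F (commutator (Matrix.SpecialLinearGroup (Fin 2) F)) E U U₀) :
    ∀ X : Subgroup G, U₀ ≤ X → X ≤ U → E ≤ normalizer (X : Set G) → X = U₀ ∨ X = U := by
  obtain ⟨-, -, ρ, ψ, hρ, hψ, hker, hact⟩ := hsec
  intro X hZX hX hEX
  let D : AddSubgroup (Fin 2 → F) :=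
    { carrier := {v | ∃ u : U, (u : G) ∈ X ∧ Multiplicative.toAdd (ψ u) = v}
      zero_mem' := ⟨1, one_mem X, by simp⟩
      add_mem' := by
        rintro _ _ ⟨a, ha, rfl⟩ ⟨b, hb, rfl⟩
        exact ⟨a * b, mul_mem ha hb, by simp⟩
      neg_mem' := by
        rintro _ ⟨a, ha, rfl⟩
        exact ⟨a⁻¹, inv_mem ha, by simp⟩ }
  by_cases hne : ∃ v ∈ D, v ≠ 0
  · right
    refine le_antisymm hX fun w hw => ?_
    have hall := sl2_invariant hF D (fun g hg v hv => ?_) hne (Multiplicative.toAdd (ψ ⟨w, hw⟩))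
    · obtain ⟨u, huX, hu⟩ := hall
      have h1 : ψ (u⁻¹ * ⟨w, hw⟩) = 1 := by
        rw [map_mul, map_inv, Multiplicative.toAdd.injective hu, inv_mul_cancel]
      have h2 := mul_mem huX (hZX ((hker _).1 h1))
      simpa using h2
    · obtain ⟨u, huX, rfl⟩ := hv
      obtain ⟨x, rfl⟩ : ∃ x, ρ x = g := hρ.ge hg
      obtain ⟨w', hw', hw''⟩ := hact x u
      exact ⟨w', hw' ▸ (mem_normalizer_iff.1 (hEX x.2) _).1 huX, hw''⟩
  · left
    push Not at hne
    refine le_antisymm (fun u hu => ?_) hZX
    have h1 : Multiplicative.toAdd (ψ ⟨u, hX hu⟩) = 0 := hne _ ⟨⟨u, hX hu⟩, hu, rfl⟩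
    exact (hker ⟨u, hX hu⟩).1 (Multiplicative.toAdd.injective (by simpa using h1))

variable [Finite G] [hp : Fact p.Prime]

/-- A perfect group acting on an irreducible section and commuting with the action acts trivially. -/
theorem perfect_trivial {A B U U₀ : Subgroup G} (hU₀ : U₀ ≤ U) (hne : ¬ U ≤ U₀)
    (hUU : ∀ x ∈ U, ∀ y ∈ U, ⁅x, y⁆ ∈ U₀)
    (hAU : A ⊔ B ≤ normalizer (U : Set G) ⊓ normalizer (U₀ : Set G))
    (hUn : U ≤ normalizer (U₀ : Set G))
    (hirr : ∀ X : Subgroup G, U₀ ≤ X → X ≤ U → B ≤ normalizer (X : Set G) → X = U₀ ∨ X = U)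
    (hAB : ∀ a ∈ A, ∀ b ∈ B, ∀ u ∈ U, ⁅⁅a, b⁆, u⁆ ∈ U₀)
    (hres : pResidualOf p A = A) (hperf : commutator ↥A ⊔ pCore p ↥A = ⊤) :
    ∀ a ∈ A, ∀ u ∈ U, ⁅a, u⁆ ∈ U₀ := by
  set H := normalizer (U : Set G) ⊓ normalizer (U₀ : Set G) with hH
  haveI : (U₀.subgroupOf U).Normal := (normal_subgroupOf_iff_le_normalizer hU₀).2 hUn
  letI : CommGroup (↥U ⧸ U₀.subgroupOf U) :=
    { (inferInstance : Group (↥U ⧸ U₀.subgroupOf U)) with
      mul_comm := fun x y => by
        induction x using QuotientGroup.induction_on with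
        | H x =>
        induction y using QuotientGroup.induction_on with
        | H y =>
        refine QuotientGroup.eq.2 (mem_subgroupOf.2 ?_)
        have := hUU _ (inv_mem y.2) _ (inv_mem x.2)
        simpa [commutatorElement_def, mul_assoc] using this }
  let mapU : ↥H → (↥U →* ↥U) := fun h =>
    { toFun := fun u => ⟨(h : G) * u * (h : G)⁻¹, (mem_normalizer_iff.1 h.2.1 _).1 u.2⟩
      map_one' := Subtype.ext (by simp)
      map_mul' := fun u w => Subtype.ext (by simp) }
  let act : ↥H → (↥U ⧸ U₀.subgroupOf U) →* (↥U ⧸ U₀.subgroupOf U) := fun h =>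
    QuotientGroup.map _ _ (mapU h) fun u hu =>
      mem_subgroupOf.2 ((mem_normalizer_iff.1 h.2.2 _).1 (mem_subgroupOf.1 hu))
  have hact : ∀ (h : ↥H) (u : ↥U), act h (QuotientGroup.mk u) = QuotientGroup.mk (mapU h u) :=
    fun _ _ => rfl
  have hmul : ∀ h k : ↥H, ∀ m, act (h * k) m = act h (act k m) := fun h k m => by
    induction m using QuotientGroup.induction_on with
    | H u => rw [hact, hact, hact]; congr 1; exact Subtype.ext (by simp [mapU, mul_assoc])
  have hone : ∀ m, act 1 m = m := fun m => by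
    induction m using QuotientGroup.induction_on with
    | H u => rw [hact]; congr 1; exact Subtype.ext (by simp [mapU])
  let φ : ↥H →* MulAut (↥U ⧸ U₀.subgroupOf U) :=
    { toFun := fun h =>
        { toFun := act h
          invFun := act h⁻¹
          left_inv := fun m => by rw [← hmul, inv_mul_cancel, hone]
          right_inv := fun m => by rw [← hmul, mul_inv_cancel, hone]
          map_mul' := map_mul (act h) }
      map_one' := MulEquiv.ext hone
      map_mul' := fun h k => MulEquiv.ext (hmul h k) }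
  have hφ : ∀ (h : ↥H) (u : ↥U), φ h (QuotientGroup.mk u) = QuotientGroup.mk (mapU h u) := hact
  have htriv : ∀ h : ↥H, (∀ u ∈ U, ⁅(h : G), u⁆ ∈ U₀) → φ h = 1 := fun h hh => by
    refine MulEquiv.ext fun m => ?_
    induction m using QuotientGroup.induction_on with
    | H u =>
    rw [hφ, MulAut.one_apply, QuotientGroup.eq, mem_subgroupOf]
    have h1 := (mem_normalizer_iff''.1 (hUn u.2) _).1 (inv_mem (hh u u.2))
    simpa [mapU, commutatorElement_def, mul_assoc] using h1
  have hnt : Nontrivial (↥U ⧸ U₀.subgroupOf U) := by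
    rw [QuotientGroup.nontrivial_iff]
    exact fun h => hne (subgroupOf_eq_top.1 h)
  have hle : ∀ a ∈ A, a ∈ H := fun a ha => hAU (mem_sup_left ha)
  have hBH : B ≤ H := le_sup_right.trans hAU
  have hcomm : ∀ a (ha : a ∈ A), ∀ b (hb : b ∈ B),
      φ ⟨a, hle a ha⟩ * φ ⟨b, hBH hb⟩ = φ ⟨b, hBH hb⟩ * φ ⟨a, hle a ha⟩ := fun a ha b hb => by
    rw [← commutatorElement_eq_one_iff_mul_comm, ← map_commutatorElement]
    exact htriv _ fun u hu => by simpa [commutatorElement_def] using hAB a ha b hb u hu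
  let S : Set (MulAut (↥U ⧸ U₀.subgroupOf U)) := {s | ∃ (b : G) (hb : b ∈ B), s = φ ⟨b, hBH hb⟩}
  have hirr' : ∀ K : Subgroup (↥U ⧸ U₀.subgroupOf U), (∀ s ∈ S, ∀ k ∈ K, s k ∈ K) → K = ⊥ ∨ K = ⊤ := by
    intro K hK
    set X := (K.comap (QuotientGroup.mk' (U₀.subgroupOf U))).map U.subtype with hX
    have hU0X : U₀ ≤ X := fun x hx => ⟨⟨x, hU₀ hx⟩, by
      rw [SetLike.mem_coe, mem_comap, QuotientGroup.mk'_apply,
        (QuotientGroup.eq_one_iff _).2 (mem_subgroupOf.2 hx)]
      exact one_mem K, rfl⟩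
    have hBX : B ≤ normalizer (X : Set G) := Core.le_normalizer_iff_conj_mem.2 fun b hb x hx => by
      obtain ⟨y, hy, rfl⟩ := hx
      refine ⟨mapU ⟨b, hBH hb⟩ y, ?_, rfl⟩
      have := hK _ ⟨b, hb, rfl⟩ _ hy
      rwa [QuotientGroup.mk'_apply, hφ] at this
    rcases hirr X hU0X (map_subtype_le _) hBX with h | h
    · refine Or.inl ((eq_bot_iff_forall _).2 fun k hk => ?_)
      induction k using QuotientGroup.induction_on with
      | H y => exact (QuotientGroup.eq_one_iff _).2 (mem_subgroupOf.2 (h.le ⟨y, hk, rfl⟩))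
    · refine Or.inr (eq_top_iff.2 fun k _ => ?_)
      induction k using QuotientGroup.induction_on with
      | H y =>
      obtain ⟨z, hz, e⟩ := h.ge y.2
      rwa [show z = y from Subtype.ext e] at hz
  let ψ : ↥A →* MulAut (↥U ⧸ U₀.subgroupOf U) :=
    φ.comp (Subgroup.inclusion (fun a ha => hle a ha : A ≤ H))
  have hψ : ∀ x y : ↥A, Commute (ψ x) (ψ y) := fun x y =>
    commute_of_irreducible S hirr'
      (fun s ⟨b, hb, e⟩ m => e ▸ DFunLike.congr_fun (hcomm x x.2 b hb) m)
      (fun s ⟨b, hb, e⟩ m => e ▸ DFunLike.congr_fun (hcomm y y.2 b hb) m)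
  have hcker : commutator ↥A ≤ ψ.ker := by
    rw [commutator_def, commutator_le]
    intro x _ y _
    rw [MonoidHom.mem_ker, map_commutatorElement, commutatorElement_eq_one_iff_mul_comm]
    exact (hψ x y).eq
  have hcop : ∀ a : ↥A, (orderOf (a : G)).Coprime p → ψ a = 1 := by
    intro a hc
    obtain ⟨c, hc', q, hq, rfl⟩ := Subgroup.mem_sup_of_normal_left.1 (hperf.ge (mem_top a))
    rw [map_mul, MonoidHom.mem_ker.1 (hcker hc'), one_mul]
    have h1 : orderOf (ψ q) ∣ orderOf ((c * q : ↥A) : G) := by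
      rw [Subgroup.orderOf_coe]
      have := orderOf_map_dvd ψ (c * q)
      rwa [map_mul, MonoidHom.mem_ker.1 (hcker hc'), one_mul] at this
    obtain ⟨k, hk⟩ := IsPGroup.iff_orderOf.1 (Core.pCore_isPGroup p ↥A) ⟨q, hq⟩
    have h2 : orderOf (ψ q) ∣ p ^ k := by
      rw [← hk, Subgroup.orderOf_mk]
      exact orderOf_map_dvd ψ q
    exact orderOf_eq_one_iff.1 (Nat.eq_one_of_dvd_coprimes (Nat.Coprime.pow_right k hc) h1 h2)
  have hall : ∀ a (ha : a ∈ A), ψ ⟨a, ha⟩ = 1 := by
    have h1 : A ≤ ψ.ker.map A.subtype := hres.ge.trans (pResidualOf_le_iff.2 fun x hx hc =>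
      ⟨⟨x, hx⟩, hcop ⟨x, hx⟩ hc, rfl⟩)
    intro a ha
    obtain ⟨y, hy, e⟩ := h1 ha
    rwa [show y = ⟨a, ha⟩ from Subtype.ext e] at hy
  intro a ha u hu
  have h1 := DFunLike.congr_fun (hall a ha) (QuotientGroup.mk (⟨u, hu⟩ : ↥U))
  rw [MonoidHom.comp_apply, hφ, MulAut.one_apply, QuotientGroup.eq, mem_subgroupOf] at h1
  have h2 := inv_mem ((mem_normalizer_iff.1 (hUn hu) _).1 h1)
  simpa [mapU, commutatorElement_def, mul_assoc] using h2

section Finish

variable (hG : centralizer (pCore p G : Set G) ≤ pCore p G) {S : Sylow p G} {A F : Subgroup G}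
  (hF : IsBaumannBlock p (S : Subgroup G) F) (hFs : F.IsSubnormal)

include hF hFs

omit hp in
theorem block_normalizers {x : G} (hx : x ∈ normalizer (F : Set G)) :
    x ∈ normalizer (pCoreOf p F : Set G) ∧
    x ∈ normalizer (omegaOneCenter p (pCoreOf p F) : Set G) ∧
    x ∈ normalizer (zMod p F : Set G) := by
  have h1 := Local.normalizer_le_normalizer_pCoreOf (p := p) F hx
  have h2 := normalizer_le_omegaOneCenter (p := p) _ h1
  exact ⟨h1, h2, Local.mem_normalizer_inf h2 (Local.normalizer_le_normalizer_centralizer F hx)⟩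

theorem mem_normalizer {a : G} (h : ∀ b ∈ F, ⁅a, b⁆ ∈ pCore p G) : a ∈ normalizer (F : Set G) := by
  refine mem_normalizer_iff_map_conj_eq.2 ?_
  show F.map (MulAut.conj a).toMonoidHom = F
  refine Subgroup.eq_of_le_of_card_ge ?_ (card_map_of_injective (MulAut.conj a).injective).ge
  refine map_le_iff_le_comap.2 (hF.1.ge.trans (pResidualOf_le_iff.2 fun x hx hc => ?_))
  refine mem_of_coprime (K := pCore p G) (pCore_le_normalizer S hF) (Core.pCore_isPGroup p G) ?_
    (by rwa [MulEquiv.coe_toMonoidHom, MulEquiv.orderOf_eq])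
  rw [MulEquiv.coe_toMonoidHom, MulAut.conj_apply,
    show a * x * a⁻¹ = ⁅a, x⁆ * x by simp [commutatorElement_def]]
  exact mul_mem (mem_sup_right (h x hx)) (mem_sup_left hx)

theorem commutator_mem_pCoreOf {a b : G} (h : ∀ b ∈ F, ⁅a, b⁆ ∈ pCore p G) (hb : b ∈ F) :
    ⁅a, b⁆ ∈ pCoreOf p F := by
  rw [pCoreOf_eq_inf hFs]
  refine ⟨h b hb, ?_⟩
  rw [commutatorElement_def]
  exact F.mul_mem ((mem_normalizer_iff.1 (mem_normalizer hF hFs h) b).1 hb) (F.inv_mem hb)

include hG

/-- A group centralizing the module and the top section of `F`, commuting modulo `O_p(G)`, commutes. -/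
theorem commute_of_sections (hres : pResidualOf p A = A)
    (hmod : ∀ a ∈ A, ∀ b ∈ F, ⁅a, b⁆ ∈ pCore p G)
    (hW : ∀ a ∈ A, ∀ w ∈ wMod p F, a * w = w * a)
    (hQ : pCoreOf p F ≠ omegaOneCenter p (pCoreOf p F) →
      ∀ a ∈ A, ∀ x ∈ pCoreOf p F, ⁅a, x⁆ ∈ omegaOneCenter p (pCoreOf p F)) :
    ⁅A, F⁆ = ⊥ := by
  set Q := pCoreOf p F with hQdef
  set W0 := omegaOneCenter p Q with hW0
  have hWQ : W0 ≤ Q := omegaOneCenter_le p _
  have hWW0 : wMod p F ≤ W0 := by
    rw [wMod, commutator_le]
    intro w hw e he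
    rw [commutatorElement_def, show w * e * w⁻¹ * e⁻¹ = w * (e * w⁻¹ * e⁻¹) by group]
    exact mul_mem hw ((mem_normalizer_iff.1 (block_normalizers hF hFs (le_normalizer he)).2.1 _).1
      (inv_mem hw))
  -- `Q` is centralized
  have hcent : ∀ a ∈ A, (orderOf a).Coprime p → ∀ x ∈ Q, Commute a x := by
    intro a ha hc
    by_cases hne : Q = W0
    · intro x hx
      have h := hF.2.2.1
      conv_lhs at h => rw [← hQdef, hne]
      exact hW a ha x (h.ge hx)
    have hZ : ∀ z ∈ zMod p F, Commute a z := by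
      rcases hF.2.2.2.2 with ⟨K, _, _, n, -, -, -, hQ'⟩ | ⟨-, m, -, -, hQ'⟩
      · obtain ⟨-, -, hQQ, -⟩ := hQ'.resolve_left hne
        have hle : ⁅Q, Q⁆ ≤ centralizer ({a} : Set G) := by
          rw [commutator_le]
          intro x hx y hy
          rw [mem_centralizer_singleton_iff]
          have hx' := hQ hne a ha x hx
          have hy' := hQ hne a ha y hy
          have e : a * ⁅x, y⁆ * a⁻¹ = ⁅x, y⁆ := by
            rw [show a * ⁅x, y⁆ * a⁻¹ = ⁅⁅a, x⁆ * x, ⁅a, y⁆ * y⁆ by
              simp [commutatorElement_def]; group]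
            set u := ⁅a, x⁆ with hu
            set w := ⁅a, y⁆ with hw
            have c1 : Commute u (x * (w * y) * x⁻¹ * (w * y)⁻¹) := omegaOneCenter_commute hx'
              (mul_mem (mul_mem (mul_mem hx (mul_mem (hWQ hy') hy)) (inv_mem hx))
                (inv_mem (mul_mem (hWQ hy') hy)))
            have c2 : Commute w x := omegaOneCenter_commute hy' hx
            have c3 : Commute u (w * y) := omegaOneCenter_commute hx' (mul_mem (hWQ hy') hy)
            have c4 : Commute w (x * y * x⁻¹ * y⁻¹) := omegaOneCenter_commute hy'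
              (mul_mem (mul_mem (mul_mem hx hy) (inv_mem hx)) (inv_mem hy))
            calc ⁅u * x, w * y⁆ = u * (x * (w * y) * x⁻¹ * (w * y)⁻¹) *
                  ((w * y) * u⁻¹ * (w * y)⁻¹) := by simp [commutatorElement_def]; group
              _ = u * (x * (w * y) * x⁻¹ * (w * y)⁻¹) * u⁻¹ := by
                rw [(c3.inv_left).symm.eq, mul_inv_cancel_right]
              _ = x * (w * y) * x⁻¹ * (w * y)⁻¹ := by rw [c1.eq, mul_inv_cancel_right]
              _ = (x * w) * y * x⁻¹ * y⁻¹ * w⁻¹ := by group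
              _ = w * (x * y * x⁻¹ * y⁻¹) * w⁻¹ := by rw [← c2.eq]; group
              _ = ⁅x, y⁆ := by rw [c4.eq, mul_inv_cancel_right, commutatorElement_def]
          exact (mul_inv_eq_iff_eq_mul.1 e).symm
        exact fun z hz => (mem_centralizer_singleton_iff.1 (hle (hQQ.ge hz))).symm
      · exact absurd hQ' hne
    have hW0a : ∀ w ∈ W0, Commute a w := by
      have hsup : W0 ≤ wMod p F ⊔ zMod p F := by
        set U := wMod p F ⊔ zMod p F with hU
        have hUW : U ≤ W0 := sup_le hWW0 inf_le_left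
        have hFU : F ≤ normalizer (U : Set G) := by
          intro x hx
          obtain ⟨h1, h2, h3⟩ := block_normalizers hF hFs (le_normalizer hx)
          rw [mem_normalizer_iff_map_conj_eq]
          show U.map (MulAut.conj x).toMonoidHom = U
          rw [hU, Subgroup.map_sup, Core.map_conj_eq_of_mem_normalizer h3, wMod, map_commutator,
            Core.map_conj_eq_of_mem_normalizer h2, Core.map_conj_eq_of_mem_normalizer (le_normalizer hx)]
        rcases (irreducible hF).2 U le_sup_right hUW hFU with h | h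
        · refine absurd ?_ (irreducible hF).1
          intro w hw
          refine mem_centralizer_iff.2 fun x hx => ?_
          suffices F ≤ centralizer ({w} : Set G) from mem_centralizer_singleton_iff.1 (this hx)
          refine hF.1.ge.trans (pResidualOf_le_iff.2 fun e he hce =>
            mem_centralizer_singleton_iff.2 ?_)
          have hwe : ⁅e, w⁆ ∈ wMod p F := by
            rw [wMod, commutator_comm]; exact commutator_mem_commutator he hw
          exact commute_of_coprime hce (omegaOneCenter_pow (hWW0 hwe))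
            (mem_centralizer_iff.1 (h (mem_sup_left hwe)) e he)
            (omegaOneCenter_commute hw (hWQ (hWW0 hwe)))
        · exact h.ge
      have hle : wMod p F ⊔ zMod p F ≤ centralizer ({a} : Set G) := sup_le
        (fun w hw => mem_centralizer_singleton_iff.2 (hW a ha w hw).symm)
        (fun z hz => mem_centralizer_singleton_iff.2 (hZ z hz).symm.eq)
      exact fun w hw => (mem_centralizer_singleton_iff.1 (hle (hsup hw))).symm
    intro x hx
    have hmem := hQ hne a ha x hx
    exact commute_of_coprime hc (omegaOneCenter_pow hmem) (hW0a _ hmem)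
      (omegaOneCenter_commute hmem hx).symm
  rw [commutator_eq_bot_iff_le_centralizer]
  refine hres.ge.trans (pResidualOf_le_iff.2 fun a ha hc => mem_centralizer_iff.2 fun b hb => ?_)
  set z := ⁅a, b⁆ with hz
  have hzQ := commutator_mem_pCoreOf hF hFs (hmod a ha) hb
  have hza : Commute a z := hcent a ha hc z hzQ
  have hconj : b * a * b⁻¹ = z⁻¹ * a := by rw [hz, commutatorElement_def]; group
  have h1 : z⁻¹ ^ orderOf a = 1 := by
    have h := congrArg (fun g => g ^ orderOf a) hconj
    simp only [(hza.inv_right).symm.mul_pow, conj_pow, pow_orderOf_eq_one, mul_one,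
      mul_inv_cancel] at h
    exact h.symm
  obtain ⟨k, hk⟩ := (Core.pCore_isPGroup p G) ⟨z, ((pCoreOf_eq_inf hFs).le hzQ).1⟩
  have hz1 : z = 1 := by
    have h2 : z⁻¹ ^ p ^ k = 1 := by
      have h3 : z ^ p ^ k = 1 := congrArg Subtype.val hk
      rw [inv_pow, h3, inv_one]
    have := pow_gcd_eq_one.2 ⟨h1, h2⟩
    rwa [Nat.Coprime.gcd_eq_one (Nat.Coprime.pow_right k hc), pow_one, inv_eq_one] at this
  exact (commutatorElement_eq_one_iff_mul_comm.1 hz1).symm

/-- A large block commuting modulo `O_p(G)` with `F` centralizes its sections. -/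
theorem large_sections {T : Sylow p G} (hA : IsBaumannBlock p (T : Subgroup G) A) (hl : BlockType.IsLarge p A)
    (hmod : ∀ a ∈ A, ∀ b ∈ F, ⁅a, b⁆ ∈ pCore p G) :
    (∀ a ∈ A, ∀ w ∈ wMod p F, a * w = w * a) ∧
    (pCoreOf p F ≠ omegaOneCenter p (pCoreOf p F) →
      ∀ a ∈ A, ∀ x ∈ pCoreOf p F, ⁅a, x⁆ ∈ omegaOneCenter p (pCoreOf p F)) := by
  set Q := pCoreOf p F with hQdef
  set W0 := omegaOneCenter p Q with hW0
  set Z := zMod p F with hZ
  have hWQ : W0 ≤ Q := omegaOneCenter_le p _
  have hAn : ∀ a ∈ A, a ∈ normalizer (F : Set G) := fun a ha => mem_normalizer hF hFs (hmod a ha)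
  have hperf : commutator ↥A ⊔ pCore p ↥A = ⊤ := by
    have h := congrArg (Subgroup.comap (QuotientGroup.mk' (pCore p ↥A))) (Core.quasisimple_commutator hl)
    rwa [Subgroup.comap_top, commutator_def,
      ← MonoidHom.range_eq_top.2 (QuotientGroup.mk'_surjective (pCore p ↥A)), MonoidHom.range_eq_map,
      ← map_commutator, Subgroup.comap_map_eq, QuotientGroup.ker_mk', ← commutator_def] at h
  have hAB : ∀ a ∈ A, ∀ b ∈ F, ⁅a, b⁆ ∈ Q := fun a ha b hb =>
    commutator_mem_pCoreOf hF hFs (hmod a ha) hb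
  have hle : A ⊔ F ≤ normalizer (F : Set G) := sup_le hAn le_normalizer
  have hW0Z : ∀ a ∈ A, ∀ u ∈ W0, ⁅a, u⁆ ∈ Z := by
    refine perfect_trivial (B := F) inf_le_left (fun h => (irreducible hF).1 (h.trans inf_le_right)) ?_ ?_ ?_
      ?_ ?_ hA.1 hperf
    · intro x hx y hy
      rw [commutatorElement_eq_one_iff_mul_comm.2 (omegaOneCenter_commute hx (hWQ hy)).eq]
      exact one_mem _
    · exact fun x hx => ⟨(block_normalizers hF hFs (hle hx)).2.1, (block_normalizers hF hFs (hle hx)).2.2⟩
    · exact fun x hx => Core.le_normalizer_iff_conj_mem.2 (fun g (hg : g ∈ W0) z (hz : z ∈ Z) => by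
        rw [(omegaOneCenter_commute hg (hWQ hz.1)).eq, mul_inv_cancel_right]; exact hz) hx
    · intro X hX hXU hFX
      rcases (irreducible hF).2 X hX hXU hFX with h | h
      · exact Or.inl (le_antisymm (le_inf hXU h) hX)
      · exact Or.inr h
    · intro a ha b hb u hu
      rw [commutatorElement_eq_one_iff_mul_comm.2 (omegaOneCenter_commute hu (hAB a ha b hb)).symm.eq]
      exact one_mem _
  refine ⟨?_, fun hne => ?_⟩
  · -- three subgroups
    have hWA : ⁅⁅W0, F⁆, A⁆ = ⊥ := by
      refine commutator_commutator_eq_bot_of_rotate ?_ ?_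
      · rw [eq_bot_iff, commutator_le]
        intro y hy w hw
        have hyQ : y ∈ Q := (commutator_le.2 (fun b hb a ha => by
          rw [← commutatorElement_inv]; exact inv_mem (hAB a ha b hb)) : ⁅F, A⁆ ≤ Q) hy
        rw [mem_bot, commutatorElement_eq_one_iff_mul_comm]
        exact (omegaOneCenter_commute hw hyQ).symm.eq
      · rw [eq_bot_iff]
        refine (commutator_mono (?_ : ⁅A, W0⁆ ≤ Z) le_rfl).trans ?_
        · rw [commutator_le]
          exact hW0Z
        · rw [commutator_le]
          intro z hz e he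
          rw [mem_bot, commutatorElement_eq_one_iff_mul_comm]
          exact (mem_centralizer_iff.1 hz.2 e he).symm
    intro a ha w hw
    exact (commutatorElement_eq_one_iff_mul_comm.1
      (mem_bot.1 (hWA.le (commutator_mem_commutator hw ha)))).symm
  · rcases hF.2.2.2.2 with ⟨K, _, _, n, hK, -, -, hQ'⟩ | ⟨-, m, -, -, hQ'⟩
    swap
    · exact absurd hQ' hne
    obtain ⟨-, hsec, hQQ, -, -, hcard, -⟩ := hQ'.resolve_left hne
    refine perfect_trivial hWQ (fun h => hne (le_antisymm h hWQ)) ?_ ?_ ?_ (sl_irreducible hK hsec)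
      ?_ hA.1 hperf
    · intro x hx y hy
      exact (hQQ.le (commutator_mem_commutator hx hy)).1
    · exact fun x hx => ⟨(block_normalizers hF hFs (hle hx)).1, (block_normalizers hF hFs (hle hx)).2.1⟩
    · exact (le_normalizer (H := Q)).trans (normalizer_le_omegaOneCenter Q)
    · intro a ha b hb u hu
      exact (hQQ.le (commutator_mem_commutator (hAB a ha b hb) hu)).1

end Finish

/-- The image of a large subnormal block modulo `O_p(G)` is a component. -/
theorem isComponent_image {E : Subgroup G} (hl : BlockType.IsLarge p E) (hEs : E.IsSubnormal) :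
    Cfsg.IsComponent (E.map (QuotientGroup.mk' (pCore p G))) := by
  set π := QuotientGroup.mk' (pCore p G) with hπ
  let f : ↥E →* G ⧸ pCore p G := π.comp E.subtype
  have hker : f.ker = pCore p ↥E := by
    ext x
    rw [MonoidHom.mem_ker, ← QuotientGroup.eq_one_iff (N := pCore p ↥E), ← QuotientGroup.mk'_apply,
      mk_eq_one x.2, pCoreOf_eq_inf hEs]
    simp [f, hπ, x.2]
  refine ⟨hEs.map (QuotientGroup.mk'_surjective _), Core.quasisimple_congr hl ?_⟩
  refine (QuotientGroup.quotientMulEquivOfEq hker).symm.trans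
    ((QuotientGroup.quotientKerEquivRange f).trans (MulEquiv.subgroupCongr ?_))
  rw [MonoidHom.range_comp, range_subtype]

theorem isSolvable_image {E : Subgroup G} (hs : IsSmall p E) (hEs : E.IsSubnormal) :
    Group.IsSolvable ↥(E.map (QuotientGroup.mk' (pCore p G))) := by
  haveI : Group.IsSolvable (↥E ⧸ pCore p ↥E) := by
    rcases hs with ⟨-, h⟩ | ⟨-, h, -⟩
    · haveI := Fact.mk Nat.prime_three
      haveI := (IsPGroup.of_card (p := 3) (n := 1) (by rw [h, pow_one])).isNilpotent
      exact IsNilpotent.to_isSolvable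
    · haveI := Fact.mk Nat.prime_two
      haveI := (IsPGroup.of_card (p := 2) (n := 3) (G := ↥E ⧸ pCore p ↥E) (by rw [h]; norm_num)).isNilpotent
      exact IsNilpotent.to_isSolvable
  set π := QuotientGroup.mk' (pCore p G) with hπ
  let f : ↥E →* ↥(E.map π) := π.subgroupMap E
  have hle : pCore p ↥E ≤ f.ker := fun x hx => Subtype.ext ((QuotientGroup.eq_one_iff _).2
    ((pCoreOf_eq_inf hEs).le ⟨x, hx, rfl⟩).1)
  exact Group.isSolvable_of_surjective (f := QuotientGroup.lift (pCore p ↥E) f hle) fun y => by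
    obtain ⟨x, rfl⟩ := π.subgroupMap_surjective E y
    exact ⟨QuotientGroup.mk x, rfl⟩

/-- A large block is equal to, or commutes modulo `O_p(G)` with, any subnormal block. -/
theorem large_pair {T S : Sylow p G} {E F : Subgroup G} (hE : IsBaumannBlock p (T : Subgroup G) E)
    (hF : IsBaumannBlock p (S : Subgroup G) F) (hl : BlockType.IsLarge p E) (hEs : E.IsSubnormal)
    (hFs : F.IsSubnormal) : E = F ∨ ∀ a ∈ E, ∀ b ∈ F, ⁅a, b⁆ ∈ pCore p G := by
  set π := QuotientGroup.mk' (pCore p G) with hπ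
  have hL := isComponent_image hl hEs
  rcases Core.component_le_or_commute hL (hFs.map (f := π) (QuotientGroup.mk'_surjective _)) with h | h
  · left
    have hFl : BlockType.IsLarge p F := (small_or_large hF).resolve_left fun hs =>
      Core.component_not_le_solvable hL (isSolvable_image hs hFs) h
    have he : E.map π = F.map π := by
      by_contra hne
      have h2 : ⁅E.map π, E.map π⁆ ≤ ⊥ := (commutator_mono le_rfl h).trans
        (Core.component_commute hL (isComponent_image hFl hFs) hne).le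
      rw [Core.IsComponent.commutator_eq hL, le_bot_iff] at h2
      exact Core.IsComponent.ne_bot hL h2
    have hsup : ∀ {A B : Subgroup G}, A.map π ≤ B.map π → A ≤ B ⊔ pCore p G := fun {A B} h x hx => by
      obtain ⟨y, hy, e⟩ := h ⟨x, hx, rfl⟩
      have : y⁻¹ * x ∈ pCore p G := QuotientGroup.eq.1 e
      rw [show x = y * (y⁻¹ * x) by rw [mul_inv_cancel_left]]
      exact mul_mem (mem_sup_left hy) (mem_sup_right this)
    have key : ∀ {A B : Subgroup G} {U : Sylow p G}, IsBaumannBlock p (U : Subgroup G) B →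
        pResidualOf p A = A → A ≤ B ⊔ pCore p G → A ≤ B := fun {A B U} hB hA h => by
      rw [← hA]
      exact pResidualOf_le_iff.2 fun x hx hc => (residual_eq U hB).le (mem_pResidualOf (h hx) hc)
    exact le_antisymm (key hF hE.1 (hsup he.le)) (key hE hF.1 (hsup he.ge))
  · right
    intro a ha b hb
    refine (QuotientGroup.eq_one_iff _).1 ?_
    show π ⁅a, b⁆ = 1
    rw [map_commutatorElement]
    exact mem_bot.1 (h.le (commutator_mem_commutator ⟨a, ha, rfl⟩ ⟨b, hb, rfl⟩))

end Cfsg.Lib.Local.BlockLarge
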