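import Cfsg.Agent.Lib.Local.BaumannBlockBasic
import Cfsg.Agent.Lib.Local.BlockBirefl
import Cfsg.Agent.Lib.Coprime.Action
import Cfsg.Agent.Lib.PGroup.Basic
import Cfsg.Agent.Lib.Core.Cores

/-!
# Two elementary levels of `O_p(G)`

`V = Ω₁(Z(O_p(G)))` and `O_p(G) / VΦ(O_p(G))`: a `p'`-element of a group of characteristic `p`
trivial on both levels is trivial.
-/

set_option autoImplicit false
set_option linter.style.haveILetI false

namespace Cfsg.Lib.Local.BlockLevels

open Subgroup Cfsg Cfsg.Lib Cfsg.Lib.Local.GlaubermanZJ Cfsg.Lib.Local.BaumannBlock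
  Cfsg.Lib.Local.BlockBirefl
open scoped commutatorElement

universe u

variable (p : ℕ) (G : Type u) [Group G]

/-- `Ω₁(Z(O_p(G)))`. -/
def vLevel : Subgroup G := omegaOneCenter p (pCore p G)

theorem vLevel_le : vLevel p G ≤ pCore p G := omegaOneCenter_le p _

instance vLevel_normal : (vLevel p G).Normal := by
  rw [← normalizer_eq_top_iff, eq_top_iff]
  exact (normalizer_eq_top (pCore p G)).ge.trans (normalizer_le_omegaOneCenter _)

instance vLevelCommGroup : CommGroup ↥(vLevel p G) :=
  { (inferInstance : Group ↥(vLevel p G)) with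
    mul_comm := fun a b => Subtype.ext (omegaOneCenter_commute a.2 (vLevel_le p G b.2)).eq }

/-- The action on the first level. -/
def actV : G →* MulAut ↥(vLevel p G) := MulAut.conjNormal

/-- `VΦ(O_p(G))` inside `O_p(G)`. -/
def phiLevel : Subgroup ↥(pCore p G) := (vLevel p G).subgroupOf _ ⊔ frattini ↥(pCore p G)

instance phiLevel_normal : (phiLevel p G).Normal := Subgroup.sup_normal _ _

/-- The second level. -/
abbrev MLevel : Type u := ↥(pCore p G) ⧸ phiLevel p G

theorem map_phiLevel (g : G) :
    (phiLevel p G).map ((MulAut.conjNormal g : MulAut ↥(pCore p G)).toMonoidHom) = phiLevel p G := by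
  have hfr := Subgroup.characteristic_iff_map_eq.1
    (inferInstance : (frattini ↥(pCore p G)).Characteristic) (MulAut.conjNormal g)
  rw [phiLevel, Subgroup.map_sup, hfr]
  congr 1
  ext ⟨x, hx⟩
  simp only [mem_map, mem_subgroupOf, MulEquiv.coe_toMonoidHom]
  constructor
  · rintro ⟨⟨y, hy⟩, hyV, he⟩
    have he' := congrArg Subtype.val he
    simp only [MulAut.conjNormal_apply] at he'
    exact he' ▸ (vLevel_normal p G).conj_mem y hyV g
  · intro h
    refine ⟨⟨g⁻¹ * x * g, ?_⟩, ?_, Subtype.ext ?_⟩
    · simpa using (inferInstance : (pCore p G).Normal).conj_mem x hx g⁻¹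
    · simpa using (vLevel_normal p G).conj_mem x h g⁻¹
    · simp [MulAut.conjNormal_apply, mul_assoc]

/-- The action on the second level. -/
def actM : G →* MulAut (MLevel p G) where
  toFun g := QuotientGroup.congr _ _ (MulAut.conjNormal g) (map_phiLevel p G g)
  map_one' := by
    ext x
    induction x using QuotientGroup.induction_on
    simp
  map_mul' a b := by
    ext x
    induction x using QuotientGroup.induction_on
    rw [MulAut.mul_apply]
    exact congrArg QuotientGroup.mk (DFunLike.congr_fun (map_mul MulAut.conjNormal a b) _)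

variable {p G}

theorem actV_apply (g : G) (v : ↥(vLevel p G)) : (actV p G g v : G) = g * v * g⁻¹ :=
  MulAut.conjNormal_apply g v

theorem actM_apply (g : G) (x : ↥(pCore p G)) :
    actM p G g (QuotientGroup.mk x) = QuotientGroup.mk (MulAut.conjNormal g x) := rfl

theorem actM_eq_of_conj {g : G} (x y : ↥(pCore p G)) (h : g * (x : G) * g⁻¹ = y) :
    actM p G g (QuotientGroup.mk x) = QuotientGroup.mk y := by
  rw [actM_apply]
  congr 1
  exact Subtype.ext (by rw [MulAut.conjNormal_apply]; exact h)

variable [Finite G] [hp : Fact p.Prime]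

noncomputable instance mLevelCommGroup : CommGroup (MLevel p G) :=
  { (inferInstance : Group (MLevel p G)) with
    mul_comm := fun a b => by
      induction a using QuotientGroup.induction_on with
      | H x =>
      induction b using QuotientGroup.induction_on with
      | H y =>
      refine QuotientGroup.eq.2 (mem_sup_right ?_)
      have h := PGroup.commutator_le_frattini (Core.pCore_isPGroup p G)
        (commutator_mem_commutator (Subgroup.mem_top y⁻¹) (Subgroup.mem_top x⁻¹))
      simpa [commutatorElement_def, mul_assoc] using h }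

theorem vLevel_pow (v : ↥(vLevel p G)) : v ^ p = 1 := Subtype.ext (by
  rw [SubmonoidClass.coe_pow]; exact omegaOneCenter_pow v.2)

theorem mLevel_pow (m : MLevel p G) : m ^ p = 1 := by
  induction m using QuotientGroup.induction_on with
  | H x =>
  rw [← QuotientGroup.mk_pow, QuotientGroup.eq_one_iff]
  exact mem_sup_right (PGroup.pow_mem_frattini (Core.pCore_isPGroup p G) x)

/-- `O_p(G)` acts trivially on the first level. -/
theorem actV_pCore {x : G} (hx : x ∈ pCore p G) : actV p G x = 1 := by
  ext v
  rw [actV_apply, (omegaOneCenter_commute v.2 hx).symm.eq, MulAut.one_apply, mul_inv_cancel_right]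

/-- `O_p(G)` acts trivially on the second level. -/
theorem actM_pCore {x : G} (hx : x ∈ pCore p G) : actM p G x = 1 := by
  ext m
  induction m using QuotientGroup.induction_on with
  | H y =>
  rw [MulAut.one_apply, actM_eq_of_conj y (⟨x, hx⟩ * y * ⟨x, hx⟩⁻¹) (by simp)]
  rw [QuotientGroup.mk_mul, QuotientGroup.mk_mul, QuotientGroup.mk_inv]
  exact mul_inv_eq_iff_eq_mul.2 (mul_comm _ _)

set_option maxHeartbeats 800000 in
/-- A `p'`-element trivial on the second level moves `O_p(G)` only into `V`. -/
theorem commutator_mem_vLevel {e : G} (hc : (orderOf e).Coprime p) (h : actM p G e = 1)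
    {x : G} (hx : x ∈ pCore p G) : ⁅x, e⁆ ∈ vLevel p G := by
  set P := pCore p G with hP
  set A := zpowers e with hA
  have hAP : A ≤ normalizer (P : Set G) := le_trans le_top (normalizer_eq_top P).ge
  have hcop : (Nat.card A).Coprime (Nat.card P) :=
    coprime_card_zpowers (Core.pCore_isPGroup p G) hc
  have hsol : Group.IsSolvable A ∨ Group.IsSolvable P := Or.inl (isSolvable_zpowers e)
  set N := (phiLevel p G).map P.subtype with hN
  have hNn : N.Normal := by
    refine ⟨?_⟩
    rintro _ ⟨n, hn, rfl⟩ g
    exact ⟨MulAut.conjNormal g n, (map_phiLevel p G g).le ⟨n, hn, rfl⟩, MulAut.conjNormal_apply g n⟩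
  have hAN : A ≤ normalizer (N : Set G) := le_trans le_top (normalizer_eq_top N).ge
  have hgen : ∀ a ∈ A, ∀ y : ↥P, ⁅(y : G), a⁆ ∈ N := by
    intro a ha y
    have ha1 : actM p G a = 1 := by
      obtain ⟨i, rfl⟩ := mem_zpowers_iff.1 ha
      rw [map_zpow, h, one_zpow]
    have h1 := DFunLike.congr_fun ha1 (QuotientGroup.mk (y⁻¹))
    rw [actM_apply, MulAut.one_apply, QuotientGroup.eq] at h1
    refine ⟨_, inv_mem h1, ?_⟩
    simp [MulAut.conjNormal_apply, commutatorElement_def]
    group
  -- fixed points cover `P` modulo `V`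
  set C := (P ⊓ centralizer (A : Set G)).subgroupOf P with hC
  have htop : (vLevel p G).subgroupOf P ⊔ C = ⊤ := by
    refine frattini_nongenerating (eq_top_iff.2 fun y _ => ?_)
    obtain ⟨n, hn, c, hc', he⟩ := Coprime.exists_mul_centralizer_of_commutator_mem hAP hcop hsol
      (map_subtype_le _ : N ≤ P) hAN y.2 (fun a ha => hgen a ha y)
    obtain ⟨m, hm, rfl⟩ := hn
    have hy : y = m * ⟨c, hc'.1⟩ := Subtype.ext he
    rw [hy, sup_right_comm]
    exact mul_mem (mem_sup_left hm) (mem_sup_right (mem_subgroupOf.2 hc'))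
  haveI : ((vLevel p G).subgroupOf P).Normal := inferInstance
  obtain ⟨v, hv, c, hc', he⟩ := Subgroup.mem_sup_of_normal_left.1
    (htop.ge (Subgroup.mem_top (⟨x, hx⟩ : ↥P)))
  have hcc : Commute (c : G) e := (mem_centralizer_iff.1 (mem_subgroupOf.1 hc').2 e (mem_zpowers e)).symm
  have hxv : x = (v : G) * c := congrArg Subtype.val he.symm
  rw [hxv, show ⁅(v : G) * c, e⁆ = v * (e * (v : G)⁻¹ * e⁻¹) by
    rw [commutatorElement_def, mul_inv_rev, show (v : G) * c * e * ((c : G)⁻¹ * (v : G)⁻¹) * e⁻¹ =
      v * (c * e * (c : G)⁻¹) * (v : G)⁻¹ * e⁻¹ by group, hcc.eq, mul_inv_cancel_right]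
    group]
  exact mul_mem (mem_subgroupOf.1 hv)
    ((vLevel_normal p G).conj_mem _ (inv_mem (mem_subgroupOf.1 hv)) e)

/-- An element trivial on both levels lies in `O_p(G)`. -/
theorem mem_pCore_of_trivial (hG : centralizer (pCore p G : Set G) ≤ pCore p G) {g : G}
    (hV : actV p G g = 1) (hM : actM p G g = 1) : g ∈ pCore p G := by
  set K := (actV p G).ker ⊓ (actM p G).ker with hK
  have hKn : K.Normal := normal_inf_normal _ _
  refine Core.le_pCore' hKn (isPGroup_of_forall_coprime fun y hy hc => ?_) ⟨hV, hM⟩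
  have hfix : ∀ x ∈ pCore p G, Commute y x := by
    intro x hx
    have hz := commutator_mem_vLevel hc hy.2 hx
    have h1 : Commute y ⁅x, y⁆ := by
      have := congrArg Subtype.val (DFunLike.congr_fun (hy.1 : actV p G y = 1) ⟨_, hz⟩)
      rw [actV_apply, MulAut.one_apply] at this
      exact mul_inv_eq_iff_eq_mul.1 this
    refine commute_of_coprime hc ?_ ?_ ?_
    · rw [← commutatorElement_inv, inv_pow, omegaOneCenter_pow hz, inv_one]
    · rw [← commutatorElement_inv]; exact h1.inv_right
    · rw [← commutatorElement_inv]; exact ((omegaOneCenter_commute hz hx).symm).inv_right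
  exact (orderOf_eq_one_of_coprime_mem (Core.pCore_isPGroup p G)
    (hG (mem_centralizer_iff.2 fun x hx => (hfix x hx).symm.eq)) hc)

end Cfsg.Lib.Local.BlockLevels
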