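import Cfsg.Agent.Lib.Local.BaumannBlockBasic
import Cfsg.Agent.Lib.Core.Layer
import Cfsg.Agent.Lib.QPair.Components

/-!
# The two types of blocks

A block has quasisimple quotient modulo `O_p`, or it is small: `C₃` for `p = 2` or `Q₈` for `p = 3`.
-/

set_option autoImplicit false
set_option linter.style.haveILetI false

namespace Cfsg.Lib.Local.BlockType

open Subgroup Cfsg Cfsg.Lib Cfsg.Lib.Local.BaumannBlock
open scoped commutatorElement MatrixGroups

universe u

/-! ### The models -/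

theorem sl_fixed {F : Type*} [Field F] {p : ℕ} [CharP F p] {g : SL(2, F)}
    {n : ℕ} (hn : g ^ n = 1) (hnp : n.Coprime p) {v : Fin 2 → F}
    (hv : (g : Matrix (Fin 2) (Fin 2) F).mulVec v = v) (hv0 : v ≠ 0) : g = 1 := by
  set N : Matrix (Fin 2) (Fin 2) F := (g : Matrix (Fin 2) (Fin 2) F) - 1 with hN
  have hdetN : N.det = 0 := by
    refine Matrix.exists_mulVec_eq_zero_iff.1 ⟨v, hv0, ?_⟩
    rw [hN, Matrix.sub_mulVec, hv, Matrix.one_mulVec, sub_self]
  have hdet : Matrix.det (g : Matrix (Fin 2) (Fin 2) F) = 1 := g.2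
  rw [Matrix.det_fin_two] at hdet hdetN
  simp only [hN, Matrix.sub_apply] at hdetN
  simp at hdetN
  have hNN : N * N = 0 := by
    ext i j
    fin_cases i <;> fin_cases j <;> simp [hN, Matrix.mul_apply, Fin.sum_univ_two] <;> grind
  have hpow : ∀ k : ℕ, ((g ^ k : SL(2, F)) : Matrix (Fin 2) (Fin 2) F) = 1 + k • N := by
    intro k
    induction k with
    | zero => simp
    | succ k ih =>
      rw [pow_succ, Matrix.SpecialLinearGroup.coe_mul, ih,
        show (g : Matrix (Fin 2) (Fin 2) F) = 1 + N by rw [hN]; abel, add_mul, one_mul, mul_add,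
        mul_one, smul_mul_assoc, hNN, smul_zero, add_zero, succ_nsmul]
      abel
  have hgp : g ^ p = 1 := Subtype.ext (by
    rw [hpow, Matrix.SpecialLinearGroup.coe_one]
    ext i j
    simp [nsmul_eq_mul])
  have h1 := pow_gcd_eq_one.2 ⟨hn, hgp⟩
  rwa [Nat.Coprime.gcd_eq_one hnp, pow_one] at h1

theorem alt_fixed : ∀ σ : Equiv.Perm (Fin 3), Equiv.Perm.sign σ = 1 → σ ≠ 1 →
    ∀ v : Fin 3 → ZMod 2, ∑ i, v i = 0 → (∀ i, v (σ.symm i) = v i) → v = 0 := by decide

theorem alt_even_card : Fintype.card {v : Fin 3 → ZMod 2 // ∑ i, v i = 0} = 4 := by decide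

/-- The copy of `Q₈` in `SL₂(3)`. -/
def qEight : Subgroup SL(2, ZMod 3) where
  carrier := {g | g = 1 ∨ g = -1 ∨ g * g = -1}
  one_mem' := Or.inl rfl
  mul_mem' := by
    intro a b
    revert a b
    decide +kernel
  inv_mem' := by
    intro a
    revert a
    decide +kernel

instance : DecidablePred (· ∈ qEight) := fun g =>
  inferInstanceAs (Decidable (g = 1 ∨ g = -1 ∨ g * g = -1))

theorem qEight_eq : commutator SL(2, ZMod 3) = qEight := by
  refine le_antisymm ?_ fun g hg => ?_
  · rw [commutator_def, commutator_le]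
    have key : ∀ a b : SL(2, ZMod 3), a * b * a⁻¹ * b⁻¹ ∈ qEight := by decide +kernel
    exact fun a _ b _ => key a b
  · have key : ∀ g : SL(2, ZMod 3), g ∈ qEight → ∃ a b, a * b * a⁻¹ * b⁻¹ = g := by decide +kernel
    obtain ⟨a, b, rfl⟩ := key g hg
    exact commutator_mem_commutator (mem_top a) (mem_top b)

theorem qEight_card : Nat.card qEight = 8 := by
  rw [Nat.card_eq_fintype_card]
  decide +kernel

theorem qEight_facts : (-1 : SL(2, ZMod 3)) ≠ 1 ∧ (-1 : SL(2, ZMod 3)) * -1 = 1 ∧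
    ∃ i j : SL(2, ZMod 3), i ∈ qEight ∧ j ∈ qEight ∧ i * j * i⁻¹ * j⁻¹ = -1 := by decide +kernel

def threeCyc : Subgroup SL(2, ZMod 2) where
  carrier := {g | g ^ 3 = 1}
  one_mem' := one_pow 3
  mul_mem' := by
    intro a b
    revert a b
    decide +kernel
  inv_mem' := by
    intro a
    revert a
    decide +kernel

instance : DecidablePred (· ∈ threeCyc) := fun g => inferInstanceAs (Decidable (g ^ 3 = 1))

theorem threeCyc_eq : commutator SL(2, ZMod 2) = threeCyc := by
  refine le_antisymm ?_ fun g hg => ?_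
  · rw [commutator_def, commutator_le]
    have key : ∀ a b : SL(2, ZMod 2), a * b * a⁻¹ * b⁻¹ ∈ threeCyc := by decide +kernel
    exact fun a _ b _ => key a b
  · have key : ∀ g : SL(2, ZMod 2), g ∈ threeCyc → ∃ a b, a * b * a⁻¹ * b⁻¹ = g := by decide +kernel
    obtain ⟨a, b, rfl⟩ := key g hg
    exact commutator_mem_commutator (mem_top a) (mem_top b)

theorem threeCyc_card : Nat.card threeCyc = 3 := by
  rw [Nat.card_eq_fintype_card]
  decide +kernel

/-! ### Small and large quotients -/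

/-- `K` is `C₃` (`p = 2`) or `Q₈` (`p = 3`). -/
def SmallQuot (p : ℕ) (K : Type u) [Group K] : Prop :=
  (p = 2 ∧ Nat.card K = 3) ∨ (p = 3 ∧ Nat.card K = 8 ∧
    ∃ z i j : K, z ≠ 1 ∧ z * z = 1 ∧ i * j * i⁻¹ * j⁻¹ = z ∧ ∀ g, g = 1 ∨ g = z ∨ g * g = z)

theorem SmallQuot.central {p : ℕ} {K : Type u} [Group K] [Finite K] (h : SmallQuot p K) :
    ∃ g₀ : K, g₀ ≠ 1 ∧ ∀ g, g * g₀ = g₀ * g := by
  rcases h with ⟨-, hK⟩ | ⟨-, -, z, i, j, hz, hzz, -, hall⟩
  · haveI := Fact.mk Nat.prime_three
    haveI : IsCyclic K := isCyclic_of_prime_card hK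
    haveI : Nontrivial K := Finite.one_lt_card_iff_nontrivial.1 (by omega)
    obtain ⟨g₀, h₀⟩ := exists_ne (1 : K)
    exact ⟨g₀, h₀, fun g => IsCyclic.isMulCommutative.is_comm.comm g g₀⟩
  · refine ⟨z, hz, fun g => ?_⟩
    rcases hall (g * z * g⁻¹) with h | h | h
    · exact absurd (conj_eq_one_iff.1 h) hz
    · calc g * z = g * z * g⁻¹ * g := by group
        _ = z * g := by rw [h]
    · rw [show g * z * g⁻¹ * (g * z * g⁻¹) = g * (z * z) * g⁻¹ by group, hzz] at h
      exact absurd (by simpa using h.symm) hz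

theorem SmallQuot.congr {p : ℕ} {K K' : Type u} [Group K] [Group K'] (e : K ≃* K')
    (h : SmallQuot p K) : SmallQuot p K' := by
  rcases h with ⟨hp, hK⟩ | ⟨hp, hK, z, i, j, hz, hzz, hij, hall⟩
  · exact Or.inl ⟨hp, by rw [← hK, Nat.card_congr e.toEquiv]⟩
  · refine Or.inr ⟨hp, by rw [← hK, Nat.card_congr e.toEquiv], e z, e i, e j,
      fun h => hz (e.injective (h.trans e.map_one.symm)), by rw [← map_mul, hzz, map_one],
      by rw [← hij]; simp, fun g => ?_⟩
    obtain ⟨g, rfl⟩ := e.surjective g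
    rcases hall g with h | h | h
    · exact Or.inl (by rw [h, map_one])
    · exact Or.inr (Or.inl (by rw [h]))
    · exact Or.inr (Or.inr (by rw [← map_mul, h]))

theorem smallQuot_sl {F : Type} [Field F] [Fintype F] {p : ℕ} (hp : p = 2 ∨ p = 3)
    (hF : Fintype.card F = p) : SmallQuot p ↥(commutator SL(2, F)) := by
  have hpp : p.Prime := by
    rcases hp with rfl | rfl
    · exact Nat.prime_two
    · exact Nat.prime_three
  haveI := Fact.mk hpp
  set σ := ZMod.ringEquivOfPrime F hpp hF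
  let f : SL(2, ZMod p) →* SL(2, F) := Matrix.SpecialLinearGroup.map σ.toRingHom
  have hinj : Function.Injective f := by
    intro a b h
    refine Subtype.ext (Matrix.ext fun i j => σ.injective ?_)
    exact congrFun (congrFun (congrArg Subtype.val h) i) j
  have hsurj : Function.Surjective f := by
    intro b
    refine ⟨Matrix.SpecialLinearGroup.map σ.symm.toRingHom b, Subtype.ext (Matrix.ext fun i j => ?_)⟩
    show σ (σ.symm _) = _
    rw [RingEquiv.apply_symm_apply]
  have hmap : (commutator SL(2, ZMod p)).map f = commutator SL(2, F) := by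
    rw [commutator_def, commutator_def, map_commutator, ← MonoidHom.range_eq_map,
      MonoidHom.range_eq_top.2 hsurj]
  refine SmallQuot.congr ((equivMapOfInjective _ f hinj).trans (MulEquiv.subgroupCongr hmap)) ?_
  rcases hp with rfl | rfl
  · exact SmallQuot.congr (MulEquiv.subgroupCongr threeCyc_eq.symm) (Or.inl ⟨rfl, threeCyc_card⟩)
  · refine SmallQuot.congr (MulEquiv.subgroupCongr qEight_eq.symm)
      (Or.inr ⟨rfl, qEight_card, ⟨-1, Or.inr (Or.inl rfl)⟩, ?_⟩)
    obtain ⟨h1, h2, i, j, hi, hj, hij⟩ := qEight_facts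
    refine ⟨⟨i, hi⟩, ⟨j, hj⟩, fun h => h1 (congrArg Subtype.val h), Subtype.ext h2,
      Subtype.ext hij, ?_⟩
    rintro ⟨g, rfl | rfl | h⟩
    · exact Or.inl rfl
    · exact Or.inr (Or.inl rfl)
    · exact Or.inr (Or.inr (Subtype.ext h))

theorem alt_three_small : SmallQuot 2 ↥(alternatingGroup (Fin 3)) := by
  refine Or.inl ⟨rfl, ?_⟩
  rw [Nat.card_eq_fintype_card]
  decide

variable {G : Type u} [Group G] {p : ℕ}

/-- The block is small. -/
def IsSmall (p : ℕ) (E : Subgroup G) : Prop := SmallQuot p (↥E ⧸ pCore p ↥E)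

/-- The block is large. -/
def IsLarge (p : ℕ) (E : Subgroup G) : Prop := Cfsg.IsQuasisimple (↥E ⧸ pCore p ↥E)

theorem SmallQuot.congr' {p : ℕ} {K : Type u} {K' : Type} [Group K] [Group K'] (e : K ≃* K')
    (h : SmallQuot p K') : SmallQuot p K := by
  rcases h with ⟨hp, hK⟩ | ⟨hp, hK, z, i, j, hz, hzz, hij, hall⟩
  · exact Or.inl ⟨hp, by rw [← hK, Nat.card_congr e.toEquiv]⟩
  · refine Or.inr ⟨hp, by rw [← hK, Nat.card_congr e.toEquiv], e.symm z, e.symm i, e.symm j,
      fun h => hz (e.symm.injective (h.trans e.symm.map_one.symm)),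
      by rw [← map_mul, hzz, map_one], by rw [← hij]; simp, fun g => ?_⟩
    obtain ⟨g, rfl⟩ := e.symm.surjective g
    rcases hall g with h | h | h
    · exact Or.inl (by rw [h, map_one])
    · exact Or.inr (Or.inl (by rw [h]))
    · exact Or.inr (Or.inr (by rw [← map_mul, h]))

theorem small_or_large [Finite G] [Fact p.Prime] {T E : Subgroup G} (hE : IsBaumannBlock p T E) :
    IsSmall p E ∨ IsLarge p E := by
  rcases hE.2.2.2.2 with ⟨F, _, _, n, hF, ⟨e⟩, -⟩ | ⟨rfl, m, ⟨e⟩, -⟩
  · by_cases hbig : ∃ b : F, b ≠ 0 ∧ b * b ≠ 1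
    · obtain ⟨b, hb, hb2⟩ := hbig
      have hq := Cfsg.Agent.Lib.QPair.sl_quasisimple hb hb2
      refine Or.inr (Core.quasisimple_congr (Core.quasisimple_congr hq ?_) e.symm)
      exact ((MulEquiv.subgroupCongr (Core.quasisimple_commutator hq)).trans topEquiv).symm
    · push Not at hbig
      classical
      have hsub : (Finset.univ : Finset F) ⊆ {0, 1, -1} := by
        intro a _
        by_cases ha : a = 0
        · simp [ha]
        · rcases mul_self_eq_one_iff.1 (hbig a ha) with h | h <;> simp [h]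
      have hcard : Fintype.card F ≤ 3 := le_trans (Finset.card_le_card hsub) Finset.card_le_three
      have h2 := Fintype.one_lt_card (α := F)
      have hp := (Fact.out : p.Prime)
      have hpd : p ∣ Fintype.card F := by
        rw [hF]
        refine dvd_pow_self p fun hn => ?_
        rw [hn, pow_zero] at hF
        omega
      have hp23 : (p = 2 ∨ p = 3) ∧ Fintype.card F = p := by
        have := Nat.le_of_dvd (by omega) hpd
        have := hp.two_le
        rcases (show Fintype.card F = 2 ∨ Fintype.card F = 3 by omega) with h | h <;>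
          rw [h] at hpd ⊢
        · have := (Nat.prime_dvd_prime_iff_eq hp Nat.prime_two).1 hpd
          omega
        · have := (Nat.prime_dvd_prime_iff_eq hp Nat.prime_three).1 hpd
          omega
      exact Or.inl (SmallQuot.congr' e (smallQuot_sl hp23.1 hp23.2))
  · rcases (show m = 0 ∨ m = 1 ∨ 2 ≤ m by omega) with rfl | rfl | hm
    · exfalso
      apply not_isPGroup hE
      haveI : Subsingleton (Equiv.Perm (Fin (2 * 0 + 1))) :=
        haveI : Subsingleton (Fin (2 * 0 + 1)) := Fin.subsingleton_one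
        ⟨fun a b => Equiv.ext fun _ => Subsingleton.elim _ _⟩
      have htop : pCore 2 ↥E = ⊤ := eq_top_iff.2 fun x _ =>
        (QuotientGroup.eq_one_iff x).1 (e.injective (Subsingleton.elim _ _))
      have hp := Core.pCore_isPGroup 2 ↥E
      rw [htop] at hp
      exact hp.of_surjective (Subgroup.topEquiv : (⊤ : Subgroup E) ≃* E).toMonoidHom
        (Subgroup.topEquiv : (⊤ : Subgroup E) ≃* E).surjective
    · exact Or.inl (SmallQuot.congr' e alt_three_small)
    · refine Or.inr (Core.quasisimple_congr ?_ e.symm)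
      haveI : IsSimpleGroup ↥(alternatingGroup (Fin (2 * m + 1))) :=
        alternatingGroup.isSimpleGroup (by simp; omega)
      have hna : ¬ IsMulCommutative ↥(alternatingGroup (Fin (2 * m + 1))) := fun h => by
        have := alternatingGroup.center_eq_bot (α := Fin (2 * m + 1)) (by simp; omega)
        rw [Subgroup.center_eq_top] at this
        exact top_ne_bot this
      refine ⟨Group.isPerfect_def.2 ?_, ?_⟩
      · rcases (inferInstance : (commutator ↥(alternatingGroup (Fin (2 * m + 1)))).Normal).eq_bot_or_eq_top with h | h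
        · exact absurd ((commutator_eq_bot_iff (G := ↥(alternatingGroup (Fin (2 * m + 1))))).1 h) hna
        · exact h
      · have hc := alternatingGroup.center_eq_bot (α := Fin (2 * m + 1)) (by simp; omega)
        exact ((QuotientGroup.quotientMulEquivOfEq hc).trans QuotientGroup.quotientBot).isSimpleGroup

/-- In a small block an element outside the kernel fixes no nontrivial coset on a natural section. -/
theorem sl_section_small [Finite G] [Fact p.Prime] {F : Type} [Field F] [Fintype F] {n : ℕ}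
    (hF : Fintype.card F = p ^ n) {E U U₀ : Subgroup G} (hsmall : IsSmall p E)
    (e : ↥E ⧸ pCore p ↥E ≃* ↥(commutator SL(2, F)))
    (hsec : ActsAsSL2OnSection F (commutator SL(2, F)) E U U₀)
    (htriv : ∀ q ∈ pCoreOf p E, ∀ u ∈ U, ⁅q, u⁆ ∈ U₀) :
    (∀ g ∈ E, g ∉ pCoreOf p E → ∀ u ∈ U, ⁅g, u⁆ ∈ U₀ → u ∈ U₀) ∧
      Nat.card U = p ^ 2 * Nat.card U₀ := by
  classical
  obtain ⟨-, hU0, ρ, ψ, hρ, hψ, hker, hact⟩ := hsec
  have hK : Nat.card (↥E ⧸ pCore p ↥E) = Nat.card (commutator SL(2, F)) := Nat.card_congr e.toEquiv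
  have hFp : Fintype.card F = p := by
    by_cases hbig : ∃ b : F, b ≠ 0 ∧ b * b ≠ 1
    · exfalso
      obtain ⟨b, hb, hb2⟩ := hbig
      have hq : Cfsg.IsQuasisimple (↥E ⧸ pCore p ↥E) := by
        have hq := Cfsg.Agent.Lib.QPair.sl_quasisimple hb hb2
        refine Core.quasisimple_congr (Core.quasisimple_congr hq ?_) e.symm
        exact ((MulEquiv.subgroupCongr (Core.quasisimple_commutator hq)).trans topEquiv).symm
      refine Core.quasisimple_not_solvable hq ?_
      rcases hsmall with ⟨-, hK3⟩ | ⟨-, hK8, -⟩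
      · haveI := Fact.mk Nat.prime_three
        haveI := (IsPGroup.of_card (p := 3) (n := 1) (by rw [hK3, pow_one])).isNilpotent
        exact IsNilpotent.to_isSolvable
      · haveI := Fact.mk Nat.prime_two
        haveI := (IsPGroup.of_card (p := 2) (n := 3) (G := ↥E ⧸ pCore p ↥E) (by rw [hK8]; norm_num)).isNilpotent
        exact IsNilpotent.to_isSolvable
    · push Not at hbig
      have hsub : (Finset.univ : Finset F) ⊆ {0, 1, -1} := by
        intro a _
        by_cases ha : a = 0
        · simp [ha]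
        · rcases mul_self_eq_one_iff.1 (hbig a ha) with h | h <;> simp [h]
      have h3 : Fintype.card F ≤ 3 := le_trans (Finset.card_le_card hsub) Finset.card_le_three
      have h2 := Fintype.one_lt_card (α := F)
      have hp2 := (Fact.out : p.Prime).two_le
      rcases Nat.lt_or_ge 1 n with hn | hn
      · have : p ^ 2 ≤ p ^ n := Nat.pow_le_pow_right (by omega) hn
        have : 2 * 2 ≤ p ^ 2 := by rw [pow_two]; exact Nat.mul_le_mul hp2 hp2
        omega
      · interval_cases n
        · simp at hF; omega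
        · rw [hF, pow_one]
  haveI : CharP F p := charP_of_card_eq_prime_pow (f := 1) (by rw [hFp, pow_one])
  have hcop : (Nat.card (commutator SL(2, F))).Coprime p := by
    rcases hsmall with ⟨rfl, hK3⟩ | ⟨rfl, hK8, -⟩
    · rw [← hK, hK3]; decide
    · rw [← hK, hK8]; decide
  have hle : pCore p ↥E ≤ ρ.ker := by
    intro q hq
    refine Subtype.ext (Matrix.ext_of_mulVec_single fun i => ?_)
    obtain ⟨u, hu⟩ := hψ (Multiplicative.ofAdd (Pi.single i (1 : F)))
    obtain ⟨w, hw, hw'⟩ := hact q u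
    have : ψ w = ψ u := by
      have h0 := (hker (w * u⁻¹)).2 (by
        rw [Subgroup.coe_mul, InvMemClass.coe_inv, hw]
        exact htriv q ⟨q, hq, rfl⟩ u u.2)
      rwa [map_mul, map_inv, mul_inv_eq_one] at h0
    rw [this, hu] at hw'
    simpa [Matrix.col_def, Matrix.one_apply, Pi.single_apply, funext_iff, eq_comm (a := i)] using hw'.symm
  have hcard : Nat.card (↥E ⧸ ρ.ker) = Nat.card (↥E ⧸ pCore p ↥E) := by
    rw [hK, ← hρ]
    exact Nat.card_congr (QuotientGroup.quotientKerEquivRange ρ).toEquiv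
  have hkerQ : ρ.ker = pCore p ↥E := by
    symm
    refine Subgroup.eq_of_le_of_card_ge hle ?_
    have h1 := Subgroup.card_eq_card_quotient_mul_card_subgroup ρ.ker
    have h2 := Subgroup.card_eq_card_quotient_mul_card_subgroup (pCore p ↥E)
    rw [hcard] at h1
    exact (Nat.eq_of_mul_eq_mul_left Nat.card_pos (h1.symm.trans h2)).le
  refine ⟨fun g hg hgQ u hu hcomm => ?_, ?_⟩
  · obtain ⟨w, hw, hw'⟩ := hact ⟨g, hg⟩ ⟨u, hu⟩
    have hww : ψ w = ψ ⟨u, hu⟩ := by
      have h0 := (hker (w * ⟨u, hu⟩⁻¹)).2 (by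
        rw [Subgroup.coe_mul, InvMemClass.coe_inv, hw]
        exact hcomm)
      rwa [map_mul, map_inv, mul_inv_eq_one] at h0
    rw [hww] at hw'
    refine (hker ⟨u, hu⟩).1 ?_
    by_contra hne
    have hρg : (ρ ⟨g, hg⟩) ^ Nat.card (commutator SL(2, F)) = 1 := by
      have hmem : ρ ⟨g, hg⟩ ∈ commutator SL(2, F) := hρ.le ⟨_, rfl⟩
      exact congrArg Subtype.val
        (pow_card_eq_one' (x := (⟨_, hmem⟩ : commutator SL(2, F))))
    have h1 := sl_fixed hρg hcop hw'.symm (fun h => hne (by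
      apply Multiplicative.toAdd.injective; rw [h, toAdd_one]))
    exact hgQ ⟨⟨g, hg⟩, hkerQ.le h1, rfl⟩
  · have h1 := Subgroup.card_eq_card_quotient_mul_card_subgroup ψ.ker
    rw [Nat.card_congr (QuotientGroup.quotientKerEquivOfSurjective ψ hψ).toEquiv] at h1
    have h2 : Nat.card ψ.ker = Nat.card U₀ := by
      rw [show ψ.ker = U₀.subgroupOf U from Subgroup.ext fun u => hker u]
      exact Nat.card_congr (subgroupOfEquivOfLe hU0).toEquiv
    rw [h1, h2, Nat.card_congr Multiplicative.toAdd, Nat.card_eq_fintype_card, Fintype.card_fun,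
      Fintype.card_fin, hFp]

/-- The same for the module of `A₃`. -/
theorem alt_section_small [Finite G] {E U U₀ : Subgroup G}
    (e : ↥E ⧸ pCore 2 ↥E ≃* ↥(alternatingGroup (Fin (2 * 1 + 1))))
    (hsec : ActsAsOddPermModuleOnSection (2 * 1 + 1) (alternatingGroup (Fin (2 * 1 + 1))) E U U₀)
    (htriv : ∀ q ∈ pCoreOf 2 E, ∀ u ∈ U, ⁅q, u⁆ ∈ U₀) :
    (∀ g ∈ E, g ∉ pCoreOf 2 E → ∀ u ∈ U, ⁅g, u⁆ ∈ U₀ → u ∈ U₀) ∧
      Nat.card U = 2 ^ 2 * Nat.card U₀ := by
  classical
  obtain ⟨-, hU0, ρ, ψ, hρ, heven, hsurj, hker, hact⟩ := hsec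
  have hK : Nat.card (↥E ⧸ pCore 2 ↥E) = Nat.card (alternatingGroup (Fin (2 * 1 + 1))) :=
    Nat.card_congr e.toEquiv
  have hle : pCore 2 ↥E ≤ ρ.ker := by
    intro q hq
    have h2 : ∀ i, (ρ q).symm i = i := fun i => by
      by_contra hne
      obtain ⟨v, hv, hvne⟩ : ∃ v : Fin (2 * 1 + 1) → ZMod 2, ∑ k, v k = 0 ∧ v ((ρ q).symm i) ≠ v i := by
        revert hne
        generalize (ρ q).symm i = j
        revert i j
        decide
      obtain ⟨u, hu⟩ := hsurj v hv
      obtain ⟨w, hw, hw'⟩ := hact q u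
      have : ψ w = ψ u := by
        have h0 := (hker (w * u⁻¹)).2 (by
          rw [Subgroup.coe_mul, InvMemClass.coe_inv, hw]
          exact htriv q ⟨q, hq, rfl⟩ u u.2)
        rwa [map_mul, map_inv, mul_inv_eq_one] at h0
      have h3 := hw' i
      rw [this, hu] at h3
      exact hvne h3.symm
    exact Equiv.ext fun i => by simpa using (congrArg (ρ q) (h2 i)).symm
  have hkerQ : ρ.ker = pCore 2 ↥E := by
    symm
    refine Subgroup.eq_of_le_of_card_ge hle ?_
    have h1 := Subgroup.card_eq_card_quotient_mul_card_subgroup ρ.ker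
    have h2 := Subgroup.card_eq_card_quotient_mul_card_subgroup (pCore 2 ↥E)
    rw [Nat.card_congr (QuotientGroup.quotientKerEquivRange ρ).toEquiv, hρ, ← hK] at h1
    exact (Nat.eq_of_mul_eq_mul_left Nat.card_pos (h1.symm.trans h2)).le
  refine ⟨fun g hg hgQ u hu hcomm => ?_, ?_⟩
  · obtain ⟨w, hw, hw'⟩ := hact ⟨g, hg⟩ ⟨u, hu⟩
    have hww : ψ w = ψ ⟨u, hu⟩ := by
      have h0 := (hker (w * ⟨u, hu⟩⁻¹)).2 (by
        rw [Subgroup.coe_mul, InvMemClass.coe_inv, hw]
        exact hcomm)
      rwa [map_mul, map_inv, mul_inv_eq_one] at h0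
    rw [hww] at hw'
    have h0 := alt_fixed (ρ ⟨g, hg⟩) (Equiv.Perm.mem_alternatingGroup.1 (hρ.le ⟨_, rfl⟩))
      (fun h => hgQ ⟨⟨g, hg⟩, hkerQ.le h, rfl⟩) _ (heven _) fun i => (hw' i).symm
    exact (hker ⟨u, hu⟩).1 (Multiplicative.toAdd.injective h0)
  · let ψ' : U → {v : Fin 3 → ZMod 2 // ∑ i, v i = 0} := fun u =>
      ⟨Multiplicative.toAdd (ψ u), heven u⟩
    have h1 := Subgroup.card_eq_card_quotient_mul_card_subgroup ψ.ker
    have h2 : Nat.card ψ.ker = Nat.card U₀ := by
      rw [show ψ.ker = U₀.subgroupOf U from Subgroup.ext fun u => hker u]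
      exact Nat.card_congr (subgroupOfEquivOfLe hU0).toEquiv
    have h3 : Nat.card (↥U ⧸ ψ.ker) = 4 := by
      rw [Nat.card_congr (QuotientGroup.quotientKerEquivRange ψ).toEquiv, ← alt_even_card,
        ← Nat.card_eq_fintype_card]
      refine Nat.card_congr ((Multiplicative.toAdd).subtypeEquiv fun x => ?_)
      constructor
      · rintro ⟨u, rfl⟩
        exact heven u
      · intro hx
        obtain ⟨u, hu⟩ := hsurj _ hx
        exact ⟨u, Multiplicative.toAdd.injective hu⟩
    rw [h1, h2, h3]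
    norm_num

end Cfsg.Lib.Local.BlockType
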