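import Cfsg.Agent.Lib.Local.BlockLevels
import Cfsg.Agent.Lib.Local.BlockType

/-!
# Small blocks on the two levels

A small subnormal block moves a plane of `V`, and, when it is exceptional, one of the second level.
-/

set_option autoImplicit false
set_option linter.style.haveILetI false

namespace Cfsg.Lib.Local.BlockSmall

open Subgroup Cfsg Cfsg.Lib Cfsg.Lib.Local.GlaubermanZJ Cfsg.Lib.Local.BaumannBlock
  Cfsg.Lib.Local.BlockBirefl Cfsg.Lib.Local.BlockLevels Cfsg.Lib.Local.BlockType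
open scoped commutatorElement

universe u

variable {G : Type u} [Group G] {p : ℕ}

/-- The second parameter of `Birefl`. -/
def kOf (p : ℕ) : ℕ := if p = 2 then 1 else 0

/-- The module of a block. -/
def wMod (p : ℕ) (E : Subgroup G) : Subgroup G := ⁅omegaOneCenter p (pCoreOf p E), E⁆

/-- The fixed part of `W₀`. -/
def zMod (p : ℕ) (E : Subgroup G) : Subgroup G :=
  omegaOneCenter p (pCoreOf p E) ⊓ centralizer (E : Set G)

/-- A plane section without fixed cosets. -/
def Sec (p : ℕ) (E U U₀ : Subgroup G) : Prop :=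
  (∀ g ∈ E, g ∉ pCoreOf p E → ∀ u ∈ U, ⁅g, u⁆ ∈ U₀ → u ∈ U₀) ∧ Nat.card U = p ^ 2 * Nat.card U₀

theorem pCoreOf_eq_inf [Finite G] {E : Subgroup G} (hEs : E.IsSubnormal) :
    pCoreOf p E = pCore p G ⊓ E :=
  Core.pCore_map_eq_inf_of_isSubnormal hEs

theorem small_prime {E : Subgroup G} (hs : IsSmall p E) : p = 2 ∨ p = 3 :=
  hs.imp (fun h => h.1) (fun h => h.1)

theorem params {M : Type*} [CommGroup M] {E : Subgroup G} (hs : IsSmall p E)
    (hM : ∀ m : M, m ^ p = 1) : Params p (kOf p) M := by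
  refine ⟨?_, hM⟩
  rcases small_prime hs with rfl | rfl
  · exact Or.inl ⟨rfl, rfl⟩
  · exact Or.inr ⟨rfl, rfl⟩

theorem mk_eq_one {E : Subgroup G} {a : G} (ha : a ∈ E) :
    QuotientGroup.mk' (pCore p ↥E) ⟨a, ha⟩ = 1 ↔ a ∈ pCoreOf p E := by
  rw [QuotientGroup.mk'_apply, QuotientGroup.eq_one_iff, Local.mem_pCoreOf]
  exact ⟨fun h => ⟨ha, h⟩, fun ⟨_, h⟩ => h⟩

variable [Finite G] [hp : Fact p.Prime]

/-- A small subnormal subgroup without fixed points on its plane is bireflection-like. -/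
theorem birefl_of {M : Type*} [CommGroup M] [Finite M] {φ : G →* MulAut M} {E : Subgroup G}
    (hEs : E.IsSubnormal) (hs : IsSmall p E) (hM : ∀ m : M, m ^ p = 1)
    (hQ : ∀ q ∈ pCoreOf p E, φ q = 1) (hcard : Nat.card (commSub φ E) = p ^ 2)
    (hfix : ∀ g ∈ E, g ∉ pCoreOf p E → ∀ d ∈ commSub φ E, φ g d = d → d = 1) :
    Birefl φ p (kOf p) E := by
  classical
  set π := QuotientGroup.mk' (pCore p ↥E) with hπ
  set D := commSub φ E with hD
  have hstab : ∀ a : ↥E, ∀ d ∈ D, d ≠ 1 → φ (a : G) d = d → π a = 1 := fun a d hd hd1 h =>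
    (mk_eq_one a.2).2 (by_contra fun hn => hd1 (hfix a a.2 hn d hd h))
  have hlift : ∀ a b : ↥E, π a = π b → φ (a : G) = φ (b : G) := fun a b h => by
    have h1 : π (b⁻¹ * a) = 1 := by rw [map_mul, map_inv, h, inv_mul_cancel]
    have h2 := hQ _ ((mk_eq_one (b⁻¹ * a).2).1 h1)
    simp only [Subgroup.coe_mul, InvMemClass.coe_inv, map_mul, map_inv] at h2
    exact (inv_mul_eq_one.1 h2).symm
  have hK : Nat.card (↥E ⧸ pCore p ↥E) + 1 = p ^ 2 := by
    rcases hs with ⟨rfl, h⟩ | ⟨rfl, h, -⟩ <;> rw [h] <;> norm_num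
  have hexp := fun d => (params (M := M) hs hM).exp d
  refine ⟨hEs, hcard, ?_, ?_, ?_⟩
  · intro d hd hd1 d' hd' hd1'
    let f : Option (↥E ⧸ pCore p ↥E) → D := fun o =>
      o.elim 1 fun x => ⟨φ (x.out : G) d, apply_mem φ le_rfl x.out.2 hd⟩
    have hinj : Function.Injective f := by
      rintro (_ | x) (_ | y) h
      · rfl
      · exact absurd (congrArg Subtype.val h).symm
          fun e => hd1 ((φ _).injective (e.trans (map_one _).symm))
      · exact absurd (congrArg Subtype.val h)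
          fun e => hd1 ((φ _).injective (e.trans (map_one _).symm))
      · have h' : φ (x.out : G) d = φ (y.out : G) d := congrArg Subtype.val h
        have h1 := hstab (y.out⁻¹ * x.out) d hd hd1 (by
          rw [Subgroup.coe_mul, map_mul, MulAut.mul_apply, h', ← MulAut.mul_apply, ← map_mul,
            InvMemClass.coe_inv, inv_mul_cancel, map_one, MulAut.one_apply])
        rw [map_mul, map_inv, inv_mul_eq_one] at h1
        simp only [hπ, QuotientGroup.mk'_apply, QuotientGroup.out_eq'] at h1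
        rw [h1]
    have hbij := hinj.bijective_of_nat_card_le (le_of_eq (by
      rw [hcard, Finite.card_option, hK]))
    obtain ⟨o, ho⟩ := hbij.2 ⟨d', hd'⟩
    cases o with
    | none => exact absurd (congrArg Subtype.val ho).symm hd1'
    | some x => exact ⟨x.out, x.out.2, congrArg Subtype.val ho⟩
  · intro a ha
    by_cases haQ : a ∈ pCoreOf p E
    · exact Or.inl fun d _ => by rw [hQ a haQ]; rfl
    rcases hs with ⟨hp2, hK3⟩ | ⟨hp3, -, z, i, j, hz, hzz, -, hall⟩
    · subst hp2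
      refine Or.inr (Or.inr fun d hd => ?_)
      have h3 : π (⟨a, ha⟩ ^ 3) = 1 := by rw [map_pow, ← hK3]; exact pow_card_eq_one'
      have h3' : φ a (φ a (φ a d)) = d := by
        have := DFunLike.congr_fun (hQ _ ((mk_eq_one ((⟨a, ha⟩ : ↥E) ^ 3).2).1 h3)) d
        simpa [pow_succ, MulAut.mul_apply] using this
      have hd1 : φ a d ∈ D := apply_mem φ le_rfl ha hd
      have hd2 : φ a (φ a d) ∈ D := apply_mem φ le_rfl ha hd1
      have h1 := hfix a ha haQ (d * φ a d * φ a (φ a d)) (mul_mem (mul_mem hd hd1) hd2) (by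
        rw [map_mul, map_mul, h3', mul_comm _ d, mul_assoc])
      show φ a (φ a d) = d⁻¹ * φ a d ^ kOf 2
      rw [show kOf 2 = 1 from rfl, pow_one, ← inv_eq_of_mul_eq_one_right h1, mul_inv_rev, mul_comm]
      congr 1
      exact inv_eq_of_mul_eq_one_left (by rw [← pow_two]; exact hexp _)
    · subst hp3
      obtain ⟨zE, rfl⟩ := QuotientGroup.mk'_surjective (pCore 3 ↥E) z
      have hzQ : (zE : G) ∉ pCoreOf 3 E := fun h => hz ((mk_eq_one zE.2).2 h)
      have hinv : ∀ d ∈ D, φ (zE : G) d = d⁻¹ := fun d hd => by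
        have hz2 : φ (zE : G) (φ (zE : G) d) = d := by
          have := DFunLike.congr_fun (hQ _ ((mk_eq_one (zE * zE).2).1 (by rw [map_mul]; exact hzz))) d
          simpa [MulAut.mul_apply] using this
        have h1 := hfix _ zE.2 hzQ (d * φ (zE : G) d) (mul_mem hd (apply_mem φ le_rfl zE.2 hd))
          (by rw [map_mul, hz2, mul_comm])
        exact eq_inv_of_mul_eq_one_right h1
      rcases hall (π ⟨a, ha⟩) with h | h | h
      · exact absurd ((mk_eq_one ha).1 h) haQ
      · exact Or.inr (Or.inl fun d hd => by rw [hlift ⟨a, ha⟩ zE h]; exact hinv d hd)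
      · refine Or.inr (Or.inr fun d hd => ?_)
        have h' := hlift (⟨a, ha⟩ * ⟨a, ha⟩) zE (by rw [map_mul]; exact h)
        rw [Subgroup.coe_mul, map_mul] at h'
        rw [← MulAut.mul_apply, h', hinv d hd, show kOf 3 = 0 from rfl, pow_zero, mul_one]
  · intro a ha b hb h m
    obtain ⟨d, hd, hd1⟩ := (bot_or_exists_ne_one D).resolve_left fun h0 => by
      rw [h0, card_bot] at hcard
      rcases small_prime hs with rfl | rfl <;> norm_num at hcard
    have h1 := hstab (⟨b, hb⟩⁻¹ * ⟨a, ha⟩) d hd hd1 (by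
      rw [Subgroup.coe_mul, map_mul, MulAut.mul_apply, h d hd, ← MulAut.mul_apply, ← map_mul,
        InvMemClass.coe_inv, inv_mul_cancel, map_one, MulAut.one_apply])
    rw [map_mul, map_inv, inv_mul_eq_one] at h1
    exact DFunLike.congr_fun (hlift ⟨a, ha⟩ ⟨b, hb⟩ h1.symm) m

/-- The sections of a small block. -/
theorem sections {T : Subgroup G} {E : Subgroup G} (hE : IsBaumannBlock p T E) (hs : IsSmall p E) :
    Sec p E (omegaOneCenter p (pCoreOf p E)) (zMod p E) ∧
    (pCoreOf p E ≠ omegaOneCenter p (pCoreOf p E) → p = 3 ∧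
      Sec p E (pCoreOf p E) (omegaOneCenter p (pCoreOf p E)) ∧
      ⁅pCoreOf p E, pCoreOf p E⁆ = zMod p E ∧
      (frattini ↥(pCoreOf p E)).map (pCoreOf p E).subtype = zMod p E ∧
      zMod p E ≠ ⊥ ∧
      E ⊓ centralizer (E : Set G) = zMod p E ∧
      ∀ b : G, b ∈ baumannSubgroupOf p T →
        b ∉ centralizer (omegaOneCenter p (pCoreOf p E) : Set G) →
        ¬ ⁅⁅pCoreOf p E, zpowers b⁆, zpowers b⁆ ≤ zMod p E) := by
  have htriv : ∀ q ∈ pCoreOf p E, ∀ u ∈ omegaOneCenter p (pCoreOf p E), ⁅q, u⁆ ∈ zMod p E :=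
    fun q hq u hu => by
      rw [commutatorElement_eq_one_iff_mul_comm.2 (omegaOneCenter_commute hu hq).symm.eq]
      exact one_mem _
  rcases hE.2.2.2.2 with ⟨F, _, _, n, hF, ⟨e⟩, hsec, hQ⟩ | ⟨rfl, m, ⟨e⟩, hsec, hQ⟩
  · refine ⟨sl_section_small hF hs e hsec htriv, fun hne => ?_⟩
    obtain ⟨h3, hsec2, hQQ, hfr, hEC, hcard, hquad⟩ := hQ.resolve_left hne
    refine ⟨h3, sl_section_small hF hs e hsec2 fun q hq u hu => ?_, hQQ, hfr, fun hbot => ?_,
      hEC, fun b hb hbC h => hquad b hb hbC (hEC ▸ h)⟩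
    · have h1 : ⁅q, u⁆ ∈ zMod p E := hQQ.le (commutator_mem_commutator hq hu)
      exact h1.1
    · rw [hEC] at hcard
      unfold zMod at hbot
      rw [hbot, card_bot] at hcard
      have h2 := Fintype.one_lt_card (α := F)
      rw [h3] at hF
      omega
  · have hm : m = 1 := by
      have hK := Nat.card_congr e.toEquiv
      rcases (show m = 0 ∨ m = 1 ∨ 2 ≤ m by omega) with rfl | rfl | hm
      · rcases hs with ⟨-, h⟩ | ⟨h2, -⟩
        · haveI : Subsingleton (Fin (2 * 0 + 1)) := Fin.subsingleton_one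
          haveI : Subsingleton (Equiv.Perm (Fin (2 * 0 + 1))) :=
            ⟨fun a b => Equiv.ext fun _ => Subsingleton.elim _ _⟩
          rw [h, Nat.card_of_subsingleton (1 : alternatingGroup (Fin (2 * 0 + 1)))] at hK
          omega
        · omega
      · rfl
      · exfalso
        rcases hs with ⟨-, h⟩ | ⟨h2, -⟩
        · rw [h, Nat.card_eq_fintype_card] at hK
          haveI : Nontrivial (Fin (2 * m + 1)) := Fin.nontrivial_iff_two_le.2 (by omega)
          have h1 := two_mul_card_alternatingGroup (α := Fin (2 * m + 1))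
          rw [← hK, Fintype.card_perm, Fintype.card_fin] at h1
          have := Nat.factorial_le (show 5 ≤ 2 * m + 1 by omega)
          rw [show Nat.factorial 5 = 120 from rfl] at this
          omega
        · omega
    subst hm
    exact ⟨alt_section_small e hsec htriv, fun hne => absurd hQ hne⟩

section Facts

variable {T : Sylow p G} {E : Subgroup G} (hE : IsBaumannBlock p (T : Subgroup G) E) (hs : IsSmall p E)

include hs in
omit hp in
theorem exists_central : ∃ g₀ ∈ E, g₀ ∉ pCoreOf p E ∧ ∀ e ∈ E, ⁅g₀, e⁆ ∈ pCoreOf p E := by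
  obtain ⟨k, hk, hc⟩ := SmallQuot.central hs
  obtain ⟨g, rfl⟩ := QuotientGroup.mk'_surjective (pCore p ↥E) k
  refine ⟨g, g.2, fun h => hk ((mk_eq_one g.2).2 h), fun e he => ?_⟩
  refine (mk_eq_one (E.mul_mem (E.mul_mem (E.mul_mem g.2 he) (E.inv_mem g.2)) (E.inv_mem he))).1 ?_
  show QuotientGroup.mk' (pCore p ↥E) (g * ⟨e, he⟩ * g⁻¹ * (⟨e, he⟩ : ↥E)⁻¹) = 1
  rw [map_mul, map_mul, map_mul, map_inv, map_inv, ← hc (QuotientGroup.mk' _ ⟨e, he⟩)]
  group

include hE hs

theorem w_facts : Nat.card (wMod p E) = p ^ 2 ∧ wMod p E ≤ omegaOneCenter p (pCoreOf p E) ∧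
    wMod p E ⊔ zMod p E = omegaOneCenter p (pCoreOf p E) ∧
    (∀ g ∈ E, g ∉ pCoreOf p E → ∀ w ∈ wMod p E, g * w * g⁻¹ = w → w = 1) ∧
    ∃ g₀ ∈ E, g₀ ∉ pCoreOf p E ∧ ∀ w ∈ wMod p E, ∃ w' ∈ wMod p E, ⁅g₀, w'⁆ = w := by
  obtain ⟨g₀, hg₀, hg₀Q, hcen⟩ := exists_central (E := E) hs
  obtain ⟨⟨hfix, hcard⟩, -⟩ := sections hE hs
  set W0 := omegaOneCenter p (pCoreOf p E) with hW0
  set Z := zMod p E with hZ
  have hEW : E ≤ normalizer (W0 : Set G) :=
    (Local.le_normalizer_pCoreOf E).trans (normalizer_le_omegaOneCenter _)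
  have hWQ : W0 ≤ pCoreOf p E := omegaOneCenter_le p _
  have hcomm : ∀ a ∈ W0, ∀ b ∈ W0, Commute a b := fun a ha b hb =>
    omegaOneCenter_commute ha (hWQ hb)
  have hmem : ∀ e ∈ E, ∀ u ∈ W0, ⁅e, u⁆ ∈ W0 := fun e he u hu => by
    rw [commutatorElement_def]
    exact mul_mem ((mem_normalizer_iff.1 (hEW he) u).1 hu) (inv_mem hu)
  let t : ↥W0 →* ↥W0 :=
    { toFun := fun u => ⟨⁅g₀, (u : G)⁆, hmem g₀ hg₀ u u.2⟩
      map_one' := Subtype.ext (by simp)
      map_mul' := fun u v => Subtype.ext (by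
        show ⁅g₀, (u : G) * v⁆ = ⁅g₀, (u : G)⁆ * ⁅g₀, (v : G)⁆
        rw [show ⁅g₀, (u : G) * v⁆ = ⁅g₀, (u : G)⁆ * ((u : G) * ⁅g₀, (v : G)⁆ * (u : G)⁻¹) by
          simp [commutatorElement_def]; group,
          (hcomm u u.2 _ (hmem g₀ hg₀ v v.2)).eq, mul_inv_cancel_right]) }
  set R := t.range.map W0.subtype with hR
  have hRW0 : R ≤ W0 := map_subtype_le _
  have hZker : ∀ u : ↥W0, t u = 1 ↔ (u : G) ∈ Z := fun u => by
    constructor
    · intro h
      refine hfix g₀ hg₀ hg₀Q u u.2 ?_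
      rw [show ⁅g₀, (u : G)⁆ = 1 from congrArg Subtype.val h]
      exact one_mem _
    · intro h
      exact Subtype.ext (commutatorElement_eq_one_iff_mul_comm.2 (mem_centralizer_iff.1 h.2 g₀ hg₀))
  have hRZ : ∀ r ∈ R, r ∈ Z → r = 1 := by
    rintro _ ⟨_, ⟨u, rfl⟩, rfl⟩ hrz
    exact congrArg Subtype.val ((hZker u).2 (hfix g₀ hg₀ hg₀Q u u.2 hrz))
  have hcardR : Nat.card R = p ^ 2 := by
    rw [hR, card_map_of_injective W0.subtype_injective]
    have h1 := Subgroup.card_eq_card_quotient_mul_card_subgroup t.ker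
    rw [Nat.card_congr (QuotientGroup.quotientKerEquivRange t).toEquiv, hcard] at h1
    have h2 : Nat.card t.ker = Nat.card Z := by
      rw [show t.ker = Z.subgroupOf W0 from Subgroup.ext fun u => hZker u]
      exact Nat.card_congr (subgroupOfEquivOfLe inf_le_left).toEquiv
    rw [h2] at h1
    exact (Nat.eq_of_mul_eq_mul_right Nat.card_pos h1).symm
  have hsup : R ⊔ Z = W0 := by
    refine Subgroup.eq_of_le_of_card_ge (sup_le hRW0 inf_le_left) ?_
    rw [hcard, ← hcardR, ← Nat.card_prod]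
    refine Nat.card_le_card_of_injective (fun x : R × Z =>
      (⟨x.1 * x.2, mul_mem (mem_sup_left x.1.2) (mem_sup_right x.2.2)⟩ : ↥(R ⊔ Z))) ?_
    rintro ⟨a, c⟩ ⟨a', c'⟩ e
    have e1 : (a : G) * c = (a' : G) * c' := congrArg Subtype.val e
    have e2 : (a' : G)⁻¹ * a = c' * (c : G)⁻¹ := by
      rw [eq_mul_inv_iff_mul_eq, mul_assoc, e1, inv_mul_cancel_left]
    have h1 := hRZ _ (mul_mem (inv_mem a'.2) a.2) (e2 ▸ mul_mem c'.2 (inv_mem c.2))
    have ha : (a : G) = a' := (inv_mul_eq_one.1 h1).symm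
    rw [ha] at e1
    exact Prod.ext (Subtype.ext ha) (Subtype.ext (mul_left_cancel e1))
  have hEn : ∀ e ∈ E, ∀ r ∈ R, e * r * e⁻¹ ∈ R := by
    rintro e he _ ⟨_, ⟨u, rfl⟩, rfl⟩
    refine ⟨_, ⟨⟨e * u * e⁻¹, (mem_normalizer_iff.1 (hEW he) _).1 u.2⟩, rfl⟩, ?_⟩
    show ⁅g₀, e * (u : G) * e⁻¹⁆ = e * ⁅g₀, (u : G)⁆ * e⁻¹
    set v := e * (u : G) * e⁻¹
    have hv : v ∈ W0 := (mem_normalizer_iff.1 (hEW he) _).1 u.2
    set q := g₀⁻¹ * (e * g₀ * e⁻¹) with hq
    have hqQ : q ∈ pCoreOf p E := by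
      have h2 : q = g₀⁻¹ * (⁅g₀, e⁆)⁻¹ * g₀ := by rw [hq, commutatorElement_def]; group
      rw [h2]
      exact (mem_normalizer_iff''.1 (Local.le_normalizer_pCoreOf E hg₀) _).1 (inv_mem (hcen e he))
    have hqv : q * v = v * q := (omegaOneCenter_commute hv hqQ).symm.eq
    calc ⁅g₀, v⁆ = g₀ * v * g₀⁻¹ * v⁻¹ := commutatorElement_def _ _
      _ = g₀ * (q * v * q⁻¹) * g₀⁻¹ * v⁻¹ := by rw [hqv, mul_inv_cancel_right]
      _ = _ := by rw [hq]; simp only [v, commutatorElement_def]; group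
  have hWR : wMod p E = R := by
    refine le_antisymm ?_ ?_
    · rw [wMod, commutator_le]
      intro w hw e he
      obtain ⟨r, hr, z, hz, rfl⟩ : ∃ r ∈ R, ∃ z ∈ Z, r * z = w := by
        have hZR : Z ≤ normalizer (R : Set G) := Core.le_normalizer_iff_conj_mem.2 fun z hz r hr => by
          rw [(hcomm z hz.1 r (hRW0 hr)).eq, mul_inv_cancel_right]; exact hr
        exact (Core.mem_sup_of_le_normalizer hZR).1 (sup_comm R Z ▸ hsup.ge hw : w ∈ Z ⊔ R) |>
          fun ⟨z, hz, r, hr, e⟩ => ⟨r, hr, z, hz, (hcomm r (hRW0 hr) z hz.1).eq.trans e⟩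
      have hze : z * e = e * z := (mem_centralizer_iff.1 hz.2 e he).symm
      rw [show ⁅r * z, e⁆ = r * (z * e * z⁻¹) * r⁻¹ * e⁻¹ by rw [commutatorElement_def]; group, hze,
        mul_inv_cancel_right, show r * e * r⁻¹ * e⁻¹ = r * (e * r⁻¹ * e⁻¹) by group]
      exact mul_mem hr (hEn e he _ (inv_mem hr))
    · rintro _ ⟨_, ⟨u, rfl⟩, rfl⟩
      show ⁅g₀, (u : G)⁆ ∈ _
      rw [← commutatorElement_inv]
      exact inv_mem (commutator_mem_commutator u.2 hg₀)
  rw [hWR]
  refine ⟨hcardR, hRW0, hsup, fun g hg hgQ w hw h => hRZ w hw (hfix g hg hgQ w (hRW0 hw) ?_),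
    g₀, hg₀, hg₀Q, ?_⟩
  · rw [commutatorElement_def, h, mul_inv_cancel]; exact one_mem _
  · rintro w hw
    obtain ⟨_, ⟨u, rfl⟩, rfl⟩ := hw
    have hu : (u : G) ∈ R ⊔ Z := hsup.ge u.2
    obtain ⟨r, hr, z, hz, hrz⟩ : ∃ r ∈ R, ∃ z ∈ Z, r * z = (u : G) := by
      have hRZn : R ≤ normalizer (Z : Set G) := Core.le_normalizer_iff_conj_mem.2 fun r hr z hz => by
        rw [(hcomm r (hRW0 hr) z hz.1).eq, mul_inv_cancel_right]; exact hz
      obtain ⟨r, hr, z, hz, e⟩ := (Core.mem_sup_of_le_normalizer hRZn).1 hu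
      exact ⟨r, hr, z, hz, e⟩
    refine ⟨r, hr, ?_⟩
    show ⁅g₀, r⁆ = ((t u : ↥W0) : G)
    have h1 : t u = t ⟨r, hRW0 hr⟩ := by
      have hu' : u = ⟨r, hRW0 hr⟩ * ⟨z, hz.1⟩ := Subtype.ext hrz.symm
      rw [hu', map_mul, (hZker ⟨z, hz.1⟩).2 hz, mul_one]
    rw [h1]
    rfl

omit hp in
theorem le_normalizer_w0 : E ≤ normalizer (omegaOneCenter p (pCoreOf p E) : Set G) :=
  (Local.le_normalizer_pCoreOf E).trans (normalizer_le_omegaOneCenter _)

variable (hG : centralizer (pCore p G : Set G) ≤ pCore p G) (hEs : E.IsSubnormal)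

include hG in
theorem w_le_vLevel : wMod p E ≤ vLevel p G := module_le hG T hE

include hEs in
theorem commutator_mem_core {x e : G} (hx : x ∈ pCore p G) (he : e ∈ E) : ⁅x, e⁆ ∈ pCoreOf p E := by
  rw [pCoreOf_eq_inf hEs]
  refine ⟨?_, ?_⟩
  · rw [commutatorElement_def, show x * e * x⁻¹ * e⁻¹ = x * (e * x⁻¹ * e⁻¹) by group]
    exact mul_mem hx ((inferInstance : (pCore p G).Normal).conj_mem _ (inv_mem hx) e)
  · rw [commutatorElement_def]
    exact E.mul_mem ((mem_normalizer_iff.1 (pCore_le_normalizer T hE hx) e).1 he) (E.inv_mem he)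

include hG hEs in
theorem commutator_vLevel_mem {v e : G} (hv : v ∈ vLevel p G) (he : e ∈ E) : ⁅v, e⁆ ∈ wMod p E := by
  set V := vLevel p G with hV
  have key : ∀ x ∈ E, (orderOf x).Coprime p → ∀ v ∈ V, ⁅v, x⁆ ∈ wMod p E := by
    intro x hx hc v hv
    set A := zpowers x with hA
    have hAV : A ≤ normalizer (V : Set G) := le_trans le_top (normalizer_eq_top V).ge
    have hVp : IsPGroup p V := (Core.pCore_isPGroup p G).to_le (vLevel_le p G)
    have hcop : (Nat.card A).Coprime (Nat.card V) := coprime_card_zpowers hVp hc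
    have h1 : ⁅V, A⁆ ≤ omegaOneCenter p (pCoreOf p E) := by
      rw [commutator_le]
      intro u hu a ha
      have haE : a ∈ E := zpowers_le.2 hx ha
      have hz : ⁅u, a⁆ ∈ V := by
        rw [commutatorElement_def, show u * a * u⁻¹ * a⁻¹ = u * (a * u⁻¹ * a⁻¹) by group]
        exact mul_mem hu ((vLevel_normal p G).conj_mem _ (inv_mem hu) a)
      have hzQ := commutator_mem_core hE hs hEs (vLevel_le p G hu) haE
      refine subset_closure ⟨⟨hzQ, mem_centralizer_iff.2 fun q hq => ?_⟩, omegaOneCenter_pow hz⟩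
      exact (omegaOneCenter_commute hz ((pCoreOf_eq_inf hEs).le hq).1).symm.eq
    have h2 := Coprime.commutator_commutator_eq hAV hcop (Or.inl (isSolvable_zpowers x))
    have h3 : ⁅V, A⁆ ≤ wMod p E := h2.ge.trans (commutator_mono h1 (zpowers_le.2 hx))
    exact h3 (commutator_mem_commutator hv (mem_zpowers x))
  have hEW : ∀ x ∈ E, ∀ w ∈ wMod p E, x * w * x⁻¹ ∈ wMod p E := by
    intro x hx w hw
    have h1 : (wMod p E).map (MulAut.conj x).toMonoidHom = wMod p E := by
      rw [wMod, map_commutator, Core.map_conj_eq_of_mem_normalizer (le_normalizer_w0 hE hs hx),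
        Core.map_conj_eq_of_mem_normalizer (le_normalizer hx)]
    exact h1.le ⟨w, hw, rfl⟩
  have hE' : E ≤ closure {x | x ∈ E ∧ (orderOf x).Coprime p} :=
    hE.1.ge.trans (pResidualOf_le_iff.2 fun x hx hc => subset_closure ⟨hx, hc⟩)
  suffices ∀ x ∈ closure {x | x ∈ E ∧ (orderOf x).Coprime p}, x ∈ E ∧ ∀ v ∈ V, ⁅v, x⁆ ∈ wMod p E from
    (this e (hE' he)).2 v hv
  intro x hx
  induction hx using Subgroup.closure_induction with
  | mem x hx => exact ⟨hx.1, key x hx.1 hx.2⟩
  | one => exact ⟨one_mem _, fun v _ => by simp⟩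
  | mul a b _ _ iha ihb =>
    refine ⟨E.mul_mem iha.1 ihb.1, fun v hv => ?_⟩
    rw [show ⁅v, a * b⁆ = ⁅v, a⁆ * (a * ⁅v, b⁆ * a⁻¹) by simp [commutatorElement_def]; group]
    exact mul_mem (iha.2 v hv) (hEW a iha.1 _ (ihb.2 v hv))
  | inv a _ iha =>
    refine ⟨E.inv_mem iha.1, fun v hv => ?_⟩
    rw [show ⁅v, a⁻¹⁆ = a⁻¹ * ⁅v, a⁆⁻¹ * a⁻¹⁻¹ by simp [commutatorElement_def]; group]
    exact hEW _ (E.inv_mem iha.1) _ (inv_mem (iha.2 v hv))

include hG hEs in
theorem commSub_actV : commSub (actV p G) E = (wMod p E).subgroupOf (vLevel p G) := by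
  refine le_antisymm ((closure_le _).2 ?_) ?_
  · rintro _ ⟨a, ha, m, rfl⟩
    rw [SetLike.mem_coe, mem_subgroupOf, div_eq_mul_inv, Subgroup.coe_mul, InvMemClass.coe_inv,
      actV_apply, show a * (m : G) * a⁻¹ * (m : G)⁻¹ = ⁅a, (m : G)⁆ from (commutatorElement_def _ _).symm,
      ← commutatorElement_inv]
    exact inv_mem (commutator_vLevel_mem hE hs hG hEs m.2 ha)
  · intro x hx
    obtain ⟨g₀, hg₀, -, h⟩ := (w_facts hE hs).2.2.2.2
    obtain ⟨w, hw, he⟩ := h _ (mem_subgroupOf.1 hx)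
    have := mem_commSub (actV p G) hg₀ (⟨w, w_le_vLevel hE hs hG hw⟩ : ↥(vLevel p G))
    convert this using 1
    refine Subtype.ext ?_
    rw [div_eq_mul_inv, Subgroup.coe_mul, InvMemClass.coe_inv, actV_apply, ← he, commutatorElement_def]

include hG hEs in
theorem birefl_V : Birefl (actV p G) p (kOf p) E := by
  refine birefl_of hEs hs vLevel_pow (fun q hq => actV_pCore ((pCoreOf_eq_inf hEs).le hq).1) ?_ ?_
  · rw [commSub_actV hE hs hG hEs,
      Nat.card_congr (subgroupOfEquivOfLe (w_le_vLevel hE hs hG)).toEquiv, (w_facts hE hs).1]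
  · intro g hg hgQ d hd hfix
    rw [commSub_actV hE hs hG hEs, mem_subgroupOf] at hd
    refine Subtype.ext ((w_facts hE hs).2.2.2.1 g hg hgQ _ hd ?_)
    have := congrArg Subtype.val hfix
    rwa [actV_apply] at this

include hG in
theorem core_eq_w (hne : pCoreOf p E = omegaOneCenter p (pCoreOf p E)) : pCoreOf p E = wMod p E := by
  have h := hE.2.2.1
  conv_lhs at h => rw [hne]
  exact h.symm

include hG hEs in
/-- A non-exceptional block is trivial on the second level. -/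
theorem actM_trivial (hne : pCoreOf p E = omegaOneCenter p (pCoreOf p E)) {e : G} (he : e ∈ E) :
    actM p G e = 1 := by
  ext m
  induction m using QuotientGroup.induction_on with
  | H x =>
  rw [actM_apply, MulAut.one_apply, QuotientGroup.eq]
  refine mem_sup_left (mem_subgroupOf.2 ?_)
  rw [Subgroup.coe_mul, InvMemClass.coe_inv, MulAut.conjNormal_apply,
    show (e * (x : G) * e⁻¹)⁻¹ * x = e * ⁅(x : G)⁻¹, e⁻¹⁆ * e⁻¹ by simp [commutatorElement_def]; group]
  refine (vLevel_normal p G).conj_mem _ (w_le_vLevel hE hs hG ?_) e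
  rw [← core_eq_w hE hs hG hne]
  exact commutator_mem_core hE hs hEs (inv_mem x.2) (E.inv_mem he)

include hG hEs in
/-- An exceptional block moves a plane on the second level, faithfully on `Q / W₀`. -/
theorem birefl_M (hne : pCoreOf p E ≠ omegaOneCenter p (pCoreOf p E)) :
    Birefl (actM p G) p (kOf p) E ∧
    (∀ x : ↥(pCore p G), (x : G) ∈ pCoreOf p E →
      (QuotientGroup.mk x : MLevel p G) ∈ commSub (actM p G) E) ∧
    ∀ x : ↥(pCore p G), (x : G) ∈ pCoreOf p E → (QuotientGroup.mk x : MLevel p G) = 1 →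
      (x : G) ∈ omegaOneCenter p (pCoreOf p E) := by
  classical
  obtain ⟨hp3, ⟨hfix, hcard⟩, hQQ, hfr, hZne, -, -⟩ := (sections hE hs).2 hne
  set Q := pCoreOf p E with hQdef
  set W0 := omegaOneCenter p Q with hW0
  have hQP : Q ≤ pCore p G := fun q hq => ((pCoreOf_eq_inf hEs).le hq).1
  have hWQ : W0 ≤ Q := omegaOneCenter_le p _
  let f : ↥Q →* MLevel p G := (QuotientGroup.mk' _).comp (Subgroup.inclusion hQP)
  have hW0ker : ∀ q : ↥Q, (q : G) ∈ W0 → f q = 1 := by
    intro q hq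
    have hq' : (q : G) ∈ wMod p E ⊔ zMod p E := by rw [(w_facts hE hs).2.2.1]; exact hq
    refine (QuotientGroup.eq_one_iff _).2 ?_
    have hle : wMod p E ⊔ zMod p E ≤ (phiLevel p G).map (pCore p G).subtype := by
      refine sup_le ?_ ?_
      · intro w hw
        exact ⟨⟨w, vLevel_le p G (w_le_vLevel hE hs hG hw)⟩,
          mem_sup_left (mem_subgroupOf.2 (w_le_vLevel hE hs hG hw)), rfl⟩
      · rw [← hQQ, commutator_le]
        intro a ha b hb
        refine ⟨⁅(⟨a, hQP ha⟩ : ↥(pCore p G)), ⟨b, hQP hb⟩⁆, mem_sup_right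
          (PGroup.commutator_le_frattini (Core.pCore_isPGroup p G)
            (commutator_mem_commutator (Subgroup.mem_top _) (Subgroup.mem_top _))), rfl⟩
    obtain ⟨y, hy, he⟩ := hle hq'
    have : y = Subgroup.inclusion hQP q := Subtype.ext he
    rwa [this] at hy
  have hequiv : ∀ e ∈ E, ∀ q : ↥Q, ∀ hq' : e * (q : G) * e⁻¹ ∈ Q,
      f ⟨e * q * e⁻¹, hq'⟩ = actM p G e (f q) := fun e he q hq' =>
    (actM_eq_of_conj _ (⟨e * q * e⁻¹, hQP hq'⟩ : ↥(pCore p G)) rfl).symm
  -- the kernel is `W₀`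
  have hker : ∀ q : ↥Q, f q = 1 → (q : G) ∈ W0 := by
    by_contra hcon
    push Not at hcon
    obtain ⟨q₀, hq₀, hq₀W⟩ := hcon
    have hconj : ∀ e ∈ E, e * (q₀ : G) * e⁻¹ ∈ Q := fun e he =>
      (mem_normalizer_iff.1 (Local.le_normalizer_pCoreOf E he) _).1 q₀.2
    let K := f.ker
    have hW0K : W0.subgroupOf Q ≤ K := fun q hq => hW0ker q hq
    -- the orbit of `q₀` gives every coset
    haveI : (W0.subgroupOf Q).Normal := (normal_subgroupOf_iff_le_normalizer hWQ).2
      ((le_normalizer (H := Q)).trans (normalizer_le_omegaOneCenter Q))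
    let g : Option (↥E ⧸ pCore p ↥E) → ↥Q ⧸ W0.subgroupOf Q := fun o =>
      o.elim 1 fun x => QuotientGroup.mk ⟨_, hconj _ x.out.2⟩
    have hinj : Function.Injective g := by
      have hne1 : ∀ x : ↥E ⧸ pCore p ↥E,
          (QuotientGroup.mk ⟨_, hconj _ x.out.2⟩ : ↥Q ⧸ W0.subgroupOf Q) ≠ 1 := by
        intro x h
        rw [QuotientGroup.eq_one_iff, mem_subgroupOf] at h
        exact hq₀W ((mem_normalizer_iff.1 (le_normalizer_w0 hE hs x.out.2) _).2 h)
      rintro (_ | x) (_ | y) h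
      · rfl
      · exact absurd h.symm (hne1 y)
      · exact absurd h (hne1 x)
      · simp only [g, Option.elim, QuotientGroup.eq, mem_subgroupOf] at h
        congr 1
        rw [← QuotientGroup.out_eq' x, ← QuotientGroup.out_eq' y, QuotientGroup.eq]
        by_contra hxy
        set a := (x.out⁻¹ * y.out : ↥E) with ha
        have haQ : (a : G) ∉ Q := fun hm => hxy ((QuotientGroup.eq_one_iff a).1 ((mk_eq_one a.2).2 hm))
        refine hq₀W (hfix a a.2 haQ q₀ q₀.2 ?_)
        have h' := (mem_normalizer_iff''.1 (le_normalizer_w0 hE hs x.out.2) _).1 h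
        rw [show ⁅(a : G), (q₀ : G)⁆ = (q₀ : G) * (((x.out : ↥E) : G)⁻¹ *
          (((x.out : G) * q₀ * (x.out : G)⁻¹)⁻¹ * ((y.out : G) * q₀ * (y.out : G)⁻¹)) * (x.out : G)) *
          (q₀ : G)⁻¹ by simp [ha, commutatorElement_def]; group]
        refine (mem_normalizer_iff.1 ((le_normalizer (H := Q)).trans
          (normalizer_le_omegaOneCenter Q) q₀.2) _).1 ?_
        simpa using h'
    have hbij := hinj.bijective_of_nat_card_le (le_of_eq (by
      have h1 := Subgroup.card_eq_card_quotient_mul_card_subgroup (W0.subgroupOf Q)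
      rw [Nat.card_congr (subgroupOfEquivOfLe hWQ).toEquiv, hcard] at h1
      rw [Finite.card_option, ← Nat.eq_of_mul_eq_mul_right Nat.card_pos h1]
      rcases hs with ⟨rfl, h⟩ | ⟨rfl, h, -⟩ <;> rw [h] <;> norm_num))
    have hall : ∀ q : ↥Q, f q = 1 := by
      intro q
      obtain ⟨o, ho⟩ := hbij.2 (QuotientGroup.mk q)
      cases o with
      | none =>
        exact hW0ker q (mem_subgroupOf.1 ((QuotientGroup.eq_one_iff q).1 ho.symm))
      | some x =>
        have h1 := hW0ker _ (mem_subgroupOf.1 (QuotientGroup.eq.1 ho))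
        rw [map_mul, map_inv, hequiv _ x.out.2, hq₀, map_one, inv_one, one_mul] at h1
        exact h1
    -- then `E` centralizes the second level, so `Q ≤ V`
    have hQV : ∀ e ∈ E, (orderOf e).Coprime p → ∀ x ∈ pCore p G, ⁅x, e⁆ ∈ vLevel p G := by
      intro e he hc x hx
      refine commutator_mem_vLevel hc ?_ hx
      ext m
      induction m using QuotientGroup.induction_on with
      | H y =>
      have hmem := commutator_mem_core hE hs hEs (inv_mem y.2) he
      have h1 := hall ⟨_, hmem⟩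
      rw [MonoidHom.comp_apply, QuotientGroup.mk'_apply] at h1
      rw [actM_apply, MulAut.one_apply]
      have h2 : MulAut.conjNormal e y = y * Subgroup.inclusion hQP ⟨_, hmem⟩ := Subtype.ext (by
        simp [MulAut.conjNormal_apply, commutatorElement_def]; group)
      rw [h2, QuotientGroup.mk_mul, h1, mul_one]
    have hQle : Q ≤ vLevel p G := by
      refine hE.2.2.1.ge.trans ?_
      rw [commutator_le]
      have hE' : E ≤ closure {x | x ∈ E ∧ (orderOf x).Coprime p} :=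
        hE.1.ge.trans (pResidualOf_le_iff.2 fun x hx hc => subset_closure ⟨hx, hc⟩)
      suffices h : ∀ e ∈ closure {x | x ∈ E ∧ (orderOf x).Coprime p}, ∀ q ∈ Q, ⁅q, e⁆ ∈ vLevel p G from
        fun q hq e he => h e (hE' he) q hq
      intro e he
      induction he using Subgroup.closure_induction with
      | mem x hx => exact fun q hq => hQV x hx.1 hx.2 q (hQP hq)
      | one => exact fun q _ => by simp
      | mul a b _ _ iha ihb =>
        intro q hq
        rw [show ⁅q, a * b⁆ = ⁅q, a⁆ * (a * ⁅q, b⁆ * a⁻¹) by simp [commutatorElement_def]; group]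
        exact mul_mem (iha q hq) ((vLevel_normal p G).conj_mem _ (ihb q hq) a)
      | inv a _ iha =>
        intro q hq
        rw [show ⁅q, a⁻¹⁆ = a⁻¹ * ⁅q, a⁆⁻¹ * a⁻¹⁻¹ by simp [commutatorElement_def]; group]
        exact (vLevel_normal p G).conj_mem _ (inv_mem (iha q hq)) _
    refine hZne ?_
    rw [← hQQ, eq_bot_iff, commutator_le]
    intro a ha b hb
    rw [mem_bot, commutatorElement_eq_one_iff_mul_comm]
    exact (omegaOneCenter_commute (hQle ha) (hQP hb)).eq
  -- the plane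
  have hrange : commSub (actM p G) E = f.range := by
    refine le_antisymm ((closure_le _).2 ?_) ?_
    · rintro _ ⟨a, ha, m, rfl⟩
      induction m using QuotientGroup.induction_on with
      | H y =>
      have hmem := commutator_mem_core hE hs hEs y.2 ha
      refine ⟨(⟨_, hmem⟩ : ↥Q)⁻¹, ?_⟩
      rw [eq_div_iff_mul_eq', actM_apply]
      show QuotientGroup.mk _ * QuotientGroup.mk y = _
      rw [← QuotientGroup.mk_mul]
      congr 1
      exact Subtype.ext (by simp [MulAut.conjNormal_apply, commutatorElement_def]; group)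
    · rintro _ ⟨q, rfl⟩
      have hq : (q : G) ∈ ⁅Q, E⁆ := hE.2.2.1.ge q.2
      suffices ∀ x ∈ ⁅Q, E⁆, ∀ hx : x ∈ pCore p G,
          (QuotientGroup.mk (⟨x, hx⟩ : ↥(pCore p G)) : MLevel p G) ∈ commSub (actM p G) E from
        this _ hq (hQP q.2)
      intro x hx
      rw [Subgroup.commutator_def] at hx
      have hsub : ∀ y ∈ closure {g | ∃ g₁ ∈ Q, ∃ g₂ ∈ E, ⁅g₁, g₂⁆ = g}, ∃ hy : y ∈ pCore p G,
          (QuotientGroup.mk (⟨y, hy⟩ : ↥(pCore p G)) : MLevel p G) ∈ commSub (actM p G) E := by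
        intro y hy
        induction hy using Subgroup.closure_induction with
        | mem y hy =>
          obtain ⟨a, ha, b, hb, rfl⟩ := hy
          refine ⟨hQP (commutator_mem_core hE hs hEs (hQP ha) hb), ?_⟩
          have := inv_mem (mem_commSub (actM p G) hb (QuotientGroup.mk (⟨a, hQP ha⟩ : ↥(pCore p G))))
          convert this using 1
          rw [inv_div, eq_div_iff_mul_eq', actM_apply, ← QuotientGroup.mk_mul]
          congr 1
          exact Subtype.ext (by simp [MulAut.conjNormal_apply, commutatorElement_def]; group)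
        | one => exact ⟨one_mem _, one_mem _⟩
        | mul a b _ _ iha ihb =>
          obtain ⟨ha, ha'⟩ := iha
          obtain ⟨hb, hb'⟩ := ihb
          exact ⟨mul_mem ha hb, mul_mem ha' hb'⟩
        | inv a _ iha =>
          obtain ⟨ha, ha'⟩ := iha
          exact ⟨inv_mem ha, inv_mem ha'⟩
      intro h
      exact (hsub x hx).choose_spec
  refine ⟨?_, fun x hx => hrange.ge ⟨⟨x, hx⟩, rfl⟩, fun x hx h1 => hker ⟨x, hx⟩ h1⟩
  refine birefl_of hEs hs mLevel_pow (fun q hq => actM_pCore (hQP hq)) ?_ ?_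
  · rw [hrange]
    have h1 := Subgroup.card_eq_card_quotient_mul_card_subgroup f.ker
    rw [Nat.card_congr (QuotientGroup.quotientKerEquivRange f).toEquiv,
      show f.ker = W0.subgroupOf Q from Subgroup.ext fun q => ⟨hker q, hW0ker q⟩,
      Nat.card_congr (subgroupOfEquivOfLe hWQ).toEquiv] at h1
    exact Nat.eq_of_mul_eq_mul_right Nat.card_pos (h1.symm.trans hcard)
  · intro e he heQ d hd hd'
    obtain ⟨q, rfl⟩ := hrange.le hd
    have hq' := (mem_normalizer_iff.1 (Local.le_normalizer_pCoreOf E he) _).1 q.2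
    refine hW0ker q (hfix e he heQ q q.2 ?_)
    have h2 : f (⟨e * (q : G) * e⁻¹, hq'⟩ * q⁻¹) = 1 := by
      rw [map_mul, map_inv, hequiv e he q hq', hd', mul_inv_cancel]
    simpa [commutatorElement_def] using hker _ h2

end Facts

end Cfsg.Lib.Local.BlockSmall
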