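import Cfsg.Agent.Lib.Core.Layer
import Cfsg.Agent.Lib.Coprime.Action
import Mathlib.GroupTheory.Frattini

/-!
A `p`-group acting on a group `L` with `F*(L) = L` and `O_p(L) = 1`:
`L = [L,Y] C_L(Y)` and `[L,Y,Y] = [L,Y]`, with no coprimality hypothesis.
-/

set_option autoImplicit false
set_option linter.style.haveILetI false

namespace Cfsg.Lib.Local.FStarAction

open Subgroup
open scoped commutatorElement

/-- `F*(L) = L` and `O_p(L) = 1`. -/
def Full (p : ℕ) (L : Type*) [Group L] : Prop :=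
  Cfsg.generalizedFittingSubgroup L = ⊤ ∧ Cfsg.pCore p L = ⊥

theorem Full.congr {p : ℕ} {A B : Type*} [Group A] [Group B] [Finite A] [Finite B] (e : A ≃* B)
    (h : Full p A) : Full p B := by
  refine ⟨?_, ?_⟩
  · rw [eq_top_iff, Cfsg.generalizedFittingSubgroup, ← Core.map_layer_equiv e,
      ← Core.map_fittingSubgroup_equiv e, ← Subgroup.map_sup,
      show Cfsg.layer A ⊔ Cfsg.fittingSubgroup A = ⊤ from h.1]
    exact fun y _ => ⟨e.symm y, mem_top _, e.apply_symm_apply y⟩
  · rw [← Core.map_pCore_equiv e, h.2, Subgroup.map_bot]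

variable {G : Type*} [Group G] [Finite G] {p : ℕ} [Fact p.Prime]

/-- A subnormal subgroup inside `F*(G)` is full, if `O_p(G) = 1`. -/
theorem full_of_isSubnormal (hO : Cfsg.pCore p G = ⊥) {L : Subgroup G} (hL : L.IsSubnormal)
    (hle : L ≤ Cfsg.generalizedFittingSubgroup G) : Full p ↥L := by
  refine ⟨?_, ?_⟩
  · apply map_injective L.subtype_injective
    rw [Core.generalizedFitting_map_eq_inf_of_isSubnormal hL, inf_eq_right.2 hle,
      ← MonoidHom.range_eq_map, range_subtype]
  · rw [← map_eq_bot_iff_of_injective _ L.subtype_injective, Core.pCore_map_eq_inf_of_isSubnormal hL,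
      hO, bot_inf_eq]

/-- The Fitting subgroup has order prime to `p` when `O_p = 1`. -/
theorem not_dvd_card_fitting {L : Type*} [Group L] [Finite L] (hO : Cfsg.pCore p L = ⊥) :
    ¬ p ∣ Nat.card ↥(Cfsg.fittingSubgroup L) := by
  intro hd
  obtain ⟨P⟩ : Nonempty (Sylow p ↥(Cfsg.fittingSubgroup L)) := inferInstance
  haveI := Core.fittingSubgroup_isNilpotent L
  have hPn : (P : Subgroup ↥(Cfsg.fittingSubgroup L)).Normal :=
    Sylow.normal_of_normalizerCondition normalizerCondition_of_isNilpotent P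
  haveI := Sylow.characteristic_of_normal P hPn
  haveI := Core.fittingSubgroup_normal' L
  have hle : (P : Subgroup ↥(Cfsg.fittingSubgroup L)).map (Cfsg.fittingSubgroup L).subtype ≤ ⊥ :=
    hO ▸ Core.le_pCore' inferInstance (P.2.map _)
  rw [le_bot_iff, map_eq_bot_iff_of_injective _ (Subgroup.subtype_injective _)] at hle
  apply P.not_dvd_index
  rwa [hle, index_bot]

/-- The decomposition `L = [L,Y] C_L(Y)`. -/
theorem sup_centralizer_eq {L Y : Subgroup G} (hL : Full p ↥L) (hY : IsPGroup p ↥Y)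
    (hYL : Y ≤ normalizer (L : Set G)) : ⁅L, Y⁆ ⊔ (L ⊓ centralizer (Y : Set G)) = L := by
  refine le_antisymm (sup_le (Coprime.commutator_le_of_le_normalizer hYL) inf_le_left) ?_
  set D := ⁅L, Y⁆ with hD
  set T := D ⊔ (L ⊓ centralizer (Y : Set G)) with hT
  have hDL : D ≤ L := Coprime.commutator_le_of_le_normalizer hYL
  have hLD : L ≤ normalizer (D : Set G) := normalizer_commutator_ge_left L Y
  have hsplit : L = (Cfsg.layer ↥L).map L.subtype ⊔ (Cfsg.fittingSubgroup ↥L).map L.subtype := by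
    rw [← Subgroup.map_sup, show Cfsg.layer ↥L ⊔ Cfsg.fittingSubgroup ↥L = ⊤ from hL.1,
      ← MonoidHom.range_eq_map, range_subtype]
  conv_lhs => rw [hsplit]
  refine sup_le ?_ ?_
  · rw [Cfsg.layer, sSup_eq_iSup, Subgroup.map_iSup]
    refine iSup_le fun K => ?_
    rw [Subgroup.map_iSup]
    refine iSup_le fun hK => ?_
    have hDn : (D.subgroupOf L).Normal := (normal_subgroupOf_iff_le_normalizer hDL).2 hLD
    rcases Core.component_le_or_commute hK hDn.isSubnormal with h | h
    · exact ((map_mono h).trans (map_subgroupOf_eq_of_le hDL).le).trans le_sup_left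
    · set K' := K.map L.subtype with hK'
      have hK'L : K' ≤ L := map_subtype_le _
      have hperf : ⁅K', K'⁆ = K' := by
        rw [hK', ← map_commutator, Core.IsComponent.commutator_eq hK]
      have h1 : ⁅K', D⁆ = ⊥ := by
        have := congrArg (Subgroup.map L.subtype) h
        rwa [map_commutator, map_subgroupOf_eq_of_le hDL, Subgroup.map_bot] at this
      have h2 : ⁅⁅Y, K'⁆, K'⁆ = ⊥ := by
        rw [eq_bot_iff]
        refine (commutator_mono ((commutator_comm Y K').le.trans (commutator_mono hK'L le_rfl))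
          le_rfl).trans ?_
        rw [commutator_comm, ← hD, h1]
      have h3 := Core.commutator_eq_bot_of_perfect hperf h2
      rw [commutator_comm] at h3
      exact (le_inf hK'L (commutator_eq_bot_iff_le_centralizer.1 h3)).trans le_sup_right
  · set F := (Cfsg.fittingSubgroup ↥L).map L.subtype with hF
    haveI := Core.fittingSubgroup_normal' ↥L
    haveI : (Cfsg.fittingSubgroup ↥L).Characteristic :=
      characteristic_iff_map_eq.2 fun e => Core.map_fittingSubgroup_equiv e
    have hYF : Y ≤ normalizer (F : Set G) := hYL.trans (Core.normalizer_le_normalizer_map_char _)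
    obtain ⟨n, hn⟩ := IsPGroup.iff_card.mp hY
    have hcop : (Nat.card Y).Coprime (Nat.card F) := by
      rw [hn, hF, card_map_of_injective L.subtype_injective]
      exact ((Fact.out : p.Prime).coprime_iff_not_dvd.2 (not_dvd_card_fitting hL.2)).pow_left n
    have hsol : Group.IsSolvable ↥Y ∨ Group.IsSolvable ↥F := by
      left
      haveI := hY.isNilpotent
      exact IsNilpotent.to_isSolvable
    rw [← Coprime.commutator_sup_centralizer_eq hYF hcop hsol]
    exact sup_le_sup (commutator_mono (map_subtype_le _) le_rfl)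
      (inf_le_inf_right _ (map_subtype_le _))

/-- `[L,Y,Y] = [L,Y]`. -/
theorem commutator_commutator_eq {L Y : Subgroup G} (hL : Full p ↥L) (hY : IsPGroup p ↥Y)
    (hYL : Y ≤ normalizer (L : Set G)) : ⁅⁅L, Y⁆, Y⁆ = ⁅L, Y⁆ := by
  refine le_antisymm (commutator_mono (Coprime.commutator_le_of_le_normalizer hYL) le_rfl) ?_
  rw [commutator_le]
  intro x hx a ha
  have hxm : x ∈ ⁅L, Y⁆ ⊔ (L ⊓ centralizer (Y : Set G)) := by rwa [sup_centralizer_eq hL hY hYL]
  rw [sup_comm, Core.mem_sup_of_le_normalizer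
    (inf_le_left.trans (normalizer_commutator_ge_left L Y))] at hxm
  obtain ⟨c, hc, d, hd, rfl⟩ := hxm
  have hd' : c * d * c⁻¹ ∈ ⁅L, Y⁆ :=
    (mem_normalizer_iff.1 (normalizer_commutator_ge_left L Y hc.1) d).1 hd
  have hca : c * a = a * c := (mem_centralizer_iff.1 hc.2 a ha).symm
  have h : ⁅c * d, a⁆ = ⁅c * d * c⁻¹, a⁆ := by
    have e : c * d = (c * d * c⁻¹) * c := by group
    rw [e]
    generalize c * d * c⁻¹ = d'
    simp only [commutatorElement_def, mul_inv_rev, mul_assoc, inv_mul_cancel_left]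
    rw [← mul_assoc c a, hca]
    simp [mul_assoc]
  rw [h]
  exact commutator_mem_commutator hd' ha

/-- `[F*(G),Y]` lies in every subnormal subgroup containing `Y`. -/
theorem le_of_commutator_eq {M Y K : Subgroup G} (hM : ⁅M, Y⁆ = M) (hK : K.IsSubnormal)
    (hYK : Y ≤ K) : M ≤ K := by
  induction hK with
  | top => exact le_top
  | step H K h_le _ hN ih =>
    have h1 := ih (hYK.trans h_le)
    rw [← hM]
    exact (commutator_mono h1 hYK).trans
      (le_normalizer_iff_commutator_le_right.mp ((normal_subgroupOf_iff_le_normalizer h_le).1 hN))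

end Cfsg.Lib.Local.FStarAction

namespace Cfsg.Lib.Local.FStarAction

open Subgroup
open scoped commutatorElement

variable {G : Type*} [Group G]

/-- An element normalizing two subgroups normalizes their intersection. -/
theorem mem_normalizer_inf' {A B : Subgroup G} {x : G} (hA : x ∈ normalizer (A : Set G))
    (hB : x ∈ normalizer (B : Set G)) : x ∈ normalizer ((A ⊓ B : Subgroup G) : Set G) :=
  mem_normalizer_iff.2 fun y => ⟨fun h => ⟨(mem_normalizer_iff.1 hA y).1 h.1, (mem_normalizer_iff.1 hB y).1 h.2⟩,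
    fun h => ⟨(mem_normalizer_iff.1 hA y).2 h.1, (mem_normalizer_iff.1 hB y).2 h.2⟩⟩

/-- `N(A) ≤ N(C(A))`. -/
theorem normalizer_le_centralizer' (A : Subgroup G) :
    normalizer (A : Set G) ≤ normalizer (centralizer (A : Set G) : Set G) := by
  intro g hg
  rw [mem_normalizer_iff]
  intro y
  constructor
  · intro hy
    refine mem_centralizer_iff.2 fun a ha => ?_
    have h := mem_centralizer_iff.1 hy (g⁻¹ * a * g) ((mem_normalizer_iff''.1 hg a).1 ha)
    have := congrArg (fun t => g * t * g⁻¹) h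
    simpa [mul_assoc] using this
  · intro hy
    refine mem_centralizer_iff.2 fun a ha => ?_
    have h := mem_centralizer_iff.1 hy (g * a * g⁻¹) ((mem_normalizer_iff.1 hg a).1 ha)
    have := congrArg (fun t => g⁻¹ * t * g) h
    simpa [mul_assoc] using this

/-- A central element in the derived subgroup lies in the Frattini subgroup. -/
theorem mem_frattini_of_center [Finite G] {z : G} (h1 : z ∈ _root_.commutator G)
    (h2 : z ∈ Subgroup.center G) : z ∈ frattini G := by
  rw [frattini, Order.radical]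
  simp only [Subgroup.mem_iInf]
  intro M hM
  by_contra hzM
  have hsup : M ⊔ Subgroup.center G = ⊤ :=
    hM.2 _ (lt_of_le_of_ne le_sup_left fun e => hzM (e ▸ mem_sup_right h2))
  have hMn : M.Normal := by
    rw [← normalizer_eq_top_iff, eq_top_iff, ← hsup]
    exact sup_le le_normalizer ((center_le_centralizer _).trans (centralizer_le_normalizer _))
  exact hzM (Subgroup.Normal.commutator_le_of_self_sup_commutative_eq_top hsup inferInstance h1)

/-- A `p`-element acting on `L` by central shifts that lie in `L'` acts trivially. -/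
theorem commutator_eq_one_of_central [Finite G] {p : ℕ} [Fact p.Prime] {L F B : Subgroup G}
    (hFL : ⁅F, L⁆ = ⊥) (hLLB : ⁅⁅L, L⁆, B⁆ = ⊥) (hLB : ⁅L, B⁆ ≤ L ⊓ F)
    (hab : ¬ p ∣ Nat.card (Abelianization ↥L)) {x b : G} (hx : x ∈ L) (hb : b ∈ B) {n : ℕ}
    (hn : orderOf b = p ^ n) (hder : ∀ z : ↥L, (z : G) ∈ F → z ∈ _root_.commutator ↥L) :
    ⁅x, b⁆ = 1 := by
  have hmem : ∀ y ∈ L, ⁅y, b⁆ ∈ L ⊓ F := fun y hy => hLB (commutator_mem_commutator hy hb)
  have hcomm : ∀ z ∈ L ⊓ F, ∀ y ∈ L, y * z = z * y := fun z hz y hy =>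
    (Core.commutator_eq_bot_iff_forall.1 hFL z hz.2 y hy).symm
  -- `y ↦ ⁅y,b⁆` is a homomorphism on `L`
  have hmul : ∀ y ∈ L, ∀ y' ∈ L, ⁅y * y', b⁆ = ⁅y, b⁆ * ⁅y', b⁆ := by
    intro y hy y' hy'
    have e : ⁅y * y', b⁆ = y * ⁅y', b⁆ * y⁻¹ * ⁅y, b⁆ := by simp [commutatorElement_def, mul_assoc]
    rw [e, hcomm _ (hmem y' hy') y hy, mul_inv_cancel_right]
    exact hcomm _ (hmem y hy) _ (hmem y' hy').1
  let φ : ↥L →* G :=
    { toFun := fun y => ⁅(y : G), b⁆
      map_one' := by simp
      map_mul' := fun y y' => hmul y y.2 y' y'.2 }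
  have hker : _root_.commutator ↥L ≤ φ.ker := by
    intro y hy
    have hy' : (y : G) ∈ ⁅L, L⁆ := L.map_subtype_commutator ▸ ⟨y, hy, rfl⟩
    exact (eq_bot_iff_forall _).1 hLLB _ (commutator_mem_commutator hy' hb)
  have hfix : ∀ y ∈ L ⊓ F, ⁅y, b⁆ = 1 := fun y hy => hker (hder ⟨y, hy.1⟩ hy.2)
  -- the order of `⁅x,b⁆` divides `p ^ n`
  set c := ⁅x, b⁆ with hc
  have hcb : b * c = c * b :=
    (commutatorElement_eq_one_iff_mul_comm.1 (hfix c (hmem x hx))).symm
  have hxb : x * b * x⁻¹ = c * b := by rw [hc]; simp [commutatorElement_def, mul_assoc]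
  have hpow : c ^ (p ^ n) = 1 := by
    have h := congrArg (· ^ (p ^ n)) hxb
    simp only [conj_pow, (show Commute c b from hcb.symm).mul_pow] at h
    rw [← hn, pow_orderOf_eq_one] at h
    rw [← hn]
    simpa using h.symm
  have h1 : orderOf c ∣ Nat.card (Abelianization ↥L) := by
    obtain ⟨ψ, hψ⟩ : ∃ ψ : ↥L ⧸ _root_.commutator ↥L →* G, ∀ y : ↥L, ψ (y : ↥L ⧸ _root_.commutator ↥L) = φ y :=
      ⟨QuotientGroup.lift _ φ hker, fun y => rfl⟩
    have : c = ψ ((⟨x, hx⟩ : ↥L) : ↥L ⧸ _root_.commutator ↥L) := (hψ ⟨x, hx⟩).symm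
    rw [this]
    exact (orderOf_map_dvd ψ _).trans (orderOf_dvd_natCard _)
  exact orderOf_eq_one_iff.1 (Nat.eq_one_of_dvd_coprimes
    (((Fact.out : p.Prime).coprime_iff_not_dvd.2 hab).pow_left n) (orderOf_dvd_of_pow_eq_one hpow) h1)

end Cfsg.Lib.Local.FStarAction
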