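import Cfsg.Agent.Lib.Local.CentralWeaklyClosed
import Cfsg.Agent.Lib.Thompson.NormalComplementAbelian

/-!
# Central elements of the normalizer of a Thompson subgroup are weakly closed: the fusion step
-/

set_option autoImplicit false
set_option linter.style.haveILetI false

namespace Cfsg.Lib.Local.Central

open Subgroup Cfsg

universe u

variable {p : ℕ} [hp : Fact p.Prime]

theorem GoodPair.of_injective {H L : Type u} [Group H] [Group L] {q : ℕ} (h : GoodPair p H q)
    (f : L →* H) (hf : Function.Injective f) : GoodPair p L q :=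
  h.imp_right fun h => ⟨h.1, h.2.imp_right fun h1 h2 =>
    h1 (Cfsg.Lib.FusionSys.involves_of_injective hf h2)⟩

/-- If `x = z ^ q` with `z` in a normal abelian `p`-subgroup and fixed by the Sylow subgroup `T`, and
`N(J(T))` fixes `x`, then `x` is central. -/
theorem central_of_normalizer {H : Type u} [Group H] [Finite H] (T : Sylow p H) (z : H) (q : ℕ)
    (x : H) (hxz : x = z ^ q) (hq : GoodPair p H q) (V₀ : Subgroup H) [V₀.Normal]
    (hV₀c : ∀ a ∈ V₀, ∀ b ∈ V₀, Commute a b) (hV₀p : IsPGroup p V₀) (hz : z ∈ V₀)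
    (hzT : ∀ t ∈ (T : Subgroup H), Commute t z)
    (hJ : normalizer (thompsonSubgroupAOf (T : Subgroup H) : Set H) ≤ centralizer ({x} : Set H)) :
    ∀ h : H, Commute h x := by
  suffices key : ∀ (n : ℕ) (H : Type u) [Group H] [Finite H], Nat.card H ≤ n → ∀ (T : Sylow p H)
      (z : H) (x : H), x = z ^ q → GoodPair p H q → ∀ (V₀ : Subgroup H), V₀.Normal →
      (∀ a ∈ V₀, ∀ b ∈ V₀, Commute a b) → IsPGroup p V₀ → z ∈ V₀ →
      (∀ t ∈ (T : Subgroup H), Commute t z) →
      normalizer (thompsonSubgroupAOf (T : Subgroup H) : Set H) ≤ centralizer ({x} : Set H) →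
      ∀ h : H, Commute h x from
    key _ H le_rfl T z x hxz hq V₀ inferInstance hV₀c hV₀p hz hzT hJ
  intro n
  induction n with
  | zero => intro H _ _ hn; exact absurd Nat.card_pos (not_lt.mpr hn)
  | succ n ih =>
    intro H _ _ hn T z x hxz hq V₀ hV₀n hV₀c hV₀p hz hzT hJ
    haveI := hV₀n
    have hle : normalClosure ({z} : Set H) ≤ V₀ :=
      normalClosure_le_normal (Set.singleton_subset_iff.mpr hz)
    refine central_step T z q x hxz hq _ rfl (fun a ha b hb => hV₀c a (hle ha) b (hle hb))
      (hV₀p.to_le hle) hzT hJ fun L hTL hL l hl => ?_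
    have hlt : Nat.card L ≤ n := by
      have := Cfsg.Lib.Core.lt_card_of_ne_top hL
      omega
    have hzL : z ∈ L := hTL (GlaubermanZJ.le_sylow_of_normal hV₀p T hz)
    have := ih L hlt (T.subtype hTL) ⟨z, hzL⟩ (⟨z, hzL⟩ ^ q) rfl
      (hq.of_injective L.subtype L.subtype_injective) (V₀.subgroupOf L) inferInstance
      (fun a ha b hb => Subtype.ext (hV₀c _ (mem_subgroupOf.mp ha) _ (mem_subgroupOf.mp hb)).eq)
      (hV₀p.comap_of_injective L.subtype L.subtype_injective) (mem_subgroupOf.mpr hz)
      (fun t ht => Subtype.ext (hzT _ (by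
        rw [Sylow.coe_subtype, mem_subgroupOf] at ht; exact ht)).eq)
      (fun m hm => by
        have h1 : (m : H) ∈ normalizer (thompsonSubgroupAOf (T : Subgroup H) : Set H) := by
          have h2 := le_normalizer_map L.subtype (mem_map_of_mem L.subtype hm)
          rwa [ThompsonA.map_thompsonSubgroupAOf L.subtype _ L.subtype_injective.injOn,
            Sylow.coe_subtype, map_subgroupOf_eq_of_le hTL] at h2
        refine mem_centralizer_iff.mpr fun y hy => ?_
        rw [Set.mem_singleton_iff.mp hy]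
        refine Subtype.ext ?_
        have := mem_centralizer_iff.mp (hJ h1) x rfl
        simpa [hxz] using this) ⟨l, hl⟩
    refine mem_centralizer_iff.mpr fun y hy => ?_
    rw [Set.mem_singleton_iff.mp hy, hxz]
    have h1 : l * z ^ q = z ^ q * l := congrArg Subtype.val this
    exact h1.symm

section Fusion

variable {G : Type u} [Group G] [Finite G]

theorem exists_conj_le_sylow_of_normalizer (S : Sylow p G) {P : Subgroup G} (hP : IsPGroup p P) :
    ∃ s : G, P.map (MulAut.conj s).toMonoidHom ≤ (S : Subgroup G) := by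
  obtain ⟨Q, hQ⟩ := hP.exists_le_sylow
  obtain ⟨s, hs⟩ := MulAction.exists_smul_eq G Q S
  refine ⟨s, ?_⟩
  rintro _ ⟨y, hy, rfl⟩
  rw [← hs, Sylow.coe_subgroup_smul]
  exact smul_mem_pointwise_smul y (MulAut.conj s) _ (hQ hy)

/-- A `p`-subgroup of largest order of `N(Q)` above a given one. -/
theorem exists_maximal_pSubgroup {R N : Subgroup G} (hR : IsPGroup p R) (hRN : R ≤ N) :
    ∃ P : Subgroup G, IsPGroup p P ∧ R ≤ P ∧ P ≤ N ∧
      ∀ P' : Subgroup G, IsPGroup p P' → P' ≤ N → ∃ n ∈ N, P'.map (MulAut.conj n).toMonoidHom ≤ P := by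
  obtain ⟨Q, hQ⟩ := (hR.of_equiv (subgroupOfEquivOfLe hRN).symm).exists_le_sylow
  refine ⟨(Q : Subgroup N).map N.subtype, Q.2.map _, fun r hr => ⟨⟨r, hRN hr⟩, hQ (mem_subgroupOf.mpr hr), rfl⟩,
    map_subtype_le _, fun P' hP' hP'N => ?_⟩
  obtain ⟨Q', hQ'⟩ := (hP'.of_equiv (subgroupOfEquivOfLe hP'N).symm).exists_le_sylow
  obtain ⟨n, hn⟩ := MulAction.exists_smul_eq N Q' Q
  refine ⟨n, n.2, ?_⟩
  rintro _ ⟨y, hy, rfl⟩
  refine ⟨n * ⟨y, hP'N hy⟩ * n⁻¹, ?_, rfl⟩
  rw [← hn, Sylow.coe_subgroup_smul]
  exact smul_mem_pointwise_smul _ (MulAut.conj n) _ (hQ' (mem_subgroupOf.mpr hy))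

omit [Finite G] in
theorem normalizer_le_normalizer_centralizer' (Q : Subgroup G) :
    normalizer (Q : Set G) ≤ normalizer ((centralizer (Q : Set G) : Subgroup G) : Set G) := by
  intro n hn
  have key : ∀ n ∈ normalizer (Q : Set G), ∀ c ∈ centralizer (Q : Set G),
      n * c * n⁻¹ ∈ centralizer (Q : Set G) := by
    intro n hn c hc
    rw [mem_centralizer_iff] at hc ⊢
    intro y hy
    have h := hc (n⁻¹ * y * n) (by simpa using (mem_normalizer_iff.mp (inv_mem hn) y).mp hy)
    calc y * (n * c * n⁻¹) = n * ((n⁻¹ * y * n) * c) * n⁻¹ := by group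
      _ = n * (c * (n⁻¹ * y * n)) * n⁻¹ := by rw [h]
      _ = n * c * n⁻¹ * y := by group
  refine mem_normalizer_iff.mpr fun c => ⟨key n hn c, fun hc => ?_⟩
  have := key n⁻¹ (inv_mem hn) _ hc
  simpa [mul_assoc] using this

/-- `x` is weakly closed in `S`. -/
theorem weakly_closed (S : Sylow p G) (z : G) (q : ℕ) (x : G) (hxz : x = z ^ q)
    (hq : GoodPair p G q) (hzS : z ∈ (S : Subgroup G)) (hzc : ∀ s ∈ (S : Subgroup G), Commute s z)
    (hJ : ∀ n ∈ normalizer (thompsonSubgroupAOf (S : Subgroup G) : Set G), n * x * n⁻¹ = x) :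
    ∀ g : G, g * x * g⁻¹ ∈ (S : Subgroup G) → g * x * g⁻¹ = x := by
  classical
  have hxS : x ∈ (S : Subgroup G) := hxz ▸ (S : Subgroup G).pow_mem hzS q
  have hxc : ∀ s ∈ (S : Subgroup G), Commute s x := fun s hs => hxz ▸ (hzc s hs).pow_right q
  have hNS : normalizer ((S : Subgroup G) : Set G) ≤
      normalizer (thompsonSubgroupAOf (S : Subgroup G) : Set G) :=
    ThompsonA.normalizer_le_normalizer_thompsonSubgroupAOf _
  -- the two statements, by descending induction
  have main : ∀ k : ℕ, ∀ m, Nat.card G + 1 ≤ m + k →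
      (∀ Q : Subgroup G, Q ≤ (S : Subgroup G) → x ∈ Q → m ≤ Nat.card Q → ∀ g : G,
        Q.map (MulAut.conj g).toMonoidHom ≤ (S : Subgroup G) → g * x * g⁻¹ = x) ∧
      (∀ Q : Subgroup G, Q ≤ (S : Subgroup G) → x ∈ Q →
        m ≤ Nat.card ↥((S : Subgroup G) ⊓ normalizer (Q : Set G)) →
        (∀ P : Subgroup G, IsPGroup p P → P ≤ normalizer (Q : Set G) →
          Nat.card P ≤ Nat.card ↥((S : Subgroup G) ⊓ normalizer (Q : Set G))) →
        ∀ n ∈ normalizer (Q : Set G), n * x * n⁻¹ = x) := by
    intro k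
    induction k with
    | zero =>
      intro m hm
      constructor
      · intro Q _ _ h; have := Q.card_le_card_group; omega
      · intro Q _ _ h
        have := ((S : Subgroup G) ⊓ normalizer (Q : Set G)).card_le_card_group
        omega
    | succ k ih =>
      intro m hm
      obtain ⟨ihP, ihN⟩ := ih (m + 1) (by omega)
      have hP : ∀ Q : Subgroup G, Q ≤ (S : Subgroup G) → x ∈ Q → m ≤ Nat.card Q → ∀ g : G,
          Q.map (MulAut.conj g).toMonoidHom ≤ (S : Subgroup G) → g * x * g⁻¹ = x := by
        intro Q hQS hxQ hmQ g hg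
        by_cases hQS' : Q = (S : Subgroup G)
        · refine hJ g (hNS ?_)
          rw [mem_normalizer_iff_map_conj_eq]
          rw [hQS'] at hg
          exact eq_of_le_of_card_ge hg (card_map_of_injective (MulAut.conj g).injective).ge
        set Q₁ := Q.map (MulAut.conj g).toMonoidHom with hQ₁
        have hcardQ₁ : Nat.card Q₁ = Nat.card Q := card_map_of_injective (MulAut.conj g).injective
        have hQ₁S : Q₁ ≠ (S : Subgroup G) := fun h => hQS' (eq_of_le_of_card_ge hQS
          (le_of_eq (by rw [← hcardQ₁, h])))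
        set R₁ := (S : Subgroup G) ⊓ normalizer (Q : Set G) with hR₁
        set R₂ := (S : Subgroup G) ⊓ normalizer (Q₁ : Set G) with hR₂
        have hgr1 : Nat.card Q < Nat.card R₁ := by
          have := Cfsg.Lib.Fusion.lt_inf_normalizer S.2 (lt_of_le_of_ne hQS hQS')
          exact Cfsg.Lib.Fusion.card_lt_card_of_lt this
        have hgr2 : Nat.card Q < Nat.card R₂ := by
          have := Cfsg.Lib.Fusion.lt_inf_normalizer S.2 (lt_of_le_of_ne hg hQ₁S)
          exact hcardQ₁ ▸ Cfsg.Lib.Fusion.card_lt_card_of_lt this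
        obtain ⟨P₀, hP₀, hR₁P₀, hP₀N, hP₀max⟩ :=
          exists_maximal_pSubgroup (S.2.to_le inf_le_left : IsPGroup p R₁) inf_le_right
        obtain ⟨s, hs⟩ := exists_conj_le_sylow_of_normalizer S hP₀
        have hsx : s * x * s⁻¹ = x :=
          ihP R₁ inf_le_left ⟨hQS hxQ, le_normalizer hxQ⟩ (by omega) s ((map_mono hR₁P₀).trans hs)
        set Q' := Q.map (MulAut.conj s).toMonoidHom with hQ'
        have hQP₀ : Q ≤ P₀ := le_trans (le_inf hQS le_normalizer) hR₁P₀
        have hxQ' : x ∈ Q' := ⟨x, hxQ, by simpa using hsx⟩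
        have hN' : normalizer (Q' : Set G) =
            (normalizer (Q : Set G)).map (MulAut.conj s).toMonoidHom :=
          (map_equiv_normalizer_eq Q (MulAut.conj s)).symm
        have hP₀' : P₀.map (MulAut.conj s).toMonoidHom ≤
            (S : Subgroup G) ⊓ normalizer (Q' : Set G) :=
          le_inf hs (hN' ▸ map_mono hP₀N)
        have hcP₀ : Nat.card (P₀.map (MulAut.conj s).toMonoidHom : Subgroup G) = Nat.card P₀ :=
          card_map_of_injective (MulAut.conj s).injective
        have hmax' : ∀ P : Subgroup G, IsPGroup p P → P ≤ normalizer (Q' : Set G) →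
            ∃ n ∈ normalizer (Q' : Set G), P.map (MulAut.conj n).toMonoidHom ≤
              P₀.map (MulAut.conj s).toMonoidHom := by
          intro P hPp hPN
          obtain ⟨n, hn, hle⟩ := hP₀max (P.map (MulAut.conj s⁻¹).toMonoidHom) (hPp.map _) (by
            rintro _ ⟨y, hy, rfl⟩
            obtain ⟨y', hy', e⟩ := hN' ▸ hPN hy
            rw [← e]
            simpa [MulAut.conj_apply, mul_assoc] using hy')
          refine ⟨s * n * s⁻¹, hN' ▸ ⟨n, hn, rfl⟩, ?_⟩
          rintro _ ⟨y, hy, rfl⟩
          refine ⟨n * (s⁻¹ * y * s) * n⁻¹, hle ⟨s⁻¹ * y * s, ⟨y, hy, by simp⟩, rfl⟩, ?_⟩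
          simp [MulAut.conj_apply, mul_assoc]
        have hQ'N : ∀ n ∈ normalizer (Q' : Set G), n * x * n⁻¹ = x := by
          refine ihN Q' ((map_mono hQP₀).trans hs) hxQ' ?_ fun P hPp hPN => ?_
          · have h1 := card_le_of_le hP₀'
            have h2 := card_le_of_le hR₁P₀
            omega
          · obtain ⟨n, -, hle⟩ := hmax' P hPp hPN
            have h1 := card_le_of_le (hle.trans hP₀')
            rwa [card_map_of_injective (MulAut.conj n).injective] at h1
        obtain ⟨n, hn, hle⟩ := hmax' (R₂.map (MulAut.conj (s * g⁻¹)).toMonoidHom)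
          ((S.2.to_le inf_le_left).map _) (by
            have hQ'' : Q₁.map (MulAut.conj (s * g⁻¹)).toMonoidHom = Q' := by
              rw [hQ₁, Cfsg.Lib.Coprime.map_conj_conj, inv_mul_cancel_right]
            rw [← hQ'', ← map_equiv_normalizer_eq Q₁ (MulAut.conj (s * g⁻¹))]
            exact map_mono inf_le_right)
        set t := n * (s * g⁻¹) with ht
        have hR : R₂.map (MulAut.conj t).toMonoidHom ≤ (S : Subgroup G) := by
          rw [ht, ← Cfsg.Lib.Coprime.map_conj_conj]
          exact hle.trans hs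
        have htx : t * (g * x * g⁻¹) * t⁻¹ = x := by
          calc t * (g * x * g⁻¹) * t⁻¹ = n * (s * x * s⁻¹) * n⁻¹ := by rw [ht]; group
            _ = x := by rw [hsx, hQ'N n hn]
        have hback := ihP (R₂.map (MulAut.conj t).toMonoidHom) hR
          ⟨g * x * g⁻¹, ⟨hg ⟨x, hxQ, rfl⟩, le_normalizer ⟨x, hxQ, rfl⟩⟩, by simpa using htx⟩
          (by rw [card_map_of_injective (MulAut.conj t).injective]; omega) t⁻¹
          (by
            rw [Cfsg.Lib.Coprime.map_conj_conj, inv_mul_cancel, Cfsg.Lib.Coprime.map_conj_one]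
            exact inf_le_left)
        calc g * x * g⁻¹ = t⁻¹ * (t * (g * x * g⁻¹) * t⁻¹) * t⁻¹⁻¹ := by group
          _ = x := by rw [htx, hback]
      refine ⟨hP, ?_⟩
      -- normalizers of subgroups with a larger Sylow subgroup
      have hlarge : ∀ X : Subgroup G, X ≤ (S : Subgroup G) → x ∈ X →
          m ≤ Nat.card ↥((S : Subgroup G) ⊓ normalizer (X : Set G)) →
          (∃ P : Subgroup G, IsPGroup p P ∧ P ≤ normalizer (X : Set G) ∧ m < Nat.card P) →
          ∀ n ∈ normalizer (X : Set G), n * x * n⁻¹ = x := by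
        rintro X hXS hxX hmX ⟨P, hPp, hPN, hPm⟩ n hn
        set R := (S : Subgroup G) ⊓ normalizer (X : Set G) with hR
        obtain ⟨P₀, hP₀, hRP₀, hP₀N, hP₀max⟩ :=
          exists_maximal_pSubgroup (S.2.to_le inf_le_left : IsPGroup p R) inf_le_right
        obtain ⟨s, hs⟩ := exists_conj_le_sylow_of_normalizer S hP₀
        have hsx : s * x * s⁻¹ = x :=
          hP R inf_le_left ⟨hXS hxX, le_normalizer hxX⟩ hmX s ((map_mono hRP₀).trans hs)
        have hPm' : m < Nat.card P₀ := by
          obtain ⟨y, -, hle⟩ := hP₀max P hPp hPN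
          have := card_le_of_le hle
          rw [card_map_of_injective (MulAut.conj y).injective] at this
          omega
        set X' := X.map (MulAut.conj s).toMonoidHom with hX'
        have hN' : normalizer (X' : Set G) =
            (normalizer (X : Set G)).map (MulAut.conj s).toMonoidHom :=
          (map_equiv_normalizer_eq X (MulAut.conj s)).symm
        have hcard : Nat.card P₀ ≤ Nat.card ↥((S : Subgroup G) ⊓ normalizer (X' : Set G)) := by
          have h1 : Nat.card (P₀.map (MulAut.conj s).toMonoidHom : Subgroup G) = Nat.card P₀ :=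
            card_map_of_injective (MulAut.conj s).injective
          rw [← h1]
          exact card_le_of_le (le_inf hs (hN' ▸ map_mono hP₀N))
        have hn' : s * n * s⁻¹ ∈ normalizer (X' : Set G) := hN' ▸ ⟨n, hn, rfl⟩
        have hfull : ∀ P' : Subgroup G, IsPGroup p P' → P' ≤ normalizer (X' : Set G) →
            Nat.card P' ≤ Nat.card ↥((S : Subgroup G) ⊓ normalizer (X' : Set G)) := by
          intro P' hP' hP'N
          obtain ⟨y, -, hle⟩ := hP₀max (P'.map (MulAut.conj s⁻¹).toMonoidHom) (hP'.map _) (by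
            rintro _ ⟨w, hw, rfl⟩
            obtain ⟨w', hw', e⟩ := hN' ▸ hP'N hw
            rw [← e]
            simpa [MulAut.conj_apply, mul_assoc] using hw')
          have := card_le_of_le hle
          rw [card_map_of_injective (MulAut.conj y).injective,
            card_map_of_injective (MulAut.conj s⁻¹).injective] at this
          omega
        have h := ihN X' ((map_mono (le_trans (le_inf hXS le_normalizer) hRP₀)).trans hs)
          ⟨x, hxX, by simpa using hsx⟩ (by omega) hfull _ hn'
        have hsc : Commute s x := mul_inv_eq_iff_eq_mul.mp hsx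
        calc n * x * n⁻¹ = s⁻¹ * ((s * n * s⁻¹) * (s * x * s⁻¹) * (s * n * s⁻¹)⁻¹) * s := by group
          _ = s⁻¹ * x * s := by rw [hsx, h]
          _ = x := by rw [mul_assoc, ← hsc.eq, inv_mul_cancel_left]
      intro Q hQS hxQ hmQ hfull n hn
      set T := (S : Subgroup G) ⊓ normalizer (Q : Set G) with hT
      have hTp : IsPGroup p T := S.2.to_le inf_le_left
      set N := normalizer (Q : Set G) with hN
      set C := centralizer (Q : Set G) with hC
      have hCN : C ≤ N := centralizer_le_normalizer _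
      haveI hCn : (C.subgroupOf N).Normal := by
        rw [normal_subgroupOf_iff_le_normalizer hCN]
        exact normalizer_le_normalizer_centralizer' Q
      obtain ⟨TS, hTS⟩ : ∃ TS : Sylow p N, (TS : Subgroup N) = T.subgroupOf N := by
        obtain ⟨TS, hle⟩ := (hTp.of_equiv (subgroupOfEquivOfLe (inf_le_right : T ≤ N)).symm).exists_le_sylow
        refine ⟨TS, (eq_of_le_of_card_ge hle ?_).symm⟩
        rw [Nat.card_congr (subgroupOfEquivOfLe (inf_le_right : T ≤ N)).toEquiv]
        have := hfull ((TS : Subgroup N).map N.subtype) (TS.2.map _) (map_subtype_le _)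
        rwa [card_map_of_injective N.subtype_injective] at this
      set R := T ⊓ C with hR
      -- Frattini argument
      have hfrat : ∀ n ∈ N, ∃ c ∈ C, ∃ n' ∈ N, n' ∈ normalizer (R : Set G) ∧ n = c * n' := by
        intro n hn
        have hS' : ¬ p ∣ ((R.subgroupOf N).subgroupOf (C.subgroupOf N)).index := by
          rw [← relIndex, show R.subgroupOf N = (TS : Subgroup N) ⊓ C.subgroupOf N by
            rw [hTS]; ext y; simp [hR, mem_subgroupOf], inf_relIndex_right]
          exact Solv.not_dvd_relIndex_of_isSubnormal TS (Subgroup.Normal.isSubnormal hCn)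
        have hle : R.subgroupOf N ≤ C.subgroupOf N := fun y hy =>
          mem_subgroupOf.mpr (mem_subgroupOf.mp hy).2
        let RS : Sylow p (C.subgroupOf N) :=
          (((hTp.to_le inf_le_left).of_equiv (subgroupOfEquivOfLe
            ((inf_le_left : R ≤ T).trans (inf_le_right : T ≤ N))).symm).of_equiv
              (subgroupOfEquivOfLe hle).symm).toSylow hS'
        have hfr := Sylow.normalizer_sup_eq_top RS
        rw [IsPGroup.toSylow_coe, map_subgroupOf_eq_of_le hle, sup_comm] at hfr
        obtain ⟨c, hc, n', hn', e⟩ :=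
          mem_sup_of_normal_left.mp (hfr ▸ mem_top (⟨n, hn⟩ : N))
        refine ⟨c, mem_subgroupOf.mp hc, n', n'.2, ?_, congrArg Subtype.val e.symm⟩
        refine mem_normalizer_iff.mpr fun y => ?_
        constructor
        · intro hy
          have := (mem_normalizer_iff.mp hn' ⟨y, hy.1.2⟩).mp (mem_subgroupOf.mpr hy)
          exact mem_subgroupOf.mp this
        · intro hy
          have hyN : y ∈ N := by
            have := N.mul_mem (N.mul_mem (N.inv_mem n'.2) hy.1.2) n'.2
            simpa [mul_assoc] using this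
          exact mem_subgroupOf.mp ((mem_normalizer_iff.mp hn' ⟨y, hyN⟩).mpr (mem_subgroupOf.mpr hy))
      obtain ⟨c, hc, n', hn'N, hn'R, rfl⟩ := hfrat n hn
      have hcx : c * x * c⁻¹ = x := by
        rw [← mem_centralizer_iff.mp hc x hxQ, mul_inv_cancel_right]
      suffices hn'x : n' * x * n'⁻¹ = x by
        calc c * n' * x * (c * n')⁻¹ = c * (n' * x * n'⁻¹) * c⁻¹ := by group
          _ = x := by rw [hn'x, hcx]
      set Q' := Q ⊔ R with hQ'
      have hn' : n' ∈ normalizer (Q' : Set G) := by
        rw [mem_normalizer_iff_map_conj_eq, hQ', Subgroup.map_sup, mem_normalizer_iff_map_conj_eq.mp hn'N,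
          mem_normalizer_iff_map_conj_eq.mp hn'R]
      have hQ'S : Q' ≤ (S : Subgroup G) := sup_le hQS (inf_le_left.trans inf_le_left)
      have hxQ' : x ∈ Q' := le_sup_left (b := R) hxQ
      have hzR : z ∈ R := by
        refine ⟨⟨hzS, centralizer_le_normalizer _ ?_⟩, ?_⟩ <;>
          exact mem_centralizer_iff.mpr fun y hy => (hzc y (hQS hy)).eq
      set T' := (S : Subgroup G) ⊓ normalizer (Q' : Set G) with hT'
      have hTT' : T ≤ T' := by
        refine le_inf inf_le_left fun t ht => ?_
        rw [mem_normalizer_iff_map_conj_eq, hQ', Subgroup.map_sup,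
          mem_normalizer_iff_map_conj_eq.mp (show t ∈ normalizer (Q : Set G) from ht.2)]
        congr 1
        refine eq_of_le_of_card_ge ?_ (card_map_of_injective (MulAut.conj t).injective).ge
        rintro _ ⟨r, hr, rfl⟩
        exact ⟨T.mul_mem (T.mul_mem ht hr.1) (T.inv_mem ht),
          (mem_normalizer_iff.mp (normalizer_le_normalizer_centralizer' Q ht.2) r).mp hr.2⟩
      have hmT : m ≤ Nat.card T := hmQ
      by_cases hbig : ∃ P : Subgroup G, IsPGroup p P ∧ P ≤ normalizer (Q' : Set G) ∧ m < Nat.card P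
      · exact hlarge Q' hQ'S hxQ' (hmT.trans (card_le_of_le hTT')) hbig n' hn'
      push Not at hbig
      -- the group `N(Q')`
      set H := normalizer (Q' : Set G) with hH
      obtain ⟨T₁, hT₁⟩ : ∃ T₁ : Sylow p H, (T₁ : Subgroup H) = T'.subgroupOf H := by
        obtain ⟨T₁, hle⟩ := (((S.2.to_le inf_le_left : IsPGroup p T')).of_equiv
          (subgroupOfEquivOfLe (inf_le_right : T' ≤ H)).symm).exists_le_sylow
        refine ⟨T₁, (eq_of_le_of_card_ge hle ?_).symm⟩
        rw [Nat.card_congr (subgroupOfEquivOfLe (inf_le_right : T' ≤ H)).toEquiv]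
        have := hbig ((T₁ : Subgroup H).map H.subtype) (T₁.2.map _) (map_subtype_le _)
        rw [card_map_of_injective H.subtype_injective] at this
        exact this.trans (hmT.trans (card_le_of_le hTT'))
      have hzH : z ∈ H := le_normalizer (le_sup_right (a := Q) hzR)
      have hxT' : x ∈ T' := ⟨hxS, le_normalizer hxQ'⟩
      have hJ' : ∀ y : H, y ∈ normalizer (thompsonSubgroupAOf (T₁ : Subgroup H) : Set H) →
          (y : G) * x * (y : G)⁻¹ = x := by
        intro y hy
        have hy1 : (y : G) ∈ normalizer (thompsonSubgroupAOf T' : Set G) := by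
          have h2 := le_normalizer_map H.subtype (mem_map_of_mem H.subtype hy)
          rwa [ThompsonA.map_thompsonSubgroupAOf H.subtype _ H.subtype_injective.injOn, hT₁,
            map_subgroupOf_eq_of_le (inf_le_right : T' ≤ H)] at h2
        by_cases hT'S : T' = (S : Subgroup G)
        · exact hJ _ (hT'S ▸ hy1)
        have hXS : thompsonSubgroupAOf T' ≤ (S : Subgroup G) :=
          (ThompsonA.thompsonSubgroupAOf_le T').trans inf_le_left
        have hxX : x ∈ thompsonSubgroupAOf T' := by
          obtain ⟨A, hA⟩ := GlaubermanZJ.exists_isMaxAbIn T'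
          rw [GlaubermanZJ.thompsonSubgroupAOf_eq]
          refine le_sSup (show A ∈ {A | GlaubermanZJ.IsMaxAbIn T' A} from hA) ?_
          exact hA.mem_of_commute hxT' fun a ha => (hxc a (hA.1 ha).1).symm
        have hlt : T' < (S : Subgroup G) ⊓ normalizer (T' : Set G) :=
          Cfsg.Lib.Fusion.lt_inf_normalizer S.2 (lt_of_le_of_ne inf_le_left hT'S)
        have hle' : (S : Subgroup G) ⊓ normalizer (T' : Set G) ≤
            (S : Subgroup G) ⊓ normalizer (thompsonSubgroupAOf T' : Set G) :=
          inf_le_inf_left _ (ThompsonA.normalizer_le_normalizer_thompsonSubgroupAOf T')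
        have hc1 : m < Nat.card ↥((S : Subgroup G) ⊓ normalizer (thompsonSubgroupAOf T' : Set G)) :=
          lt_of_lt_of_le (lt_of_le_of_lt (hmT.trans (card_le_of_le hTT'))
            (Cfsg.Lib.Fusion.card_lt_card_of_lt hlt)) (card_le_of_le hle')
        exact hlarge _ hXS hxX hc1.le ⟨_, S.2.to_le inf_le_left, inf_le_right, hc1⟩ _ hy1
      haveI : (Q'.subgroupOf H).Normal := by
        rw [normal_subgroupOf_iff_le_normalizer le_normalizer]
      set Z := center ↥(Q'.subgroupOf H) with hZdef
      haveI : (Z.map (Q'.subgroupOf H).subtype).Normal := Cfsg.Lib.Core.normal_map_char_of_normal _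
      have hcomm := central_of_normalizer T₁ ⟨z, hzH⟩ q (⟨z, hzH⟩ ^ q) rfl
        (hq.of_injective H.subtype H.subtype_injective) (Z.map (Q'.subgroupOf H).subtype)
        (by
          rintro _ ⟨a, ha, rfl⟩ _ ⟨b, -, rfl⟩
          exact (Commute.map (mem_center_iff.mp ha b).symm (Q'.subgroupOf H).subtype))
        (((S.2.to_le hQ'S).comap_of_injective H.subtype H.subtype_injective).to_le (map_subtype_le _))
        ⟨⟨⟨z, hzH⟩, mem_subgroupOf.mpr (le_sup_right (a := Q) hzR)⟩, mem_center_iff.mpr fun b =>
          Subtype.ext (Subtype.ext (hzc _ (hQ'S (mem_subgroupOf.mp b.2))).eq), rfl⟩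
        (fun t ht => Subtype.ext (hzc _ (by
          rw [hT₁, mem_subgroupOf] at ht; exact ht.1)).eq)
        (fun y hy => mem_centralizer_iff.mpr fun v hv => by
          rw [Set.mem_singleton_iff.mp hv]
          refine Subtype.ext ?_
          have := mul_inv_eq_iff_eq_mul.mp (hJ' y hy)
          simpa [hxz] using this.symm)
        ⟨n', hn'⟩
      have h1 : n' * z ^ q = z ^ q * n' := congrArg Subtype.val hcomm
      rw [hxz, h1, mul_inv_cancel_right]
  intro g hg
  have hx' : zpowers x ≤ (S : Subgroup G) := zpowers_le.mpr hxS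
  refine (main (Nat.card G + 1) 0 (by omega)).1 (zpowers x) hx' (mem_zpowers x) (Nat.zero_le _) g ?_
  rw [MonoidHom.map_zpowers]
  exact zpowers_le.mpr hg

end Fusion

end Cfsg.Lib.Local.Central
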