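import Cfsg.Prelude.Def_EvenType
import Cfsg.Prelude.Def_Amalgam
import Cfsg.Agent.Lib.FusionSys.StronglyEmb
import Cfsg.Agent.Lib.Local.Basic
import Cfsg.Agent.Lib.Coprime.Generation
import Cfsg.Agent.Lib.Local.Sylow
import Cfsg.Agent.Lib.Invol.Basic

/-!
Equivalent forms of being strongly `p`-embedded, and first consequences.
-/

set_option autoImplicit false

namespace Cfsg.Lib.Local

open Subgroup Cfsg.Lib.FusionSys

variable {G : Type*} [Group G] [Finite G] {p : ℕ} [Fact p.Prime]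

/-- A maximal `p`-subgroup `R` of `Y` with `N_K(R) ≤ Y` is maximal in `K`. -/
theorem eq_of_normalizer_le {Y K R : Subgroup G}
    (hmax : ∀ Q : Subgroup G, Q ≤ Y → IsPGroup p Q → R ≤ Q → Q = R)
    (hN : K ⊓ normalizer (R : Set G) ≤ Y) :
    ∀ Q : Subgroup G, Q ≤ K → IsPGroup p Q → R ≤ Q → Q = R := by
  intro Q hQK hQ hRQ
  by_contra hne
  have hlt : R < Q := lt_of_le_of_ne hRQ (Ne.symm hne)
  have h := lt_inf_normalizer_self hQ hlt
  exact h.ne (hmax _ ((inf_le_inf_right _ hQK).trans hN) (hQ.to_le inf_le_left) h.le).symm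

theorem sylow_ne_bot_of_dvd (P : Sylow p G) (h : p ∣ Nat.card G) : (P : Subgroup G) ≠ ⊥ := by
  intro hb
  apply P.not_dvd_index
  rwa [hb, index_bot]

theorem exists_orderOf_prime_mem {A : Subgroup G} (hA : IsPGroup p A) (hne : A ≠ ⊥) :
    ∃ x ∈ A, orderOf x = p := by
  obtain ⟨n, hn, hc⟩ := hA.nontrivial_iff_card.mp ((Subgroup.nontrivial_iff_ne_bot A).2 hne)
  obtain ⟨x, hx⟩ := exists_prime_orderOf_dvd_card' (G := A) p (hc ▸ dvd_pow_self p hn.ne')
  exact ⟨x, x.2, by rwa [orderOf_coe]⟩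

theorem isPGroup_zpowers_of_orderOf {x : G} (hx : orderOf x = p) : IsPGroup p (zpowers x) :=
  IsPGroup.of_card (n := 1) (by rw [Nat.card_zpowers, hx, pow_one])

theorem zpowers_ne_bot_of_orderOf {x : G} (hx : orderOf x = p) : zpowers x ≠ ⊥ := fun h => by
  rw [zpowers_eq_bot] at h
  rw [h, orderOf_one] at hx
  exact (Fact.out : p.Prime).one_lt.ne hx

/-- In a strongly `p`-embedded subgroup the normalizers of nontrivial `p`-subgroups lie. -/
theorem spe_normalizer_le {Y : Subgroup G} (hY : IsStronglyPEmbedded p Y) {A : Subgroup G}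
    (hAY : A ≤ Y) (hA : IsPGroup p A) (hne : A ≠ ⊥) : normalizer (A : Set G) ≤ Y := by
  obtain ⟨hdvd, hproper, P, hP⟩ := hY
  have hQ : ∀ Q : Subgroup G, Q ≤ (P : Subgroup G) → Q ≠ ⊥ → normalizer (Q : Set G) ≤ Y :=
    fun Q hQP hQ0 => (normalizer_le_kGeneratedCore P.isPGroup' hQP hQ0).trans hP
  have hPY : (P : Subgroup G) ≤ Y :=
    le_normalizer.trans (hQ _ le_rfl (sylow_ne_bot_of_dvd P hdvd))
  obtain ⟨h, hh⟩ := Cfsg.Lib.Invol.exists_conj_mem_sylow (P.subtype hPY)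
    (hA.comap_subtype (K := Y))
  intro g hg
  have hA' : A.map (MulAut.conj (h : G)).toMonoidHom ≤ (P : Subgroup G) := by
    rintro _ ⟨a, ha, rfl⟩
    have := hh ⟨a, hAY ha⟩ ha
    rwa [Sylow.coe_subtype, mem_subgroupOf] at this
  have hne' : A.map (MulAut.conj (h : G)).toMonoidHom ≠ ⊥ := fun e =>
    hne ((map_eq_bot_iff_of_injective _ (MulAut.conj (h : G)).injective).1 e)
  have h1 := hQ _ hA' hne' (le_normalizer_map (MulAut.conj (h : G)).toMonoidHom ⟨g, hg, rfl⟩)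
  have h2 : (h : G) * g * (h : G)⁻¹ ∈ Y := h1
  have := Y.mul_mem (Y.mul_mem (Y.inv_mem h.2) h2) h.2
  simpa [mul_assoc] using this

theorem spe_dvd_card {Y : Subgroup G} (hY : IsStronglyPEmbedded p Y) : p ∣ Nat.card Y := by
  obtain ⟨hdvd, hproper, P, hP⟩ := hY
  have hPY : (P : Subgroup G) ≤ Y := le_normalizer.trans
    ((normalizer_le_kGeneratedCore P.isPGroup' le_rfl (sylow_ne_bot_of_dvd P hdvd)).trans hP)
  obtain ⟨x, hx, hxp⟩ := exists_orderOf_prime_mem P.isPGroup' (sylow_ne_bot_of_dvd P hdvd)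
  rw [← hxp, ← Subgroup.orderOf_mk x (hPY hx)]
  exact orderOf_dvd_natCard _

/-- If `Y` contains the normalizers of its nontrivial `p`-subgroups, its Sylow subgroups are Sylow in `G`. -/
theorem exists_sylow_of_normalizers_le {Y : Subgroup G} (hp : p ∣ Nat.card Y)
    (h : ∀ A : Subgroup G, A ≤ Y → IsPGroup p A → A ≠ ⊥ → normalizer (A : Set G) ≤ Y)
    (S : Sylow p Y) :
    ∃ P : Sylow p G, (P : Subgroup G) = (S : Subgroup Y).map Y.subtype := by
  set R := (S : Subgroup Y).map Y.subtype with hR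
  have hRY : R ≤ Y := map_subtype_le _
  have hne : R ≠ ⊥ := fun e => sylow_ne_bot_of_dvd S hp
    ((map_eq_bot_iff_of_injective _ Y.subtype_injective).1 e)
  have hmax : ∀ Q : Subgroup G, Q ≤ Y → IsPGroup p Q → R ≤ Q → Q = R := by
    intro Q hQY hQ hRQ
    have := S.3 (hQ.comap_subtype (K := Y)) (fun s hs => hRQ ⟨s, hs, rfl⟩)
    rw [hR, ← this, map_comap_eq, range_subtype, inf_eq_right.mpr hQY]
  have hN : (⊤ : Subgroup G) ⊓ normalizer (R : Set G) ≤ Y :=
    inf_le_right.trans (h R hRY (S.2.map _) hne)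
  obtain ⟨P, hP⟩ := (S.2.map Y.subtype).exists_le_sylow
  exact ⟨P, eq_of_normalizer_le hmax hN _ le_top P.isPGroup' hP⟩

theorem spe_of_normalizers_le {Y : Subgroup G} (hY : Y ≠ ⊤) (hp : p ∣ Nat.card Y)
    (h : ∀ A : Subgroup G, A ≤ Y → IsPGroup p A → A ≠ ⊥ → normalizer (A : Set G) ≤ Y) :
    IsStronglyPEmbedded p Y := by
  obtain ⟨S⟩ : Nonempty (Sylow p Y) := inferInstance
  obtain ⟨P, hP⟩ := exists_sylow_of_normalizers_le hp h S
  have hPY : (P : Subgroup G) ≤ Y := hP.trans_le (map_subtype_le _)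
  exact ⟨hp.trans (card_subgroup_dvd_card Y), hY, P,
    kGeneratedCore_le_of fun Q hQ hne => h Q (hQ.trans hPY) (P.isPGroup'.to_le hQ) hne⟩

/-- The classical definition, from the normalizer condition. -/
theorem not_dvd_inter_of_normalizers_le {Y : Subgroup G} (hp : p ∣ Nat.card Y)
    (h : ∀ A : Subgroup G, A ≤ Y → IsPGroup p A → A ≠ ⊥ → normalizer (A : Set G) ≤ Y)
    {g : G} (hg : g ∉ Y) : ¬ p ∣ Nat.card ↥(Y ⊓ Y.map (MulAut.conj g).toMonoidHom) := by
  intro hd
  set D := Y ⊓ Y.map (MulAut.conj g).toMonoidHom with hD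
  obtain ⟨S⟩ : Nonempty (Sylow p D) := inferInstance
  set R := (S : Subgroup D).map D.subtype with hR
  have hRD : R ≤ D := map_subtype_le _
  have hne : R ≠ ⊥ := fun e => sylow_ne_bot_of_dvd S hd
    ((map_eq_bot_iff_of_injective _ D.subtype_injective).1 e)
  have hRp : IsPGroup p R := S.2.map _
  have hN1 := h R (hRD.trans inf_le_left) hRp hne
  set R' := R.map (MulAut.conj g⁻¹).toMonoidHom with hR'
  have hR'Y : R' ≤ Y := by
    rintro _ ⟨r, hr, rfl⟩
    have := Core.mem_map_conj.mp (hRD hr).2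
    simpa using this
  have hR'ne : R' ≠ ⊥ := fun e =>
    hne ((map_eq_bot_iff_of_injective _ (MulAut.conj g⁻¹).injective).1 e)
  have hN2 := h R' hR'Y (hRp.map _) hR'ne
  have hN : normalizer (R : Set G) ≤ D := by
    refine le_inf hN1 fun x hx => Core.mem_map_conj.mpr ?_
    have : g⁻¹ * x * g⁻¹⁻¹ ∈ Y := hN2 (le_normalizer_map (MulAut.conj g⁻¹).toMonoidHom ⟨x, hx, rfl⟩)
    simpa using this
  obtain ⟨P, hP⟩ := hRp.exists_le_sylow
  have hPR : (P : Subgroup G) = R := eq_of_normalizer_le (p := p) (Y := D) (K := ⊤) (fun Q hQD hQ hRQ => by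
      have := S.3 (hQ.comap_subtype (K := D)) (fun s hs => hRQ ⟨s, hs, rfl⟩)
      rw [hR, ← this, map_comap_eq, range_subtype, inf_eq_right.mpr hQD])
    (inf_le_right.trans hN) _ le_top P.isPGroup' hP
  have hPY : (P : Subgroup G) ≤ Y := hPR.trans_le (hRD.trans inf_le_left)
  have hgP : ((g⁻¹ • P : Sylow p G) : Subgroup G) ≤ Y := by
    rw [Sylow.coe_subgroup_smul, hPR]
    exact hR'Y
  obtain ⟨y, hy⟩ := MulAction.exists_smul_eq Y ((g⁻¹ • P).subtype hgP) (P.subtype hPY)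
  have hyg : ((y : G) * g⁻¹) • P = P := by
    refine (Sylow.ext (((y : G) * g⁻¹) • P |>.3 P.isPGroup' ?_)).symm
    intro x hx
    rw [Sylow.coe_subgroup_smul] at hx
    obtain ⟨r, hr, rfl⟩ := hx
    have hmem : (g⁻¹ * r * g⁻¹⁻¹) ∈ ((g⁻¹ • P : Sylow p G) : Subgroup G) := by
      rw [Sylow.coe_subgroup_smul]
      exact ⟨r, hr, rfl⟩
    have h2 : y * (⟨g⁻¹ * r * g⁻¹⁻¹, hgP hmem⟩ : Y) * y⁻¹ ∈ ((P.subtype hPY : Sylow p Y) : Subgroup Y) := by
      rw [← hy, Sylow.coe_subgroup_smul]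
      exact ⟨⟨g⁻¹ * r * g⁻¹⁻¹, hgP hmem⟩, hmem, rfl⟩
    rw [Sylow.coe_subtype, mem_subgroupOf] at h2
    simpa [mul_assoc] using h2
  have h1 : (y : G) * g⁻¹ ∈ Y :=
    h P hPY P.isPGroup' (hPR ▸ hne) (Sylow.smul_eq_iff_mem_normalizer.1 hyg)
  apply hg
  have := Y.inv_mem (Y.mul_mem (Y.inv_mem y.2) h1)
  simpa using this

theorem normalizers_le_of_not_dvd_inter {Y : Subgroup G}
    (h : ∀ g : G, g ∉ Y → ¬ p ∣ Nat.card ↥(Y ⊓ Y.map (MulAut.conj g).toMonoidHom))
    {A : Subgroup G} (hAY : A ≤ Y) (hA : IsPGroup p A) (hne : A ≠ ⊥) :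
    normalizer (A : Set G) ≤ Y := by
  intro g hg
  by_contra hgY
  obtain ⟨x, hx, hxp⟩ := exists_orderOf_prime_mem hA hne
  apply h g hgY
  have hle : A ≤ Y ⊓ Y.map (MulAut.conj g).toMonoidHom :=
    le_inf hAY (by rw [← Core.map_conj_eq_of_mem_normalizer hg]; exact map_mono hAY)
  rw [← hxp, ← Subgroup.orderOf_mk x (hle hx)]
  exact orderOf_dvd_natCard _

/-- Strongly `p`-embedded means proper, of order divisible by `p`, meeting other conjugates in `p'`-groups. -/
theorem spe_iff {Y : Subgroup G} :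
    IsStronglyPEmbedded p Y ↔ Y ≠ ⊤ ∧ p ∣ Nat.card Y ∧
      ∀ g : G, g ∉ Y → ¬ p ∣ Nat.card ↥(Y ⊓ Y.map (MulAut.conj g).toMonoidHom) :=
  ⟨fun h => ⟨h.2.1, spe_dvd_card h, fun _ hg =>
      not_dvd_inter_of_normalizers_le (spe_dvd_card h) (fun _ => spe_normalizer_le h) hg⟩,
    fun h => spe_of_normalizers_le h.1 h.2.1 fun _ => normalizers_le_of_not_dvd_inter h.2.2⟩

theorem spe_centralizer_le {Y : Subgroup G} (hY : IsStronglyPEmbedded p Y) {x : G} (hx : x ∈ Y)
    (hxp : orderOf x = p) : centralizer ({x} : Set G) ≤ Y := by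
  refine le_trans ?_ (spe_normalizer_le hY (zpowers_le.mpr hx) (isPGroup_zpowers_of_orderOf hxp)
    (zpowers_ne_bot_of_orderOf hxp))
  rw [zpowers_eq_closure]
  exact (centralizer_closure ({x} : Set G)).ge.trans (centralizer_le_normalizer _)

theorem spe_exists_sylow_le {Y : Subgroup G} (hY : IsStronglyPEmbedded p Y) :
    ∃ P : Sylow p G, (P : Subgroup G) ≤ Y := by
  obtain ⟨S⟩ : Nonempty (Sylow p Y) := inferInstance
  obtain ⟨P, hP⟩ := exists_sylow_of_normalizers_le (spe_dvd_card hY) (fun _ => spe_normalizer_le hY) S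
  exact ⟨P, hP.trans_le (map_subtype_le _)⟩

/-- A normal subgroup of order divisible by `p` supplements a strongly `p`-embedded subgroup. -/
theorem spe_sup_eq_top {Y : Subgroup G} (hY : IsStronglyPEmbedded p Y) (N : Subgroup G) [N.Normal]
    (hN : p ∣ Nat.card N) : Y ⊔ N = ⊤ := by
  obtain ⟨P, hP⟩ := spe_exists_sylow_le hY
  obtain ⟨S, hS⟩ := exists_sylow_inf P N
  have hle : (S : Subgroup N).map N.subtype ≤ Y := by
    rintro _ ⟨s, hs, rfl⟩
    rw [hS] at hs
    exact hP hs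
  rw [eq_top_iff, ← Sylow.normalizer_sup_eq_top S]
  refine sup_le_sup_right ?_ _
  exact spe_normalizer_le hY hle (S.2.map _) fun e =>
    sylow_ne_bot_of_dvd S hN ((map_eq_bot_iff_of_injective _ N.subtype_injective).1 e)

theorem spe_not_le {Y : Subgroup G} (hY : IsStronglyPEmbedded p Y) (N : Subgroup G) [N.Normal]
    (hN : p ∣ Nat.card N) : ¬ N ≤ Y := fun h =>
  hY.2.1 (by rw [← spe_sup_eq_top hY N hN, sup_eq_left.mpr h])

/-- With a noncyclic abelian `p`-subgroup, `Y` contains every normal subgroup of order prime to `p`. -/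
theorem spe_normal_coprime_le {Y A : Subgroup G} (hY : IsStronglyPEmbedded p Y) (hAY : A ≤ Y)
    (hA : IsPGroup p A) [IsMulCommutative A] (hnc : ¬ IsCyclic A) (K : Subgroup G) [K.Normal]
    (hK : (Nat.card K).Coprime p) : K ≤ Y := by
  obtain ⟨n, hn⟩ := IsPGroup.iff_card.mp hA
  have hcop : (Nat.card A).Coprime (Nat.card K) := by rw [hn]; exact (hK.pow_right n).symm
  refine (Cfsg.Lib.Coprime.le_iSup_centralizer_of_not_isCyclic hnc (le_normalizer_normal A) hcop).trans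
    (iSup_le fun a => inf_le_right.trans ?_)
  refine le_trans ?_ (spe_normalizer_le hY ((zpowers_le.mpr a.2.1).trans hAY)
    (hA.to_le (zpowers_le.mpr a.2.1)) (by simpa [zpowers_eq_bot] using a.2.2))
  rw [zpowers_eq_closure]
  exact (centralizer_closure ({(a : G)} : Set G)).ge.trans (centralizer_le_normalizer _)

end Cfsg.Lib.Local

namespace Cfsg.Lib.Local

open Subgroup Cfsg.Lib.FusionSys

variable {G : Type*} [Group G] [Finite G] {p : ℕ} [Fact p.Prime]

omit [Fact p.Prime] in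
theorem dvd_card_of_orderOf {D : Subgroup G} {x : G} (hx : x ∈ D) (hxp : orderOf x = p) :
    p ∣ Nat.card D := by
  rw [← hxp, ← Subgroup.orderOf_mk x hx]
  exact orderOf_dvd_natCard _

theorem exists_orderOf_of_dvd_card {D : Subgroup G} (h : p ∣ Nat.card D) :
    ∃ x ∈ D, orderOf x = p := by
  obtain ⟨x, hx⟩ := exists_prime_orderOf_dvd_card' (G := D) p h
  exact ⟨x, x.2, by rwa [orderOf_coe]⟩

omit [Fact p.Prime] [Finite G] in
theorem centralizer_singleton_le_normalizer_zpowers (x : G) :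
    centralizer ({x} : Set G) ≤ normalizer (zpowers x : Set G) := by
  rw [zpowers_eq_closure]
  exact (centralizer_closure ({x} : Set G)).ge.trans (centralizer_le_normalizer _)

/-- An element of `p`-power order of a normal subgroup of order prime to `p` is trivial. -/
theorem spe_normalCore_coprime {Y : Subgroup G} (hY : IsStronglyPEmbedded p Y) :
    (Nat.card Y.normalCore).Coprime p := by
  refine ((Fact.out : p.Prime).coprime_iff_not_dvd.mpr fun hd => ?_).symm
  exact spe_not_le hY Y.normalCore hd Y.normalCore_le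

omit [Finite G] [Fact p.Prime] in
theorem le_pElementClosure {x : G} {H : Subgroup G} (hx : x ∈ H) (hxp : ∃ k : ℕ, orderOf x = p ^ k) :
    x ∈ pElementClosure p H := subset_closure ⟨hx, hxp⟩

omit [Finite G] [Fact p.Prime] in
theorem pElementClosure_top_normal : (pElementClosure p (⊤ : Subgroup G)).Normal := by
  refine ⟨fun x hx g => ?_⟩
  refine closure_induction (p := fun z _ => g * z * g⁻¹ ∈ pElementClosure p ⊤) ?_ ?_ ?_ ?_ hx
  · rintro z ⟨-, k, hk⟩
    exact subset_closure ⟨mem_top _, k, by rw [Cfsg.Lib.Invol.orderOf_conj_eq, hk]⟩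
  · simp
  · intro a b _ _ ha hb
    have e : g * (a * b) * g⁻¹ = g * a * g⁻¹ * (g * b * g⁻¹) := by group
    rw [e]; exact mul_mem ha hb
  · intro a _ ha
    have e : g * a⁻¹ * g⁻¹ = (g * a * g⁻¹)⁻¹ := by group
    rw [e]; exact inv_mem ha

end Cfsg.Lib.Local
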