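import Cfsg.Prelude.Def_SylowChains
import Cfsg.Agent.Lib.Local.StronglyEmbedded

/-!
Chain-connectivity of the Sylow subgroups and strongly `p`-embedded subgroups.
-/

set_option autoImplicit false

namespace Cfsg.Lib.Local

open Cfsg.Lib.FusionSys

variable {G : Type*} [Group G] [Finite G] {p : ℕ} [Fact p.Prime]

/-- Two Sylow subgroups meet nontrivially. -/
def SylowMeet (S T : Sylow p G) : Prop := (S : Subgroup G) ⊓ (T : Subgroup G) ≠ ⊥

/-- Linked by a chain of meeting Sylow subgroups. -/
def SylowLinked (S T : Sylow p G) : Prop := Relation.ReflTransGen SylowMeet S T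

theorem sylowMeet_smul (g : G) {S T : Sylow p G} (h : SylowMeet S T) : SylowMeet (g • S) (g • T) := by
  intro hb
  apply h
  rw [Sylow.coe_subgroup_smul, Sylow.coe_subgroup_smul] at hb
  rw [Subgroup.eq_bot_iff_forall] at hb ⊢
  intro x hx
  have := hb (g * x * g⁻¹) ⟨⟨x, hx.1, rfl⟩, ⟨x, hx.2, rfl⟩⟩
  simpa using this

theorem sylowLinked_smul (g : G) {S T : Sylow p G} (h : SylowLinked S T) :
    SylowLinked (g • S) (g • T) :=
  Relation.ReflTransGen.lift (fun U => g • U) (fun _ _ => sylowMeet_smul g) _ _ h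

theorem sylowLinked_symm {S T : Sylow p G} (h : SylowLinked S T) : SylowLinked T S := by
  induction h with
  | refl => exact Relation.ReflTransGen.refl
  | tail _ hbc ih => exact Relation.ReflTransGen.head (by rwa [SylowMeet, inf_comm]) ih

theorem sylowLinked_of_chain {S T : Sylow p G} {n : ℕ} {c : Fin (n + 1) → Sylow p G} (h0 : c 0 = S)
    (hn : c (Fin.last n) = T)
    (hc : ∀ i : Fin n, (c i.castSucc : Subgroup G) ⊓ (c i.succ : Subgroup G) ≠ ⊥) :
    SylowLinked S T := by
  subst h0 hn
  induction n with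
  | zero => exact Relation.ReflTransGen.refl
  | succ n ih =>
    refine Relation.ReflTransGen.tail (ih (c := fun i => c i.castSucc) fun i => ?_) (hc (Fin.last n))
    simpa using hc i.castSucc

theorem chain_of_sylowLinked {S T : Sylow p G} (h : SylowLinked S T) :
    ∃ (n : ℕ) (c : Fin (n + 1) → Sylow p G), c 0 = S ∧ c (Fin.last n) = T ∧
      ∀ i : Fin n, c i.castSucc ≠ c i.succ ∧ (c i.castSucc : Subgroup G) ⊓ (c i.succ : Subgroup G) ≠ ⊥ := by
  induction h with
  | refl => exact ⟨0, fun _ => S, rfl, rfl, fun i => i.elim0⟩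
  | @tail U V _ hUV ih =>
    obtain ⟨n, c, h0, hn, hc⟩ := ih
    by_cases he : U = V
    · exact ⟨n, c, h0, hn.trans he, hc⟩
    refine ⟨n + 1, Fin.snoc (α := fun _ => Sylow p G) c V, ?_, Fin.snoc_last (α := fun _ => Sylow p G) _ _, fun i => ?_⟩
    · rw [show (0 : Fin (n + 1 + 1)) = (0 : Fin (n + 1)).castSucc from rfl, Fin.snoc_castSucc, h0]
    · induction i using Fin.lastCases with
      | last =>
        rw [Fin.snoc_castSucc, Fin.succ_last, Fin.snoc_last, hn]
        exact ⟨he, hUV⟩
      | cast j =>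
        rw [Fin.snoc_castSucc, Fin.succ_castSucc, Fin.snoc_castSucc]
        exact hc j

theorem isSylowChainConnected_iff :
    IsSylowChainConnected p G ↔ ∀ S T : Sylow p G, SylowLinked S T := by
  constructor
  · intro h S T
    obtain ⟨n, c, h0, hn, -, hc⟩ := h S T
    exact sylowLinked_of_chain h0 hn fun i => (hc i).2
  · intro h S T
    by_cases hST : S = T
    · exact ⟨0, fun _ => S, rfl, hST, fun _ => inf_le_left, fun i => i.elim0⟩
    by_cases hm : (S : Subgroup G) ⊓ (T : Subgroup G) = ⊥
    · obtain ⟨n, c, h0, hn, hc⟩ := chain_of_sylowLinked (h S T)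
      exact ⟨n, c, h0, hn, fun i => hm.trans_le bot_le, hc⟩
    · refine ⟨1, ![S, T], rfl, rfl, fun i => ?_, fun i => ?_⟩
      · fin_cases i
        · exact inf_le_left
        · exact inf_le_right
      · fin_cases i
        exact ⟨hST, hm⟩

/-- The elements moving `S` within its component. -/
def linkStab (S : Sylow p G) : Subgroup G where
  carrier := {g | SylowLinked S (g • S)}
  one_mem' := by
    show SylowLinked S ((1 : G) • S)
    rw [one_smul]; exact Relation.ReflTransGen.refl
  mul_mem' := by
    intro a b ha hb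
    show SylowLinked S ((a * b) • S)
    rw [mul_smul]
    exact Relation.ReflTransGen.trans ha (sylowLinked_smul a hb)
  inv_mem' := by
    intro a ha
    show SylowLinked S (a⁻¹ • S)
    have := sylowLinked_symm (sylowLinked_smul a⁻¹ ha)
    rwa [inv_smul_smul] at this

theorem not_sylowChainConnected_iff :
    ¬ IsSylowChainConnected p G ↔ ∃ H : Subgroup G, IsStronglyPEmbedded p H := by
  rw [isSylowChainConnected_iff]
  constructor
  · intro h
    push Not at h
    obtain ⟨S, T, hST⟩ := h
    have hdvd : p ∣ Nat.card G := by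
      by_contra hd
      apply hST
      have hb : ∀ U : Sylow p G, (U : Subgroup G) = ⊥ := fun U => by
        obtain ⟨k, hk⟩ := U.2.exists_card_eq
        rcases Nat.eq_zero_or_pos k with rfl | hk0
        · exact Subgroup.card_eq_one.mp (hk.trans (pow_zero p))
        · exact absurd ((dvd_pow_self p hk0.ne').trans (hk ▸ Subgroup.card_subgroup_dvd_card _)) hd
      rw [Sylow.ext ((hb S).trans (hb T).symm)]
      exact Relation.ReflTransGen.refl
    refine ⟨linkStab S, hdvd, fun htop => hST ?_, S, kGeneratedCore_le_of fun Q hQ hne g hg => ?_⟩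
    · obtain ⟨g, rfl⟩ := MulAction.exists_smul_eq G S T
      exact (htop ▸ Subgroup.mem_top g : g ∈ linkStab S)
    · refine Relation.ReflTransGen.single fun hb => hne (le_bot_iff.mp ?_)
      refine le_trans (le_inf hQ ?_) hb.le
      rw [← Core.map_conj_eq_of_mem_normalizer hg, Sylow.coe_subgroup_smul]
      exact Subgroup.map_mono hQ
  · rintro ⟨H, hH⟩ hall
    obtain ⟨P, hP⟩ := spe_exists_sylow_le hH
    have hPne := sylow_ne_bot_of_dvd P hH.1
    have hnorm : ∀ Q : Subgroup G, Q ≤ (P : Subgroup G) → Q ≠ ⊥ → Subgroup.normalizer (Q : Set G) ≤ H :=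
      fun Q hQ hne => spe_normalizer_le hH (hQ.trans hP) (P.isPGroup'.to_le hQ) hne
    have key : ∀ U : Sylow p G, SylowLinked P U → ∃ y ∈ H, U = y • P := by
      intro U hU
      induction hU with
      | refl => exact ⟨1, H.one_mem, (one_smul G P).symm⟩
      | @tail V W _ hVW ih =>
        obtain ⟨y, hy, rfl⟩ := ih
        have hm := sylowMeet_smul y⁻¹ hVW
        rw [inv_smul_smul, SylowMeet, inf_comm] at hm
        obtain ⟨z, hz, he⟩ := exists_conj_of_meet P hnorm _ hm
        exact ⟨y * z, H.mul_mem hy hz, by rw [mul_smul, ← he, smul_inv_smul]⟩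
    apply hH.2.1
    rw [eq_top_iff]
    intro g _
    obtain ⟨y, hy, he⟩ := key (g • P) (hall P _)
    have h1 : (y⁻¹ * g) • P = P := by rw [mul_smul, he, inv_smul_smul]
    simpa using H.mul_mem hy (hnorm _ le_rfl hPne (Sylow.smul_eq_iff_mem_normalizer.1 h1))

end Cfsg.Lib.Local
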