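import Cfsg.Agent.Lib.Local.CharPLocal
import Cfsg.Agent.Lib.Local.PReduced

/-!
Criteria for local and parabolic characteristic `p` in terms of centralizers of elements.
-/

set_option autoImplicit false
set_option linter.style.haveILetI false

namespace Cfsg.Lib.Local.CharPCriteria

open Subgroup Cfsg.Lib Cfsg.Lib.Local

variable {G : Type*} [Group G] [Finite G] {p : ℕ} [Fact p.Prime]

omit [Finite G] [Fact p.Prime] in
/-- `C(O_p(A)) ≤ O_p(A)` is invariant under isomorphism. -/
theorem congr {A B : Type*} [Group A] [Group B] [Finite A] [Finite B] (e : A ≃* B)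
    (h : centralizer (pCore p A : Set A) ≤ pCore p A) :
    centralizer (pCore p B : Set B) ≤ pCore p B := by
  rw [← Core.map_pCore_equiv e]
  intro y hy
  refine ⟨e.symm y, h (mem_centralizer_iff.2 fun a ha => e.injective ?_), e.apply_symm_apply y⟩
  rw [map_mul, map_mul, e.apply_symm_apply]
  exact mem_centralizer_iff.1 hy _ ⟨a, ha, rfl⟩

omit [Fact p.Prime] in
/-- The property passes to subnormal subgroups. -/
theorem of_isSubnormal [Fact p.Prime] {H : Subgroup G} (hH : H.IsSubnormal)
    (h : centralizer (pCore p G : Set G) ≤ pCore p G) :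
    centralizer (pCore p H : Set H) ≤ pCore p H := by
  rw [← Local.generalizedFitting_eq_pCore_iff] at h ⊢
  apply map_injective H.subtype_injective
  rw [Core.generalizedFitting_map_eq_inf_of_isSubnormal hH, h,
    Core.pCore_map_eq_inf_of_isSubnormal hH]

/-- From the centralizer of a central element of `X` to the normalizer of `X`. -/
theorem normalizer_of_centralizer {X : Subgroup G} (hX : IsPGroup p X) {z : G}
    (hzX : z ∈ X) (hz : ∀ x ∈ X, x * z = z * x)
    (h : CharPIn p (centralizer ({z} : Set G))) : CharPIn p (normalizer (X : Set G)) := by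
  have hC : centralizer (X : Set G) ≤ centralizer ({z} : Set G) :=
    centralizer_le (Set.singleton_subset_iff.2 hzX)
  have hXC : X ≤ centralizer ({z} : Set G) := fun x hx =>
    mem_centralizer_singleton_iff.2 (hz x hx)
  have h1 : CharPIn p (centralizer (X : Set G)) :=
    charPIn_local h hXC hX hC (centralizer_le_normalizer (X : Set G)) inf_le_right
      (Or.inr le_rfl)
  refine charPIn_up h1 (centralizer_le_normalizer (X : Set G))
    (normalizer_le_normalizer_centralizer X) ?_
  exact inf_le_right.trans (centralizer_le (le_pCoreOf le_normalizer le_rfl hX))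

/-- From the normalizer of `⟨z⟩` to the centralizer of `z`. -/
theorem centralizer_of_normalizer {z : G} (hz : ∃ k : ℕ, orderOf z = p ^ k)
    (h : CharPIn p (normalizer (zpowers z : Set G))) : CharPIn p (centralizer ({z} : Set G)) := by
  obtain ⟨k, hk⟩ := hz
  have hP : IsPGroup p (zpowers z) := IsPGroup.of_card (by rw [Nat.card_zpowers, hk])
  have he : centralizer ({z} : Set G) = centralizer (zpowers z : Set G) := by
    rw [zpowers_eq_closure, centralizer_closure]
  rw [he]
  exact charPIn_local h le_normalizer hP (centralizer_le_normalizer _)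
    (centralizer_le_normalizer _) inf_le_right (Or.inr le_rfl)

/-- Conjugate centralizers. -/
theorem centralizer_conj {z : G} (h : CharPIn p (centralizer ({z} : Set G))) (g : G) :
    CharPIn p (centralizer ({g * z * g⁻¹} : Set G)) := by
  rw [charPIn_iff] at h ⊢
  have e : (centralizer ({z} : Set G)).map (MulAut.conj g).toMonoidHom =
      centralizer ({g * z * g⁻¹} : Set G) := by
    ext y
    rw [Subgroup.mem_map_equiv, mem_centralizer_singleton_iff, mem_centralizer_singleton_iff,
      MulAut.conj_symm_apply]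
    constructor <;> intro hh
    · have := congrArg (fun t => g * t * g⁻¹) hh
      simpa [mul_assoc] using this
    · have := congrArg (fun t => g⁻¹ * t * g) hh
      simpa [mul_assoc] using this
  exact congr (((centralizer ({z} : Set G)).equivMapOfInjective _
    (MulAut.conj g).injective).trans (MulEquiv.subgroupCongr e)) h

/-- Parabolic characteristic from the centralizers of elements of order `p` in the centre of one
Sylow subgroup. -/
theorem parabolic_of_centralizers (S : Sylow p G)
    (h : ∀ z : G, orderOf z = p → z ∈ (S : Subgroup G) →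
      (∀ s ∈ (S : Subgroup G), s * z = z * s) → CharPIn p (centralizer ({z} : Set G))) :
    Cfsg.IsOfParabolicCharacteristic p G := by
  intro R hR hRne ⟨T, hT⟩
  rw [← charPIn_iff]
  have hRT : R ≤ (T : Subgroup G) := by
    have hsup : IsPGroup p ↥((T : Subgroup G) ⊔ R) :=
      T.2.to_sup_of_normal_right' hR hT
    exact le_sup_right.trans_eq (T.3 hsup le_sup_left)
  haveI hTne : Nontrivial ↥(T : Subgroup G) := by
    rw [nontrivial_iff_ne_bot]
    intro hb
    rw [hb] at hRT
    exact hRne (le_bot_iff.1 hRT)
  haveI : (R.subgroupOf (T : Subgroup G)).Normal :=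
    (normal_subgroupOf_iff_le_normalizer hRT).2 hT
  haveI : Nontrivial ↥(R.subgroupOf (T : Subgroup G)) := by
    rw [nontrivial_iff_ne_bot, ne_eq, subgroupOf_eq_bot]
    intro hd
    exact hRne (le_bot_iff.1 (hd le_rfl hRT))
  have hpd : p ∣ Nat.card ↥(R.subgroupOf (T : Subgroup G) ⊓ center ↥(T : Subgroup G)) := by
    have hne : R.subgroupOf (T : Subgroup G) ⊓ center ↥(T : Subgroup G) ≠ ⊥ :=
      PGroup.inf_center_ne_bot T.2 ((nontrivial_iff_ne_bot _).1 inferInstance)
    haveI := (nontrivial_iff_ne_bot _).2 hne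
    obtain ⟨m, hm, hcard⟩ :=
      (T.2.to_subgroup (R.subgroupOf (T : Subgroup G) ⊓ center ↥(T : Subgroup G))).nontrivial_iff_card.1
        inferInstance
    rw [hcard]
    exact dvd_pow_self p hm.ne'
  obtain ⟨w, hw⟩ := exists_prime_orderOf_dvd_card' p hpd
  have hwo : orderOf ((w : ↥(T : Subgroup G)) : G) = p := by
    rw [orderOf_coe, orderOf_coe, hw]
  obtain ⟨hwR, hwZ⟩ := w.2
  have hcT : ∀ t ∈ (T : Subgroup G), t * ((w : ↥(T : Subgroup G)) : G) = (w : ↥(T : Subgroup G)) * t :=
    fun t ht => congrArg Subtype.val (mem_center_iff.1 hwZ ⟨t, ht⟩)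
  refine normalizer_of_centralizer hR (z := ((w : ↥(T : Subgroup G)) : G)) hwR
    (fun x hx => hcT x (hRT hx)) ?_
  obtain ⟨g, hg⟩ := MulAction.exists_smul_eq G S T
  have hmem : ∀ y : G, y ∈ (T : Subgroup G) ↔ g⁻¹ * y * g ∈ (S : Subgroup G) := by
    intro y
    rw [← hg, Sylow.coe_subgroup_smul, Subgroup.mem_pointwise_smul_iff_inv_smul_mem,
      ← map_inv, MulAut.smul_def, MulAut.conj_apply, inv_inv]
  set z0 := g⁻¹ * ((w : ↥(T : Subgroup G)) : G) * g with hz0
  have := centralizer_conj (h z0 ?_ ((hmem _).1 (w : ↥(T : Subgroup G)).2) ?_) g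
  · have e : g * z0 * g⁻¹ = ((w : ↥(T : Subgroup G)) : G) := by rw [hz0]; group
    rwa [e] at this
  · have e : orderOf z0 = orderOf ((w : ↥(T : Subgroup G)) : G) := by
      rw [hz0, ← MulEquiv.orderOf_eq (MulAut.conj g⁻¹) ((w : ↥(T : Subgroup G)) : G),
        MulAut.conj_apply, inv_inv]
    exact e.trans hwo
  · intro s hs
    have hs' : g * s * g⁻¹ ∈ (T : Subgroup G) := (hmem _).2 (by simpa [mul_assoc] using hs)
    have := congrArg (fun t => g⁻¹ * t * g) (hcT _ hs')
    simpa [hz0, mul_assoc] using this

end Cfsg.Lib.Local.CharPCriteria
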