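import Cfsg.Agent.Lib.Local.FrobeniusKernel
import Cfsg.Agent.Lib.Local.PLengthChain
import Cfsg.Agent.Lib.Core.Layer
import Cfsg.Agent.S3765
import Mathlib.GroupTheory.SpecificGroups.ZGroup

/-!
The commutator of a group of odd order with a coprime operator group having an element of prime order
with a `Z`-group of fixed points has `p`-length at most one.
-/

set_option autoImplicit false
set_option linter.style.haveILetI false

namespace Cfsg.Lib.Local.CommutatorPLength

open Subgroup
open scoped commutatorElement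

universe u

variable {G : Type u} [Group G] [Finite G] {p : ℕ}

theorem pChain_one_of_normal [Fact p.Prime] (M : Subgroup G) [M.Normal] (hM : IsPGroup p M)
    (hidx : M.index.Coprime p) : PChain p 1 G :=
  PChain.extension_p M hM (pChain_of_coprime (by rwa [← index_eq_card]) 0)

theorem isCyclic_of_le_zgroup [Fact p.Prime] {S H : Subgroup G} (hS : IsPGroup p S) (hle : S ≤ H)
    (hH : IsZGroup H) : IsCyclic S := by
  haveI : IsZGroup H := hH
  have h : IsPGroup p (S.subgroupOf H) := hS.of_equiv (subgroupOfEquivOfLe hle).symm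
  haveI := h.isCyclic_of_isZGroup
  exact isCyclic_of_surjective (subgroupOfEquivOfLe hle).toMonoidHom (subgroupOfEquivOfLe hle).surjective

omit [Finite G] in
theorem centralizer_zpowers (x : G) : centralizer (zpowers x : Set G) = centralizer ({x} : Set G) := by
  refine le_antisymm (centralizer_le (Set.singleton_subset_iff.mpr (mem_zpowers x))) ?_
  rw [le_centralizer_iff, zpowers_le, mem_centralizer_iff]
  intro y hy
  exact mem_centralizer_singleton_iff.mp hy

/-- The preimage in `H` of `O_{p'}` of the image of `H` modulo `O_p(H)`. -/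
noncomputable def preimage (p : ℕ) (H : Subgroup G) [H.Normal] : Subgroup G :=
  H ⊓ ((Cfsg.pPrimeCore p ↥(H.map (QuotientGroup.mk' ((Cfsg.pCore p H).map H.subtype)))).map
    (H.map (QuotientGroup.mk' ((Cfsg.pCore p H).map H.subtype))).subtype).comap
      (QuotientGroup.mk' ((Cfsg.pCore p H).map H.subtype))

omit [Finite G] in
theorem quotient_image {N H : Subgroup G} [N.Normal] {M : Subgroup H} [M.Normal] (hNM : M.map H.subtype = N) :
    ∃ g : H →* ↥(H.map (QuotientGroup.mk' N)), Function.Surjective g ∧ g.ker = M ∧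
      ∀ h, (g h : G ⧸ N) = QuotientGroup.mk' N h := by
  refine ⟨(QuotientGroup.mk' N).subgroupMap H, MonoidHom.subgroupMap_surjective _ _, ?_, fun h => rfl⟩
  ext h
  rw [MonoidHom.mem_ker, Subtype.ext_iff]
  show QuotientGroup.mk' N (h : G) = 1 ↔ _
  rw [← MonoidHom.mem_ker, QuotientGroup.ker_mk', ← hNM]
  exact ⟨fun ⟨m, hm, e⟩ => H.subtype_injective e ▸ hm, fun hm => ⟨h, hm, rfl⟩⟩

variable [hp : Fact p.Prime]

/-- If modulo a normal subgroup `N` of `V = O_p(H)` the `p`-length is one, and elements of order prime to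
`p` centralizing `V / N` centralize `V`, then `H` has `p`-length one. -/
theorem pChain_of_quotient {H : Subgroup G} [H.Normal] [Group.IsSolvable H]
    (hO : Cfsg.pPrimeCore p H = ⊥) (N : Subgroup G) [N.Normal] (hN : N ≤ (Cfsg.pCore p H).map H.subtype)
    (hIH : PChain p 1 ↥(H.map (QuotientGroup.mk' N)))
    (hstab : ∀ y ∈ preimage p H, (orderOf y).Coprime p →
      (∀ v ∈ (Cfsg.pCore p H).map H.subtype, ⁅v, y⁆ ∈ N) →
      y ∈ centralizer ((Cfsg.pCore p H).map H.subtype : Set G)) :
    PChain p 1 H := by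
  set V := (Cfsg.pCore p H).map H.subtype with hV
  haveI hVn : V.Normal := Core.normal_map_char_of_normal _
  have hVp : IsPGroup p V := (Core.pCore_isPGroup p H).map _
  set f := QuotientGroup.mk' N with hf
  set H1 := H.map f with hH1
  haveI : H1.Normal := Subgroup.Normal.map inferInstance f (QuotientGroup.mk'_surjective N)
  set L := (Cfsg.pPrimeCore p H1).map H1.subtype with hL
  haveI : L.Normal := Core.normal_map_char_of_normal _
  have hLc : (Nat.card L).Coprime p := by
    rw [hL, Core.card_map_subtype]; exact Core.pPrimeCore_coprime p H1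
  set L' := H ⊓ L.comap f with hL'
  haveI : L'.Normal := inferInstance
  -- `L'` lies in the preimage
  have hK : L' ≤ preimage p H := by
    refine le_inf inf_le_left (map_le_iff_le_comap.mp ?_)
    set Hb := H.map (QuotientGroup.mk' V) with hHb
    haveI : (L'.map (QuotientGroup.mk' V)).Normal :=
      Subgroup.Normal.map inferInstance _ (QuotientGroup.mk'_surjective V)
    have hle : L'.map (QuotientGroup.mk' V) ≤ Hb := map_mono inf_le_left
    have hcop : (Nat.card (L'.map (QuotientGroup.mk' V))).Coprime p := by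
      have hcomp : (QuotientGroup.map N V (MonoidHom.id G) hN).comp f = QuotientGroup.mk' V :=
        MonoidHom.ext fun g => rfl
      rw [← hcomp, ← map_map]
      refine hLc.coprime_dvd_left ((card_map_dvd _ _).trans (card_dvd_of_le ?_))
      exact map_le_iff_le_comap.mpr inf_le_right
    have h1 := Core.le_pPrimeCore' (G := Hb) (N := (L'.map (QuotientGroup.mk' V)).subgroupOf Hb)
      inferInstance (by rwa [Nat.card_congr (subgroupOfEquivOfLe hle).toEquiv])
    rw [← map_subgroupOf_eq_of_le hle]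
    exact map_mono h1
  -- `L'` is a `p`-group
  have hLp : ∀ y ∈ L', ∃ e, y ^ p ^ e = 1 := by
    intro y hy
    obtain ⟨e, n, hn, hord⟩ := Nat.exists_eq_pow_mul_and_not_dvd (orderOf_pos y).ne' p hp.out.ne_one
    refine ⟨e, ?_⟩
    set z := y ^ p ^ e with hz
    have hzn : z ^ n = 1 := by rw [hz, ← pow_mul, ← hord, pow_orderOf_eq_one]
    have hzc : (orderOf z).Coprime p :=
      ((hp.out.coprime_iff_not_dvd.mpr hn).symm).coprime_dvd_left (orderOf_dvd_of_pow_eq_one hzn)
    have hzL : z ∈ L' := pow_mem hy _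
    have hzC : z ∈ centralizer (V : Set G) := by
      refine hstab z (hK hzL) hzc fun v hv => ?_
      have h1 : ⁅v, z⁆ ∈ V := by
        rw [commutatorElement_def, mul_assoc v, mul_assoc v]
        exact mul_mem hv (hVn.conj_mem _ (inv_mem hv) z)
      have h2 : ⁅v, z⁆ ∈ L' := by
        rw [commutatorElement_def]
        exact mul_mem ((inferInstance : L'.Normal).conj_mem _ hzL v) (inv_mem hzL)
      rw [← QuotientGroup.eq_one_iff, ← orderOf_eq_one_iff]
      obtain ⟨k, hk⟩ := Uniq.pow_pow_eq_one hVp h1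
      have hd1 : orderOf (f ⁅v, z⁆) ∣ p ^ k :=
        orderOf_dvd_of_pow_eq_one (by rw [← map_pow, hk, map_one])
      have hd2 : orderOf (f ⁅v, z⁆) ∣ Nat.card L := by
        rw [← Subgroup.orderOf_mk (f ⁅v, z⁆) (mem_comap.mp (mem_inf.mp h2).2)]
        exact orderOf_dvd_natCard _
      exact Nat.eq_one_of_dvd_coprimes (hLc.symm.pow_left k) hd1 hd2
    have hzH : z ∈ H := (mem_inf.mp hzL).1
    have hzV : z ∈ V := by
      refine ⟨⟨z, hzH⟩, Core.centralizer_pCore_le_of_isPSolvable Core.isPSolvable_of_isSolvable hO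
        (mem_centralizer_iff.mpr fun w hw => Subtype.ext ?_), rfl⟩
      exact mem_centralizer_iff.mp hzC _ (mem_map_of_mem _ hw)
    obtain ⟨k, hk⟩ := Uniq.pow_pow_eq_one hVp hzV
    exact orderOf_eq_one_iff.mp (Nat.eq_one_of_dvd_coprimes (hzc.pow_right k) dvd_rfl
      (orderOf_dvd_of_pow_eq_one hk))
  have hO1 : Cfsg.pPrimeCore p H1 = ⊥ := by
    refine (Subgroup.eq_bot_iff_forall _).mpr fun o ho => Subtype.ext ?_
    obtain ⟨y, hy, hyo⟩ := o.2
    have hyL : y ∈ L' := mem_inf.mpr ⟨hy, mem_comap.mpr (hyo ▸ mem_map_of_mem _ ho)⟩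
    obtain ⟨e, he⟩ := hLp y hyL
    show (o : G ⧸ N) = 1
    rw [← hyo, ← orderOf_eq_one_iff]
    refine Nat.eq_one_of_dvd_coprimes (hLc.symm.pow_left e)
      (orderOf_dvd_of_pow_eq_one (by rw [← map_pow, he, map_one])) ?_
    rw [← Subgroup.orderOf_mk (f y) (mem_comap.mp (mem_inf.mp hyL).2)]
    exact orderOf_dvd_natCard _
  have hc := coprime_of_pChain_zero (PChain.quotient_pCore hO1 hIH)
  have hg : Function.Surjective (f.subgroupMap H) := MonoidHom.subgroupMap_surjective _ _
  refine pChain_one_of_normal ((Cfsg.pCore p H1).comap (f.subgroupMap H))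
    ((Core.pCore_isPGroup p H1).comap_of_ker_isPGroup _ ?_) ?_
  · refine ((hVp.to_le hN).comap_of_injective H.subtype H.subtype_injective).to_le fun h hh => ?_
    exact (QuotientGroup.eq_one_iff (h : G)).mp (congrArg Subtype.val hh)
  · rw [index_comap_of_surjective _ hg, index_eq_card]
    exact hc

/-- The inductive step. -/
theorem step {H R : Subgroup G} [H.Normal] [Group.IsSolvable H] (hp2 : p ≠ 2) {r : ℕ} [hr : Fact r.Prime]
    (hr2 : r ≠ 2) {x : G} (hxR : x ∈ R) (hx : orderOf x = r) (hcop : (Nat.card R).Coprime (Nat.card H))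
    (hodd : Odd (Nat.card H)) (hgen : ⁅H, R⁆ = H) (hZ : IsZGroup ↥(H ⊓ centralizer ({x} : Set G)))
    (hIH : ∀ (N : Subgroup G) (_ : N.Normal), N ≤ H → N ≠ ⊥ → PChain p 1 ↥(H.map (QuotientGroup.mk' N))) :
    PChain p 1 H := by
  by_contra hne
  have hH1 : H ≠ ⊥ := fun e => hne (pChain_of_coprime (by rw [e, card_bot]; exact Nat.coprime_one_left p) 1)
  haveI : Nontrivial H := (Subgroup.nontrivial_iff_ne_bot H).mpr hH1
  have hps : Cfsg.IsPSolvable p H := Core.isPSolvable_of_isSolvable
  have hO : Cfsg.pPrimeCore p H = ⊥ := by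
    by_contra hO
    haveI : ((Cfsg.pPrimeCore p H).map H.subtype).Normal := Core.normal_map_char_of_normal _
    obtain ⟨g, hg, hker, -⟩ := quotient_image (M := Cfsg.pPrimeCore p H) (N := _) rfl
    let e := (QuotientGroup.quotientMulEquivOfEq hker.symm).trans
      (QuotientGroup.quotientKerEquivOfSurjective g hg)
    exact hne (PChain.extension_pPrime _ (Core.pPrimeCore_coprime p H) (PChain.of_surjective e.symm.toMonoidHom
      e.symm.surjective (hIH _ inferInstance (map_subtype_le _)
        fun h => hO ((Subgroup.map_eq_bot_iff_of_injective _ H.subtype_injective).mp h))))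
  set V := (Cfsg.pCore p H).map H.subtype with hV
  haveI hVn : V.Normal := Core.normal_map_char_of_normal _
  have hVH : V ≤ H := map_subtype_le _
  have hVp : IsPGroup p V := (Core.pCore_isPGroup p H).map _
  have hV1 : V ≠ ⊥ := fun h => Core.pCore_ne_bot_of_isPSolvable hps hO
    ((Subgroup.map_eq_bot_iff_of_injective _ H.subtype_injective).mp h)
  obtain ⟨n, hn⟩ := IsPGroup.iff_card.mp hVp
  haveI : Group.IsNilpotent V := hVp.isNilpotent
  have hCV : ∀ y ∈ H, y ∈ centralizer (V : Set G) → y ∈ V := fun y hy hc =>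
    ⟨⟨y, hy⟩, Core.centralizer_pCore_le_of_isPSolvable hps hO
      (mem_centralizer_iff.mpr fun w hw => Subtype.ext (mem_centralizer_iff.mp hc _ (mem_map_of_mem _ hw))), rfl⟩
  have hpV : p ∣ Nat.card H := by
    refine dvd_trans ?_ (card_dvd_of_le hVH)
    rw [hn]
    exact dvd_pow_self p fun h0 => hV1 (eq_bot_of_card_eq _ (by rw [hn, h0, pow_zero]))
  have hrH : ¬ r ∣ Nat.card H := fun hd => by
    have h1 : r ∣ Nat.card R := by
      rw [← hx, ← Subgroup.orderOf_mk x hxR]; exact orderOf_dvd_natCard _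
    exact hr.out.ne_one (Nat.eq_one_of_dvd_coprimes hcop h1 hd)
  have hrp : r ≠ p := fun e => hrH (e ▸ hpV)
  have hX : Nat.card (zpowers x) = r := by rw [Nat.card_zpowers, hx]
  have hxr : x ^ r = 1 := hx ▸ pow_orderOf_eq_one x
  set X := zpowers x with hXdef
  have hcopX : ∀ B ≤ H, (Nat.card X).Coprime (Nat.card B) := fun B hB =>
    (hr.out.coprime_iff_not_dvd.mpr fun hd => hrH (hd.trans (card_dvd_of_le hB))) |> (hX ▸ ·)
  have hsolX : ∀ B : Subgroup G, Group.IsSolvable X ∨ Group.IsSolvable B := fun _ =>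
    Or.inl (Group.isSolvable_of_comm fun a b => mul_comm' a b)
  -- `V` is elementary abelian
  have hVel : Cfsg.IsElementaryAbelian p V := by
    have hΦ : (frattini V).map V.subtype = ⊥ := by
      by_contra hΦ
      haveI : ((frattini V).map V.subtype).Normal := Core.normal_map_char_of_normal _
      refine hne (pChain_of_quotient hO _ (map_subtype_le _)
        (hIH _ inferInstance ((map_subtype_le _).trans hVH) hΦ) fun y _ hy hyN => ?_)
      refine Cfsg.Lib.Coprime.le_centralizer_of_commutator_le_frattini (A := zpowers y)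
        le_normalizer_of_normal ?_ (Or.inr inferInstance) (commutator_le.mpr fun v hv a ha => ?_)
        (mem_zpowers y)
      · rw [Nat.card_zpowers, hn]; exact hy.pow_right n
      · set q := QuotientGroup.mk' ((frattini V).map V.subtype) with hq
        have hle : zpowers y ≤ (centralizer (V.map q : Set _)).comap q := by
          rw [zpowers_le, mem_comap, mem_centralizer_iff]
          rintro _ ⟨w, hw, rfl⟩
          rw [← commutatorElement_eq_one_iff_mul_comm, ← map_commutatorElement, hq,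
            QuotientGroup.mk'_apply, QuotientGroup.eq_one_iff]
          exact hyN w hw
        rw [← QuotientGroup.eq_one_iff, ← QuotientGroup.mk'_apply, ← hq, map_commutatorElement,
          commutatorElement_eq_one_iff_mul_comm]
        exact mem_centralizer_iff.mp (hle ha) _ (mem_map_of_mem q hv)
    have hΦ' : frattini V = ⊥ := (Subgroup.map_eq_bot_iff_of_injective _ V.subtype_injective).mp hΦ
    refine ⟨⟨⟨fun a b => ?_⟩⟩, fun v hv => ?_⟩
    · rw [← commutatorElement_eq_one_iff_mul_comm, ← mem_bot, ← hΦ']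
      exact Cfsg.Lib.PGroup.commutator_le_frattini hVp (commutator_mem_commutator (mem_top a) (mem_top b))
    · exact congrArg Subtype.val (mem_bot.mp (hΦ'.le (Cfsg.Lib.PGroup.pow_mem_frattini hVp (⟨v, hv⟩ : V))))
  haveI := hVel.1
  -- the quotient by `V`
  set f := QuotientGroup.mk' V with hf
  set Hb := H.map f with hHb
  haveI hHbn : Hb.Normal := Subgroup.Normal.map inferInstance f (QuotientGroup.mk'_surjective V)
  haveI : Group.IsSolvable Hb := Core.isSolvable_map inferInstance f
  obtain ⟨g, hg, hgker, hgval⟩ := quotient_image (M := Cfsg.pCore p H) (N := V) rfl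
  have hHbO : Cfsg.pCore p Hb = ⊥ := by
    have h1 : (Cfsg.pCore p Hb).comap g ≤ g.ker := by
      rw [hgker]
      exact Core.le_pCore' inferInstance ((Core.pCore_isPGroup p Hb).comap_of_ker_isPGroup g
        (hgker.symm ▸ Core.pCore_isPGroup p H))
    rw [← map_comap_eq_self_of_surjective hg (Cfsg.pCore p Hb), Subgroup.map_eq_bot_iff]
    exact h1
  have hpHb : p ∣ Nat.card Hb := by
    by_contra hd
    refine hne (pChain_one_of_normal (Cfsg.pCore p H) (Core.pCore_isPGroup p H) ?_)
    rw [← hgker, index_ker, MonoidHom.range_eq_top.mpr hg, card_top]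
    exact (hp.out.coprime_iff_not_dvd.mpr hd).symm
  set Kb := (Cfsg.pPrimeCore p Hb).map Hb.subtype with hKb
  haveI hKbn : Kb.Normal := Core.normal_map_char_of_normal _
  set K := preimage p H with hKdef
  have hKeq : K = H ⊓ Kb.comap f := rfl
  haveI hKn : K.Normal := hKeq ▸ inferInstance
  have hKH : K ≤ H := hKeq ▸ inf_le_left
  have hVK : V ≤ K := hKeq ▸ le_inf hVH fun v hv => by
    rw [mem_comap, show f v = 1 from (QuotientGroup.eq_one_iff v).mpr hv]; exact one_mem _
  have hKmap : K.map f = Kb := by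
    refine le_antisymm (map_le_iff_le_comap.mpr (hKeq ▸ inf_le_right)) fun k hk => ?_
    obtain ⟨h, hh, rfl⟩ := (map_subtype_le _ : Kb ≤ Hb) hk
    exact mem_map_of_mem f (hKeq ▸ mem_inf.mpr ⟨hh, hk⟩)
  have hCKb : ∀ a ∈ Hb, a ∈ centralizer (Kb : Set (G ⧸ V)) → a ∈ Kb := fun a ha hc =>
    ⟨⟨a, ha⟩, centralizer_pPrimeCore_le Core.isPSolvable_of_isSolvable hHbO
      (mem_centralizer_iff.mpr fun w hw => Subtype.ext (mem_centralizer_iff.mp hc _ (mem_map_of_mem _ hw))), rfl⟩
  have hCK : V ⊓ centralizer (K : Set G) = ⊥ := by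
    by_contra hC
    haveI : (centralizer (K : Set G)).Normal := inferInstance
    refine hne (pChain_of_quotient hO _ inf_le_left
      (hIH _ inferInstance (inf_le_left.trans hVH) hC) fun y hyK hy hyN => ?_)
    set N := V ⊓ centralizer (K : Set G) with hN
    have hle : ∀ a ∈ zpowers y, ∀ v ∈ V, ⁅v, a⁆ ∈ N := by
      intro a ha v hv
      set q := QuotientGroup.mk' N with hq
      have hle : zpowers y ≤ (centralizer (V.map q : Set _)).comap q := by
        rw [zpowers_le, mem_comap, mem_centralizer_iff]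
        rintro _ ⟨w, hw, rfl⟩
        rw [← commutatorElement_eq_one_iff_mul_comm, ← map_commutatorElement, hq,
          QuotientGroup.mk'_apply, QuotientGroup.eq_one_iff]
        exact hyN w hw
      rw [← QuotientGroup.eq_one_iff, ← QuotientGroup.mk'_apply, ← hq, map_commutatorElement,
        commutatorElement_eq_one_iff_mul_comm]
      exact mem_centralizer_iff.mp (hle ha) _ (mem_map_of_mem q hv)
    refine le_centralizer_iff.mp (commutator_eq_bot_iff_le_centralizer.mp
      (Cfsg.Lib.Coprime.commutator_eq_bot_of_stabilizes (G := V) (A := zpowers y) (N := N)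
        le_normalizer_of_normal ?_ (Or.inr inferInstance) (commutator_le.mpr fun v hv a ha => hle a ha v hv) ?_))
      (mem_zpowers y)
    · rw [Nat.card_zpowers, hn]; exact hy.pow_right n
    · exact commutator_eq_bot_iff_le_centralizer.mpr
        (inf_le_right.trans (centralizer_le ((zpowers_le.mpr hyK : zpowers y ≤ K))))
  have hXN : ∀ (B : Subgroup G), B.Normal → X ≤ normalizer (B : Set G) := fun B hB =>
    haveI := hB; le_normalizer_of_normal
  by_cases hfx : V ⊓ centralizer ({x} : Set G) = ⊥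
  · -- `x` centralizes the quotient
    have hQ : ∀ (q : ℕ) [Fact q.Prime], ∀ a ∈ (Cfsg.pCore q Hb).map Hb.subtype, f x * a = a * f x := by
      intro q hqp
      set Qb := (Cfsg.pCore q Hb).map Hb.subtype with hQb
      haveI : Qb.Normal := Core.normal_map_char_of_normal _
      by_cases hqp' : q = p
      · subst hqp'
        rintro a ⟨b, hb, rfl⟩
        rw [show b = 1 from mem_bot.mp (hHbO.le hb)]
        simp
      set Hq := H ⊓ Qb.comap f
      have hXHq : X ≤ normalizer (Hq : Set G) := hXN _ inferInstance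
      obtain ⟨P, hP⟩ := Cfsg.Lib.Coprime.exists_invariant_sylow hXHq (hcopX Hq inf_le_left) (hsolX _) q
      set Q := (P : Subgroup Hq).map Hq.subtype with hQdef
      have hQH : Q ≤ H := (map_subtype_le _).trans inf_le_left
      have hQp : IsPGroup q Q := P.isPGroup'.map _
      have hQV : Q ⊓ V = ⊥ := disjoint_iff.mp
        (Subgroup.disjoint_of_coprime_natCard (hQp.coprime_card_of_ne q p hqp' _ _ hVp))
      -- the image of `Q` is the whole of `Qb`
      have hQmap : ∀ a ∈ Qb, ∃ y ∈ Q, f y = a := by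
        have hmap : Hq.map f = Qb := le_antisymm (map_le_iff_le_comap.mpr inf_le_right) fun a ha => by
          obtain ⟨h, hh, rfl⟩ := (map_subtype_le _ : Qb ≤ Hb) ha
          exact mem_map_of_mem f (mem_inf.mpr ⟨hh, ha⟩)
        set T := P.mapSurjective (f.subgroupMap_surjective Hq)
        have hT : (T : Subgroup (Hq.map f)) = ⊤ := by
          have hp' : IsPGroup q (⊤ : Subgroup (Hq.map f)) :=
            ((hmap ▸ (Core.pCore_isPGroup q Hb).map Hb.subtype : IsPGroup q (Hq.map f))).of_equiv
              Subgroup.topEquiv.symm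
          exact (T.3 hp' le_top).symm
        intro a ha
        have h1 : (⟨a, hmap.ge ha⟩ : Hq.map f) ∈ (T : Subgroup (Hq.map f)) := hT.ge (mem_top _)
        rw [Sylow.coe_mapSurjective] at h1
        obtain ⟨y, hy, he⟩ := h1
        exact ⟨y, mem_map_of_mem _ hy, congrArg Subtype.val he⟩
      suffices hc : x ∈ centralizer (Q : Set G) by
        intro a ha
        obtain ⟨y, hy, rfl⟩ := hQmap a ha
        rw [← map_mul, ← map_mul, (mem_centralizer_iff.mp hc y hy)]
      by_contra hxQ
      have hXfaith : X ⊓ centralizer (Q : Set G) = ⊥ := by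
        refine (Subgroup.eq_bot_iff_forall _).mpr fun y hy => by_contra fun hy1 => hxQ ?_
        exact (Uniq.zpowers_eq_of_mem hxr hy.1 hy1 ▸ zpowers_le.mpr hy.2 : zpowers x ≤ _) (mem_zpowers x)
      have hq2 : q ≠ 2 := by
        rintro rfl
        have hQ1 : Q ≠ ⊥ := fun e => hxQ (mem_centralizer_iff.mpr fun y hy => by
          rw [e, SetLike.mem_coe, mem_bot] at hy
          simp [hy])
        obtain ⟨y, hy, hy1, hy2⟩ := Uniq.exists_orderOf hQp hQ1
        have hd : 2 ∣ Nat.card H := by
          rw [← Uniq.orderOf_eq hy1 hy2, ← Subgroup.orderOf_mk y (hQH hy)]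
          exact orderOf_dvd_natCard _
        exact (Nat.not_even_iff_odd.mpr hodd) (even_iff_two_dvd.mpr hd)
      have hqr : q ≠ r := by
        rintro rfl
        obtain ⟨k, hk⟩ := IsPGroup.iff_card.mp hQp
        have hk0 : k = 0 := by_contra fun hk0 => hrH ((dvd_pow_self q hk0).trans
          (hk ▸ card_dvd_of_le hQH))
        rw [hk0, pow_zero] at hk
        exact hxQ (mem_centralizer_iff.mpr fun y hy => by
          rw [eq_bot_of_card_eq _ hk, SetLike.mem_coe, mem_bot] at hy
          simp [hy])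
      have hQN : Q ≤ normalizer (V : Set G) := le_normalizer_of_normal
      have hfaith : (X ⊔ Q) ⊓ centralizer (V : Set G) = ⊥ := by
        set C := (X ⊔ Q) ⊓ centralizer (V : Set G) with hC
        have hd : C ⊓ Q = ⊥ := le_bot_iff.mp fun y hy =>
          hQV.le ⟨hy.2, hCV y (hQH hy.2) hy.1.2⟩
        have hQC : Q ≤ normalizer (C : Set G) := fun y hy =>
          Subgroup.inf_normalizer_le_normalizer_inf
            ⟨le_normalizer (mem_sup_right hy), by rw [normalizer_eq_top]; trivial⟩
        have hXQ : Q ⊔ X = X ⊔ Q := sup_comm _ _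
        have hcardXQ : Nat.card ↥(X ⊔ Q) = Nat.card Q * r := by
          rw [← hXQ, Cfsg.Lib.Coprime.card_sup_of_disjoint hP
            (Cfsg.Lib.Coprime.disjoint_of_coprime_card (hcopX Q hQH)).symm, hX]
        have hcardC : Nat.card C ∣ r := by
          have h1 := card_dvd_of_le (sup_le inf_le_left le_sup_right : C ⊔ Q ≤ X ⊔ Q)
          rw [Cfsg.Lib.Coprime.card_sup_of_disjoint hQC (disjoint_iff.mpr hd), hcardXQ, mul_comm] at h1
          exact (Nat.mul_dvd_mul_iff_left Nat.card_pos).mp h1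
        rcases (Nat.dvd_prime hr.out).mp hcardC with h | h
        · exact eq_bot_of_card_eq _ h
        obtain ⟨m, hm, hCm⟩ := Cfsg.Lib.Coprime.exists_conj_of_coprime Q X C hP (hcopX Q hQH) (hsolX _)
          (inf_le_left.trans hXQ.ge) (h.trans hX.symm)
        have hXC : X ≤ centralizer (V : Set G) := by
          have h2 : X = C := by
            rw [hCm]
            have := Cfsg.Lib.Coprime.map_conj_eq_self (hQC (inv_mem hm))
            rw [hCm, Cfsg.Lib.Coprime.map_conj_conj, inv_mul_cancel, Cfsg.Lib.Coprime.map_conj_one] at this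
            exact this
          exact h2 ▸ inf_le_right
        exact absurd (inf_eq_left.mpr fun v hv => mem_centralizer_singleton_iff.mpr
          (mem_centralizer_iff.mp (hXC (mem_zpowers x)) v hv)) (hfx ▸ Ne.symm hV1)
      refine Cfsg.Agent.S3765.result hp.out hqp.out hr.out (Ne.symm hqp') hrp.symm hqr X Q V hX hQp hP hXfaith
        hVel hV1 (hXN V hVn) hQN hfaith (fun h => absurd h hq2) ?_
      rw [centralizer_zpowers, hfx]
    -- hence `x` centralizes the Fitting subgroup and the quotient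
    set F := (Cfsg.fittingSubgroup Hb).map Hb.subtype with hF
    haveI : F.Normal := Core.normal_map_char_of_normal _
    set Xb := zpowers (f x)
    have hFX : F ≤ centralizer (Xb : Set (G ⧸ V)) := by
      rw [hF, Core.fittingSubgroup_eq_iSup_pCore, Subgroup.map_iSup, iSup_le_iff]
      intro q a ha
      haveI : Fact (q : ℕ).Prime := ⟨q.2⟩
      rw [centralizer_zpowers]
      exact mem_centralizer_singleton_iff.mpr (hQ (q : ℕ) a ha).symm
    have hXb : X.map f = Xb := MonoidHom.map_zpowers f x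
    have hXbn : Xb ≤ normalizer (Hb : Set (G ⧸ V)) := le_normalizer_of_normal
    have hcopb : (Nat.card Xb).Coprime (Nat.card Hb) := hXb ▸
      ((hcopX H le_rfl).coprime_dvd_left (card_map_dvd X f)).coprime_dvd_right (card_map_dvd H f)
    have h3 : ⁅⁅Hb, Xb⁆, Xb⁆ = ⊥ := by
      have hHX : ⁅Hb, Xb⁆ ≤ Hb := Cfsg.Lib.Coprime.commutator_le_of_le_normalizer hXbn
      have h1 : ⁅⁅Xb, F⁆, Hb⁆ = ⊥ := by
        rw [commutator_eq_bot_iff_le_centralizer.mpr (le_centralizer_iff.mp hFX), commutator_bot_left]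
      have h2 : ⁅⁅F, Hb⁆, Xb⁆ = ⊥ := commutator_eq_bot_iff_le_centralizer.mpr
        ((commutator_le_left F Hb).trans hFX)
      have h := commutator_commutator_eq_bot_of_rotate (H₁ := Hb) (H₂ := Xb) (H₃ := F) h1 h2
      refine commutator_eq_bot_iff_le_centralizer.mpr (le_trans ?_ hFX)
      intro a ha
      refine ⟨⟨a, hHX ha⟩, Core.centralizer_fitting_le_of_isSolvable
        (mem_centralizer_iff.mpr fun w hw => Subtype.ext ?_), rfl⟩
      exact mem_centralizer_iff.mp (commutator_eq_bot_iff_le_centralizer.mp h ha) _ (mem_map_of_mem _ hw)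
    have h4 := Cfsg.Lib.Coprime.commutator_eq_bot_of_commutator_commutator_eq_bot hXbn hcopb
      (Or.inl (Group.isSolvable_of_comm fun a b => mul_comm' a b)) h3
    have h5 : (H ⊓ centralizer ({x} : Set G)).map f = Hb := by
      rw [← centralizer_zpowers, Cfsg.Lib.Coprime.map_inf_centralizer_eq f (hXN H inferInstance)
        (hcopX H le_rfl) (hsolX _), hXb]
      exact inf_eq_left.mpr (commutator_eq_bot_iff_le_centralizer.mp h4)
    haveI : IsZGroup ↥(H ⊓ centralizer ({x} : Set G)) := hZ
    haveI : IsZGroup Hb := h5 ▸ IsZGroup.of_surjective (f.subgroupMap_surjective _)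
    set Y := (commutator Hb).map Hb.subtype with hY
    haveI : Y.Normal := Core.normal_map_char_of_normal _
    haveI : IsCyclic (commutator Hb) := IsZGroup.isCyclic_commutator Hb
    haveI : IsCyclic Y := isCyclic_of_surjective _ (Hb.subtype.subgroupMap_surjective (commutator Hb))
    have hHY : Hb ≤ centralizer (Y : Set (G ⧸ V)) := by
      have hg' : ⁅Hb, R.map f⁆ = Hb := by rw [hHb, ← map_commutator, hgen]
      rw [← hg', commutator_le]
      exact fun a _ b _ => Uniq.commutator_mem_centralizer (by rw [normalizer_eq_top]; trivial)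
        (by rw [normalizer_eq_top]; trivial)
    haveI : Group.IsNilpotent (Abelianization Hb) := by
      haveI : IsMulCommutative (Abelianization Hb) := ⟨⟨mul_comm⟩⟩
      exact Core.isNilpotent_of_isMulCommutative _
    haveI : Group.IsNilpotent Hb := by
      refine Subgroup.isNilpotent_of_ker_le_center (Abelianization.of (G := Hb)) ?_
      rw [Abelianization.ker_of]
      intro c hc
      exact mem_center_iff.mpr fun y => Subtype.ext
        (mem_centralizer_iff.mp (hHY y.2) _ (mem_map_of_mem _ hc)).symm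
    obtain ⟨P⟩ : Nonempty (Sylow p Hb) := inferInstance
    have hPn : (P : Subgroup Hb).Normal :=
      P.normal_of_normalizerCondition Group.normalizerCondition_of_isNilpotent
    exact P.ne_bot_of_dvd_card hpHb (le_bot_iff.mp (hHbO ▸ Core.le_pCore' hPn P.isPGroup'))
  -- the fixed points of `x` on `V` form a group of order `p`
  obtain ⟨z, hzE, hzp, hz1⟩ := Uniq.exists_orderOf (hVp.to_le inf_le_left) hfx
  haveI hEcyc : IsCyclic ↥(V ⊓ centralizer ({x} : Set G)) :=
    isCyclic_of_le_zgroup (hVp.to_le inf_le_left) (inf_le_inf hVH le_rfl) hZ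
  have hfix : V ⊓ centralizer ({x} : Set G) ≤ zpowers z := fun y hy =>
    Uniq.mem_zpowers_of_isCyclic (q := p) hzE hy hzp hz1 (hVel.2 y hy.1)
  -- an invariant complement of `V` in `K`
  have hKc : (Nat.card Kb).Coprime p := by rw [hKb, Core.card_map_subtype]; exact Core.pPrimeCore_coprime p Hb
  have hrel : V.relIndex K = Nat.card Kb := by
    have := Subgroup.relIndex_ker (K := K) f
    rwa [QuotientGroup.ker_mk', hKmap] at this
  obtain ⟨B, hBK, hBc, hBsup⟩ := Cfsg.Lib.Coprime.exists_complement_of_coprime hVK le_normalizer_of_normal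
    (by rw [hn, hrel]; exact hKc.symm.pow_left n)
  rw [hrel] at hBc
  have hcopB : ∀ B' : Subgroup G, Nat.card B' = Nat.card Kb → (Nat.card B').Coprime (Nat.card V) :=
    fun B' h => by rw [h, hn]; exact hKc.pow_right n
  have hconj : ∀ (B' : Subgroup G), Nat.card B' = Nat.card Kb → V ⊔ B' = K → ∀ g : G,
      ∃ v ∈ V, B'.map (MulAut.conj g).toMonoidHom = B'.map (MulAut.conj v).toMonoidHom := by
    intro B' hB' hs g
    refine Cfsg.Lib.Coprime.exists_conj_of_coprime V B' _ le_normalizer_of_normal (hcopB B' hB')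
      (Or.inr (Group.isSolvable_of_comm fun a b => mul_comm' a b)) ?_ (by rw [Cfsg.Lib.Coprime.card_map_conj])
    rw [hs]
    exact (map_mono (le_sup_right.trans hs.le)).trans
      (Cfsg.Lib.Coprime.map_conj_eq_self (by rw [normalizer_eq_top]; trivial)).le
  obtain ⟨v, hv, hinv⟩ := Cfsg.Lib.Coprime.exists_conj_invariant (hXN V hVn) (hcopX V hVH) (hsolX _) B
    fun a _ => hconj B hBc hBsup a
  set K0 := B.map (MulAut.conj v).toMonoidHom with hK0
  have hK0c : Nat.card K0 = Nat.card Kb := (Cfsg.Lib.Coprime.card_map_conj B v).trans hBc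
  have hK0sup : V ⊔ K0 = K := by
    have := congrArg (Subgroup.map (MulAut.conj v).toMonoidHom) hBsup
    rw [Subgroup.map_sup, Cfsg.Lib.Coprime.map_conj_eq_self (S := V) (by rw [normalizer_eq_top]; trivial),
      Cfsg.Lib.Coprime.map_conj_eq_self (S := K) (by rw [normalizer_eq_top]; trivial)] at this
    exact this
  have hK0V : K0 ⊓ V = ⊥ :=
    disjoint_iff.mp (Subgroup.disjoint_of_coprime_natCard (hcopB K0 hK0c))
  have hK0H : K0 ≤ H := (le_sup_right.trans hK0sup.le).trans hKH
  set M := H ⊓ normalizer (K0 : Set G) with hM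
  have hXM : X ≤ normalizer (M : Set G) :=
    (le_inf (hXN H inferInstance) (hinv.trans le_normalizer)).trans Subgroup.inf_normalizer_le_normalizer_inf
  have hMV : M ⊓ V = ⊥ := by
    refine (Subgroup.eq_bot_iff_forall _).mpr fun w hw => ?_
    have hwc : w ∈ centralizer (K0 : Set G) := mem_centralizer_iff.mpr fun k hk => by
      rw [eq_comm, ← commutatorElement_eq_one_iff_mul_comm, ← mem_bot, ← hK0V]
      refine mem_inf.mpr ⟨?_, ?_⟩
      · rw [commutatorElement_def]
        exact mul_mem ((mem_normalizer_iff.mp hw.1.2 k).mp hk) (inv_mem hk)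
      · rw [commutatorElement_def, mul_assoc w, mul_assoc w]
        exact mul_mem hw.2 (hVn.conj_mem _ (inv_mem hw.2) k)
    refine mem_bot.mp (hCK.le (mem_inf.mpr ⟨hw.2, ?_⟩))
    rw [← hK0sup, ← zpowers_le, le_centralizer_iff]
    refine sup_le (le_centralizer_iff.mp (zpowers_le.mpr ?_)) (le_centralizer_iff.mp (zpowers_le.mpr hwc))
    exact mem_centralizer_iff.mpr fun u hu => congrArg Subtype.val (mul_comm' (⟨u, hu⟩ : V) ⟨w, hw.2⟩)
  have hMmap : Hb ≤ M.map f := by
    rintro _ ⟨h, hh, rfl⟩
    obtain ⟨w, hw, he⟩ := hconj K0 hK0c hK0sup h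
    refine ⟨w⁻¹ * h, mem_inf.mpr ⟨mul_mem (inv_mem (hVH hw)) hh, mem_normalizer_iff_map_conj_eq.mpr ?_⟩, ?_⟩
    · show K0.map (MulAut.conj (w⁻¹ * h)).toMonoidHom = K0
      rw [← Cfsg.Lib.Coprime.map_conj_conj, he, Cfsg.Lib.Coprime.map_conj_conj, inv_mul_cancel,
        Cfsg.Lib.Coprime.map_conj_one]
    · rw [map_mul, map_inv, show f w = 1 from (QuotientGroup.eq_one_iff w).mpr hw, inv_one, one_mul]
  have hpM : p ∣ Nat.card M := hpHb.trans ((card_dvd_of_le hMmap).trans (card_map_dvd M f))
  obtain ⟨P, hP⟩ := Cfsg.Lib.Coprime.exists_invariant_sylow hXM (hcopX M inf_le_left) (hsolX _) p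
  set P1 := (P : Subgroup M).map M.subtype with hP1
  have hP1p : IsPGroup p P1 := P.isPGroup'.map _
  have hP1M : P1 ≤ M := map_subtype_le _
  have hP1ne : P1 ≠ ⊥ := fun h => P.ne_bot_of_dvd_card hpM
    ((Subgroup.map_eq_bot_iff_of_injective _ M.subtype_injective).mp h)
  have hfpf : ∀ a ∈ P1, x * a = a * x → a = 1 := by
    by_contra hc
    push Not at hc
    obtain ⟨a, ha, hxa, ha1⟩ := hc
    have hne' : P1 ⊓ centralizer ({x} : Set G) ≠ ⊥ := fun h =>
      ha1 (mem_bot.mp (h ▸ ⟨ha, mem_centralizer_singleton_iff.mpr hxa.symm⟩))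
    obtain ⟨y, hy, hyp, hy1⟩ := Uniq.exists_orderOf (hP1p.to_le inf_le_left) hne'
    have hyE : y ∈ normalizer ((V ⊓ centralizer ({x} : Set G) : Subgroup G) : Set G) :=
      Cfsg.Lib.Coprime.le_normalizer_inf_centralizer (A := zpowers y) le_normalizer_of_normal
        (zpowers_le.mpr (centralizer_le_normalizer _ (by
          rw [centralizer_zpowers]; exact hy.2))) (mem_zpowers y) |> (centralizer_zpowers x ▸ ·)
    have hEz : V ⊓ centralizer ({x} : Set G) = zpowers z := le_antisymm hfix (zpowers_le.mpr hzE)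
    rw [hEz] at hyE
    have hc := Uniq.commute_of_normalizes ⟨1, by rw [pow_one]; exact hyp⟩ hzp hyE
    have hel := Uniq.elementary_adjoin (Uniq.elementary_zpowers hzp) hyp
      (mem_centralizer_iff.mpr fun w hw => by
        obtain ⟨i, rfl⟩ := mem_zpowers_iff.mp hw
        exact ((show Commute y z from hc).zpow_right i).eq.symm)
    haveI : IsCyclic ↥(zpowers z ⊔ zpowers y) := isCyclic_of_le_zgroup
      (Cfsg.Lib.PGroup.isPGroup_of_isElementaryAbelian hel)
      (sup_le (zpowers_le.mpr (mem_inf.mpr ⟨hVH hzE.1, hzE.2⟩))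
        (zpowers_le.mpr (mem_inf.mpr ⟨(hP1M hy.1).1, hy.2⟩))) hZ
    have h := Uniq.mem_zpowers_of_isCyclic (q := p) (Y := zpowers z ⊔ zpowers y)
      (mem_sup_left (mem_zpowers z)) (mem_sup_right (mem_zpowers y)) hzp hz1 hyp
    exact hy1 (mem_bot.mp (hMV ▸ ⟨hP1M hy.1, (zpowers_le.mpr hzE.1) h⟩))
  -- a minimal invariant subgroup of `P1`
  obtain ⟨P3, ⟨hP31, hP3ne, hxP3⟩, hP3min⟩ := wellFounded_lt.has_min
    {K : Subgroup G | K ≤ P1 ∧ K ≠ ⊥ ∧ x ∈ normalizer (K : Set G)}
    ⟨P1, le_rfl, hP1ne, hP (mem_zpowers x)⟩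
  have hmin : ∀ L ≤ P3, x ∈ normalizer (L : Set G) → L = ⊥ ∨ L = P3 := fun L hL hxL => by
    by_contra h
    push Not at h
    exact hP3min L ⟨hL.trans hP31, h.1, hxL⟩ (lt_of_le_of_ne hL h.2)
  have hP3p : IsPGroup p P3 := hP1p.to_le hP31
  have hP3el : Cfsg.IsElementaryAbelian p P3 := by
    let Z : Subgroup G :=
      { carrier := {w | w ∈ P3 ∧ w ^ p = 1 ∧ w ∈ centralizer (P3 : Set G)}
        one_mem' := ⟨one_mem _, one_pow p, one_mem _⟩
        mul_mem' := by
          rintro a b ⟨ha, ha', ha''⟩ ⟨hb, hb', hb''⟩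
          refine ⟨mul_mem ha hb, ?_, mul_mem ha'' hb''⟩
          rw [(show Commute a b from mem_centralizer_iff.mp hb'' a ha).mul_pow, ha', hb', one_mul]
        inv_mem' := by
          rintro a ⟨ha, ha', ha''⟩
          exact ⟨inv_mem ha, by rw [inv_pow, ha', inv_one], inv_mem ha''⟩ }
    have hxZ : x ∈ normalizer (Z : Set G) := Sig.le_normalizer_of_invariant (A := zpowers x)
      (fun g hg w hwZ => by
        obtain ⟨hw, hw', hw''⟩ := hwZ
        have hgN : g ∈ normalizer (P3 : Set G) := (zpowers_le.mpr hxP3) hg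
        refine ⟨(mem_normalizer_iff.mp hgN w).mp hw, by rw [conj_pow, hw', mul_one, mul_inv_cancel],
          mem_centralizer_iff.mpr fun u hu => ?_⟩
        have h := mem_centralizer_iff.mp hw'' _ ((mem_normalizer_iff''.mp hgN u).mp hu)
        calc u * (g * w * g⁻¹) = g * (g⁻¹ * u * g * w) * g⁻¹ := by group
          _ = g * (w * (g⁻¹ * u * g)) * g⁻¹ := by rw [h]
          _ = g * w * g⁻¹ * u := by group) (mem_zpowers x)
    rcases hmin Z (fun w hw => hw.1) hxZ with h | h
    · obtain ⟨w, hw, hwp, hw1, hwc⟩ := Uniq.exists_central hP3p le_rfl le_normalizer hP3ne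
      exact absurd (mem_bot.mp (h ▸ (show w ∈ Z from ⟨hw, hwp, hwc⟩))) hw1
    · exact ⟨⟨⟨fun a b => Subtype.ext (mem_centralizer_iff.mp (h.ge b.2).2.2 a a.2)⟩⟩,
        fun w hw => (h.ge hw).2.1⟩
  -- it moves `K0`
  have hP3K0 : ¬ P3 ≤ centralizer (K0 : Set G) := by
    intro hc
    refine hP3ne ((Subgroup.eq_bot_iff_forall _).mpr fun y hy => ?_)
    have hyM := hP1M (hP31 hy)
    have hfy : f y ∈ Kb := by
      refine hCKb _ (mem_map_of_mem f hyM.1) (mem_centralizer_iff.mpr fun k hk => ?_)
      rw [← hKmap, ← hK0sup, Subgroup.map_sup, show V.map f = ⊥ from QuotientGroup.map_mk'_self V,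
        bot_sup_eq] at hk
      obtain ⟨k, hk, rfl⟩ := hk
      rw [← map_mul, ← map_mul, mem_centralizer_iff.mp (hc hy) k hk]
    obtain ⟨e, he⟩ := Uniq.pow_pow_eq_one hP3p hy
    have h1 : orderOf (f y) = 1 := Nat.eq_one_of_dvd_coprimes (hKc.symm.pow_left e)
      (orderOf_dvd_of_pow_eq_one (by rw [← map_pow, he, map_one]))
      (by rw [← Subgroup.orderOf_mk (f y) hfy]; exact orderOf_dvd_natCard _)
    exact mem_bot.mp (hMV ▸ ⟨hyM, (QuotientGroup.eq_one_iff y).mp (orderOf_eq_one_iff.mp h1)⟩)
  set A0 := P3 ⊔ X with hA0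
  have hXP3 : X ≤ normalizer (P3 : Set G) := zpowers_le.mpr hxP3
  have hA0N : A0 ≤ normalizer (K0 : Set G) :=
    sup_le (hP31.trans (hP1M.trans inf_le_right)) hinv
  have hcopA : (Nat.card A0).Coprime (Nat.card K0) := by
    rw [hA0, Cfsg.Lib.Coprime.card_sup_of_disjoint hXP3 (Cfsg.Lib.Coprime.disjoint_of_coprime_card
      (hcopX P3 (hP31.trans (hP1M.trans inf_le_left)))).symm]
    refine Nat.Coprime.mul_left ?_ (hcopX K0 hK0H)
    obtain ⟨k, hk⟩ := IsPGroup.iff_card.mp hP3p
    rw [hk, hK0c]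
    exact hKc.symm.pow_left k
  have hsolK : Group.IsSolvable A0 ∨ Group.IsSolvable K0 :=
    Or.inr (Core.isSolvable_of_le hK0H inferInstance)
  obtain ⟨q, hq, Qs, hQs, hQc⟩ : ∃ (q : ℕ) (_ : Fact q.Prime) (Qs : Sylow q K0),
      A0 ≤ normalizer ((Qs : Subgroup K0).map K0.subtype : Set G) ∧
      ¬ (Qs : Subgroup K0).map K0.subtype ≤ centralizer (P3 : Set G) := by
    by_contra hall
    push Not at hall
    refine hP3K0 (le_centralizer_iff.mp ?_)
    have hd : Nat.card K0 ∣ Nat.card ↥(K0 ⊓ centralizer (P3 : Set G)) := by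
      refine (Nat.dvd_iff_prime_pow_dvd_dvd _ _).mpr fun q k hq hk => ?_
      haveI : Fact q.Prime := ⟨hq⟩
      obtain ⟨Qs, hQs⟩ := Cfsg.Lib.Coprime.exists_invariant_sylow hA0N hcopA hsolK q
      refine dvd_trans ?_ (card_dvd_of_le (le_inf (map_subtype_le _) (hall q ⟨hq⟩ Qs hQs)))
      rw [Core.card_map_subtype, Qs.card_eq_multiplicity]
      exact Nat.pow_dvd_pow _ ((hq.pow_dvd_iff_le_factorization Nat.card_pos.ne').mp hk)
    exact (Subgroup.eq_of_le_of_card_ge inf_le_left (Nat.le_of_dvd Nat.card_pos hd)).ge.trans inf_le_right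
  haveI := hq
  obtain ⟨S, ⟨hSQ, hxS, hPS, hSc⟩, hSmin⟩ := wellFounded_lt.has_min
    {L : Subgroup G | L ≤ (Qs : Subgroup K0).map K0.subtype ∧ x ∈ normalizer (L : Set G) ∧
      P3 ≤ normalizer (L : Set G) ∧ ¬ L ≤ centralizer (P3 : Set G)}
    ⟨_, le_rfl, hQs (mem_sup_right (mem_zpowers x)), le_sup_left.trans hQs, hQc⟩
  have hSp : IsPGroup q S := (Qs.isPGroup'.map _).to_le hSQ
  have hSK0 : S ≤ K0 := hSQ.trans (map_subtype_le _)
  obtain ⟨y, hy, hyq, hy1⟩ := Uniq.exists_orderOf hSp fun e => hSc (e ▸ bot_le)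
  have hqK : q ∣ Nat.card K0 := by
    rw [← Uniq.orderOf_eq hyq hy1, ← Subgroup.orderOf_mk y (hSK0 hy)]
    exact orderOf_dvd_natCard _
  have hqH : q ∣ Nat.card H := hqK.trans (card_dvd_of_le hK0H)
  have hq2 : q ≠ 2 := fun e => (Nat.not_even_iff_odd.mpr hodd) (even_iff_two_dvd.mpr (e ▸ hqH))
  have hpq : p ≠ q := fun e => hp.out.ne_one
    (Nat.eq_one_of_dvd_coprimes hKc.symm dvd_rfl (hK0c ▸ e ▸ hqK))
  have hfaith : S ⊓ centralizer (V : Set G) = ⊥ := le_bot_iff.mp fun w hw =>
    hK0V.le ⟨hSK0 hw.1, hCV w (hK0H (hSK0 hw.1)) hw.2⟩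
  refine Averaging.false_of_config (p := p) (q := q) (r := r) hr2 hp2 hq2 hpq (fun e => hrH (e ▸ hqH)) hVel hxr
    (hXN V hVn (mem_zpowers x)) hP3el hxP3 le_normalizer_of_normal hSp hxS le_normalizer_of_normal hPS
    (fun a ha => hfpf a (hP31 ha)) hmin (fun L hL hxL hPL => ?_) hfaith hzp hfix ?_
    (fun h => hSc (le_centralizer_iff.mp h))
  · by_contra hLc
    exact hSmin L ⟨hL.le.trans hSQ, hxL, hPL, hLc⟩ hL
  · exact isCyclic_of_le_zgroup (hSp.to_le inf_le_left) (inf_le_inf (hSK0.trans hK0H) le_rfl) hZ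

omit [Finite G] in
theorem isZGroup_of_injective {A B : Type*} [Group A] [Group B] (f : A →* B) (hf : Function.Injective f)
    (h : IsZGroup B) : IsZGroup A :=
  haveI := h; IsZGroup.of_injective (f := f) hf

/-- Induction form. -/
theorem pChain_commutator_aux (hp2 : p ≠ 2) {r : ℕ} [hr : Fact r.Prime] (hr2 : r ≠ 2) :
    ∀ (n : ℕ) {G : Type u} [Group G] [Finite G] (H R : Subgroup G) (x : G), Nat.card H ≤ n →
      R ≤ normalizer (H : Set G) → Group.IsSolvable H → Odd (Nat.card H) →
      (Nat.card R).Coprime (Nat.card H) → x ∈ R → orderOf x = r →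
      IsZGroup ↥(H ⊓ centralizer ({x} : Set G)) → PChain p 1 ↥(⁅H, R⁆ : Subgroup G) := by
  intro n
  induction n using Nat.strong_induction_on with
  | h n ih =>
    intro G _ _ H R x hn hRH hsol hodd hcop hxR hx hZ
    have hle : ⁅H, R⁆ ≤ H := Cfsg.Lib.Coprime.commutator_le_of_le_normalizer hRH
    by_cases hlt : ⁅H, R⁆ = H
    swap
    · have hlt' : Nat.card ↥(⁅H, R⁆ : Subgroup G) < n := (lt_of_lt_of_le
        (lt_of_le_of_ne (card_le_of_le hle) fun e => hlt (eq_of_le_of_card_ge hle e.ge)) hn)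
      have h := ih _ hlt' ⁅H, R⁆ R x le_rfl (normalizer_commutator_ge_right H R)
        (Core.isSolvable_of_le hle hsol) (hodd.of_dvd_nat (card_dvd_of_le hle))
        (hcop.coprime_dvd_right (card_dvd_of_le hle)) hxR hx
        (isZGroup_of_injective (inclusion (inf_le_inf hle le_rfl)) (inclusion_injective _) hZ)
      rwa [Cfsg.Lib.Coprime.commutator_commutator_eq hRH hcop (Or.inr hsol)] at h
    rw [hlt]
    set T := H ⊔ R with hT
    haveI hHn : (H.subgroupOf T).Normal :=
      (normal_subgroupOf_iff_le_normalizer le_sup_left).mpr (sup_le le_normalizer hRH)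
    let e := subgroupOfEquivOfLe (le_sup_left : H ≤ T)
    haveI : Group.IsSolvable (H.subgroupOf T) :=
      haveI := hsol
      Group.isSolvable_of_surjective (f := e.symm.toMonoidHom) e.symm.surjective
    refine PChain.of_surjective e.toMonoidHom e.surjective ?_
    have hxT : x ∈ T := mem_sup_right hxR
    have hgen : ⁅H.subgroupOf T, R.subgroupOf T⁆ = H.subgroupOf T := by
      apply map_injective T.subtype_injective
      rw [map_commutator, map_subgroupOf_eq_of_le le_sup_left, map_subgroupOf_eq_of_le le_sup_right, hlt]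
    have hcardH : Nat.card (H.subgroupOf T) = Nat.card H := Nat.card_congr e.toEquiv
    have hZ' : IsZGroup ↥(H.subgroupOf T ⊓ centralizer ({(⟨x, hxT⟩ : T)} : Set T)) := by
      refine isZGroup_of_injective
        ((T.subtype.comp (H.subgroupOf T ⊓ centralizer ({(⟨x, hxT⟩ : T)} : Set T)).subtype).codRestrict
          (H ⊓ centralizer ({x} : Set G)) fun a => mem_inf.mpr ⟨a.2.1, ?_⟩) ?_ hZ
      · exact mem_centralizer_singleton_iff.mpr
          (congrArg Subtype.val (mem_centralizer_singleton_iff.mp a.2.2) :)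
      · intro a b h
        exact Subtype.ext (T.subtype_injective (congrArg Subtype.val h :))
    refine step (R := R.subgroupOf T) hp2 hr2 (x := ⟨x, hxT⟩) hxR
      (by rw [Subgroup.orderOf_mk, hx]) ?_ (hcardH.symm ▸ hodd) hgen hZ' ?_
    · rw [hcardH, Nat.card_congr (subgroupOfEquivOfLe (le_sup_right : R ≤ T)).toEquiv]
      exact hcop
    intro N hNn hNH hN1
    set f := QuotientGroup.mk' N
    have hH'n : R.subgroupOf T ≤ normalizer ((H.subgroupOf T : Subgroup T) : Set T) :=
      le_normalizer_of_normal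
    have hlt' : Nat.card ↥((H.subgroupOf T).map f) < n := by
      refine lt_of_lt_of_le ?_ hn
      rw [← hcardH]
      refine lt_of_le_of_ne (Nat.le_of_dvd Nat.card_pos (card_map_dvd _ f)) fun he => hN1 ?_
      have hi : Function.Injective (f.subgroupMap (H.subgroupOf T)) :=
        ((Nat.bijective_iff_surjective_and_card _).mpr ⟨f.subgroupMap_surjective _, he.symm⟩).1
      refine (Subgroup.eq_bot_iff_forall _).mpr fun a ha => ?_
      exact congrArg Subtype.val (@hi ⟨a, hNH ha⟩ 1 (Subtype.ext (by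
        show f a = f 1
        rw [map_one]
        exact (QuotientGroup.eq_one_iff a).mpr ha)))
    have hsolH : Group.IsSolvable ↥(H.subgroupOf T) := inferInstance
    have hcop' : (Nat.card ↥(R.subgroupOf T)).Coprime (Nat.card ↥(H.subgroupOf T)) := by
      rw [hcardH, Nat.card_congr (subgroupOfEquivOfLe (le_sup_right : R ≤ T)).toEquiv]
      exact hcop
    have hx' : f ⟨x, hxT⟩ ∈ (R.subgroupOf T).map f := mem_map_of_mem f hxR
    have hord : orderOf (f ⟨x, hxT⟩) = r := by
      have hd : orderOf (f ⟨x, hxT⟩) ∣ r := hx ▸ (Subgroup.orderOf_mk x hxT) ▸ orderOf_map_dvd f _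
      refine ((Nat.dvd_prime hr.out).mp hd).resolve_left fun h1 => hr.out.ne_one ?_
      have hxN : (⟨x, hxT⟩ : T) ∈ N := (QuotientGroup.eq_one_iff _).mp (orderOf_eq_one_iff.mp h1)
      have hxH : x ∈ H := hNH hxN
      refine Nat.eq_one_of_dvd_coprimes hcop ?_ ?_
      · rw [← hx, ← Subgroup.orderOf_mk x hxR]; exact orderOf_dvd_natCard _
      · rw [← hx, ← Subgroup.orderOf_mk x hxH]; exact orderOf_dvd_natCard _
    have hZ'' : IsZGroup ↥((H.subgroupOf T).map f ⊓ centralizer ({f ⟨x, hxT⟩} : Set (T ⧸ N))) := by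
      have hXR : zpowers (⟨x, hxT⟩ : T) ≤ R.subgroupOf T := zpowers_le.mpr hxR
      rw [← centralizer_zpowers, ← MonoidHom.map_zpowers, ← Cfsg.Lib.Coprime.map_inf_centralizer_eq f
        (hXR.trans hH'n) (hcop'.coprime_dvd_left (card_dvd_of_le hXR)) (Or.inr hsolH), centralizer_zpowers]
      haveI := hZ'
      exact IsZGroup.of_surjective (f.subgroupMap_surjective _)
    have h := ih _ hlt' ((H.subgroupOf T).map f) ((R.subgroupOf T).map f) (f ⟨x, hxT⟩) le_rfl
      ((map_mono hH'n).trans (le_normalizer_map f))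
      (Core.isSolvable_map hsolH f) ((hcardH.symm ▸ hodd).of_dvd_nat (card_map_dvd _ f))
      ((hcop'.coprime_dvd_left (card_map_dvd _ f)).coprime_dvd_right (card_map_dvd _ f)) hx' hord hZ''
    rwa [← map_commutator, hgen] at h

/-- A group of odd order has commutator of `p`-length at most one with a coprime operator group containing
an element of odd prime order whose fixed points form a `Z`-group. -/
theorem pLengthLE_commutator {r : ℕ} [hr : Fact r.Prime] (hr2 : r ≠ 2) {H R : Subgroup G} {x : G}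
    (hRH : R ≤ normalizer (H : Set G)) (hsol : Group.IsSolvable H) (hodd : Odd (Nat.card H))
    (hcop : (Nat.card R).Coprime (Nat.card H)) (hxR : x ∈ R) (hx : orderOf x = r)
    (hZ : IsZGroup ↥(H ⊓ centralizer ({x} : Set G))) :
    Cfsg.PLengthLE p 1 ↥(⁅H, R⁆ : Subgroup G) := by
  rw [pLengthLE_iff]
  rcases eq_or_ne p 2 with rfl | hp2
  · refine pChain_of_coprime (Nat.Coprime.coprime_dvd_left
      (card_dvd_of_le (Cfsg.Lib.Coprime.commutator_le_of_le_normalizer hRH)) ?_) 1
    exact (Nat.coprime_two_right.mpr hodd)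
  exact pChain_commutator_aux hp2 hr2 _ H R x le_rfl hRH hsol hodd hcop hxR hx hZ

end Cfsg.Lib.Local.CommutatorPLength
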