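import Cfsg.Agent.S0799
import Cfsg.Agent.Lib.Dickson.Overgroups
import Mathlib.FieldTheory.Finite.GaloisField

/-!
# Eigenlines of elements of large projective order in a `p'`-subgroup of `GL₂(p)`
-/

set_option autoImplicit false

namespace Cfsg.Lib.Local.EigenLines

open Matrix

set_option linter.unusedSectionVars false

variable {p : ℕ} [hp : Fact p.Prime]

/-- The determinant of two vectors. -/
def cross (v w : Fin 2 → ZMod p) : ZMod p := v 0 * w 1 - v 1 * w 0

theorem cross_smul_left (c : ZMod p) (v w : Fin 2 → ZMod p) : cross (c • v) w = c * cross v w := by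
  simp [cross]; ring

theorem cross_self (v : Fin 2 → ZMod p) : cross v v = 0 := by simp [cross]; ring

theorem cross_swap (v w : Fin 2 → ZMod p) : cross v w = - cross w v := by simp [cross]; ring

theorem cross_mulVec (M : Matrix (Fin 2) (Fin 2) (ZMod p)) (v w : Fin 2 → ZMod p) :
    cross (M *ᵥ v) (M *ᵥ w) = M.det * cross v w := by
  simp [cross, Matrix.mulVec, dotProduct, Fin.sum_univ_two, Matrix.det_fin_two]; ring

theorem decomp {v w : Fin 2 → ZMod p} (h : cross v w ≠ 0) (u : Fin 2 → ZMod p) :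
    u = (cross u w / cross v w) • v + (cross v u / cross v w) • w := by
  funext i
  simp only [Pi.add_apply, Pi.smul_apply, smul_eq_mul]
  rw [div_mul_eq_mul_div, div_mul_eq_mul_div, ← add_div, eq_div_iff h]
  fin_cases i <;> simp [cross] <;> ring

theorem eq_smul_of_cross {v u : Fin 2 → ZMod p} (hv : v ≠ 0) (h : cross v u = 0) : ∃ c : ZMod p, u = c • v := by
  simp only [cross, sub_eq_zero] at h
  by_cases h0 : v 0 = 0
  · have h1 : v 1 ≠ 0 := fun h1 => hv (by funext i; fin_cases i <;> assumption)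
    refine ⟨u 1 / v 1, ?_⟩
    funext i
    fin_cases i
    · have : u 0 = 0 := by
        rw [h0, zero_mul, eq_comm, mul_eq_zero] at h
        exact h.resolve_left h1
      simp [h0, this]
    · simp [h1]
  · refine ⟨u 0 / v 0, ?_⟩
    funext i
    fin_cases i
    · simp [h0]
    · simp; field_simp; linear_combination h

theorem ne_zero_of_cross {v w : Fin 2 → ZMod p} (h : cross v w ≠ 0) : v ≠ 0 ∧ w ≠ 0 :=
  ⟨fun e => h (by simp [e, cross]), fun e => h (by simp [e, cross])⟩

/-- Collinearity is transitive. -/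
theorem cross_trans {v w u : Fin 2 → ZMod p} (hw : w ≠ 0) (h1 : cross w v = 0) (h2 : cross w u = 0) :
    cross v u = 0 := by
  obtain ⟨c, rfl⟩ := eq_smul_of_cross hw h1
  obtain ⟨d, rfl⟩ := eq_smul_of_cross hw h2
  simp [cross]; ring

/-- An eigenvector of a diagonalizable element with distinct eigenvalues. -/
theorem eigen_cases {M : Matrix (Fin 2) (Fin 2) (ZMod p)} {v w u : Fin 2 → ZMod p} {a b c : ZMod p}
    (h : cross v w ≠ 0) (hv : M *ᵥ v = a • v) (hw : M *ᵥ w = b • w) (hab : a ≠ b) (hu : M *ᵥ u = c • u) :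
    cross v u = 0 ∨ cross w u = 0 := by
  by_contra hne
  push Not at hne
  have hd := decomp h u
  set s := cross u w / cross v w
  set t := cross v u / cross v w
  rw [hd, mulVec_add, mulVec_smul, mulVec_smul, hv, hw] at hu
  have h1 := congrArg (fun q => cross q w) hu
  have h2 := congrArg (fun q => cross v q) hu
  simp [cross] at h1 h2
  have hs : s * (a - c) * cross v w = 0 := by simp only [cross]; linear_combination h1
  have ht : t * (b - c) * cross v w = 0 := by simp only [cross]; linear_combination h2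
  have hsne : s ≠ 0 := div_ne_zero (by rw [cross_swap]; exact neg_ne_zero.2 hne.2) h
  have htne : t ≠ 0 := div_ne_zero hne.1 h
  have e1 : a = c := sub_eq_zero.1 (((mul_eq_zero.1 ((mul_eq_zero.1 hs).resolve_right h))).resolve_left hsne)
  have e2 : b = c := sub_eq_zero.1 (((mul_eq_zero.1 ((mul_eq_zero.1 ht).resolve_right h))).resolve_left htne)
  exact hab (e1.trans e2.symm)

/-! ### Into `PSL₂` of the quadratic extension -/

/-- The quadratic extension. -/
abbrev KK (p : ℕ) [Fact p.Prime] := GaloisField p 2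

noncomputable instance : Fintype (KK p) := Fintype.ofFinite _

theorem card_KK : Fintype.card (KK p) = p ^ 2 := by
  rw [← Nat.card_eq_fintype_card]; exact GaloisField.card p 2 (by norm_num)

theorem exists_sqrt (d : ZMod p) (hd : d ≠ 0) : ∃ r : KK p, r ≠ 0 ∧ r ^ 2 * algebraMap (ZMod p) (KK p) d = 1 := by
  have hi : (algebraMap (ZMod p) (KK p) d⁻¹) ≠ 0 := by
    rw [map_ne_zero]; exact inv_ne_zero hd
  obtain ⟨r, hr⟩ : IsSquare (algebraMap (ZMod p) (KK p) d⁻¹) := by
    by_cases h2 : p = 2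
    · haveI : CharP (KK p) 2 := h2 ▸ charP_of_injective_algebraMap (algebraMap (ZMod p) (KK p)).injective p
      exact FiniteField.isSquare_of_char_two (ringChar.eq (KK p) 2) _
    have hchar : ringChar (KK p) ≠ 2 := by
      haveI : CharP (KK p) p := charP_of_injective_algebraMap (algebraMap (ZMod p) (KK p)).injective p
      rw [ringChar.eq (KK p) p]; exact h2
    rw [FiniteField.isSquare_iff hchar hi, card_KK]
    have ho : Odd p := hp.out.odd_of_ne_two h2
    obtain ⟨k, hk⟩ := ho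
    have he : p ^ 2 / 2 = (p - 1) * (k + 1) := by
      subst hk
      rw [show (2 * k + 1) ^ 2 = 2 * (2 * k * (k + 1)) + 1 by ring]
      simp; omega
    rw [he, pow_mul, ← map_pow, ZMod.pow_card_sub_one_eq_one (inv_ne_zero hd), map_one, one_pow]
  refine ⟨r, fun h => hi (by rw [hr, h, mul_zero]), ?_⟩
  rw [pow_two, ← hr, ← map_mul, inv_mul_cancel₀ hd, map_one]

/-- The scalar taking `g` into `SL₂`. -/
noncomputable def nu (g : GL (Fin 2) (ZMod p)) : KK p :=
  (exists_sqrt (g : Matrix (Fin 2) (Fin 2) (ZMod p)).det (isUnits_det_units g).ne_zero).choose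

theorem nu_spec (g : GL (Fin 2) (ZMod p)) :
    nu g ≠ 0 ∧ (nu g) ^ 2 * algebraMap (ZMod p) (KK p) (g : Matrix (Fin 2) (Fin 2) (ZMod p)).det = 1 :=
  (exists_sqrt (g : Matrix (Fin 2) (Fin 2) (ZMod p)).det (isUnits_det_units g).ne_zero).choose_spec

/-- The lift to `SL₂`. -/
noncomputable def lift2 (g : GL (Fin 2) (ZMod p)) : SpecialLinearGroup (Fin 2) (KK p) :=
  ⟨nu g • (g : Matrix (Fin 2) (Fin 2) (ZMod p)).map (algebraMap (ZMod p) (KK p)), by
    rw [det_smul, Fintype.card_fin, ← RingHom.mapMatrix_apply, ← RingHom.map_det]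
    exact (nu_spec g).2⟩

theorem mk_eq_of_smul {A B : SpecialLinearGroup (Fin 2) (KK p)} {c : KK p}
    (h : (B : Matrix (Fin 2) (Fin 2) (KK p)) = c • (A : Matrix (Fin 2) (Fin 2) (KK p))) :
    (QuotientGroup.mk A : ProjectiveSpecialLinearGroup (Fin 2) (KK p)) = QuotientGroup.mk B := by
  rw [QuotientGroup.eq, Matrix.SpecialLinearGroup.mem_center_iff]
  have hc : c ^ 2 = 1 := by
    have := congrArg Matrix.det h
    rwa [B.2, det_smul, A.2, mul_one, Fintype.card_fin, eq_comm] at this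
  refine ⟨c, by rwa [Fintype.card_fin], ?_⟩
  rw [Matrix.SpecialLinearGroup.coe_mul, h, Matrix.mul_smul, ← Matrix.SpecialLinearGroup.coe_mul, inv_mul_cancel,
    Matrix.SpecialLinearGroup.coe_one, smul_one_eq_diagonal]
  rfl

/-- `GL₂(p) → PSL₂(p²)`. -/
noncomputable def phi : GL (Fin 2) (ZMod p) →* ProjectiveSpecialLinearGroup (Fin 2) (KK p) :=
  MonoidHom.mk' (fun g => QuotientGroup.mk (lift2 g)) fun g h => by
    rw [← QuotientGroup.mk_mul]
    refine (mk_eq_of_smul (c := nu g * nu h / nu (g * h)) ?_)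
    have := (nu_spec (g * h)).1
    rw [Matrix.SpecialLinearGroup.coe_mul]
    show nu g • _ * (nu h • _) = (nu g * nu h / nu (g * h)) • (nu (g * h) • _)
    rw [Units.val_mul, Matrix.map_mul, Matrix.smul_mul, Matrix.mul_smul, smul_smul, smul_smul]
    congr 1
    field_simp

theorem phi_eq_one_iff {g : GL (Fin 2) (ZMod p)} :
    phi g = 1 ↔ ∃ c : ZMod p, (g : Matrix (Fin 2) (Fin 2) (ZMod p)) = c • 1 := by
  show (QuotientGroup.mk (lift2 g) : ProjectiveSpecialLinearGroup (Fin 2) (KK p)) = 1 ↔ _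
  rw [QuotientGroup.eq_one_iff, Matrix.SpecialLinearGroup.mem_center_iff]
  have hinj := (algebraMap (ZMod p) (KK p)).injective
  constructor
  · rintro ⟨r, -, hr⟩
    refine ⟨(g : Matrix (Fin 2) (Fin 2) (ZMod p)) 0 0, ?_⟩
    have e : ∀ i j, nu g * algebraMap (ZMod p) (KK p) ((g : Matrix (Fin 2) (Fin 2) (ZMod p)) i j) =
        if i = j then r else 0 := fun i j => by
      have := congrFun (congrFun hr i) j
      simpa [lift2, Matrix.scalar_apply, Matrix.diagonal_apply] using this.symm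
    have h0 := (nu_spec g).1
    ext i j
    apply hinj
    apply mul_left_cancel₀ h0
    rw [e i j]
    fin_cases i <;> fin_cases j <;> simp [e]
  · rintro ⟨c, hc⟩
    refine ⟨nu g * algebraMap (ZMod p) (KK p) c, ?_, ?_⟩
    · rw [Fintype.card_fin, mul_pow, ← map_pow]
      have := (nu_spec g).2
      rwa [hc, det_smul, det_one, Fintype.card_fin, mul_one] at this
    · ext i j
      simp only [lift2, hc]
      fin_cases i <;> fin_cases j <;> simp [Matrix.scalar_apply]

/-! ### The count -/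

/-- An element with two eigenlines. -/
structure Datum (H : Subgroup (GL (Fin 2) (ZMod p))) where
  g : GL (Fin 2) (ZMod p)
  mem : g ∈ H
  v : Fin 2 → ZMod p
  w : Fin 2 → ZMod p
  a : ZMod p
  b : ZMod p
  hvw : cross v w ≠ 0
  hv : (g : Matrix (Fin 2) (Fin 2) (ZMod p)) *ᵥ v = a • v
  hw : (g : Matrix (Fin 2) (Fin 2) (ZMod p)) *ᵥ w = b • w

variable {H : Subgroup (GL (Fin 2) (ZMod p))}

theorem Datum.ne (D : Datum H) : D.a ≠ 0 ∧ D.b ≠ 0 := by
  have h := cross_mulVec (D.g : Matrix (Fin 2) (Fin 2) (ZMod p)) D.v D.w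
  rw [D.hv, D.hw] at h
  have hd := (isUnits_det_units D.g).ne_zero
  rw [cross_smul_left, cross_swap D.v, cross_smul_left, cross_swap D.w] at h
  constructor <;> intro h0 <;> simp only [h0, zero_mul, mul_zero, neg_zero, neg_neg] at h <;>
    exact mul_ne_zero hd D.hvw h.symm

theorem Datum.pow_mulVec (D : Datum H) (k : ℕ) :
    ((D.g ^ k : GL (Fin 2) (ZMod p)) : Matrix (Fin 2) (Fin 2) (ZMod p)) *ᵥ D.v = D.a ^ k • D.v ∧
    ((D.g ^ k : GL (Fin 2) (ZMod p)) : Matrix (Fin 2) (Fin 2) (ZMod p)) *ᵥ D.w = D.b ^ k • D.w := by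
  induction k with
  | zero => simp
  | succ k ih =>
    rw [pow_succ, Units.val_mul, ← mulVec_mulVec, ← mulVec_mulVec, D.hv, D.hw, mulVec_smul, mulVec_smul,
      ih.1, ih.2, smul_smul, smul_smul, pow_succ, pow_succ, mul_comm D.a, mul_comm D.b]
    exact ⟨rfl, rfl⟩

theorem Datum.phi_pow (D : Datum H) (k : ℕ) : phi (D.g ^ k) = 1 ↔ D.a ^ k = D.b ^ k := by
  rw [phi_eq_one_iff]
  obtain ⟨h1, h2⟩ := D.pow_mulVec k
  constructor
  · rintro ⟨c, hc⟩
    rw [hc, smul_mulVec, one_mulVec] at h1 h2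
    have e1 := smul_left_injective (ZMod p) (ne_zero_of_cross D.hvw).1 h1
    have e2 := smul_left_injective (ZMod p) (ne_zero_of_cross D.hvw).2 h2
    exact e1.symm.trans e2
  · intro e
    refine ⟨D.a ^ k, Matrix.ext_iff_mulVec.2 fun u => ?_⟩
    rw [smul_mulVec, one_mulVec]
    conv_lhs => rw [decomp D.hvw u]
    conv_rhs => rw [decomp D.hvw u]
    rw [mulVec_add, mulVec_smul, mulVec_smul, h1, h2, ← e, smul_add]
    simp only [smul_smul, mul_comm]

theorem Datum.orderOf_phi (D : Datum H) : orderOf (phi D.g) = orderOf (D.b / D.a) := by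
  rw [orderOf_eq_orderOf_iff]
  intro k
  rw [← map_pow, D.phi_pow, div_pow, div_eq_one_iff_eq (pow_ne_zero _ D.ne.1), eq_comm]

theorem Datum.sq_cases (D : Datum H) (h3 : 3 ≤ orderOf (phi D.g)) {u : Fin 2 → ZMod p} {c : ZMod p}
    (hu : ((D.g ^ 2 : GL (Fin 2) (ZMod p)) : Matrix (Fin 2) (Fin 2) (ZMod p)) *ᵥ u = c • u) :
    cross D.v u = 0 ∨ cross D.w u = 0 := by
  obtain ⟨h1, h2⟩ := D.pow_mulVec 2
  refine eigen_cases D.hvw h1 h2 (fun e => ?_) hu
  have := Nat.le_of_dvd (by norm_num) (orderOf_dvd_of_pow_eq_one (n := 2) (x := phi D.g) (by rw [← map_pow (phi (p := p)), D.phi_pow]; exact e))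
  omega

theorem Datum.cases_of_eigen (D : Datum H) (h3 : 3 ≤ orderOf (phi D.g)) {u : Fin 2 → ZMod p} {c : ZMod p}
    (hu : (D.g : Matrix (Fin 2) (Fin 2) (ZMod p)) *ᵥ u = c • u) :
    cross D.v u = 0 ∨ cross D.w u = 0 := by
  refine D.sq_cases h3 (c := c * c) ?_
  rw [pow_two, Units.val_mul, ← mulVec_mulVec, hu, mulVec_smul, hu, smul_smul]

theorem smul_of_phi_eq {g h : GL (Fin 2) (ZMod p)} (e : phi g = phi h) :
    ∃ c : ZMod p, (g : Matrix (Fin 2) (Fin 2) (ZMod p)) = c • (h : Matrix (Fin 2) (Fin 2) (ZMod p)) := by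
  obtain ⟨c, hc⟩ := phi_eq_one_iff.1 (show phi (g * h⁻¹) = 1 by rw [map_mul, map_inv, e, mul_inv_cancel])
  refine ⟨c, ?_⟩
  have h1 := congrArg (fun M => M * (h : Matrix (Fin 2) (Fin 2) (ZMod p))) hc
  simp only [Matrix.smul_mul, one_mul] at h1
  rw [← h1, ← Units.val_mul, inv_mul_cancel_right]

/-- Commuting elements of large order share their eigenlines. -/
theorem Datum.cross_of_commute (D E : Datum H) (hD : 3 ≤ orderOf (phi D.g)) (hE : 3 ≤ orderOf (phi E.g))
    (hc : Commute (phi D.g) (phi E.g)) : cross E.v D.v = 0 ∨ cross E.w D.v = 0 := by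
  obtain ⟨c, hc'⟩ := smul_of_phi_eq (g := D.g * E.g) (h := E.g * D.g) (by rw [map_mul, map_mul]; exact hc.eq)
  rw [Units.val_mul, Units.val_mul] at hc'
  set M := (E.g : Matrix (Fin 2) (Fin 2) (ZMod p))
  have hMv : (D.g : Matrix (Fin 2) (Fin 2) (ZMod p)) *ᵥ (M *ᵥ D.v) = (c * D.a) • (M *ᵥ D.v) := by
    rw [mulVec_mulVec, hc', smul_mulVec, ← mulVec_mulVec, D.hv, mulVec_smul, smul_smul]
  have hMw : (D.g : Matrix (Fin 2) (Fin 2) (ZMod p)) *ᵥ (M *ᵥ D.w) = (c * D.b) • (M *ᵥ D.w) := by
    rw [mulVec_mulVec, hc', smul_mulVec, ← mulVec_mulVec, D.hw, mulVec_smul, smul_smul]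
  obtain ⟨hv0, hw0⟩ := ne_zero_of_cross D.hvw
  obtain ⟨d, hd⟩ : ∃ d, M *ᵥ (M *ᵥ D.v) = d • D.v := by
    rcases D.cases_of_eigen hD hMv with h | h
    · obtain ⟨e, he⟩ := eq_smul_of_cross hv0 h
      exact ⟨e * e, by rw [he, mulVec_smul, he, smul_smul]⟩
    · obtain ⟨e, he⟩ := eq_smul_of_cross hw0 h
      rcases D.cases_of_eigen hD hMw with h' | h'
      · obtain ⟨f, hf⟩ := eq_smul_of_cross hv0 h'
        exact ⟨e * f, by rw [he, mulVec_smul, hf, smul_smul]⟩
      · exfalso
        obtain ⟨f, hf⟩ := eq_smul_of_cross hw0 h'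
        have hz := cross_mulVec M D.v D.w
        rw [he, hf, cross_smul_left, cross_swap D.w, cross_smul_left, cross_self] at hz
        simp only [mul_zero, neg_zero] at hz
        exact mul_ne_zero (isUnits_det_units E.g).ne_zero D.hvw hz.symm
  exact E.sq_cases hE (c := d) (by rw [pow_two, Units.val_mul, ← mulVec_mulVec]; exact hd)

theorem orderOf_alternating_five (x : alternatingGroup (Fin 5)) : orderOf x ≤ 5 ∧ orderOf x ≠ 4 := by
  have key : ∀ x : alternatingGroup (Fin 5), x ^ 2 = 1 ∨ x ^ 3 = 1 ∨ x ^ 5 = 1 := by decide +kernel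
  rcases key x with h | h | h <;>
  · have hd := orderOf_dvd_of_pow_eq_one h
    have hle := Nat.le_of_dvd (by norm_num) hd
    refine ⟨by omega, fun h4 => ?_⟩
    rw [h4] at hd hle
    omega

theorem orderOf_alternating_four (x : alternatingGroup (Fin 4)) : orderOf x ≤ 5 ∧ orderOf x ≠ 4 := by
  have key : ∀ x : alternatingGroup (Fin 4), x ^ 2 = 1 ∨ x ^ 3 = 1 := by decide +kernel
  rcases key x with h | h <;>
  · have hd := orderOf_dvd_of_pow_eq_one h
    have hle := Nat.le_of_dvd (by norm_num) hd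
    exact ⟨by omega, by omega⟩

theorem orderOf_perm_four (x : Equiv.Perm (Fin 4)) : orderOf x ≤ 5 := by
  have key : ∀ x : Equiv.Perm (Fin 4), x ^ 2 = 1 ∨ x ^ 3 = 1 ∨ x ^ 4 = 1 := by decide +kernel
  rcases key x with h | h | h <;> exact (Nat.le_of_dvd (by norm_num) (orderOf_dvd_of_pow_eq_one h)).trans (by norm_num)

theorem dihedral_commute {k : ℕ} {x y : DihedralGroup k} (hx : 3 ≤ orderOf x) (hy : 3 ≤ orderOf y) :
    Commute x y := by
  rcases x with i | i
  · rcases y with j | j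
    · show DihedralGroup.r i * DihedralGroup.r j = DihedralGroup.r j * DihedralGroup.r i
      simp [add_comm]
    · rw [DihedralGroup.orderOf_sr] at hy; omega
  · rw [DihedralGroup.orderOf_sr] at hx; omega

theorem dvd_card_linear (K : Type) [Field K] [Fintype K] [CharP K p] :
    p ∣ Nat.card (ProjectiveSpecialLinearGroup (Fin 2) K) ∧ p ∣ Nat.card (ProjGenLinGroup (Fin 2) K) := by
  set T : SpecialLinearGroup (Fin 2) K := ⟨!![1, 1; 0, 1], by simp [det_fin_two_of]⟩ with hT
  set t : ProjectiveSpecialLinearGroup (Fin 2) K := QuotientGroup.mk T with ht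
  have hpow : ∀ k : ℕ, ((T ^ k : SpecialLinearGroup (Fin 2) K) : Matrix (Fin 2) (Fin 2) K) = !![1, (k : K); 0, 1] := by
    intro k
    induction k with
    | zero => simp [Matrix.one_fin_two]
    | succ k ih => rw [pow_succ, Matrix.SpecialLinearGroup.coe_mul, ih]; simp [hT, add_comm]
  have ho : orderOf t = p := by
    refine orderOf_eq_prime ?_ ?_
    · rw [ht, ← QuotientGroup.mk_pow, QuotientGroup.eq_one_iff]
      have : T ^ p = 1 := by
        apply Subtype.ext
        rw [hpow p, CharP.cast_eq_zero, Matrix.SpecialLinearGroup.coe_one, Matrix.one_fin_two]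
      rw [this]; exact one_mem _
    · rw [ht, ne_eq, QuotientGroup.eq_one_iff, Matrix.SpecialLinearGroup.mem_center_iff]
      rintro ⟨r, -, hr⟩
      have := congrFun (congrFun hr 0) 1
      simp [hT, Matrix.scalar_apply] at this
  have h1 : p ∣ Nat.card (ProjectiveSpecialLinearGroup (Fin 2) K) := ho ▸ orderOf_dvd_natCard t
  refine ⟨h1, ?_⟩
  have h2 : orderOf (ProjectiveSpecialLinearGroup.toPGL t) = p := by
    rw [orderOf_injective _ ProjectiveSpecialLinearGroup.toPGL_injective, ho]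
  exact h2 ▸ orderOf_dvd_natCard _

/-- The image in `PSL₂(p²)` of a `p'`-group: commuting, or small. -/
theorem image_cases (H : Subgroup (GL (Fin 2) (ZMod p))) (hH : ¬ p ∣ Nat.card H) :
    (∀ x ∈ H.map phi, ∀ y ∈ H.map phi, 3 ≤ orderOf x → 3 ≤ orderOf y → Commute x y) ∨
      ((∀ x ∈ H.map phi, orderOf x ≤ 5) ∧
        Nat.card {x : H.map phi // orderOf x = 4} ≤ 6) := by
  haveI : CharP (KK p) p := charP_of_injective_algebraMap (algebraMap (ZMod p) (KK p)).injective p
  set B := H.map phi with hB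
  have hBp : ¬ p ∣ Nat.card B := fun h => hH (h.trans (by
    rw [hB]; exact Subgroup.card_map_dvd H phi))
  have ofCyclic : IsCyclic B → (∀ x ∈ B, ∀ y ∈ B, 3 ≤ orderOf x → 3 ≤ orderOf y → Commute x y) := by
    intro hc x hx y hy _ _
    haveI := hc
    letI := IsCyclic.commGroup (α := B)
    exact congrArg Subtype.val (mul_comm (⟨x, hx⟩ : B) ⟨y, hy⟩)
  have small : ∀ {T : Type} [Group T], (B ≃* T) → (∀ t : T, orderOf t ≤ 5) →
      (Nat.card {t : T // orderOf t = 4} ≤ 6) →
      ((∀ x ∈ B, orderOf x ≤ 5) ∧ Nat.card {x : B // orderOf x = 4} ≤ 6) := by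
    intro T _ e h1 h2
    refine ⟨fun x hx => ?_, ?_⟩
    · rw [← Subgroup.orderOf_mk x hx, ← e.orderOf_eq]; exact h1 _
    · rw [Nat.card_congr (Equiv.subtypeEquiv (q := fun t : T => orderOf t = 4) e.toEquiv (fun x => by simp [e.orderOf_eq]))]
      exact h2
  rcases Cfsg.Agent.S0799.result (card_KK (p := p)) p B with
    ⟨k, -, ⟨hc, -⟩ | ⟨⟨e⟩⟩⟩ | ⟨P, K, hK, ⟨e⟩⟩ | ⟨⟨e⟩⟩ | ⟨⟨e⟩⟩ | ⟨⟨e⟩⟩ | ⟨K, _, _, m, hm, hiso⟩
  · exact Or.inl (ofCyclic hc)
  · left
    intro x hx y hy h3 h3'
    have hc := dihedral_commute (x := e ⟨x, hx⟩) (y := e ⟨y, hy⟩) (by rwa [e.orderOf_eq, Subgroup.orderOf_mk])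
      (by rwa [e.orderOf_eq, Subgroup.orderOf_mk])
    have := hc.map e.symm
    simp only [MulEquiv.symm_apply_apply] at this
    exact congrArg Subtype.val this.eq
  · left
    haveI := Cfsg.Lib.Dickson.isCyclic_of_le_normalizer p hK (by rwa [← Nat.card_congr e.toEquiv])
    exact ofCyclic (isCyclic_of_surjective e.symm.toMonoidHom e.symm.surjective)
  · refine Or.inr (small e (fun t => (orderOf_alternating_four t).1) ?_)
    haveI : IsEmpty {t : alternatingGroup (Fin 4) // orderOf t = 4} :=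
      ⟨fun t => (orderOf_alternating_four t.1).2 t.2⟩
    simp
  · refine Or.inr (small e orderOf_perm_four ?_)
    have key : (Finset.univ.filter fun t : Equiv.Perm (Fin 4) => t ^ 2 ≠ 1 ∧ t ^ 4 = 1).card ≤ 6 := by decide +kernel
    refine le_trans ?_ key
    rw [Nat.card_eq_fintype_card, Fintype.card_subtype]
    refine Finset.card_le_card fun t ht => ?_
    simp only [Finset.mem_filter, Finset.mem_univ, true_and] at ht ⊢
    refine ⟨fun h => ?_, by have := pow_orderOf_eq_one t; rwa [ht] at this⟩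
    have := Nat.le_of_dvd (by norm_num) (orderOf_dvd_of_pow_eq_one h)
    omega
  · refine Or.inr (small e (fun t => (orderOf_alternating_five t).1) ?_)
    haveI : IsEmpty {t : alternatingGroup (Fin 5) // orderOf t = 4} :=
      ⟨fun t => (orderOf_alternating_five t.1).2 t.2⟩
    simp
  · exfalso
    obtain ⟨r, hr⟩ := CharP.exists K
    obtain ⟨⟨j, hj⟩, hr', hKc⟩ := FiniteField.card K r
    have hm0 : m ≠ 0 := fun h0 => by
      rw [h0, pow_zero] at hm
      exact absurd hm (Nat.one_lt_pow (by norm_num) hp.out.one_lt).ne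
    have hrp : r = p := by
      have : r ∣ p ^ 2 := by
        rw [← hm, hKc]; exact (dvd_pow_self r hj.ne').trans (dvd_pow_self _ hm0)
      exact (Nat.prime_dvd_prime_iff_eq hr' hp.out).1 (hr'.dvd_of_dvd_pow this)
    subst hrp
    rcases hiso with ⟨⟨e⟩⟩ | ⟨⟨e⟩⟩ <;> apply hBp <;> rw [Nat.card_congr e.toEquiv]
    exacts [(dvd_card_linear K).1, (dvd_card_linear K).2]

variable {ι : Type*} [Finite ι]

/-- At most two pairwise different lines for order at least six; at most twelve for order four. -/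
theorem lines_le (hH : ¬ p ∣ Nat.card H) (D : ι → Datum H) {n : ℕ} (hn : ∀ i, orderOf ((D i).b / (D i).a) = n)
    (hind : ∀ i j, i ≠ j → cross (D i).v (D j).v ≠ 0) :
    (6 ≤ n → Nat.card ι ≤ 2) ∧ (n = 4 → Nat.card ι ≤ 12) := by
  have ho : ∀ i, orderOf (phi (D i).g) = n := fun i => (D i).orderOf_phi.trans (hn i)
  have hmem : ∀ i, phi (D i).g ∈ H.map phi := fun i => ⟨_, (D i).mem, rfl⟩
  have hfib : ∀ i j k, i ≠ j → i ≠ k → j ≠ k → 3 ≤ n →
      Commute (phi (D i).g) (phi (D j).g) → Commute (phi (D k).g) (phi (D j).g) → False := by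
    intro i j k hij hik hjk h3 hc1 hc2
    have e1 := ((D i).cross_of_commute (D j) (by rw [ho]; exact h3) (by rw [ho]; exact h3) hc1).resolve_left
      (hind j i (Ne.symm hij))
    have e2 := ((D k).cross_of_commute (D j) (by rw [ho]; exact h3) (by rw [ho]; exact h3) hc2).resolve_left
      (hind j k hjk)
    exact hind i k hik (cross_trans (ne_zero_of_cross (D j).hvw).2 e1 e2)
  have htwo : 3 ≤ n → (∀ i j, Commute (phi (D i).g) (phi (D j).g)) → Nat.card ι ≤ 2 := by
    intro h3 hall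
    by_contra hlt
    haveI := Fintype.ofFinite ι
    rw [Nat.card_eq_fintype_card, not_le, Fintype.two_lt_card_iff] at hlt
    obtain ⟨i, j, k, hij, hik, hjk⟩ := hlt
    exact hfib i j k hij hik hjk h3 (hall i j) (hall k j)
  rcases image_cases H hH with hcomm | ⟨h5, h6⟩
  · refine ⟨fun h => htwo (by omega) fun i j => ?_, fun h => (htwo (by omega) fun i j => ?_).trans (by norm_num)⟩ <;>
      exact hcomm _ (hmem i) _ (hmem j) (by rw [ho]; omega) (by rw [ho]; omega)
  refine ⟨fun h => ?_, fun h4 => ?_⟩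
  · by_contra hlt
    haveI : Nonempty ι := (Nat.card_pos_iff.1 (by omega)).1
    have := h5 _ (hmem (Classical.arbitrary ι))
    rw [ho] at this
    omega
  · classical
    haveI := Fintype.ofFinite ι
    haveI : Fintype {x : H.map phi // orderOf x = 4} := Fintype.ofFinite _
    let f : ι → {x : H.map phi // orderOf x = 4} := fun i =>
      ⟨⟨_, hmem i⟩, by rw [Subgroup.orderOf_mk, ho, h4]⟩
    have hfib2 : ∀ b ∈ (Finset.univ : Finset {x : H.map phi // orderOf x = 4}),
        ((Finset.univ : Finset ι).filter (f · = b)).card ≤ 2 := by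
      intro b _
      by_contra hlt
      rw [not_le, Finset.two_lt_card_iff] at hlt
      obtain ⟨i, j, k, hi, hj, hk, hij, hik, hjk⟩ := hlt
      simp only [Finset.mem_filter, Finset.mem_univ, true_and] at hi hj hk
      have e1 : phi (D i).g = phi (D j).g := congrArg (fun y : {x : H.map phi // orderOf x = 4} => ((y.1 : H.map phi) : ProjectiveSpecialLinearGroup (Fin 2) (KK p))) (hi.trans hj.symm)
      have e2 : phi (D k).g = phi (D j).g := congrArg (fun y : {x : H.map phi // orderOf x = 4} => ((y.1 : H.map phi) : ProjectiveSpecialLinearGroup (Fin 2) (KK p))) (hk.trans hj.symm)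
      exact hfib i j k hij hik hjk (by omega) (by rw [e1]) (by rw [e2])
    have hle := Finset.card_le_mul_card_image_of_maps_to (f := f) (s := (Finset.univ : Finset ι))
      (t := Finset.univ) (fun _ _ => Finset.mem_univ _) _ hfib2
    rw [Finset.card_univ, Finset.card_univ, ← Nat.card_eq_fintype_card, ← Nat.card_eq_fintype_card] at hle
    omega

end Cfsg.Lib.Local.EigenLines
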