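import Cfsg.Agent.Lib.Local.MovedBound
import Cfsg.Agent.Lib.Local.TopModule
import Cfsg.Agent.Lib.Solv.Nilpotent
import Cfsg.Agent.Lib.PGroup.Basic

/-!
Exceptional elements of maximal order in a `p`-group of operators: if every element `g` of the `p`-group `X`
has vanishing norm `∑ i < p ^ (n + 1), g ^ i`, then the powers `g ^ (p ^ n)` commute with each other.
-/

set_option autoImplicit false
set_option linter.style.haveILetI false

namespace Cfsg.Lib.Local

open Subgroup Module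
open scoped commutatorElement

variable {H : Type*} [Group H] [Finite H] {F : Type*} [Field F] {V : Type*} [AddCommGroup V] [Module F V]

/-- The automorphisms of the additive group given by a representation. -/
def autOfRep (ρ : H →* Module.End F V) : H →* MulAut (Multiplicative V) where
  toFun g :=
    { toFun := fun u => Multiplicative.ofAdd (ρ g u.toAdd)
      invFun := fun u => Multiplicative.ofAdd (ρ g⁻¹ u.toAdd)
      left_inv := fun u => by
        show Multiplicative.ofAdd (ρ g⁻¹ (ρ g u.toAdd)) = u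
        rw [← ρ_mul_apply, inv_mul_cancel, map_one]; rfl
      right_inv := fun u => by
        show Multiplicative.ofAdd (ρ g (ρ g⁻¹ u.toAdd)) = u
        rw [← ρ_mul_apply, mul_inv_cancel, map_one]; rfl
      map_mul' := fun u u' => by
        show Multiplicative.ofAdd (ρ g (u.toAdd + u'.toAdd)) = _
        rw [map_add]; rfl }
  map_one' := MulEquiv.ext fun u => by
    show Multiplicative.ofAdd (ρ 1 u.toAdd) = u
    rw [map_one]; rfl
  map_mul' := fun g g' => MulEquiv.ext fun u => by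
    show Multiplicative.ofAdd (ρ (g * g') u.toAdd) = _
    rw [map_mul]; rfl

theorem autOfRep_injective {ρ : H →* Module.End F V} (hρ : Function.Injective ρ) :
    Function.Injective (autOfRep ρ) := fun _ _ e => hρ (LinearMap.ext fun v =>
  congrArg (fun f : MulAut (Multiplicative V) => (f (Multiplicative.ofAdd v)).toAdd) e)

/-- An element of vanishing norm: its top power centralises every abelian `q`-group it normalises. -/
theorem pow_commute_of_norm_zero {ρ : H →* Module.End F V} (hρ : Function.Injective ρ) {q : ℕ}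
    [hq : Fact q.Prime] (hqF : (q : F) ≠ 0) {p : ℕ} [hp : Fact p.Prime] (hqp : q ≠ p) {g : H} {n : ℕ}
    (hord : g ^ p ^ (n + 1) = 1) (hN : ∑ i ∈ Finset.range (p ^ (n + 1)), ρ g ^ i = 0) {B : Subgroup H}
    (hB : IsPGroup q B) (hab : ∀ a ∈ B, ∀ b ∈ B, a * b = b * a) (hgB : ∀ a ∈ B, g * a * g⁻¹ ∈ B) :
    ∀ a ∈ B, g ^ p ^ n * a * (g ^ p ^ n)⁻¹ = a := by
  by_contra hcon
  push Not at hcon
  obtain ⟨a, ha, hne⟩ := hcon
  have hordg : orderOf g = p ^ (n + 1) := orderOf_eq_prime_pow (fun e => hne (by rw [e]; simp)) hord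
  have hV : ∀ (u : Multiplicative V) (d : ℕ), d ∣ Nat.card B → u ^ d = 1 → u = 1 := by
    intro u d hd hud
    obtain ⟨e, he⟩ := IsPGroup.iff_card.1 hB
    obtain ⟨e', -, rfl⟩ := (Nat.dvd_prime_pow hq.out).1 (he ▸ hd)
    have h1 := congrArg Multiplicative.toAdd hud
    rw [toAdd_pow, toAdd_one, ← Nat.cast_smul_eq_nsmul F, Nat.cast_pow] at h1
    exact Multiplicative.toAdd.injective ((smul_eq_zero.1 h1).resolve_left (pow_ne_zero _ hqF))
  have hcop : (Nat.card B).Coprime p := by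
    obtain ⟨e, he⟩ := IsPGroup.iff_card.1 hB
    rw [he]
    exact ((Nat.coprime_primes hq.out hp.out).2 hqp).pow_left e
  obtain ⟨u, hu⟩ := exists_norm_ne_one' (autOfRep ρ) (autOfRep_injective hρ) B hV hab hcop g hgB n hordg
    ⟨a, ha, hne⟩
  refine hu (Multiplicative.toAdd.injective ?_)
  rw [toAdd_prod, toAdd_one]
  have h1 := LinearMap.congr_fun hN u.toAdd
  rw [LinearMap.sum_apply, LinearMap.zero_apply] at h1
  rw [← h1]
  refine Finset.sum_congr rfl fun i _ => ?_
  rw [← map_pow]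
  rfl

variable {Q X : Subgroup H} {y : H} {q : ℕ} [hq : Fact q.Prime]

/-- The stabiliser in `X` of a character of the centre of `Q`. -/
def charStabilizer (h : MinimalMoved Q X y q) (ψ : H → F) : Subgroup H where
  carrier := {g | g ∈ X ∧ ∀ a ∈ innerCenter Q, ψ (g * a * g⁻¹) = ψ a}
  one_mem' := ⟨one_mem X, fun a _ => by simp⟩
  mul_mem' := fun {g g'} hg hg' => ⟨mul_mem hg.1 hg'.1, fun a ha => by
    rw [show g * g' * a * (g * g')⁻¹ = g * (g' * a * g'⁻¹) * g⁻¹ by group,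
      hg.2 _ (h.conj_mem_center hg'.1 ha), hg'.2 a ha]⟩
  inv_mem' := fun {g} hg => ⟨inv_mem hg.1, fun a ha => by
    have h1 := h.conj_mem_center (inv_mem hg.1) ha
    rw [inv_inv] at h1 ⊢
    rw [← hg.2 _ h1]
    congr 1
    group⟩

theorem mem_charStabilizer {h : MinimalMoved Q X y q} {ψ : H → F} {g : H} :
    g ∈ charStabilizer h ψ ↔ g ∈ X ∧ ∀ a ∈ innerCenter Q, ψ (g * a * g⁻¹) = ψ a := Iff.rfl

theorem eigen_stable {ρ : H →* Module.End F V} (h : MinimalMoved Q X y q) {ψ : H → F} {g : H}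
    (hg : g ∈ charStabilizer h ψ) {v : V} (hv : v ∈ eigenOf ρ (innerCenter Q) ψ) :
    ρ g v ∈ eigenOf ρ (innerCenter Q) ψ := mem_eigenOf.2 fun a ha => by
  rw [mem_eigenOf.1 (IsComponent.conj_mem_eigen h ψ hg.1 hv) a ha]
  congr 1
  have h1 := h.conj_mem_center (inv_mem hg.1) ha
  rw [inv_inv] at h1
  rw [← hg.2 _ h1]
  group

/-- A power of `g` stabilises `ψ` and has vanishing norm on its eigenspace. -/
theorem exists_stabilizer_power {ρ : H →* Module.End F V} (h : MinimalMoved Q X y q) (hqF : (q : F) ≠ 0)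
    (ψ : H → F) {p : ℕ} [hp : Fact p.Prime] {g : H} (hg : g ∈ X) {n : ℕ} (hord : g ^ p ^ (n + 1) = 1)
    (hN : ∑ i ∈ Finset.range (p ^ (n + 1)), ρ g ^ i = 0)
    (hfix : g ^ p ^ n ∈ charStabilizer h ψ) :
    ∃ f ≤ n, ∃ b ∈ charStabilizer h ψ, b ^ p ^ f = g ^ p ^ n ∧ b ^ p ^ (f + 1) = 1 ∧
      ∀ v ∈ eigenOf ρ (innerCenter Q) ψ, ∑ i ∈ Finset.range (p ^ (f + 1)), ρ (b ^ i) v = 0 := by
  classical
  have hex : ∃ j, g ^ p ^ j ∈ charStabilizer h ψ := ⟨n, hfix⟩
  set j := Nat.find hex with hj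
  have hjn : j ≤ n := Nat.find_min' hex hfix
  have hsep : ∀ t < p ^ j, t ≠ 0 → g ^ t ∉ charStabilizer h ψ := by
    intro t ht ht0 hS
    obtain ⟨i, -, hi⟩ := (Nat.dvd_prime_pow hp.out).1 (Nat.gcd_dvd_right t (p ^ (n + 1)))
    have h1 : g ^ p ^ i ∈ charStabilizer h ψ := by
      have hx1 : g ^ ((p ^ (n + 1) : ℕ) : ℤ) = 1 := by rw [zpow_natCast, hord]
      rw [← zpow_natCast g (p ^ i), ← hi, Nat.gcd_eq_gcd_ab, zpow_add, zpow_mul, zpow_mul, hx1, one_zpow,
        mul_one, zpow_natCast]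
      exact Subgroup.zpow_mem _ hS _
    have hij : i < j := (Nat.pow_lt_pow_iff_right hp.out.one_lt).1
      (lt_of_le_of_lt (hi ▸ Nat.le_of_dvd (Nat.pos_of_ne_zero ht0) (Nat.gcd_dvd_left _ _)) ht)
    exact Nat.find_min hex hij h1
  have hbS : g ^ p ^ j ∈ charStabilizer h ψ := Nat.find_spec hex
  have hexp : p ^ j * p ^ (n - j + 1) = p ^ (n + 1) := by rw [← pow_add]; congr 1; omega
  refine ⟨n - j, Nat.sub_le _ _, g ^ p ^ j, hbS, by rw [← pow_mul, ← pow_add, Nat.add_sub_cancel' hjn],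
    by rw [← pow_mul, hexp, hord], fun v hv => ?_⟩
  set w := ∑ i ∈ Finset.range (p ^ (n - j + 1)), ρ ((g ^ p ^ j) ^ i) v with hw
  have hwW : w ∈ eigenOf ρ (innerCenter Q) ψ :=
    Submodule.sum_mem _ fun i _ => eigen_stable h (pow_mem hbS i) hv
  have hsum : ∑ t ∈ Finset.range (p ^ j), ρ (g ^ t) w = 0 := by
    have h1 := LinearMap.congr_fun ((geom_mul (ρ g) (p ^ j) (p ^ (n - j + 1))).trans (by rw [hexp, hN])) v
    rw [Module.End.mul_apply, LinearMap.sum_apply, LinearMap.zero_apply, LinearMap.sum_apply] at h1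
    simpa [hw, map_pow] using h1
  have hA := natCard_cast_ne_zero hqF h.center_isPGroup
  have h0 : ρ (g ^ 0) w = 0 := eigen_sum_eq_zero (A := innerCenter Q) hA (Finset.range (p ^ j))
    (fun t a => ψ ((g ^ t)⁻¹ * a * g ^ t)) (fun t => ρ (g ^ t) w)
    (fun t _ => IsComponent.conj_mem_eigen h ψ (pow_mem hg t) hwW)
    (Finset.mem_range.2 (pow_pos hp.out.pos _)) (fun t ht ht0 => ?_) hsum
  · simpa using h0
  · by_contra hcon
    push Not at hcon
    refine hsep t (Finset.mem_range.1 ht) ht0 ⟨pow_mem hg t, fun a ha => ?_⟩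
    have h2 := hcon _ (h.conj_mem_center (pow_mem hg t) ha)
    simp only [pow_zero, inv_one, one_mul, mul_one] at h2
    rw [show (g ^ t)⁻¹ * (g ^ t * a * (g ^ t)⁻¹) * g ^ t = a by group] at h2
    exact h2.symm

/-- The radical acts by scalars once `y` fixes its image. -/
theorem radical_scalar {ρ : H →* Module.End F V} (h : MinimalMoved Q X y q) {ψ : H → F}
    (hc : IsComponent ρ Q ψ) (hy : y ∈ charStabilizer h ψ)
    (hfixR : ∀ a ∈ radical h hc, ∀ v ∈ eigenOf ρ (innerCenter Q) ψ, ρ (y * a * y⁻¹) v = ρ a v) :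
    ∀ a ∈ radical h hc, ∃ s : F, ∀ v ∈ eigenOf ρ (innerCenter Q) ψ, ρ a v = s • v := by
  intro a ha
  set W := eigenOf ρ (innerCenter Q) ψ with hW
  set R := radical h hc with hR
  have hRy : ∀ a ∈ R, y * a * y⁻¹ ∈ R := fun a ha => radical_conj_mem h hc h.ymem hy.2 ha
  let RK : Subgroup H :=
    { carrier := {b | b ∈ R ∧ ∀ v ∈ W, ρ b v = v}
      one_mem' := ⟨one_mem R, fun v _ => by rw [map_one]; rfl⟩
      mul_mem' := fun {b b'} hb hb' => ⟨mul_mem hb.1 hb'.1, fun v hv => by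
        rw [ρ_mul_apply, hb'.2 v hv, hb.2 v hv]⟩
      inv_mem' := fun {b} hb => ⟨inv_mem hb.1, fun v hv => by
        conv_lhs => rw [← hb.2 v hv, ← ρ_mul_apply, inv_mul_cancel, map_one]
        rfl⟩ }
  have hRKy : ∀ b ∈ RK, y * b * y⁻¹ ∈ RK := fun b hb =>
    ⟨hRy b hb.1, fun v hv => by rw [hfixR b hb.1 v hv]; exact hb.2 v hv⟩
  have hfixa : a * (y * a⁻¹ * y⁻¹) ∈ RK := by
    refine ⟨mul_mem ha (hRy _ (inv_mem ha)), fun v hv => ?_⟩
    rw [ρ_mul_apply, hfixR _ (inv_mem ha) v hv, ← ρ_mul_apply, mul_inv_cancel, map_one]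
    rfl
  have hnormy : ∀ T : Subgroup H, (∀ a ∈ T, y * a * y⁻¹ ∈ T) → zpowers y ≤ normalizer (T : Set H) := by
    intro T hT
    exact zpowers_le.2 (mem_normalizer_of_conj_mem hT)
  have hcopT : (Nat.card (zpowers y)).Coprime (Nat.card R) := by
    obtain ⟨e, he⟩ := IsPGroup.iff_card.1 (h.isP.to_le (radical_le h hc))
    rw [he, Nat.card_zpowers]
    exact h.cop.pow_right e
  have hcomm : ∀ k : ℕ, ⁅a, y ^ k⁆ ∈ RK := by
    intro k
    induction k with
    | zero => simp [commutatorElement_def]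
    | succ k ih =>
      rw [show ⁅a, y ^ (k + 1)⁆ = (a * (y * a⁻¹ * y⁻¹)) * (y * ⁅a, y ^ k⁆ * y⁻¹) by
        rw [pow_succ']; simp only [commutatorElement_def]; group]
      exact mul_mem hfixa (hRKy _ ih)
  obtain ⟨r, hr, c', hc', e⟩ := Coprime.exists_mul_centralizer_of_commutator_mem (hnormy R hRy) hcopT
    (Or.inr (have := (h.isP.to_le (radical_le h hc)).isNilpotent; IsNilpotent.to_isSolvable))
    (show RK ≤ R from fun b hb => hb.1) (hnormy RK hRKy) ha (fun w hw => by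
      obtain ⟨k, rfl⟩ := mem_powers_iff_mem_zpowers.2 hw
      exact hcomm k)
  have hc'' : c' ∈ innerCenter Q := h.center_of_fixed (radical_le h hc hc'.1) (by
    rw [mem_centralizer_iff.1 hc'.2 y (mem_zpowers y), mul_inv_cancel_right])
  refine ⟨ψ c', fun v hv => ?_⟩
  rw [e, ρ_mul_apply, mem_eigenOf.1 hv c' hc'', map_smul, hr.2 v hv]

/-- The endomorphism count on a component for a stabilising element of vanishing norm. -/
theorem card_quotient_le [FiniteDimensional F V] {ρ : H →* Module.End F V} (h : MinimalMoved Q X y q)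
    {ψ : H → F} (hc : IsComponent ρ Q ψ) (hqF : (q : F) ≠ 0)
    (hscal : ∀ a ∈ radical h hc, ∃ s : F, ∀ v ∈ eigenOf ρ (innerCenter Q) ψ, ρ a v = s • v)
    {p : ℕ} [hp : Fact p.Prime] [CharP F p] {b : H} (hb : b ∈ charStabilizer h ψ) {f : ℕ}
    (hN : ∀ v ∈ eigenOf ρ (innerCenter Q) ψ, ∑ i ∈ Finset.range (p ^ (f + 1)), ρ (b ^ i) v = 0) :
    ∀ σ : Equiv.Perm (Q ⧸ (radical h hc).subgroupOf Q),
    (∀ a : Q, σ (QuotientGroup.mk a) = QuotientGroup.mk ⟨b * a * b⁻¹, h.inv b hb.1 _ a.2⟩) →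
    σ ^ p ^ (f + 1) = 1 →
    Nat.card (Q ⧸ (radical h hc).subgroupOf Q) ≤ (p ^ (f + 1) - 1) ^ 2 *
      Nat.card {i : Q ⧸ (radical h hc).subgroupOf Q // (σ ^ p ^ f) i = i} := by
  classical
  set W := eigenOf ρ (innerCenter Q) ψ with hWdef
  set R := radical h hc with hRdef
  set R' := R.subgroupOf Q with hR'
  set P := p ^ (f + 1) with hP
  have hPpos : 0 < P := pow_pos hp.out.pos _
  intro σ hσ hσP
  have hWne : W ≠ ⊥ := hc.occurs
  let S : Subgroup H :=
    { carrier := {g | ∀ v ∈ W, ρ g v ∈ W}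
      one_mem' := fun v hv => by rw [map_one]; exact hv
      mul_mem' := fun {g g'} hg hg' v hv => by rw [ρ_mul_apply]; exact hg _ (hg' v hv)
      inv_mem' := fun {g} hg v hv => by
        have hpow : ∀ n : ℕ, ρ (g ^ n) v ∈ W := by
          intro n
          induction n with
          | zero => rw [pow_zero, map_one]; exact hv
          | succ n ih => rw [pow_succ', ρ_mul_apply]; exact hg _ ih
        obtain ⟨n, hn⟩ : ∃ n : ℕ, g ^ n = g⁻¹ := mem_powers_iff_mem_zpowers.2 (inv_mem (mem_zpowers g))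
        rw [← hn]
        exact hpow n }
  have hQS : Q ≤ S := fun d hd v hv => mem_eigenOf.2 fun a ha => by
    rw [← ρ_mul_apply, (mem_innerCenter.1 ha).2 d hd, ρ_mul_apply, mem_eigenOf.1 hv a ha, map_smul]
  have hbS : b ∈ S := fun v hv => eigen_stable h hb hv
  let τ : S →* Module.End F W :=
    { toFun := fun g => (ρ g).restrict (p := W) (q := W) g.2
      map_one' := LinearMap.ext fun v => Subtype.ext (by simp)
      map_mul' := fun g g' => LinearMap.ext fun v => Subtype.ext (by simp) }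
  have hcommW : ∀ a ∈ Q, ∀ b ∈ Q, ∀ v ∈ W, ρ (a * b) v = ψ ⁅a, b⁆ • ρ (b * a) v := by
    intro a ha b hb v hv
    rw [show a * b = ⁅a, b⁆ * (b * a) by simp only [commutatorElement_def]; group, ρ_mul_apply]
    exact mem_eigenOf.1 (hQS (mul_mem hb ha) v hv) _ (h.commutator_mem_center ha hb)
  have := Fintype.ofFinite Q
  have := Fintype.ofFinite (Q ⧸ R')
  let τQ : Q →* Module.End F W := τ.comp (Subgroup.inclusion hQS)
  let zS : S := ⟨b, hbS⟩
  let zQ : MulAut Q :=
    { toFun := fun a => ⟨b * a * b⁻¹, h.inv b hb.1 _ a.2⟩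
      invFun := fun a => ⟨b⁻¹ * a * b, by simpa using h.inv b⁻¹ (inv_mem hb.1) _ a.2⟩
      left_inv := fun a => Subtype.ext (by simp [mul_assoc])
      right_inv := fun a => Subtype.ext (by simp [mul_assoc])
      map_mul' := fun a b => Subtype.ext (by simp [mul_assoc]) }
  set B : Submodule F (Module.End F W) := ⨅ c : Q, endCentralizer (τQ c) with hBdef
  have hB : ∀ φ, φ ∈ B ↔ ∀ c : Q, τQ c * φ = φ * τQ c := fun φ => by
    simp [hBdef, Submodule.mem_iInf, mem_endCentralizer]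
  have hcomm : ∀ a b : Q, τQ a * τQ b = ψ ⁅(a : H), (b : H)⁆ • (τQ b * τQ a) := fun a b =>
    LinearMap.ext fun v => Subtype.ext (by
      rw [← map_mul, ← map_mul, LinearMap.smul_apply, Submodule.coe_smul]
      exact hcommW _ a.2 _ b.2 _ v.2)
  have hvanish : ∀ e : Q, (e : H) ∉ R → ∑ a : Q, ψ ⁅(a : H), (e : H)⁆ = 0 := by
    intro e he
    obtain ⟨d, hd, hne⟩ : ∃ d ∈ Q, ψ ⁅(d : H), (e : H)⁆ ≠ 1 := by
      by_contra hcon
      push Not at hcon
      refine he ⟨e.2, fun d hd => ?_⟩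
      rw [← commutatorElement_inv d, eigen_inv hc.occurs (h.commutator_mem_center hd e.2), hcon d hd, inv_one]
    have hS : ψ ⁅(d : H), (e : H)⁆ * ∑ a : Q, ψ ⁅(a : H), (e : H)⁆ = ∑ a : Q, ψ ⁅(a : H), (e : H)⁆ := by
      rw [Finset.mul_sum]
      refine Fintype.sum_equiv (Equiv.mulLeft (⟨d, hd⟩ : Q)) _ _ fun a => ?_
      simp only [Equiv.coe_mulLeft, Subgroup.coe_mul]
      rw [h.commutator_mul_left hd a.2 e.2,
        eigen_mul hc.occurs (h.commutator_mem_center hd e.2) (h.commutator_mem_center a.2 e.2)]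
    by_contra h0
    exact hne (mul_right_cancel₀ h0 (by rw [hS, one_mul]))
  have hQne : (Nat.card Q : F) ≠ 0 := natCard_cast_ne_zero hqF h.isP
  have hsumR : ∀ e : Q, (e : H) ∈ R → ∑ a : Q, ψ ⁅(a : H), (e : H)⁆ = (Nat.card Q : F) := by
    intro e he
    rw [Finset.sum_congr rfl fun (a : Q) _ => show ψ ⁅(a : H), (e : H)⁆ = 1 by
      rw [← commutatorElement_inv (e : H), eigen_inv hc.occurs (h.commutator_mem_center e.2 a.2), he.2 a a.2,
        inv_one]]
    rw [Finset.sum_const, Finset.card_univ, nsmul_eq_mul, mul_one, Nat.card_eq_fintype_card]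
  let β : Q → (Module.End F W →ₗ[F] Module.End F W) := fun c =>
    ∑ a : Q, LinearMap.mulLeft F (τQ a * τQ c⁻¹) ∘ₗ LinearMap.mulRight F (τQ a⁻¹)
  have hβ : ∀ c φ, β c φ = ∑ a : Q, τQ a * τQ c⁻¹ * φ * τQ a⁻¹ := fun c φ => by
    simp [β, LinearMap.sum_apply, mul_assoc]
  have hβB : ∀ c φ, β c φ ∈ B := by
    intro c φ
    refine (hB _).2 fun d => ?_
    rw [hβ, Finset.mul_sum, Finset.sum_mul]
    refine Fintype.sum_equiv (Equiv.mulLeft d) _ _ fun a => ?_
    simp only [Equiv.coe_mulLeft, mul_inv_rev, map_mul]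
    simp only [mul_assoc]
    rw [← map_mul τQ d⁻¹ d, inv_mul_cancel, map_one, mul_one]
  have hkey : ∀ φ, ∑ c : Q, τQ c * β c φ = ((Nat.card R' * Nat.card Q : ℕ) : F) • φ := by
    intro φ
    calc ∑ c : Q, τQ c * β c φ = ∑ a : Q, ∑ c : Q, ψ ⁅(c : H), (a : H)⁆ • (τQ a * φ * τQ a⁻¹) := by
          simp only [hβ, Finset.mul_sum]
          rw [Finset.sum_comm]
          refine Finset.sum_congr rfl fun a _ => Finset.sum_congr rfl fun c _ => ?_
          simp only [← mul_assoc]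
          rw [hcomm c a, smul_mul_assoc, smul_mul_assoc, smul_mul_assoc]
          simp only [mul_assoc]
          rw [← mul_assoc (τQ c), ← map_mul τQ c c⁻¹, mul_inv_cancel, map_one, one_mul]
      _ = ∑ a : Q, if (a : H) ∈ R then (Nat.card Q : F) • φ else 0 := by
          refine Finset.sum_congr rfl fun a _ => ?_
          rw [← Finset.sum_smul]
          split_ifs with ha
          · rw [hsumR a ha]
            congr 1
            obtain ⟨s, hs⟩ := hscal _ ha
            have hτ : τQ a = s • (1 : Module.End F W) := LinearMap.ext fun v => Subtype.ext (by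
              rw [LinearMap.smul_apply, Submodule.coe_smul]
              exact hs _ v.2)
            rw [hτ, smul_mul_assoc, one_mul, smul_mul_assoc, ← mul_smul_comm,
              ← one_mul (τQ a⁻¹), ← smul_mul_assoc, ← hτ, ← map_mul, mul_inv_cancel, map_one, mul_one]
          · rw [hvanish a ha, zero_smul]
      _ = ((Nat.card R' * Nat.card Q : ℕ) : F) • φ := by
          rw [← Finset.sum_filter, Finset.sum_const, ← Nat.cast_smul_eq_nsmul F, smul_smul, Nat.cast_mul]
          congr 3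
          rw [← Fintype.card_subtype, ← Nat.card_eq_fintype_card]
          exact Nat.card_congr (Equiv.refl _)
  have hz' : ∀ φ, φ ∈ endCentralizer (τ zS) → ∀ c : Q, β (zQ c) φ = τ zS * β c φ * τ zS⁻¹ := by
    intro φ hφ c
    rw [mem_endCentralizer] at hφ
    rw [hβ, hβ, Finset.mul_sum, Finset.sum_mul]
    refine (Fintype.sum_equiv zQ.toEquiv _ _ fun a => ?_).symm
    have hτz : ∀ b : Q, τQ (zQ b) = τ zS * τQ b * τ zS⁻¹ := fun b => by
      rw [show τQ b = τ (Subgroup.inclusion hQS b) from rfl, ← map_mul, ← map_mul]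
      exact congrArg τ (Subtype.ext rfl)
    have hinv : τ zS⁻¹ * τ zS = 1 := by rw [← map_mul, inv_mul_cancel, map_one]
    show _ = τQ (zQ a) * τQ (zQ c)⁻¹ * φ * τQ (zQ a)⁻¹
    rw [← map_inv zQ, ← map_inv zQ, hτz, hτz, hτz]
    have hφ' : τ zS⁻¹ * φ * τ zS = φ := by rw [mul_assoc, ← hφ, ← mul_assoc, hinv, one_mul]
    symm
    calc τ zS * τQ a * τ zS⁻¹ * (τ zS * τQ c⁻¹ * τ zS⁻¹) * φ * (τ zS * τQ a⁻¹ * τ zS⁻¹)
        = τ zS * τQ a * (τ zS⁻¹ * τ zS) * τQ c⁻¹ * (τ zS⁻¹ * φ * τ zS) * τQ a⁻¹ * τ zS⁻¹ := by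
          simp only [mul_assoc]
      _ = _ := by rw [hinv, hφ', mul_one]; simp only [mul_assoc]
  have hcoset : ∀ (φ : Module.End F W) (c d : Q),
      (QuotientGroup.mk c : Q ⧸ R') = QuotientGroup.mk d → β c φ = 0 → β d φ = 0 := by
    intro φ c d hcd hc0
    obtain ⟨s, hs⟩ := hscal _ (inv_mem (mem_subgroupOf.1 (QuotientGroup.eq.1 hcd)))
    have hτ : τQ (c⁻¹ * d)⁻¹ = s • (1 : Module.End F W) := LinearMap.ext fun v => Subtype.ext (by
      rw [LinearMap.smul_apply, Submodule.coe_smul]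
      exact hs _ v.2)
    have hd : τQ d⁻¹ = s • τQ c⁻¹ := by
      rw [show d⁻¹ = (c⁻¹ * d)⁻¹ * c⁻¹ by group, map_mul, hτ, smul_mul_assoc, one_mul]
    have e : β d φ = s • β c φ := by
      simp only [hβ, hd, Finset.smul_sum, mul_smul_comm, smul_mul_assoc]
    rw [e, hc0, smul_zero]
  let rep : Q ⧸ R' → Q := Quotient.out
  have hrep : ∀ i, (QuotientGroup.mk (rep i) : Q ⧸ R') = i := fun i => QuotientGroup.out_eq' i
  -- orbit representatives
  let s : Setoid (Q ⧸ R') := MulAction.orbitRel (zpowers σ) (Q ⧸ R')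
  let o : Quotient s → Q ⧸ R' := Quotient.out
  have hreach : ∀ i, ∃ t : ℕ, (σ ^ t) (o (Quotient.mk s i)) = i := by
    intro i
    have h1 : i ∈ MulAction.orbit (zpowers σ) (o (Quotient.mk s i)) :=
      Quotient.exact (Quotient.out_eq (Quotient.mk s i)).symm
    obtain ⟨⟨g, hg⟩, e⟩ := h1
    obtain ⟨t, rfl⟩ := mem_powers_iff_mem_zpowers.2 hg
    exact ⟨t, e⟩
  have := Fintype.ofFinite (Quotient s)
  let Ψ1 : endCentralizer (τ zS) →ₗ[F] (Quotient s → B) :=
    LinearMap.pi fun w => LinearMap.codRestrict B ((β (rep (o w))) ∘ₗ (endCentralizer (τ zS)).subtype)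
      fun φ => hβB _ _
  have hΨ1 : Function.Injective Ψ1 := by
    refine injective_of_forall_eq_zero Ψ1 ?_
    intro φ hφ
    have hall : ∀ c : Q, β c φ.1 = 0 := by
      intro c
      obtain ⟨t, htw⟩ := hreach (QuotientGroup.mk c)
      set w := o (Quotient.mk s (QuotientGroup.mk c)) with hw
      have h0 : β (rep w) φ.1 = 0 := congrArg Subtype.val (congrFun hφ _)
      have hiter : ∀ k : ℕ, β ((zQ ^ k : MulAut Q) (rep w)) φ.1 = 0 ∧
          (σ ^ k) w = QuotientGroup.mk ((zQ ^ k : MulAut Q) (rep w)) := by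
        intro k
        induction k with
        | zero => exact ⟨h0, (hrep w).symm⟩
        | succ k ih =>
          rw [pow_succ', MulAut.mul_apply, hz' _ φ.2, ih.1, mul_zero, zero_mul, pow_succ',
            Equiv.Perm.mul_apply, ih.2, hσ]
          exact ⟨rfl, rfl⟩
      exact hcoset _ _ _ ((hiter t).2.symm.trans htw) (hiter t).1
    have h1 := hkey φ.1
    simp only [hall, mul_zero, Finset.sum_const_zero] at h1
    refine Subtype.ext ((smul_eq_zero.1 h1.symm).resolve_left ?_)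
    rw [Nat.cast_mul]
    exact mul_ne_zero (natCard_cast_ne_zero hqF (h.isP.to_subgroup R')) hQne
  let Ψ2 : (Q ⧸ R' → B) →ₗ[F] Module.End F W :=
    ∑ i : Q ⧸ R', LinearMap.mulLeft F (τQ (rep i)) ∘ₗ B.subtype ∘ₗ LinearMap.proj i
  have hΨ2 : Function.Injective Ψ2 := by
    refine injective_of_forall_eq_zero Ψ2 ?_
    intro g hg
    funext i0
    have hg' : ∑ i : Q ⧸ R', τQ (rep i) * (g i : Module.End F W) = 0 := by
      simpa [Ψ2, LinearMap.sum_apply] using hg
    have h1 : β (rep i0) (∑ i : Q ⧸ R', τQ (rep i) * (g i : Module.End F W)) = 0 := by rw [hg', map_zero]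
    have hterm : ∀ i, β (rep i0) (τQ (rep i) * (g i : Module.End F W)) =
        (∑ a : Q, ψ ⁅(a : H), (((rep i0)⁻¹ * rep i : Q) : H)⁆) •
          (τQ ((rep i0)⁻¹ * rep i) * (g i : Module.End F W)) := by
      intro i
      rw [hβ, Finset.sum_smul]
      refine Finset.sum_congr rfl fun a _ => ?_
      rw [mul_assoc _ (τQ (rep i0)⁻¹), ← mul_assoc (τQ (rep i0)⁻¹), ← map_mul, ← mul_assoc (τQ a),
        hcomm a, smul_mul_assoc, smul_mul_assoc, mul_assoc _ (τQ a), (hB _).1 (g i).2 a,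
        mul_assoc, mul_assoc, ← map_mul, mul_inv_cancel, map_one, mul_one]
    rw [map_sum, Finset.sum_congr rfl fun i _ => hterm i, Finset.sum_eq_single i0 (fun i _ hii => ?_)
      (fun hn => absurd (Finset.mem_univ _) hn)] at h1
    · rw [inv_mul_cancel, map_one, one_mul, hsumR 1 (by rw [OneMemClass.coe_one]; exact one_mem R)] at h1
      exact Subtype.ext ((smul_eq_zero.1 h1).resolve_left hQne)
    · rw [hvanish _ fun hmem => hii ?_, zero_smul]
      exact ((hrep i0).symm.trans ((QuotientGroup.eq.2 (mem_subgroupOf.2 hmem)).trans (hrep i))).symm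
  have hWnt : Nontrivial W := Submodule.nontrivial_iff_ne_bot.2 hWne
  have : Module.Free F B := Module.Free.of_divisionRing F B
  have : Nontrivial B := ⟨⟨(⟨1, (hB _).2 fun c => by simp⟩ : B), 0,
    fun e => one_ne_zero (congrArg Subtype.val e)⟩⟩
  have hBpos : 0 < finrank F B := by
    by_contra h0
    have : Module.Finite F B := inferInstance
    exact absurd (Module.finrank_zero_iff.1 (Nat.eq_zero_of_not_pos h0)) (not_subsingleton B)
  have h2 := LinearMap.finrank_le_finrank_of_injective hΨ2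
  have h1 := LinearMap.finrank_le_finrank_of_injective hΨ1
  rw [finrank_pi_fintype, Finset.sum_const, Finset.card_univ, smul_eq_mul, finrank_linearMap] at h2
  rw [finrank_pi_fintype, Finset.sum_const, Finset.card_univ, smul_eq_mul] at h1
  have hpow0 : (τ zS - 1) ^ (P - 1) = 0 := by
    rw [hP, geom_eq_sub_pow F (p := p)]
    refine LinearMap.ext fun v => Subtype.ext ?_
    rw [LinearMap.sum_apply, Submodule.coe_sum, LinearMap.zero_apply, Submodule.coe_zero]
    refine (Finset.sum_congr rfl fun i _ => ?_).trans (hN v v.2)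
    rw [← map_pow]
    rfl
  have h3 := sq_le_mul_finrank_endCentralizer_of_prod (List.replicate (P - 1) (1 : F)) W (τ zS)
    (by rw [List.map_replicate, List.prod_replicate, one_smul, hpow0])
  rw [List.length_replicate] at h3
  have h4 : Fintype.card (Q ⧸ R') ≤ (P - 1) * Fintype.card (Quotient s) := by
    refine Nat.le_of_mul_le_mul_right ?_ hBpos
    calc Fintype.card (Q ⧸ R') * finrank F B ≤ finrank F W * finrank F W := h2
      _ = finrank F W ^ 2 := (sq _).symm
      _ ≤ (P - 1) * finrank F (endCentralizer (τ zS)) := h3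
      _ ≤ (P - 1) * (Fintype.card (Quotient s) * finrank F B) := Nat.mul_le_mul_left _ h1
      _ = (P - 1) * Fintype.card (Quotient s) * finrank F B := (mul_assoc _ _ _).symm
  -- counting orbits
  set a := σ ^ p ^ f with ha
  have hcount : Nat.card (Quotient s) * P ≤ Nat.card (Q ⧸ R') + Nat.card {i // a i = i} * (P - 1) := by
    have hfree : ∀ i, a i ≠ i → ∀ t < P, t ≠ 0 → (σ ^ t) i ≠ i := by
      intro i hi t ht ht0 e
      obtain ⟨k, -, hk⟩ := (Nat.dvd_prime_pow hp.out).1 (Nat.gcd_dvd_right t P)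
      have hkf : k ≤ f := Nat.lt_succ_iff.1 ((Nat.pow_lt_pow_iff_right hp.out.one_lt).1
        (lt_of_le_of_lt (hk ▸ Nat.le_of_dvd (Nat.pos_of_ne_zero ht0) (Nat.gcd_dvd_left _ _)) ht))
      have hle : zpowers (σ ^ t) ≤ MulAction.stabilizer (Equiv.Perm (Q ⧸ R')) i := zpowers_le.2 e
      have h1 : (σ ^ p ^ k) ∈ zpowers (σ ^ t) := by
        refine mem_zpowers_iff.2 ⟨Nat.gcdA t P, ?_⟩
        have hx1 : σ ^ ((P : ℕ) : ℤ) = 1 := by rw [zpow_natCast, hσP]
        rw [← zpow_natCast σ (p ^ k), ← hk, Nat.gcd_eq_gcd_ab, zpow_add, zpow_mul, zpow_mul, hx1, one_zpow,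
          mul_one, zpow_natCast]
      have h2 : a ∈ zpowers (σ ^ t) := by
        rw [ha, show p ^ f = p ^ k * p ^ (f - k) by rw [← pow_add, Nat.add_sub_cancel' hkf], pow_mul]
        exact pow_mem h1 _
      exact hi (hle h2)
    have hinv : ∀ i, ∀ t : ℕ, a i ≠ i → a ((σ ^ t) i) ≠ (σ ^ t) i := fun i t hi e => hi ((σ ^ t).injective (by
      rwa [← Equiv.Perm.mul_apply, ha, ← pow_add, add_comm, pow_add, Equiv.Perm.mul_apply]))
    let g : Quotient s × Fin P → (Q ⧸ R') ⊕ ({i // a i = i} × Fin (P - 1)) := fun z =>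
      if hz : a (o z.1) = o z.1 then
        (if ht : (z.2 : ℕ) = 0 then Sum.inl (o z.1) else Sum.inr (⟨o z.1, hz⟩, ⟨z.2 - 1, by
          have := z.2.2; omega⟩))
      else Sum.inl ((σ ^ (z.2 : ℕ)) (o z.1))
    have hout : ∀ w w' : Quotient s, ∀ t t' : ℕ, (σ ^ t) (o w) = (σ ^ t') (o w') → w = w' := by
      intro w w' t t' e
      have hmk : ∀ (x : Q ⧸ R') (t : ℕ), Quotient.mk s ((σ ^ t) x) = Quotient.mk s x := fun x t =>
        Quotient.sound ⟨⟨σ ^ t, pow_mem (mem_zpowers σ) t⟩, rfl⟩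
      calc w = Quotient.mk s (o w) := (Quotient.out_eq w).symm
        _ = Quotient.mk s ((σ ^ t) (o w)) := (hmk _ _).symm
        _ = Quotient.mk s (o w') := by rw [e, hmk]
        _ = w' := Quotient.out_eq w'
    have hg : Function.Injective g := by
      rintro ⟨w, t⟩ ⟨w', t'⟩ e
      simp only [g] at e
      have ht := t.2
      have ht' := t'.2
      split_ifs at e with h1 h2 h3 h4 h5 h6
      · have := hout w w' 0 0 (by simpa using Sum.inl_injective e)
        subst this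
        exact Prod.ext rfl (Fin.ext (by simp only at *; omega))
      · exfalso
        have hi := Sum.inl_injective e
        exact hinv (o w') t' (by assumption) (hi ▸ h1)
      · have e' := Sum.inr_injective e
        have := hout w w' 0 0 (by simpa using congrArg (fun z => (z.1 : Q ⧸ R')) e')
        subst this
        have h7 := congrArg (fun z => (z.2 : ℕ)) e'
        simp only at *
        exact Prod.ext rfl (Fin.ext (show (t : ℕ) = t' by omega))
      · exfalso
        have hi := Sum.inl_injective e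
        exact hinv (o w) t h1 (by rw [hi]; assumption)
      · have hi := Sum.inl_injective e
        have := hout w w' t t' hi
        subst this
        refine Prod.ext rfl (Fin.ext ?_)
        rcases Nat.lt_trichotomy (t : ℕ) t' with hlt | heq | hlt
        · exfalso
          refine hfree _ h1 ((t' : ℕ) - t) (by omega) (by omega) ((σ ^ (t : ℕ)).injective ?_)
          rw [← Equiv.Perm.mul_apply, ← pow_add, Nat.add_sub_cancel' hlt.le, hi]
        · exact heq
        · exfalso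
          refine hfree _ h1 ((t : ℕ) - t') (by omega) (by omega) ((σ ^ (t' : ℕ)).injective ?_)
          rw [← Equiv.Perm.mul_apply, ← pow_add, Nat.add_sub_cancel' hlt.le, hi]
    have := Nat.card_le_card_of_injective g hg
    rwa [Nat.card_prod, Nat.card_fin, Nat.card_sum, Nat.card_prod, Nat.card_fin] at this
  rw [← Nat.card_eq_fintype_card, ← Nat.card_eq_fintype_card] at h4
  have h5 : Nat.card (Q ⧸ R') * P ≤ (P - 1) * (Nat.card (Q ⧸ R') + Nat.card {i // a i = i} * (P - 1)) :=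
    calc Nat.card (Q ⧸ R') * P ≤ (P - 1) * Nat.card (Quotient s) * P := Nat.mul_le_mul_right P h4
      _ = (P - 1) * (Nat.card (Quotient s) * P) := mul_assoc _ _ _
      _ ≤ _ := Nat.mul_le_mul_left _ hcount
  obtain ⟨r, hr⟩ : ∃ r, P = r + 1 := ⟨P - 1, by omega⟩
  rw [hr, Nat.add_sub_cancel] at h5 ⊢
  nlinarith

/-- The top powers in a `p`-group all of whose elements have vanishing norm commute. -/
theorem commute_top_powers [IsAlgClosed F] [FiniteDimensional F V] {p : ℕ} [hp : Fact p.Prime] (hp2 : p ≠ 2)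
    [CharP F p] (hH : Cfsg.IsPSolvable p H) (hO : Cfsg.pCore p H = ⊥) {ρ : H →* Module.End F V}
    (hρ : Function.Injective ρ) {X : Subgroup H} (hX : IsPGroup p X) (n : ℕ)
    (hexp : ∀ g ∈ X, g ^ p ^ (n + 1) = 1)
    (hN : ∀ g ∈ X, ∑ i ∈ Finset.range (p ^ (n + 1)), ρ g ^ i = 0) :
    ∀ a ∈ X, ∀ b ∈ X, Commute (a ^ p ^ n) (b ^ p ^ n) := by
  classical
  by_contra hcon
  push Not at hcon
  obtain ⟨a1, ha1, a2, ha2, hne12⟩ := hcon
  set A := closure {c : H | ∃ g ∈ X, c = g ^ p ^ n} with hA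
  have hgen : ∀ g ∈ X, g ^ p ^ n ∈ A := fun g hg => subset_closure ⟨g, hg, rfl⟩
  have hAX : A ≤ X := (closure_le X).2 (by rintro c ⟨g, hg, rfl⟩; exact pow_mem hg _)
  have hAn : ∀ x ∈ X, ∀ c ∈ A, x * c * x⁻¹ ∈ A := by
    intro x hx c hc
    have h1 : A.map (MulAut.conj x).toMonoidHom ≤ A := by
      rw [hA, MonoidHom.map_closure, closure_le]
      rintro _ ⟨c, ⟨g, hg, rfl⟩, rfl⟩
      refine subset_closure ⟨x * g * x⁻¹, mul_mem (mul_mem hx hg) (inv_mem hx), ?_⟩
      rw [conj_pow]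
      rfl
    exact h1 ⟨c, hc, rfl⟩
  set D := ⁅A, A⁆ with hD
  have hDA : D ≤ A := commutator_le.2 fun u hu w hw =>
    mul_mem (mul_mem (mul_mem hu hw) (inv_mem hu)) (inv_mem hw)
  haveI : (D.subgroupOf X).Normal := ⟨fun c hc x => by
    rw [mem_subgroupOf] at hc ⊢
    exact conj_mem_commutator (hAn x x.2) (hAn x x.2) hc⟩
  have hDne : D.subgroupOf X ≠ ⊥ := fun e => hne12 (commutatorElement_eq_one_iff_mul_comm.1 (by
    have h1 : ⁅a1 ^ p ^ n, a2 ^ p ^ n⁆ ∈ D := commutator_mem_commutator (hgen _ ha1) (hgen _ ha2)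
    have h2 : (⟨_, hAX (hDA h1)⟩ : X) ∈ D.subgroupOf X := mem_subgroupOf.2 h1
    rw [e, mem_bot] at h2
    exact congrArg Subtype.val h2))
  obtain ⟨⟨z, hzX⟩, hzD, hzc, hzord⟩ := PGroup.exists_mem_center_orderOf_eq hX hDne
  rw [mem_subgroupOf] at hzD
  rw [Subgroup.orderOf_mk] at hzord
  have hcen : ∀ g ∈ X, g * z = z * g := fun g hg => congrArg Subtype.val (mem_center_iff.1 hzc ⟨g, hg⟩)
  obtain ⟨q, hq, hqp, Q0, hQ0, -, hQX, hne0⟩ := exists_moved_qGroup hH hO hX hzX (fun e => by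
    rw [e, orderOf_one] at hzord; exact hp.out.one_lt.ne hzord)
  have : Fact q.Prime := ⟨hq⟩
  obtain ⟨Q, -, h⟩ := exists_minimalMoved hQ0 hQX hne0 hzX hcen
    (by rw [hzord]; exact (Nat.coprime_primes hp.out hq).2 (Ne.symm hqp))
  have hqF : (q : F) ≠ 0 := by
    rw [Ne, CharP.cast_eq_zero_iff F p]
    exact fun hd => hqp ((Nat.prime_dvd_prime_iff_eq hp.out hq).1 hd).symm
  have hpowfix : ∀ g ∈ X, ∀ (B : Subgroup H), IsPGroup q B → (∀ a ∈ B, ∀ b ∈ B, a * b = b * a) →
      (∀ a ∈ B, g * a * g⁻¹ ∈ B) → ∀ a ∈ B, g ^ p ^ n * a * (g ^ p ^ n)⁻¹ = a :=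
    fun g hg B hB hab hgB => pow_commute_of_norm_zero hρ hqF hqp (hexp g hg) (hN g hg) hB hab hgB
  have hna : ∃ a ∈ Q, ∃ b ∈ Q, a * b ≠ b * a := by
    by_contra hcomm
    push Not at hcomm
    obtain ⟨c, hc, hcne⟩ := h.moved
    have h1 : A ≤ centralizer (Q : Set H) := (closure_le _).2 (by
      rintro d ⟨g, hg, rfl⟩
      exact mem_centralizer_iff.2 fun u hu =>
        (mul_inv_eq_iff_eq_mul.1 (hpowfix g hg Q h.isP hcomm (h.inv g hg) u hu)).symm)
    exact hcne (by rw [← mem_centralizer_iff.1 (h1 (hDA hzD)) c hc, mul_inv_cancel_right])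
  have hcab : ∀ a ∈ innerCenter Q, ∀ b ∈ innerCenter Q, a * b = b * a := fun a ha b hb =>
    (mem_innerCenter.1 ha).2 b (mem_innerCenter.1 hb).1
  obtain ⟨ψ, hc⟩ := exists_isComponent ρ hρ h hna hqF
  set S := charStabilizer h ψ with hS
  have hpowS : ∀ g ∈ X, g ^ p ^ n ∈ S := fun g hg => ⟨pow_mem hg _, fun a ha => by
    rw [hpowfix g hg _ h.center_isPGroup hcab (fun b hb => h.conj_mem_center hg hb) a ha]⟩
  have hAS : A ≤ S := (closure_le _).2 (by rintro c ⟨g, hg, rfl⟩; exact hpowS g hg)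
  have hzS : z ∈ S := hAS (hDA hzD)
  set W := eigenOf ρ (innerCenter Q) ψ with hWdef
  set R := radical h hc with hRdef
  have hcommW : ∀ a ∈ R, ∀ b ∈ R, ∀ v ∈ W, ρ (a * b) v = ρ (b * a) v := by
    intro a ha b hb v hv
    rw [show a * b = ⁅a, b⁆ * (b * a) by simp only [commutatorElement_def]; group, ρ_mul_apply]
    have hQW : ∀ d ∈ Q, ρ d v ∈ W := fun d hd => mem_eigenOf.2 fun c hc' => by
      rw [← ρ_mul_apply, (mem_innerCenter.1 hc').2 d hd, ρ_mul_apply, mem_eigenOf.1 hv c hc', map_smul]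
    rw [mem_eigenOf.1 (hQW _ (mul_mem hb.1 ha.1)) _ (h.commutator_mem_center ha.1 hb.1), ha.2 b hb.1, one_smul]
  -- powers fix the image of the radical
  have hfixgen : ∀ g ∈ X, ∀ c ∈ R, ∀ v ∈ W, ρ (g ^ p ^ n * c * (g ^ p ^ n)⁻¹) v = ρ c v := by
    intro g hg
    obtain ⟨f, -, b, hbS, hby, hbP, hbN⟩ :=
      exists_stabilizer_power h hqF ψ hg (hexp g hg) (hN g hg) (hpowS g hg)
    by_contra hcon
    push Not at hcon
    obtain ⟨c, hcR, v, hv, hne⟩ := hcon
    let SW : Subgroup H :=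
      { carrier := {g | ∀ v ∈ W, ρ g v ∈ W}
        one_mem' := fun v hv => by rw [map_one]; exact hv
        mul_mem' := fun {g g'} hg hg' v hv => by rw [ρ_mul_apply]; exact hg _ (hg' v hv)
        inv_mem' := fun {g} hg v hv => by
          have hpow : ∀ i : ℕ, ρ (g ^ i) v ∈ W := by
            intro i
            induction i with
            | zero => rw [pow_zero, map_one]; exact hv
            | succ i ih => rw [pow_succ', ρ_mul_apply]; exact hg _ ih
          obtain ⟨i, hi⟩ : ∃ i : ℕ, g ^ i = g⁻¹ := mem_powers_iff_mem_zpowers.2 (inv_mem (mem_zpowers g))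
          rw [← hi]
          exact hpow i }
    have hbSW : b ∈ SW := fun v hv => eigen_stable h hbS hv
    have hRS : R ≤ SW := fun d hd v hv => mem_eigenOf.2 fun a ha => by
      rw [← ρ_mul_apply, (mem_innerCenter.1 ha).2 d hd.1, ρ_mul_apply, mem_eigenOf.1 hv a ha, map_smul]
    let τ : SW →* Module.End F W :=
      { toFun := fun g => (ρ g).restrict (p := W) (q := W) g.2
        map_one' := LinearMap.ext fun v => Subtype.ext (by simp)
        map_mul' := fun g g' => LinearMap.ext fun v => Subtype.ext (by simp) }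
    let τ' := autOfRep τ
    let π := QuotientGroup.mk' τ'.ker
    let ρ' : SW ⧸ τ'.ker →* MulAut (Multiplicative W) := QuotientGroup.kerLift τ'
    have hρ' : ∀ g, ρ' (π g) = τ' g := fun g => rfl
    have hinj : Function.Injective ρ' := QuotientGroup.kerLift_injective τ'
    let Q' := (R.subgroupOf SW).map π
    have hQ'p : IsPGroup q Q' :=
      ((h.isP.to_le (radical_le h hc)).of_equiv (subgroupOfEquivOfLe hRS).symm).map π
    have hV : ∀ (u : Multiplicative W) (d : ℕ), d ∣ Nat.card Q' → u ^ d = 1 → u = 1 := by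
      intro u d hd hud
      obtain ⟨e, he⟩ := IsPGroup.iff_card.1 hQ'p
      obtain ⟨e', -, rfl⟩ := (Nat.dvd_prime_pow hq).1 (he ▸ hd)
      have h1 := congrArg Multiplicative.toAdd hud
      rw [toAdd_pow, toAdd_one, ← Nat.cast_smul_eq_nsmul F, Nat.cast_pow] at h1
      exact Multiplicative.toAdd.injective ((smul_eq_zero.1 h1).resolve_left (pow_ne_zero _ hqF))
    have hab : ∀ b ∈ Q', ∀ b' ∈ Q', b * b' = b' * b := by
      rintro _ ⟨b, hb, rfl⟩ _ ⟨b', hb', rfl⟩
      refine hinj ?_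
      rw [← map_mul, ← map_mul, hρ', hρ']
      refine MulEquiv.ext fun u => congrArg Multiplicative.ofAdd (Subtype.ext ?_)
      exact hcommW _ (mem_subgroupOf.1 hb) _ (mem_subgroupOf.1 hb') _ u.toAdd.2
    have hcop : (Nat.card Q').Coprime p := by
      obtain ⟨e, he⟩ := IsPGroup.iff_card.1 hQ'p
      rw [he]
      exact ((Nat.coprime_primes hq hp.out).2 hqp).pow_left e
    set x' := π ⟨b, hbSW⟩ with hx'
    have hycS : g ^ p ^ n ∈ SW := hby ▸ pow_mem hbSW _
    have hx'y : x' ^ p ^ f = π ⟨g ^ p ^ n, hycS⟩ := by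
      rw [hx', ← map_pow]; exact congrArg π (Subtype.ext hby)
    have hmoved : x' ^ p ^ f * π ⟨c, hRS hcR⟩ * (x' ^ p ^ f)⁻¹ ≠ π ⟨c, hRS hcR⟩ := by
      rw [hx'y, ← map_inv, ← map_mul, ← map_mul]
      intro e
      have e1 := congrArg (fun g => ρ' g (Multiplicative.ofAdd (⟨v, hv⟩ : W))) e
      exact hne (congrArg (fun u : Multiplicative W => ((u.toAdd : W) : V)) e1)
    have hord : orderOf x' = p ^ (f + 1) := by
      refine orderOf_eq_prime_pow (fun e => hmoved (by rw [e]; simp)) ?_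
      rw [hx', ← map_pow, show (⟨b, hbSW⟩ : SW) ^ p ^ (f + 1) = 1 from Subtype.ext hbP, map_one]
    obtain ⟨u, hu⟩ := exists_norm_ne_one' ρ' hinj Q' hV hab hcop x'
      (by
        rintro _ ⟨d, hd, rfl⟩
        refine ⟨⟨b, hbSW⟩ * d * ⟨b, hbSW⟩⁻¹, ?_, by simp [hx']⟩
        rw [SetLike.mem_coe, mem_subgroupOf]
        exact radical_conj_mem h hc hbS.1 hbS.2 (mem_subgroupOf.1 hd)) f hord
      ⟨π ⟨c, hRS hcR⟩, mem_map_of_mem _ (mem_subgroupOf.2 hcR), hmoved⟩
    refine hu (Multiplicative.toAdd.injective (Subtype.ext ?_))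
    rw [toAdd_prod, Submodule.coe_sum, toAdd_one, Submodule.coe_zero, ← hbN _ u.toAdd.2]
    refine Finset.sum_congr rfl fun i _ => ?_
    rw [hx', ← map_pow, hρ']
    rfl
  let Fx : Subgroup H :=
    { carrier := {g | g ∈ S ∧ ∀ c ∈ R, ∀ v ∈ W, ρ (g * c * g⁻¹) v = ρ c v}
      one_mem' := ⟨one_mem S, fun c _ v _ => by simp⟩
      mul_mem' := fun {g g'} hg hg' => ⟨mul_mem hg.1 hg'.1, fun c hc' v hv => by
        rw [show g * g' * c * (g * g')⁻¹ = g * (g' * c * g'⁻¹) * g⁻¹ by group,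
          hg.2 _ (radical_conj_mem h hc hg'.1.1 hg'.1.2 hc') v hv, hg'.2 c hc' v hv]⟩
      inv_mem' := fun {g} hg => ⟨inv_mem hg.1, fun c hc' v hv => by
        have h1 := radical_conj_mem h hc (inv_mem hg.1).1 (inv_mem hg.1).2 hc'
        rw [inv_inv] at h1 ⊢
        rw [← hg.2 _ h1 v hv]
        congr 2
        group⟩ }
  have hAFx : A ≤ Fx := (closure_le _).2 (by rintro c ⟨g, hg, rfl⟩; exact ⟨hpowS g hg, hfixgen g hg⟩)
  have hscal := radical_scalar h hc hzS (hAFx (hDA hzD)).2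
  -- the symplectic quotient
  set R' := R.subgroupOf Q with hR'
  haveI : R'.Normal := ⟨fun r hr d => by
    rw [hR', mem_subgroupOf] at hr ⊢
    rw [show ((d * r * d⁻¹ : Q) : H) = ⁅(d : H), (r : H)⁆ * r by simp [commutatorElement_def, mul_assoc]]
    exact mul_mem (center_le_radical h hc (h.commutator_mem_center d.2 hr.1)) hr⟩
  letI : CommGroup (Q ⧸ R') :=
    { (inferInstance : Group (Q ⧸ R')) with
      mul_comm := by
        rintro ⟨a⟩ ⟨b⟩
        refine (QuotientGroup.eq (a := a * b) (b := b * a)).2 (mem_subgroupOf.2 ?_)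
        rw [show (((a * b)⁻¹ * (b * a) : Q) : H) = ⁅(b : H)⁻¹, (a : H)⁻¹⁆ by
          simp [commutatorElement_def, mul_assoc]]
        exact center_le_radical h hc (h.commutator_mem_center (inv_mem b.2) (inv_mem a.2)) }
  have hMq : ∀ i : Q ⧸ R', i ^ q = 1 := by
    rintro ⟨a⟩
    refine (QuotientGroup.eq_one_iff (a ^ q)).2 (mem_subgroupOf.2 ⟨(a ^ q).2, fun d hd => ?_⟩)
    rw [SubmonoidClass.coe_pow, h.commutator_pow a.2 hd, h.commutator_pow_eq_one a.2 hd, eigen_one hc.occurs]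
  let conjQ : S → MulAut Q := fun g =>
    { toFun := fun a => ⟨(g : H) * a * (g : H)⁻¹, h.inv g g.2.1 _ a.2⟩
      invFun := fun a => ⟨(g : H)⁻¹ * a * g, by simpa using h.inv (g : H)⁻¹ (inv_mem g.2.1) _ a.2⟩
      left_inv := fun a => Subtype.ext (by simp [mul_assoc])
      right_inv := fun a => Subtype.ext (by simp [mul_assoc])
      map_mul' := fun a b => Subtype.ext (by simp [mul_assoc]) }
  have hmapR : ∀ g : S, R'.map (conjQ g).toMonoidHom = R' := by
    intro g
    refine eq_of_le_of_card_ge ?_ (card_map_of_injective (conjQ g).injective).ge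
    rintro _ ⟨a, ha, rfl⟩
    exact mem_subgroupOf.2 (radical_conj_mem h hc g.2.1 g.2.2 (mem_subgroupOf.1 ha))
  let φ₀ : S → MulAut (Q ⧸ R') := fun g => QuotientGroup.congr R' R' (conjQ g) (hmapR g)
  have hφ0 : ∀ (g : S) (a : Q), φ₀ g (QuotientGroup.mk a) = QuotientGroup.mk (conjQ g a) := fun g a => rfl
  let φ : S →* MulAut (Q ⧸ R') := MonoidHom.mk' φ₀ fun g g' => MulEquiv.ext fun i => by
    obtain ⟨a, rfl⟩ := QuotientGroup.mk_surjective i
    rw [MulAut.mul_apply, hφ0, hφ0, hφ0]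
    exact congrArg QuotientGroup.mk (Subtype.ext (by simp [conjQ, mul_assoc]))
  have hφ : ∀ (g : S) (a : Q), φ g (QuotientGroup.mk a) = QuotientGroup.mk (conjQ g a) := hφ0
  have hφz : φ ⟨z, hzS⟩ ≠ 1 := by
    intro e
    have hk : ∀ k : ℕ, ∀ a ∈ Q, ⁅a, z ^ k⁆ ∈ R := by
      intro k a ha
      have h1 : φ (⟨z, hzS⟩ ^ k) (QuotientGroup.mk (⟨a⁻¹, inv_mem ha⟩ : Q)) =
          QuotientGroup.mk (⟨a⁻¹, inv_mem ha⟩ : Q) := by rw [map_pow, e, one_pow]; rfl
      rw [hφ, QuotientGroup.eq, hR', mem_subgroupOf] at h1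
      have h2 := inv_mem h1
      convert h2 using 1
      simp only [conjQ, commutatorElement_def, Subgroup.coe_mul, InvMemClass.coe_inv, SubgroupClass.coe_pow,
        MulEquiv.coe_mk, Equiv.coe_fn_mk]
      group
    have hQR : Q ≤ R := h.commutator_eq.ge.trans (commutator_le.2 fun a ha w hw => by
      obtain ⟨k, rfl⟩ := mem_powers_iff_mem_zpowers.2 hw
      exact hk k a ha)
    obtain ⟨a, ha, b, hb, hab⟩ := hc.ne
    exact hab ((hQR ha).2 b hb)
  -- a maximal abelian normal subgroup of the image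
  set T := φ.range with hT
  have hSp : IsPGroup p S := hX.to_le fun g hg => hg.1
  have hTp : IsPGroup p T := hSp.of_surjective φ.rangeRestrict φ.rangeRestrict_surjective
  haveI : Finite (MulAut (Q ⧸ R')) :=
    Finite.of_injective (fun g : MulAut (Q ⧸ R') => (g : Q ⧸ R' → Q ⧸ R')) DFunLike.coe_injective
  haveI := hTp.isNilpotent
  obtain ⟨N, -, hNmax⟩ := (Set.toFinite {N : Subgroup T | N.Normal ∧ IsMulCommutative N}).exists_le_maximal
    (show (⊥ : Subgroup T) ∈ _ from ⟨inferInstance, ⟨⟨fun a b => Subsingleton.elim _ _⟩⟩⟩)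
  obtain ⟨hNn, hNc⟩ := hNmax.prop
  have hNC : centralizer (N : Set T) = N := Solv.centralizer_eq_of_maximal_abelian_normal N
    fun M hM hMc hle => le_antisymm (hNmax.le_of_ge ⟨hM, hMc⟩ hle) hle
  set B := N.map T.subtype with hBdef
  have hBc : ∀ a ∈ B, ∀ b ∈ B, a * b = b * a := by
    rintro _ ⟨a, ha, rfl⟩ _ ⟨b, hb, rfl⟩
    rw [← map_mul, ← map_mul]
    exact congrArg (fun w : T => (w : MulAut (Q ⧸ R'))) (congrArg Subtype.val (hNc.is_comm.comm ⟨a, ha⟩ ⟨b, hb⟩) :)
  have hbad : ∃ g, ∃ hg : g ∈ X, ∃ β ∈ B,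
      φ ⟨g ^ p ^ n, hpowS g hg⟩ * β ≠ β * φ ⟨g ^ p ^ n, hpowS g hg⟩ := by
    by_contra hall
    push Not at hall
    let K : Subgroup H := (B.comap φ).map S.subtype
    have hAK : A ≤ K := (closure_le _).2 (by
      rintro c ⟨g, hg, rfl⟩
      refine ⟨⟨g ^ p ^ n, hpowS g hg⟩, ?_, rfl⟩
      rw [SetLike.mem_coe, mem_comap]
      refine ⟨⟨_, ⟨_, rfl⟩⟩, hNC.le (mem_centralizer_iff.2 fun w hw => ?_), rfl⟩
      exact Subtype.ext (hall g hg (w : MulAut (Q ⧸ R')) ⟨w, hw, rfl⟩).symm)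
    let E : Subgroup H := (φ.ker).map S.subtype
    have hDE : D ≤ E := commutator_le.2 fun u hu w hw => by
      obtain ⟨u', hu', rfl⟩ := hAK hu
      obtain ⟨w', hw', rfl⟩ := hAK hw
      refine ⟨⁅u', w'⁆, MonoidHom.mem_ker.2 ?_, map_commutatorElement _ _ _⟩
      rw [map_commutatorElement, commutatorElement_eq_one_iff_mul_comm]
      exact hBc _ hu' _ hw'
    obtain ⟨z', hz', hzz⟩ := hDE hzD
    refine hφz ?_
    rw [show (⟨z, hzS⟩ : S) = z' from Subtype.ext hzz.symm]
    exact hz'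
  obtain ⟨g, hg, β, hβ, hne⟩ := hbad
  obtain ⟨f, -, b, hbS, hby, hbP, hbN⟩ :=
    exists_stabilizer_power h hqF ψ hg (hexp g hg) (hN g hg) (hpowS g hg)
  set bS : S := ⟨b, hbS⟩ with hbSdef
  have hbpow : bS ^ p ^ f = ⟨g ^ p ^ n, hpowS g hg⟩ := Subtype.ext hby
  have hbone : φ bS ^ p ^ (f + 1) = 1 := by
    rw [← map_pow, show bS ^ p ^ (f + 1) = 1 from Subtype.ext hbP, map_one]
  have hlow := card_fixed_mul_le hMq hp2 hqp B ((hTp.to_subgroup N).map T.subtype) hBc (φ bS)
    (by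
      rintro _ ⟨w, hw, rfl⟩
      exact ⟨⟨φ bS, bS, rfl⟩ * w * ⟨φ bS, bS, rfl⟩⁻¹, hNn.conj_mem w hw _, rfl⟩)
    (f := f) hbone ⟨β, hβ, by rw [← map_pow, hbpow]; exact hne⟩
  have hperm : ∀ (k : ℕ) i, ((φ bS).toEquiv ^ k : Equiv.Perm (Q ⧸ R')) i = (φ bS ^ k) i := by
    intro k
    induction k with
    | zero => intro i; rfl
    | succ k ih => intro i; rw [pow_succ', Equiv.Perm.mul_apply, ih, pow_succ', MulAut.mul_apply]; rfl
  have hup := card_quotient_le h hc hqF hscal hbS hbN (φ bS).toEquiv (fun a => hφ bS a)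
    (Equiv.ext fun i => by rw [hperm, hbone]; rfl)
  have hfix : Nat.card {i // ((φ bS).toEquiv ^ p ^ f : Equiv.Perm (Q ⧸ R')) i = i} =
      Nat.card {i // (φ bS ^ p ^ f) i = i} := Nat.card_congr (Equiv.subtypeEquivRight fun i => by rw [hperm])
  rw [hfix] at hup
  have h1 : 0 < Nat.card {i // (φ bS ^ p ^ f) i = i} :=
    Finite.card_pos_iff.2 ⟨⟨1, map_one _⟩⟩
  have h2 := (hlow.trans hup)
  rw [mul_comm] at h2
  have h3 : (p ^ (f + 1)) ^ 2 ≤ (p ^ (f + 1) - 1) ^ 2 := Nat.le_of_mul_le_mul_right h2 h1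
  have h4 : 0 < p ^ (f + 1) := pow_pos hp.out.pos _
  exact absurd h3 (Nat.not_le.2 (Nat.pow_lt_pow_left (by omega) two_ne_zero))

end Cfsg.Lib.Local
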