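import Cfsg.Agent.Lib.Dickson.Overgroups
import Cfsg.Prelude.Def_Transfer
import Mathlib.GroupTheory.Sylow
import Mathlib.LinearAlgebra.Matrix.GeneralLinearGroup.Defs

/-!
# Automizers of an extraspecial Sylow subgroup of order `p³` and exponent `p`
-/

set_option autoImplicit false

namespace Cfsg.Lib.Local.ExtraspecialThree

open Subgroup Matrix
open scoped commutatorElement

variable {G : Type*} [Group G] {p : ℕ} [hp : Fact p.Prime]

/-- Powers with exponent in `ZMod p`. -/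
def upow (u : G) (a : ZMod p) : G := u ^ a.val

theorem upow_natCast {u : G} (hu : u ^ p = 1) (m : ℕ) : upow u (m : ZMod p) = u ^ m := by
  rw [upow, ZMod.val_natCast]
  conv_rhs => rw [← Nat.mod_add_div m p, pow_add, pow_mul, hu, one_pow, mul_one]

theorem upow_add {u : G} (hu : u ^ p = 1) (a b : ZMod p) : upow u (a + b) = upow u a * upow u b := by
  conv_lhs => rw [← ZMod.natCast_zmod_val a, ← ZMod.natCast_zmod_val b, ← Nat.cast_add, upow_natCast hu, pow_add]
  rfl

theorem upow_zero (u : G) : upow u (0 : ZMod p) = 1 := by simp [upow]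

theorem upow_one (u : G) : upow u (1 : ZMod p) = u := by
  haveI : Fact (1 < p) := ⟨hp.out.one_lt⟩
  simp [upow, ZMod.val_one]

theorem upow_mul {u : G} (hu : u ^ p = 1) (a b : ZMod p) : upow (upow u a) b = upow u (a * b) := by
  conv_rhs => rw [← ZMod.natCast_zmod_val a, ← ZMod.natCast_zmod_val b, ← Nat.cast_mul, upow_natCast hu, pow_mul]
  rfl

omit hp in
theorem conj_upow (g u : G) (a : ZMod p) : g * upow u a * g⁻¹ = upow (g * u * g⁻¹) a := (conj_pow).symm

omit hp in
theorem commute_upow {u v : G} (h : Commute u v) (a b : ZMod p) : Commute (upow u a) (upow v b) := h.pow_pow _ _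

/-- An extraspecial Sylow subgroup of order `p³` and exponent `p`, with a generator of its centre. -/
structure Frame (P : Sylow p G) (z : G) : Prop where
  z_mem : z ∈ P
  z_ne : z ≠ 1
  pow_eq : ∀ u ∈ P, u ^ p = 1
  central : ∀ u ∈ P, u * z = z * u
  center : ∀ u ∈ P, (∀ v ∈ P, u * v = v * u) → ∃ a : ZMod p, u = upow z a
  comm : ∀ u ∈ P, ∀ v ∈ P, ∃ k : ZMod p, u * v = v * u * upow z k
  card_eq : Nat.card (P : Subgroup G) = p ^ 3

variable [Finite G]

theorem exists_frame (P : Sylow p G) (hE : Cfsg.IsExtraspecial p ↥(P : Subgroup G))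
    (hcard : Nat.card (P : Subgroup G) = p ^ 3) (hexp : Monoid.exponent ↥(P : Subgroup G) = p) :
    ∃ z : G, Frame P z := by
  obtain ⟨⟨-, -, hder⟩, hZ⟩ := hE
  haveI : Nontrivial (center (P : Subgroup G)) := by
    rw [← Finite.one_lt_card_iff_nontrivial, hZ]; exact hp.out.one_lt
  obtain ⟨z, hz⟩ := exists_ne (1 : center (P : Subgroup G))
  have hzp : ((z : (P : Subgroup G)) : G) ^ p = 1 := by
    have h := Monoid.pow_exponent_eq_one (z : (P : Subgroup G))
    rw [hexp] at h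
    exact congrArg Subtype.val h
  have hgen : ∀ w : center (P : Subgroup G), ∃ a : ZMod p,
      ((w : (P : Subgroup G)) : G) = upow ((z : (P : Subgroup G)) : G) a := by
    intro w
    have hm : w ∈ zpowers z := mem_zpowers_of_prime_card hZ hz
    rw [← mem_powers_iff_mem_zpowers] at hm
    obtain ⟨m, hm⟩ := hm
    refine ⟨(m : ZMod p), ?_⟩
    rw [upow_natCast hzp, ← hm]
    rfl
  refine ⟨((z : (P : Subgroup G)) : G), (z : (P : Subgroup G)).2, ?_, ?_, ?_, ?_, ?_, hcard⟩
  · exact fun h => hz (Subtype.ext (Subtype.ext h))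
  · intro u hu
    have h := Monoid.pow_exponent_eq_one (⟨u, hu⟩ : (P : Subgroup G))
    rw [hexp] at h
    exact congrArg Subtype.val h
  · intro u hu
    exact congrArg Subtype.val (mem_center_iff.1 z.2 ⟨u, hu⟩)
  · intro u hu h
    exact hgen ⟨⟨u, hu⟩, mem_center_iff.2 fun v => Subtype.ext (h v v.2).symm⟩
  · intro u hu v hv
    have hm : ⁅(⟨u, hu⟩ : (P : Subgroup G))⁻¹, (⟨v, hv⟩ : (P : Subgroup G))⁻¹⁆ ∈ center (P : Subgroup G) := by
      rw [← hder, _root_.commutator_def]; exact commutator_mem_commutator (mem_top _) (mem_top _)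
    obtain ⟨a, ha⟩ := hgen ⟨_, hm⟩
    refine ⟨a, ?_⟩
    rw [← ha]
    simp only [commutatorElement_def, Subgroup.coe_mul, Subgroup.coe_inv, inv_inv]
    group

variable {P : Sylow p G} {z : G}

omit [Finite G] in
theorem Frame.z_pow (hF : Frame P z) : z ^ p = 1 := hF.pow_eq z hF.z_mem

omit [Finite G] in
theorem Frame.upow_z_injective (hF : Frame P z) : Function.Injective (upow z : ZMod p → G) := by
  intro a b h
  have ho : orderOf z = p := orderOf_eq_prime hF.z_pow hF.z_ne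
  have := pow_injOn_Iio_orderOf (x := z) (by rw [ho]; exact ZMod.val_lt a) (by rw [ho]; exact ZMod.val_lt b) h
  exact ZMod.val_injective p this

omit [Finite G] in
theorem Frame.upow_z_mem (_hF : Frame P z) (hz : z ∈ P) (a : ZMod p) : upow z a ∈ P :=
  (P : Subgroup G).pow_mem hz _

omit [Finite G] in
theorem Frame.commute_z (hF : Frame P z) {u : G} (hu : u ∈ P) (a : ZMod p) : u * upow z a = upow z a * u :=
  ((show Commute u z from hF.central u hu).pow_right _).eq

open Classical in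
/-- The commutator form. -/
noncomputable def om (z u v : G) : ZMod p :=
  if h : ∃ k : ZMod p, u * v = v * u * upow z k then h.choose else 0

omit [Finite G] in
theorem Frame.om_spec (hF : Frame P z) {u v : G} (hu : u ∈ P) (hv : v ∈ P) :
    u * v = v * u * upow z (om z u v : ZMod p) := by
  rw [om, dif_pos (hF.comm u hu v hv)]
  exact (hF.comm u hu v hv).choose_spec

omit [Finite G] in
theorem Frame.om_unique (hF : Frame P z) {u v : G} (hu : u ∈ P) (hv : v ∈ P) {k : ZMod p}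
    (h : u * v = v * u * upow z k) : om z u v = k :=
  hF.upow_z_injective (mul_left_cancel ((hF.om_spec hu hv).symm.trans h))

omit [Finite G] in
theorem Frame.om_self (hF : Frame P z) {u : G} (hu : u ∈ P) : (om z u u : ZMod p) = 0 :=
  hF.om_unique hu hu (by rw [upow_zero, mul_one])

omit [Finite G] in
theorem Frame.om_swap (hF : Frame P z) {u v : G} (hu : u ∈ P) (hv : v ∈ P) :
    (om z v u : ZMod p) = - om z u v := by
  refine hF.om_unique hv hu ?_
  rw [hF.om_spec hu hv, mul_assoc (v * u), ← upow_add hF.z_pow, add_neg_cancel, upow_zero, mul_one]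

omit [Finite G] in
theorem Frame.om_mul_left (hF : Frame P z) {u u' v : G} (hu : u ∈ P) (hu' : u' ∈ P) (hv : v ∈ P) :
    (om z (u * u') v : ZMod p) = om z u v + om z u' v := by
  refine hF.om_unique (mul_mem hu hu') hv ?_
  calc u * u' * v = u * (u' * v) := mul_assoc _ _ _
    _ = u * (v * u' * upow z (om z u' v : ZMod p)) := by rw [← hF.om_spec hu' hv]
    _ = (u * v) * u' * upow z (om z u' v : ZMod p) := by simp only [mul_assoc]
    _ = v * u * (upow z (om z u v : ZMod p) * u') * upow z (om z u' v : ZMod p) := by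
        rw [hF.om_spec hu hv]; simp only [mul_assoc]
    _ = v * u * (u' * upow z (om z u v : ZMod p)) * upow z (om z u' v : ZMod p) := by rw [hF.commute_z hu' _]
    _ = v * (u * u') * upow z ((om z u v : ZMod p) + om z u' v) := by
        rw [upow_add hF.z_pow]; simp only [mul_assoc]

omit [Finite G] in
theorem Frame.om_mul_right (hF : Frame P z) {u v v' : G} (hu : u ∈ P) (hv : v ∈ P) (hv' : v' ∈ P) :
    (om z u (v * v') : ZMod p) = om z u v + om z u v' := by
  rw [hF.om_swap (mul_mem hv hv') hu, hF.om_mul_left hv hv' hu, hF.om_swap hu hv, hF.om_swap hu hv']; ring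

omit [Finite G] in
theorem Frame.om_z_left (hF : Frame P z) {v : G} (hv : v ∈ P) (a : ZMod p) :
    (om z (upow z a) v : ZMod p) = 0 :=
  hF.om_unique (hF.upow_z_mem hF.z_mem a) hv (by rw [upow_zero, mul_one, hF.commute_z hv])

omit [Finite G] in
theorem Frame.upow_mem {u : G} (hu : u ∈ P) (a : ZMod p) : upow u a ∈ P := (P : Subgroup G).pow_mem hu _

omit [Finite G] in
theorem Frame.om_upow_left (hF : Frame P z) {u v : G} (hu : u ∈ P) (hv : v ∈ P) (a : ZMod p) :
    (om z (upow u a) v : ZMod p) = a * om z u v := by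
  have key : ∀ m : ℕ, (om z (u ^ m) v : ZMod p) = (m : ZMod p) * om z u v := by
    intro m
    induction m with
    | zero => simp [hF.om_unique (one_mem _) hv (k := 0) (by simp [upow_zero])]
    | succ m ih =>
      rw [pow_succ, hF.om_mul_left ((P : Subgroup G).pow_mem hu m) hu hv, ih]; push_cast; ring
  rw [upow, key, ZMod.natCast_zmod_val]

/-- Two generators with commutator `z`. -/
structure Basis (P : Sylow p G) (z x y : G) : Prop extends Frame P z where
  x_mem : x ∈ P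
  y_mem : y ∈ P
  om_xy : (om z x y : ZMod p) = 1

theorem Frame.exists_basis (hF : Frame P z) : ∃ x y, Basis P z x y := by
  obtain ⟨x, hx, hxc⟩ : ∃ x ∈ P, ∀ a : ZMod p, x ≠ upow z a := by
    by_contra h
    push Not at h
    have hle : Nat.card (P : Subgroup G) ≤ p := by
      have h1 : Function.Surjective (fun a : ZMod p =>
          (⟨upow z a, hF.upow_z_mem hF.z_mem a⟩ : (P : Subgroup G))) := fun u => by
        obtain ⟨a, ha⟩ := h u u.2
        exact ⟨a, Subtype.ext ha.symm⟩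
      simpa using Nat.card_le_card_of_surjective _ h1
    rw [hF.card_eq] at hle
    have : p ^ 1 < p ^ 3 := Nat.pow_lt_pow_right hp.out.one_lt (by norm_num)
    rw [pow_one] at this
    omega
  obtain ⟨v, hv, hv0⟩ : ∃ v ∈ P, (om z x v : ZMod p) ≠ 0 := by
    by_contra h
    push Not at h
    obtain ⟨a, ha⟩ := hF.center x hx fun v hv => by
      have := hF.om_spec hx hv
      rwa [h v hv, upow_zero, mul_one] at this
    exact hxc a ha
  refine ⟨x, upow v (om z x v)⁻¹, hF, hx, Frame.upow_mem hv _, ?_⟩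
  rw [hF.om_swap (Frame.upow_mem hv _) hx, hF.om_upow_left hv hx, hF.om_swap hx hv]
  field_simp

variable {x y : G}

/-- The coordinates modulo the centre. -/
noncomputable def coord (z x y u : G) : Fin 2 → ZMod p := ![om z u y, om z x u]

theorem Basis.coord_mul (hB : Basis P z x y) {u v : G} (hu : u ∈ P) (hv : v ∈ P) :
    (coord z x y (u * v) : Fin 2 → ZMod p) = coord z x y u + coord z x y v := by
  funext i
  fin_cases i
  · simp [coord, hB.om_mul_left hu hv hB.y_mem]
  · simp [coord, hB.om_mul_right hB.x_mem hu hv]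

theorem Basis.coord_z (hB : Basis P z x y) (a : ZMod p) : (coord z x y (upow z a) : Fin 2 → ZMod p) = 0 := by
  funext i
  fin_cases i
  · simp [coord, hB.om_z_left hB.y_mem]
  · simp [coord, hB.toFrame.om_swap (hB.toFrame.upow_z_mem hB.z_mem a) hB.x_mem, hB.om_z_left hB.x_mem]

theorem Basis.coord_upow (hB : Basis P z x y) {u : G} (hu : u ∈ P) (a : ZMod p) :
    (coord z x y (upow u a) : Fin 2 → ZMod p) = a • coord z x y u := by
  funext i
  fin_cases i
  · simp [coord, hB.om_upow_left hu hB.y_mem]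
  · simp [coord, hB.toFrame.om_swap (Frame.upow_mem hu a) hB.x_mem, hB.om_upow_left hu hB.x_mem,
      hB.toFrame.om_swap hB.x_mem hu]

theorem Basis.coord_x (hB : Basis P z x y) : (coord z x y x : Fin 2 → ZMod p) = ![1, 0] := by
  funext i
  fin_cases i <;> simp [coord, hB.om_xy, hB.toFrame.om_self hB.x_mem]

theorem Basis.coord_y (hB : Basis P z x y) : (coord z x y y : Fin 2 → ZMod p) = ![0, 1] := by
  funext i
  fin_cases i <;> simp [coord, hB.om_xy, hB.toFrame.om_self hB.y_mem]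

theorem Basis.decomp (hB : Basis P z x y) {u : G} (hu : u ∈ P) :
    ∃ a b c : ZMod p, u = upow x a * upow y b * upow z c := by
  let f : ZMod p × ZMod p × ZMod p → (P : Subgroup G) := fun t =>
    ⟨upow x t.1 * upow y t.2.1 * upow z t.2.2,
      mul_mem (mul_mem (Frame.upow_mem hB.x_mem _) (Frame.upow_mem hB.y_mem _))
        (Frame.upow_mem hB.z_mem _)⟩
  have hinj : Function.Injective f := by
    rintro ⟨a, b, c⟩ ⟨a', b', c'⟩ h
    have h' : upow x a * upow y b * upow z c = upow x a' * upow y b' * upow z c' := congrArg Subtype.val h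
    have h1 := congrArg (fun w => (coord z x y w : Fin 2 → ZMod p)) h'
    simp only [hB.coord_mul (mul_mem (Frame.upow_mem hB.x_mem _) (Frame.upow_mem hB.y_mem _))
      (Frame.upow_mem hB.z_mem _), hB.coord_mul (Frame.upow_mem hB.x_mem _) (Frame.upow_mem hB.y_mem _),
      hB.coord_upow hB.x_mem, hB.coord_upow hB.y_mem, hB.coord_z, hB.coord_x, hB.coord_y] at h1
    have ha : a = a' := by simpa using congrFun h1 0
    have hb : b = b' := by simpa using congrFun h1 1
    subst ha hb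
    rw [hB.toFrame.upow_z_injective (mul_left_cancel h')]
  have hbij := hinj.bijective_of_nat_card_le (by
    rw [hB.card_eq, Nat.card_prod, Nat.card_prod, Nat.card_zmod]
    exact le_of_eq (by ring))
  obtain ⟨⟨a, b, c⟩, h⟩ := hbij.2 ⟨u, hu⟩
  exact ⟨a, b, c, (congrArg Subtype.val h).symm⟩

theorem Basis.coord_eq_zero (hB : Basis P z x y) {u : G} (hu : u ∈ P)
    (h : (coord z x y u : Fin 2 → ZMod p) = 0) : ∃ c : ZMod p, u = upow z c := by
  obtain ⟨a, b, c, rfl⟩ := hB.decomp hu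
  rw [hB.coord_mul (mul_mem (Frame.upow_mem hB.x_mem _) (Frame.upow_mem hB.y_mem _))
      (Frame.upow_mem hB.z_mem _), hB.coord_mul (Frame.upow_mem hB.x_mem _) (Frame.upow_mem hB.y_mem _),
      hB.coord_upow hB.x_mem, hB.coord_upow hB.y_mem, hB.coord_z, hB.coord_x, hB.coord_y] at h
  have ha : a = 0 := by simpa using congrFun h 0
  have hb : b = 0 := by simpa using congrFun h 1
  exact ⟨c, by rw [ha, hb, upow_zero, upow_zero, one_mul, one_mul]⟩

theorem Basis.om_eq_det (hB : Basis P z x y) {u v : G} (hu : u ∈ P) (hv : v ∈ P) :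
    (om z u v : ZMod p) =
      coord z x y u 0 * coord z x y v 1 - coord z x y u 1 * coord z x y v 0 := by
  obtain ⟨a, b, c, rfl⟩ := hB.decomp hu
  have hxa := Frame.upow_mem (P := P) hB.x_mem a
  have hyb := Frame.upow_mem (P := P) hB.y_mem b
  have hzc := Frame.upow_mem (P := P) hB.z_mem c
  rw [hB.coord_mul (mul_mem hxa hyb) hzc, hB.coord_mul hxa hyb, hB.coord_upow hB.x_mem,
    hB.coord_upow hB.y_mem, hB.coord_z, hB.coord_x, hB.coord_y, hB.om_mul_left (mul_mem hxa hyb) hzc hv,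
    hB.om_mul_left hxa hyb hv, hB.om_upow_left hB.x_mem hv, hB.om_upow_left hB.y_mem hv, hB.om_z_left hv]
  simp only [coord]
  simp [hB.toFrame.om_swap hv hB.y_mem]
  ring

/-! ### The action of the normalizer -/

/-- The normalizer. -/
abbrev NP (P : Sylow p G) : Subgroup G := normalizer ((P : Subgroup G) : Set G)

theorem conj_mem {n u : G} (hn : n ∈ NP P) (hu : u ∈ P) : n * u * n⁻¹ ∈ P := (mem_normalizer_iff.1 hn u).1 hu

/-- The matrix of `n`. -/
noncomputable def mat (z x y n : G) : Matrix (Fin 2) (Fin 2) (ZMod p) :=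
  fun i j => coord z x y (n * ![x, y] j * n⁻¹) i

theorem Basis.mat_mulVec (hB : Basis P z x y) {n u : G} (hn : n ∈ NP P) (hu : u ∈ P) :
    mat z x y n *ᵥ (coord z x y u : Fin 2 → ZMod p) = coord z x y (n * u * n⁻¹) := by
  obtain ⟨a, b, c, rfl⟩ := hB.decomp hu
  have hxa := Frame.upow_mem (P := P) hB.x_mem a
  have hyb := Frame.upow_mem (P := P) hB.y_mem b
  have hzc := Frame.upow_mem (P := P) hB.z_mem c
  obtain ⟨d, hd⟩ := hB.center (n * z * n⁻¹) (conj_mem hn hB.z_mem) fun v hv => by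
    have hv' : n⁻¹ * v * n ∈ P := by simpa using conj_mem (inv_mem hn) hv
    calc n * z * n⁻¹ * v = n * (z * (n⁻¹ * v * n)) * n⁻¹ := by group
      _ = n * ((n⁻¹ * v * n) * z) * n⁻¹ := by rw [hB.central _ hv']
      _ = v * (n * z * n⁻¹) := by group
  rw [show n * (upow x a * upow y b * upow z c) * n⁻¹ =
      (n * upow x a * n⁻¹) * (n * upow y b * n⁻¹) * (n * upow z c * n⁻¹) by group,
    conj_upow, conj_upow, conj_upow, hd, upow_mul hB.toFrame.z_pow]
  have hx' := Frame.upow_mem (P := P) (conj_mem hn hB.x_mem) a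
  have hy' := Frame.upow_mem (P := P) (conj_mem hn hB.y_mem) b
  rw [hB.coord_mul (mul_mem hx' hy') (Frame.upow_mem hB.z_mem _), hB.coord_mul hx' hy',
    hB.coord_upow (conj_mem hn hB.x_mem), hB.coord_upow (conj_mem hn hB.y_mem), hB.coord_z,
    hB.coord_mul (mul_mem hxa hyb) hzc, hB.coord_mul hxa hyb, hB.coord_upow hB.x_mem,
    hB.coord_upow hB.y_mem, hB.coord_z, hB.coord_x, hB.coord_y]
  funext i
  simp [mat, Matrix.mulVec, dotProduct, Fin.sum_univ_two]
  ring

theorem Basis.mat_mul (hB : Basis P z x y) {m n : G} (hm : m ∈ NP P) (hn : n ∈ NP P) :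
    (mat z x y (m * n) : Matrix (Fin 2) (Fin 2) (ZMod p)) = mat z x y m * mat z x y n := by
  ext i j
  have hu : (![x, y] j : G) ∈ P := by fin_cases j <;> simp [hB.x_mem, hB.y_mem]
  have h := congrFun (hB.mat_mulVec hm (conj_mem hn hu)) i
  rw [show m * (n * ![x, y] j * n⁻¹) * m⁻¹ = m * n * ![x, y] j * (m * n)⁻¹ by group] at h
  show coord z x y _ i = _
  rw [← h]
  rfl

theorem Basis.mat_one (hB : Basis P z x y) : (mat z x y 1 : Matrix (Fin 2) (Fin 2) (ZMod p)) = 1 := by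
  ext i j
  fin_cases j <;> fin_cases i <;> simp [mat, hB.coord_x, hB.coord_y, Matrix.one_apply]

/-- The action on `P/Z(P)`. -/
noncomputable def Basis.rho (hB : Basis P z x y) : NP P →* GL (Fin 2) (ZMod p) :=
  MonoidHom.toHomUnits
    { toFun := fun n => mat z x y (n : G)
      map_one' := hB.mat_one
      map_mul' := fun m n => hB.mat_mul m.2 n.2 }

theorem Basis.rho_coe (hB : Basis P z x y) (n : NP P) :
    (hB.rho n : Matrix (Fin 2) (Fin 2) (ZMod p)) = mat z x y (n : G) := rfl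

theorem Basis.det_eq (hB : Basis P z x y) {n : G} (hn : n ∈ NP P) {d : ZMod p}
    (hd : n * z * n⁻¹ = upow z d) : (mat z x y n).det = d := by
  have h := hB.toFrame.om_spec hB.x_mem hB.y_mem
  rw [hB.om_xy, upow_one] at h
  have h2 : (n * x * n⁻¹) * (n * y * n⁻¹) = (n * y * n⁻¹) * (n * x * n⁻¹) * upow z d := by
    rw [← hd]
    calc n * x * n⁻¹ * (n * y * n⁻¹) = n * (x * y) * n⁻¹ := by group
      _ = n * (y * x * z) * n⁻¹ := by rw [h]
      _ = _ := by group
  rw [← hB.toFrame.om_unique (conj_mem hn hB.x_mem) (conj_mem hn hB.y_mem) h2,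
    hB.om_eq_det (conj_mem hn hB.x_mem) (conj_mem hn hB.y_mem), Matrix.det_fin_two]
  simp [mat]
  ring

theorem Basis.not_dvd_card_range (hB : Basis P z x y) : ¬ p ∣ Nat.card hB.rho.range := by
  intro hd
  obtain ⟨⟨r, n, rfl⟩, hr⟩ := exists_prime_orderOf_dvd_card' (G := hB.rho.range) p hd
  rw [← Subgroup.orderOf_coe] at hr
  change orderOf (hB.rho n) = p at hr
  obtain ⟨k, m, hm, ho⟩ := Nat.exists_eq_pow_mul_and_not_dvd (orderOf_pos n).ne' p hp.out.ne_one
  have hnm : ((n ^ m : NP P) : G) ^ p ^ k = 1 := by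
    rw [← SubmonoidClass.coe_pow, ← pow_mul, mul_comm m, ← ho, pow_orderOf_eq_one]; rfl
  have hP : ((n ^ m : NP P) : G) ∈ P :=
    Cfsg.Lib.Dickson.mem_of_pow_eq_one_normalizer P (n ^ m).2 hnm
  have h1 : hB.rho (n ^ m) = 1 := by
    refine Units.ext ?_
    rw [hB.rho_coe, Units.val_one]
    ext i j
    have hu : (![x, y] j : G) ∈ P := by fin_cases j <;> simp [hB.x_mem, hB.y_mem]
    set q := ((n ^ m : NP P) : G)
    show coord z x y (q * ![x, y] j * q⁻¹) i = _
    rw [hB.toFrame.om_spec hP hu, mul_assoc (![x, y] j * q), ← hB.toFrame.commute_z (inv_mem hP),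
      ← mul_assoc, mul_inv_cancel_right, hB.coord_mul hu (Frame.upow_mem hB.z_mem _), hB.coord_z, add_zero]
    fin_cases j <;> fin_cases i <;> simp [hB.coord_x, hB.coord_y, Matrix.one_apply]
  rw [map_pow] at h1
  have h2 := orderOf_dvd_of_pow_eq_one h1
  rw [hr] at h2
  exact hm h2

/-- The torus element attached to a moved centre. -/
theorem Basis.exists_torus (hB : Basis P z x y) {h : G} (h1m : h * z * h⁻¹ ∈ P)
    (h1c : ∀ a : ZMod p, h * z * h⁻¹ ≠ upow z a)
    (h2 : ∃ e d : ZMod p, h * (h * z * h⁻¹) * h⁻¹ = upow z e * upow (h * z * h⁻¹) d)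
    {l : ZMod p} (hl : l ≠ 0) :
    ∃ n : NP P, (hB.rho n : Matrix (Fin 2) (Fin 2) (ZMod p)).det = l ∧
      (hB.rho n : Matrix (Fin 2) (Fin 2) (ZMod p)) *ᵥ coord z x y (h * z * h⁻¹) =
        l⁻¹ • coord z x y (h * z * h⁻¹) := by
  classical
  set z1 := h * z * h⁻¹ with hz1
  have hF := hB.toFrame
  have z1p : z1 ^ p = 1 := hF.pow_eq z1 h1m
  have zc : Commute z z1 := (hF.central z1 h1m).symm
  let φ : ZMod p × ZMod p → G := fun v => upow z v.1 * upow z1 v.2
  have φadd : ∀ u v, φ (u + v) = φ u * φ v := by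
    intro u v
    simp only [φ, Prod.fst_add, Prod.snd_add, upow_add hF.z_pow, upow_add z1p]
    exact (commute_upow zc v.1 u.2).mul_mul_mul_comm _ _
  have φp : ∀ v, φ v ^ p = 1 := fun v => by
    rw [(commute_upow zc v.1 v.2).mul_pow, upow, upow, ← pow_mul, ← pow_mul, mul_comm v.1.val,
      mul_comm v.2.val, pow_mul, pow_mul, hF.z_pow, z1p, one_pow, one_pow, one_mul]
  have φupow : ∀ v (a : ZMod p), upow (φ v) a = φ (a • v) := by
    intro v a
    show (upow z v.1 * upow z1 v.2) ^ a.val = _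
    rw [(commute_upow zc v.1 v.2).mul_pow]
    show upow (upow z v.1) a * upow (upow z1 v.2) a = _
    rw [upow_mul hF.z_pow, upow_mul z1p]
    simp [φ, mul_comm]
  have φz : φ (1, 0) = z := by simp [φ, upow_one, upow_zero]
  have φz1 : φ (0, 1) = z1 := by simp [φ, upow_one, upow_zero]
  have tr : ∀ {g : G} {u v : ZMod p × ZMod p}, g * z * g⁻¹ = φ u → g * z1 * g⁻¹ = φ v →
      ∀ w : ZMod p × ZMod p, g * φ w * g⁻¹ = φ (w.1 • u + w.2 • v) := by
    intro g u v hu hv w
    rw [show g * φ w * g⁻¹ = (g * upow z w.1 * g⁻¹) * (g * upow z1 w.2 * g⁻¹) by simp only [φ]; group,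
      conj_upow, conj_upow, hu, hv, φupow, φupow, φadd]
  -- `s`
  obtain ⟨s, hs, hs1⟩ : ∃ s ∈ P, (om z s z1 : ZMod p) = 1 := by
    obtain ⟨v, hv, hv0⟩ : ∃ v ∈ P, (om z v z1 : ZMod p) ≠ 0 := by
      by_contra hno
      push Not at hno
      obtain ⟨a, ha⟩ := hF.center z1 h1m fun v hv => by
        have := hF.om_spec hv h1m
        rw [hno v hv, upow_zero, mul_one] at this
        exact this.symm
      exact h1c a ha
    refine ⟨upow v (om z v z1)⁻¹, Frame.upow_mem hv _, ?_⟩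
    rw [hF.om_upow_left hv h1m]; field_simp
  have sz : s * z * s⁻¹ = z := by rw [hF.central s hs, mul_inv_cancel_right]
  have sz1 : s * z1 * s⁻¹ = z1 * z := by
    rw [hF.om_spec hs h1m, hs1, upow_one, mul_assoc (z1 * s), ← hF.central _ (inv_mem hs),
      ← mul_assoc, mul_inv_cancel_right]
  have U : ∀ a : ZMod p, ∃ g, g * z * g⁻¹ = φ (1, 0) ∧ g * z1 * g⁻¹ = φ (a, 1) := by
    intro a
    have key : ∀ m : ℕ, s ^ m * z * (s ^ m)⁻¹ = φ (1, 0) ∧ s ^ m * z1 * (s ^ m)⁻¹ = φ ((m : ZMod p), 1) := by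
      intro m
      induction m with
      | zero => simp [φz, φz1]
      | succ m ih =>
        have t1 := tr (g := s) (u := (1, 0)) (v := (1, 1)) (by rw [sz, φz])
          (by rw [sz1, show ((1 : ZMod p), (1 : ZMod p)) = (1, 0) + (0, 1) by simp, φadd, φz, φz1]; exact zc.symm.eq)
        constructor
        · rw [pow_succ', show s * s ^ m * z * (s * s ^ m)⁻¹ = s * (s ^ m * z * (s ^ m)⁻¹) * s⁻¹ by group,
            ih.1, t1]
          simp
        · rw [pow_succ', show s * s ^ m * z1 * (s * s ^ m)⁻¹ = s * (s ^ m * z1 * (s ^ m)⁻¹) * s⁻¹ by group,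
            ih.2, t1]
          simp
    exact ⟨s ^ a.val, by have := key a.val; rwa [ZMod.natCast_zmod_val] at this⟩
  obtain ⟨e, d, hed⟩ := h2
  have he : e ≠ 0 := by
    rintro rfl
    rw [upow_zero, one_mul] at hed
    rw [← conj_upow] at hed
    have h3 : z1 = upow z d := mul_left_cancel (mul_right_cancel hed)
    exact h1c d h3
  set s' := h * s * h⁻¹ with hs'
  have s'z1 : s' * z1 * s'⁻¹ = φ (0, 1) := by
    rw [φz1, hs', hz1, show h * s * h⁻¹ * (h * z * h⁻¹) * (h * s * h⁻¹)⁻¹ = h * (s * z * s⁻¹) * h⁻¹ by group, sz]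
  have s'z : s' * z * s'⁻¹ = φ (1, e⁻¹) := by
    have hz2 : h * z1 * h⁻¹ = φ (e, d) := hed
    have h5 : s' * φ (e, d) * s'⁻¹ = φ (e, d + 1) := by
      rw [← hz2, hs', show h * s * h⁻¹ * (h * z1 * h⁻¹) * (h * s * h⁻¹)⁻¹ = h * (s * z1 * s⁻¹) * h⁻¹ by group,
        sz1, show h * (z1 * z) * h⁻¹ = (h * z1 * h⁻¹) * (h * z * h⁻¹) by group, hz2, ← hz1, ← φz1, ← φadd]
      simp
    have h6 : s' * φ (e, 0) * s'⁻¹ = φ (e, 1) := by
      rw [show ((e, 0) : ZMod p × ZMod p) = (e, d) + (-d) • (0, 1) by simp, φadd,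
        show s' * (φ (e, d) * φ ((-d) • (0, 1))) * s'⁻¹ =
          (s' * φ (e, d) * s'⁻¹) * (s' * φ ((-d) • (0, 1)) * s'⁻¹) by group,
        h5, ← φupow, conj_upow, φz1, s'z1, φupow, ← φadd]
      simp
    have h7 : z = upow (φ (e, 0)) e⁻¹ := by rw [φupow, Prod.smul_mk, smul_eq_mul, inv_mul_cancel₀ he, smul_zero, φz]
    conv_lhs => rw [h7]
    rw [conj_upow, h6, φupow, Prod.smul_mk, smul_eq_mul, inv_mul_cancel₀ he, smul_eq_mul, mul_one]
  have L : ∀ b : ZMod p, ∃ g, g * z * g⁻¹ = φ (1, b) ∧ g * z1 * g⁻¹ = φ (0, 1) := by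
    intro b
    have key : ∀ m : ℕ, s' ^ m * z * (s' ^ m)⁻¹ = φ (1, (m : ZMod p) * e⁻¹) ∧
        s' ^ m * z1 * (s' ^ m)⁻¹ = φ (0, 1) := by
      intro m
      induction m with
      | zero => simp [φz, φz1]
      | succ m ih =>
        have t1 := tr s'z s'z1
        constructor
        · rw [pow_succ', show s' * s' ^ m * z * (s' * s' ^ m)⁻¹ = s' * (s' ^ m * z * (s' ^ m)⁻¹) * s'⁻¹ by group,
            ih.1, t1]
          simp [add_mul, add_comm]
        · rw [pow_succ', show s' * s' ^ m * z1 * (s' * s' ^ m)⁻¹ = s' * (s' ^ m * z1 * (s' ^ m)⁻¹) * s'⁻¹ by group,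
            ih.2, t1]
          simp
    refine ⟨s' ^ (b * e).val, ?_⟩
    have := key (b * e).val
    rwa [ZMod.natCast_zmod_val, mul_inv_cancel_right₀ he] at this
  have W : ∀ a : ZMod p, a ≠ 0 → ∃ g, g * z * g⁻¹ = φ (0, -a⁻¹) ∧ g * z1 * g⁻¹ = φ (a, 0) := by
    intro a ha
    obtain ⟨g1, a1, b1⟩ := U a
    obtain ⟨g2, a2, b2⟩ := L (-a⁻¹)
    refine ⟨g1 * g2 * g1, ?_, ?_⟩
    · rw [show g1 * g2 * g1 * z * (g1 * g2 * g1)⁻¹ = g1 * (g2 * (g1 * z * g1⁻¹) * g2⁻¹) * g1⁻¹ by group,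
        a1, tr a2 b2, tr a1 b1]
      congr 1
      simp [ha]
    · rw [show g1 * g2 * g1 * z1 * (g1 * g2 * g1)⁻¹ = g1 * (g2 * (g1 * z1 * g1⁻¹) * g2⁻¹) * g1⁻¹ by group,
        b1, tr a2 b2, tr a1 b1]
      congr 1
      simp [ha]
  obtain ⟨w1, a1, b1⟩ := W l hl
  obtain ⟨w2, a2, b2⟩ := W (-1) (by simp)
  set t := w1 * w2
  have tz : t * z * t⁻¹ = φ (l, 0) := by
    rw [show t * z * t⁻¹ = w1 * (w2 * z * w2⁻¹) * w1⁻¹ by simp only [t]; group, a2, tr a1 b1]
    simp
  have tz1 : t * z1 * t⁻¹ = φ (0, l⁻¹) := by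
    rw [show t * z1 * t⁻¹ = w1 * (w2 * z1 * w2⁻¹) * w1⁻¹ by simp only [t]; group, b2, tr a1 b1]
    simp
  -- the subgroup acting trivially on `Z` and on `A/Z`
  let K : Subgroup G :=
    { carrier := {k | k * z * k⁻¹ = φ (1, 0) ∧ ∃ a, k * z1 * k⁻¹ = φ (a, 1)}
      one_mem' := ⟨by simp [φz], 0, by simp [φz1]⟩
      mul_mem' := by
        rintro g g' ⟨hg, a, hga⟩ ⟨hg', a', hga'⟩
        have t1 := tr hg hga
        refine ⟨?_, a' + a, ?_⟩
        · rw [show g * g' * z * (g * g')⁻¹ = g * (g' * z * g'⁻¹) * g⁻¹ by group, hg', t1]; simp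
        · rw [show g * g' * z1 * (g * g')⁻¹ = g * (g' * z1 * g'⁻¹) * g⁻¹ by group, hga', t1]; simp
      inv_mem' := by
        rintro g ⟨hg, a, hga⟩
        have t1 := tr hg hga
        refine ⟨?_, -a, ?_⟩
        · calc g⁻¹ * z * g⁻¹⁻¹ = g⁻¹ * φ (1, 0) * g := by rw [φz, inv_inv]
            _ = g⁻¹ * (g * z * g⁻¹) * g := by rw [hg]
            _ = φ (1, 0) := by rw [φz]; group
        · have h8 : g * φ (-a, 1) * g⁻¹ = z1 := by rw [t1, ← φz1]; simp
          calc g⁻¹ * z1 * g⁻¹⁻¹ = g⁻¹ * (g * φ (-a, 1) * g⁻¹) * g := by rw [h8, inv_inv]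
            _ = φ (-a, 1) := by group }
  have hPK : (P : Subgroup G) ≤ K := by
    intro u hu
    refine ⟨by rw [hF.central u hu, mul_inv_cancel_right, φz], om z u z1, ?_⟩
    rw [hF.om_spec hu h1m, mul_assoc (z1 * u), ← hF.commute_z (inv_mem hu), ← mul_assoc, mul_inv_cancel_right]
    show _ = upow z _ * upow z1 1
    rw [upow_one]
    exact (zc.symm.pow_right _).eq
  have ti : ∀ w : ZMod p × ZMod p, t * φ w * t⁻¹ = φ (w.1 * l, w.2 * l⁻¹) := fun w => by
    rw [tr tz tz1]; simp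
  have hconj : ∀ k ∈ K, t * k * t⁻¹ ∈ K := by
    rintro k ⟨hk, a, hka⟩
    have t1 := tr hk hka
    have i0 : t⁻¹ * z * t = φ (l⁻¹, 0) := by
      have := ti (l⁻¹, 0)
      simp only [inv_mul_cancel₀ hl, zero_mul, φz] at this
      calc t⁻¹ * z * t = t⁻¹ * (t * φ (l⁻¹, 0) * t⁻¹) * t := by rw [this]
        _ = φ (l⁻¹, 0) := by group
    have i1 : t⁻¹ * z1 * t = φ (0, l) := by
      have := ti (0, l)
      simp only [zero_mul, mul_inv_cancel₀ hl, φz1] at this
      calc t⁻¹ * z1 * t = t⁻¹ * (t * φ (0, l) * t⁻¹) * t := by rw [this]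
        _ = φ (0, l) := by group
    refine ⟨?_, l * a * l, ?_⟩
    · rw [show t * k * t⁻¹ * z * (t * k * t⁻¹)⁻¹ = t * (k * (t⁻¹ * z * t) * k⁻¹) * t⁻¹ by group, i0, t1, ti]
      simp [hl]
    · rw [show t * k * t⁻¹ * z1 * (t * k * t⁻¹)⁻¹ = t * (k * (t⁻¹ * z1 * t) * k⁻¹) * t⁻¹ by group, i1, t1, ti]
      simp [hl]
  have htK : ((t • P : Sylow p G) : Subgroup G) ≤ K := by
    rw [Sylow.coe_subgroup_smul]
    rintro _ ⟨u, hu, rfl⟩
    exact hconj u (hPK hu)
  obtain ⟨⟨k, hkK⟩, hk⟩ := MulAction.exists_smul_eq K (P.subtype hPK) ((t • P).subtype htK)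
  have hkP : k • P = t • P := by
    rw [Sylow.smul_subtype hPK] at hk
    exact Sylow.subtype_injective hk
  have hnP : k⁻¹ * t ∈ NP P := Sylow.smul_eq_iff_mem_normalizer.1 (by rw [mul_smul, ← hkP, inv_smul_smul])
  obtain ⟨hkz, a, hkz1⟩ := K.inv_mem hkK
  have t2 := tr hkz hkz1
  refine ⟨⟨_, hnP⟩, ?_, ?_⟩
  · rw [hB.rho_coe]
    refine hB.det_eq hnP ?_
    rw [show k⁻¹ * t * z * (k⁻¹ * t)⁻¹ = k⁻¹ * (t * z * t⁻¹) * k⁻¹⁻¹ by group, tz, t2]
    simp [φ, upow_zero]
  · rw [hB.rho_coe, hB.mat_mulVec hnP h1m,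
      show k⁻¹ * t * z1 * (k⁻¹ * t)⁻¹ = k⁻¹ * (t * z1 * t⁻¹) * k⁻¹⁻¹ by group, tz1, t2]
    show coord z x y (upow z _ * upow z1 _) = _
    rw [hB.coord_mul (Frame.upow_mem hB.z_mem _) (Frame.upow_mem h1m _), hB.coord_z, zero_add,
      hB.coord_upow h1m]
    simp

end Cfsg.Lib.Local.ExtraspecialThree
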