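import Cfsg.Agent.Lib.Core.Basic
import Cfsg.Agent.Lib.Fusion.Basic
import Cfsg.Prelude.Def_SubgroupEmbedding
import Mathlib.GroupTheory.Transfer
import Mathlib.GroupTheory.Index

/-!
Extremely closed subgroups, and a transfer lemma for a maximal subgroup with a normal subgroup of
prime index.
-/

set_option autoImplicit false

namespace Cfsg.Lib.Local

open Subgroup MulAction

variable {G : Type*} [Group G] {p : ℕ}

theorem map_conj_eq_of_le_normalizer_of_extremelyClosed [Finite G] {H : Subgroup G}
    (hcl : IsExtremelyClosed H) {g : G}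
    (h : H.map (MulAut.conj g).toMonoidHom ≤ normalizer (H : Set G)) :
    H.map (MulAut.conj g).toMonoidHom = H := by
  refine eq_of_le_of_card_ge ((le_inf le_sup_right h).trans (hcl g).le) ?_
  rw [card_map_of_injective (MulAut.conj g).injective]

theorem le_normalizer_of_extremelyClosed [Finite G] [Fact p.Prime] {H : Subgroup G}
    (hcl : IsExtremelyClosed H) {Q : Subgroup G} (hQ : IsPGroup p Q) (hHQ : H ≤ Q) :
    Q ≤ normalizer (H : Set G) := by
  by_contra hne
  set N := Q ⊓ normalizer (H : Set G)
  haveI := hQ.isNilpotent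
  have h1 : N.subgroupOf Q < ⊤ := lt_of_le_of_ne le_top fun he =>
    hne ((subgroupOf_eq_top.mp he).trans inf_le_right)
  obtain ⟨x, hx, hxN⟩ := SetLike.exists_of_lt (Group.normalizerCondition_of_isNilpotent _ h1)
  have hfix := map_conj_eq_of_le_normalizer_of_extremelyClosed hcl (g := (x : G)) (by
    rintro _ ⟨h, hh, rfl⟩
    exact ((mem_normalizer_iff.mp hx ⟨h, hHQ hh⟩).mp ⟨hHQ hh, le_normalizer hh⟩).2)
  exact hxN (⟨x.2, Core.mem_normalizer_iff_map_conj.mpr hfix⟩ : (x : G) ∈ N)

theorem normalizer_le_normalizer_of_extremelyClosed [Finite G] [Fact p.Prime] {H : Subgroup G}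
    (hcl : IsExtremelyClosed H) {Q : Subgroup G} (hQ : IsPGroup p Q) (hHQ : H ≤ Q) :
    normalizer (Q : Set G) ≤ normalizer (H : Set G) := fun g hg => by
  rw [Core.mem_normalizer_iff_map_conj]
  refine map_conj_eq_of_le_normalizer_of_extremelyClosed hcl ?_
  exact ((map_mono hHQ).trans (Core.map_conj_eq_of_mem_normalizer hg).le).trans
    (le_normalizer_of_extremelyClosed hcl hQ hHQ)

/-- Transfer into `M / H`: if no `⟨H, H^x⟩`, `x ∉ M`, is normal in `G` then some homomorphism
`G → M / H` is nontrivial on `M`. -/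
theorem exists_hom_of_isCoatom [Finite G] {M H : Subgroup G} (hM : IsCoatom M) (hHM : H ≤ M)
    [hHn : (H.subgroupOf M).Normal] (hidx : (H.relIndex M).Prime)
    (hnn : ∀ x : G, x ∉ M → ¬ (H ⊔ H.map (MulAut.conj x).toMonoidHom).Normal) :
    ∃ V : G →* (↥M ⧸ H.subgroupOf M), (∃ m : ↥M, V (m : G) ≠ 1) ∧
      ((∀ (g h : G), h ∈ H → g⁻¹ * h * g ∈ M → g⁻¹ * h * g ∈ H) → H ≤ V.ker) := by
  classical
  set H' := H.subgroupOf M
  have hidx' : (Nat.card (↥M ⧸ H')).Prime := hidx
  haveI : Fact (Nat.card (↥M ⧸ H')).Prime := ⟨hidx'⟩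
  haveI : IsCyclic (↥M ⧸ H') := isCyclic_of_prime_card rfl
  letI : CommGroup (↥M ⧸ H') := IsCyclic.commGroup
  haveI : M.FiniteIndex := ⟨index_ne_zero_of_finite⟩
  let φ : ↥M →* (↥M ⧸ H') := QuotientGroup.mk' H'
  let V : G →* (↥M ⧸ H') := MonoidHom.transfer φ
  letI : Fintype (G ⧸ M) := Fintype.ofFinite _
  refine ⟨V, ?_, fun hclosed h hh => ?_⟩
  swap
  · letI : Fintype (Quotient (orbitRel (zpowers h) (G ⧸ M))) := Fintype.ofFinite _
    rw [MonoidHom.mem_ker]
    refine (MonoidHom.transfer_eq_prod_quotient_orbitRel_zpowers_quot φ h).trans ?_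
    refine Finset.prod_eq_one fun q _ => (QuotientGroup.eq_one_iff _).mpr ?_
    exact hclosed _ _ (H.pow_mem hh _)
      (QuotientGroup.out_conj_pow_minimalPeriod_mem M h q.out)
  -- an element of `M \ H` of least order
  have hne : ∃ m : ↥M, m ∉ H' := by
    by_contra hall
    push Not at hall
    have : H.relIndex M = 1 := index_eq_one.mpr (eq_top_iff.mpr fun m _ => hall m)
    exact hidx.ne_one this
  obtain ⟨m, hm, hmin⟩ := Set.Finite.exists_minimalFor (fun m : ↥M => orderOf (m : G))
    {m : ↥M | m ∉ H'} (Set.toFinite _) hne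
  refine ⟨m, ?_⟩
  letI : Fintype (Quotient (orbitRel (zpowers (m : G)) (G ⧸ M))) := Fintype.ofFinite _
  have hstep : ∀ x : G, x ∉ M → x⁻¹ * m * x ∈ M → x⁻¹ * m * x ∈ H := by
    intro x hx hxm
    by_contra hxH
    set K := H.map (MulAut.conj x).toMonoidHom with hK
    have hM' : ∀ y, y ∈ M.map (MulAut.conj x).toMonoidHom ↔ x⁻¹ * y * x ∈ M :=
      fun y => Core.mem_map_conj
    have hnM : M ≤ normalizer (H : Set G) :=
      (normal_subgroupOf_iff_le_normalizer hHM).mp hHn
    have hnK : M.map (MulAut.conj x).toMonoidHom ≤ normalizer (K : Set G) := by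
      rw [hK, ← map_equiv_normalizer_eq H (MulAut.conj x)]
      exact map_mono hnM
    have hmT : (m : G) ∈ normalizer ((H ⊔ K : Subgroup G) : Set G) := by
      rw [Core.mem_normalizer_iff_map_conj, Subgroup.map_sup,
        Core.map_conj_eq_of_mem_normalizer (hnM m.2),
        Core.map_conj_eq_of_mem_normalizer (hnK ((hM' _).mpr hxm))]
    have hHm : H ⊔ zpowers (m : G) = M := by
      refine le_antisymm (sup_le hHM (zpowers_le.mpr m.2)) ?_
      have h1 : (H ⊔ zpowers (m : G)).relIndex M ∣ H.relIndex M :=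
        relIndex_dvd_of_le_left M le_sup_left
      rcases (Nat.dvd_prime hidx).mp h1 with h2 | h2
      · exact relIndex_eq_one.mp h2
      · exfalso
        have h3 := relIndex_mul_relIndex H (H ⊔ zpowers (m : G)) M le_sup_left
          (sup_le hHM (zpowers_le.mpr m.2))
        rw [h2] at h3
        have h4 : H.relIndex (H ⊔ zpowers (m : G)) = 1 :=
          mul_right_cancel₀ hidx.ne_zero (by rw [one_mul]; exact h3)
        exact hm (relIndex_eq_one.mp h4 (mem_sup_right (mem_zpowers _)))
    have hMT : M ≤ normalizer ((H ⊔ K : Subgroup G) : Set G) := by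
      rw [← hHm]
      exact sup_le (le_sup_left.trans le_normalizer) (zpowers_le.mpr hmT)
    rcases hM.le_iff.mp hMT with h | h
    · exact hnn x hx (normalizer_eq_top_iff.mp h)
    have hTM : H ⊔ K ≤ M := le_normalizer.trans h.le
    have hKM : K ≤ M := le_sup_right.trans hTM
    have hne' : M.map (MulAut.conj x).toMonoidHom ≠ M := by
      intro he
      have hxn : x ∈ normalizer (M : Set G) := Core.mem_normalizer_iff_map_conj.mpr he
      haveI hMn : M.Normal := by
        rcases hM.le_iff.mp (le_normalizer : M ≤ normalizer (M : Set G)) with h1 | h1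
        · exact normalizer_eq_top_iff.mp h1
        · exact absurd (h1.le hxn) hx
      by_cases hHK : K = H
      · refine hnn x hx ?_
        rw [← hK, hHK, sup_idem, ← normalizer_eq_top_iff]
        refine hM.2 _ (SetLike.lt_iff_le_and_exists.mpr ⟨hnM, x, ?_, hx⟩)
        exact Core.mem_normalizer_iff_map_conj.mpr hHK
      · have hTeq : H ⊔ K = M := by
          have h1 : (H ⊔ K).relIndex M ∣ H.relIndex M := relIndex_dvd_of_le_left M le_sup_left
          rcases (Nat.dvd_prime hidx).mp h1 with h2 | h2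
          · exact le_antisymm hTM (relIndex_eq_one.mp h2)
          · exfalso
            have h3 := relIndex_mul_relIndex H (H ⊔ K) M le_sup_left hTM
            rw [h2] at h3
            have h4 : H.relIndex (H ⊔ K) = 1 :=
              mul_right_cancel₀ hidx.ne_zero (by rw [one_mul]; exact h3)
            refine hHK (eq_of_le_of_card_ge (le_sup_right.trans (relIndex_eq_one.mp h4)) ?_)
            rw [hK, card_map_of_injective (MulAut.conj x).injective]
        exact hnn x hx (by rw [← hK, hTeq]; exact hMn)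
    set D := M ⊓ M.map (MulAut.conj x).toMonoidHom
    have hKD : K ≤ D := le_inf hKM (map_mono hHM)
    have hrel : K.relIndex (M.map (MulAut.conj x).toMonoidHom) = H.relIndex M :=
      relIndex_map_map_of_injective H M (MulAut.conj x).injective
    have h3 := relIndex_mul_relIndex K D (M.map (MulAut.conj x).toMonoidHom) hKD inf_le_right
    rw [hrel] at h3
    rcases (Nat.dvd_prime hidx).mp (Dvd.intro _ h3) with h4 | h4
    · obtain ⟨h, hh, he⟩ := relIndex_eq_one.mp h4 (⟨m.2, (hM' _).mpr hxm⟩ : (m : G) ∈ D)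
      refine hxH ?_
      rw [← he]
      simpa [mul_assoc] using hh
    · rw [h4] at h3
      have h5 : D.relIndex (M.map (MulAut.conj x).toMonoidHom) = 1 :=
        mul_left_cancel₀ hidx.ne_zero (by rw [mul_one]; exact h3)
      exact hne' (eq_of_le_of_card_ge ((relIndex_eq_one.mp h5).trans inf_le_left) (by
        rw [card_map_of_injective (MulAut.conj x).injective]))
  -- evaluate
  have hV : V (m : G) = φ m := by
    refine (MonoidHom.transfer_eq_prod_quotient_orbitRel_zpowers_quot φ (m : G)).trans ?_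
    refine (Finset.prod_eq_single (Quotient.mk'' ((1 : G) : G ⧸ M) :
      Quotient (orbitRel (zpowers (m : G)) (G ⧸ M))) ?_ (fun h => absurd (Finset.mem_univ _) h)).trans ?_
    · intro q _ hq
      refine (QuotientGroup.eq_one_iff _).mpr ?_
      set n := Function.minimalPeriod ((m : G) • ·) q.out with hn
      set x := q.out.out with hx'
      have hmem := QuotientGroup.out_conj_pow_minimalPeriod_mem M (m : G) q.out
      show x⁻¹ * (m : G) ^ n * x ∈ H
      have hxM : x ∉ M := fun hxM => hq (by
        rw [← Quotient.out_eq' q]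
        congr 1
        rw [← QuotientGroup.out_eq' q.out, ← hx']
        exact QuotientGroup.eq.mpr (by simpa using M.inv_mem hxM))
      by_contra hnot
      have h1 : orderOf (m : G) ≤ orderOf (x⁻¹ * (m : G) ^ n * x) := by
        by_contra hlt
        push Not at hlt
        exact absurd (hmin (j := ⟨_, hmem⟩) hnot hlt.le) (not_le.mpr hlt)
      have h2 : orderOf (x⁻¹ * (m : G) ^ n * x) = orderOf ((m : G) ^ n) := by
        simpa using (MulAut.conj x⁻¹).orderOf_eq ((m : G) ^ n)
      rw [h2] at h1
      have h3 : zpowers ((m : G) ^ n) = zpowers (m : G) := by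
        refine eq_of_le_of_card_ge (zpowers_le.mpr (pow_mem (mem_zpowers _) n)) ?_
        rw [Nat.card_zpowers, Nat.card_zpowers]
        exact h1
      obtain ⟨i, hi⟩ : (m : G) ∈ zpowers ((m : G) ^ n) := h3 ▸ mem_zpowers _
      have hxm : x⁻¹ * (m : G) * x ∈ M := by
        have h4 := M.zpow_mem hmem i
        have e : (x⁻¹ * (m : G) ^ n * x) ^ i = x⁻¹ * ((m : G) ^ n) ^ i * x := by
          simpa using (conj_zpow (a := x⁻¹) (b := (m : G) ^ n) (i := i))
        rw [e] at h4
        simp only at hi
        rwa [hi] at h4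
      have h5 := H.pow_mem (hstep x hxM hxm) n
      have e2 : (x⁻¹ * (m : G) * x) ^ n = x⁻¹ * (m : G) ^ n * x := by
        simpa using (conj_pow (a := x⁻¹) (b := (m : G)) (i := n))
      exact hnot (e2 ▸ h5)
    · set q : Quotient (orbitRel (zpowers (m : G)) (G ⧸ M)) := Quotient.mk'' ((1 : G) : G ⧸ M)
      have hq : q.out = ((1 : G) : G ⧸ M) := by
        obtain ⟨⟨c, hc⟩, hce⟩ := Quotient.exact' (Quotient.out_eq' q)
        obtain ⟨i, hi⟩ := hc
        rw [← hce]
        show ((c * 1 : G) : G ⧸ M) = _
        refine QuotientGroup.eq.mpr ?_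
        rw [← hi]
        simpa using M.inv_mem (M.zpow_mem m.2 i)
      have hxM : q.out.out ∈ M := by
        have h1 := QuotientGroup.eq.mp ((QuotientGroup.out_eq' q.out).trans hq)
        simpa using M.inv_mem h1
      have hn : Function.minimalPeriod ((m : G) • ·) q.out = 1 := by
        rw [Function.minimalPeriod_eq_one_iff_isFixedPt, hq]
        exact QuotientGroup.eq.mpr (by simpa using M.inv_mem m.2)
      have e : (⟨q.out.out⁻¹ * (m : G) ^ Function.minimalPeriod ((m : G) • ·) q.out * q.out.out,
          QuotientGroup.out_conj_pow_minimalPeriod_mem M (m : G) q.out⟩ : ↥M) =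
          (⟨q.out.out, hxM⟩ : ↥M)⁻¹ * m * ⟨q.out.out, hxM⟩ := by
        apply Subtype.ext
        simp [hn]
      rw [e, map_mul, map_mul, map_inv, mul_comm _ (φ m), inv_mul_cancel_right]
  rw [hV]
  exact fun h => hm ((QuotientGroup.eq_one_iff m).mp h)

end Cfsg.Lib.Local
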