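import Mathlib
import Cfsg.Prelude.Def_Transfer
import Cfsg.Agent.Lib.Linear.SLTwoFixedPointFree

/-!
Higman's theorem: a normal two-group with quotient `SL₂(2ⁿ)` and a fixed point free element of order three.
-/

set_option autoImplicit false

namespace Cfsg.Lib.Local.Higman

open scoped MatrixGroups commutatorElement
open Cfsg.Lib.Linear Cfsg.Lib.Linear.SLTwoNatural Cfsg.Lib.Linear.SLTwoFPF

variable {G : Type*} [Group G]

/-- The additive group of an abelian normal subgroup. -/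
abbrev Mod (N : Subgroup G) := Additive ↥N

instance mod_addCommGroup (N : Subgroup G) [IsMulCommutative N] : AddCommGroup (Mod N) :=
  { (inferInstance : AddGroup (Additive ↥N)) with
    add_comm := fun a b => congrArg Additive.ofMul (IsMulCommutative.is_comm.comm a.toMul b.toMul) }

/-- Conjugation on an abelian normal subgroup. -/
def conjEnd (N : Subgroup G) [N.Normal] [IsMulCommutative N] : G →* AddMonoid.End (Mod N) where
  toFun g := AddMonoidHom.mk'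
    (fun v => Additive.ofMul ⟨g * (v.toMul : G) * g⁻¹, Subgroup.Normal.conj_mem inferInstance _ v.toMul.2 g⟩)
    (fun a b => congrArg Additive.ofMul (Subtype.ext (by
      show g * ((a.toMul : G) * (b.toMul : G)) * g⁻¹ = (g * (a.toMul : G) * g⁻¹) * (g * (b.toMul : G) * g⁻¹)
      group)))
  map_one' := AddMonoidHom.ext fun v => congrArg Additive.ofMul (Subtype.ext (by
    show (1 : G) * (v.toMul : G) * 1⁻¹ = (v.toMul : G)
    simp))
  map_mul' g h := AddMonoidHom.ext fun v => congrArg Additive.ofMul (Subtype.ext (by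
    show (g * h) * (v.toMul : G) * (g * h)⁻¹ = g * (h * (v.toMul : G) * h⁻¹) * g⁻¹
    group))

variable {F : Type*} [Field F] {Q : Subgroup G} [Q.Normal] (e : G ⧸ Q ≃* SL(2, F))

/-- The representation of the quotient on a normal abelian subgroup centralized by `Q`. -/
def quotRep (N : Subgroup G) [N.Normal] [IsMulCommutative N] (hc : Q ≤ Subgroup.centralizer (N : Set G)) :
    SL(2, F) →* AddMonoid.End (Mod N) :=
  (QuotientGroup.lift Q (conjEnd N) (fun q hq => AddMonoidHom.ext fun v => congrArg Additive.ofMul (Subtype.ext (by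
    show q * (v.toMul : G) * q⁻¹ = (v.toMul : G)
    rw [mul_inv_eq_iff_eq_mul]
    exact (Subgroup.mem_centralizer_iff.1 (hc hq) _ v.toMul.2).symm)))).comp e.symm.toMonoidHom

theorem quotRep_apply (N : Subgroup G) [N.Normal] [IsMulCommutative N] (hc : Q ≤ Subgroup.centralizer (N : Set G))
    (g : G) (v : Mod N) :
    ((quotRep e N hc (e g) v).toMul : G) = g * (v.toMul : G) * g⁻¹ := by
  simp only [quotRep, MonoidHom.coe_comp, Function.comp_apply, MulEquiv.coe_toMonoidHom, e.symm_apply_apply]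
  rfl

section

variable [Finite G] [Finite F] (h2 : (2 : F) = 0) (hF : ∃ a : Fˣ, (a : F) ≠ 1) (hQ : IsPGroup 2 ↥Q)
  (x : G) (hx : orderOf x = 3)
include h2 hF hQ hx

omit hF in
/-- A fixed point free element of order three gives the relation on every abelian section. -/
theorem rel_quotRep (N : Subgroup G) [N.Normal] [IsMulCommutative N] (hc : Q ≤ Subgroup.centralizer (N : Set G))
    (hfpf : ∀ q ∈ N, x * q * x⁻¹ = q → q = 1) : Rel (quotRep e N hc) := by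
  have hx3 : x ^ 3 = 1 := hx ▸ pow_orderOf_eq_one x
  have hxxx : x * x * x = 1 := by rw [← hx3, pow_succ, pow_two]
  have hxQ : x ∉ Q := by
    intro hxQ
    obtain ⟨k, hk⟩ := hQ ⟨x, hxQ⟩
    have h3 : 3 ∣ 2 ^ k := hx ▸ orderOf_dvd_of_pow_eq_one (congrArg Subtype.val hk)
    have := Nat.prime_three.dvd_of_dvd_pow h3
    omega
  obtain ⟨X, hX⟩ : ∃ X, X = e (x : G ⧸ Q) := ⟨_, rfl⟩
  have hX1 : X ≠ 1 := by
    intro h
    rw [hX, MulEquiv.map_eq_one_iff, QuotientGroup.eq_one_iff] at h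
    exact hxQ h
  have hX3 : X ^ 3 = 1 := by rw [hX, ← map_pow, ← QuotientGroup.mk_pow, hx3, QuotientGroup.mk_one, map_one]
  have htr : X 0 0 + X 1 1 = 1 := by
    obtain ⟨τ, hτ⟩ : ∃ τ, τ = X 0 0 + X 1 1 := ⟨_, rfl⟩
    have hd : X 0 0 * X 1 1 - X 0 1 * X 1 0 = 1 := (Matrix.det_fin_two _).symm.trans X.2
    have h3 : ((X : Matrix (Fin 2) (Fin 2) F)) * (X : Matrix (Fin 2) (Fin 2) F) * X = 1 := by
      rw [← Matrix.SpecialLinearGroup.coe_mul, ← Matrix.SpecialLinearGroup.coe_mul, ← pow_two, ← pow_succ, hX3,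
        Matrix.SpecialLinearGroup.coe_one]
    have h01 := congrFun (congrFun h3 0) 1
    have h10 := congrFun (congrFun h3 1) 0
    have h00 := congrFun (congrFun h3 0) 0
    have h11 := congrFun (congrFun h3 1) 1
    simp [Matrix.mul_apply, Fin.sum_univ_two] at h01 h10 h00 h11
    rw [← hτ]
    have e01 : (τ * τ - 1) * X 0 1 = 0 := by rw [hτ]; linear_combination h01 + X 0 1 * hd
    have e10 : (τ * τ - 1) * X 1 0 = 0 := by rw [hτ]; linear_combination h10 + X 1 0 * hd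
    have e00 : (τ * τ - 1) * X 0 0 - τ = 1 := by rw [hτ]; linear_combination h00 + (2 * X 0 0 + X 1 1) * hd
    by_contra hne
    have hne2 : τ * τ - 1 ≠ 0 := by
      intro h
      refine hne ?_
      have : (τ - 1) * (τ - 1) = 0 := by linear_combination h + (1 - τ) * h2
      exact sub_eq_zero.1 (mul_self_eq_zero.1 this)
    have a01 : X 0 1 = 0 := (mul_eq_zero.1 e01).resolve_left hne2
    have a10 : X 1 0 = 0 := (mul_eq_zero.1 e10).resolve_left hne2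
    have e11 : (τ * τ - 1) * X 1 1 - τ = 1 := by rw [hτ]; linear_combination h11 + (2 * X 1 1 + X 0 0) * hd
    have had : X 0 0 = X 1 1 := mul_left_cancel₀ hne2 (by linear_combination e00 - e11)
    have hdd : X 1 1 = 1 := by
      have : (X 1 1 - 1) * (X 1 1 - 1) = 0 := by
        rw [had, a01] at hd
        linear_combination hd + (1 - X 1 1) * h2
      exact sub_eq_zero.1 (mul_self_eq_zero.1 this)
    refine hX1 (ext2 ?_)
    rw [Matrix.SpecialLinearGroup.coe_one]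
    ext i j
    fin_cases i <;> fin_cases j <;> simp [a01, a10, had, hdd]
  obtain ⟨C, hC⟩ : ∃ C : SL(2, F), (C : Matrix (Fin 2) (Fin 2) F) = !![0, 1; 1, 1] :=
    ⟨⟨_, by rw [Matrix.det_fin_two]; simp; linear_combination (-1 : F) * h2⟩, rfl⟩
  intro a v
  obtain ⟨g, hg⟩ : ∃ g, g = u (a : F) * (d a * w F) := ⟨_, rfl⟩
  have hgt : g 0 0 + g 1 1 = 1 := by
    rw [hg]
    simp only [Matrix.SpecialLinearGroup.coe_mul, u_coe, d_coe, w_coe, Matrix.mul_apply, Fin.sum_univ_two]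
    simp
    linear_combination (-1 : F) * h2
  obtain ⟨h₁, hh₁⟩ := exists_conj_companion h2 C hC X htr
  obtain ⟨h₂, hh₂⟩ := exists_conj_companion h2 C hC g hgt
  obtain ⟨H, hH⟩ := QuotientGroup.mk_surjective (e.symm (h₂ * h₁⁻¹))
  have hge : g = e ((H * x * H⁻¹ : G) : G ⧸ Q) := by
    rw [QuotientGroup.mk_mul, QuotientGroup.mk_mul, QuotientGroup.mk_inv, map_mul, map_mul, map_inv, hH,
      e.apply_symm_apply, ← hX, ← hh₁, ← hh₂]
    group
  have hgg : g * g = (d a * w F) * u (a : F) := by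
    have h3 : g * g * g = 1 := by
      rw [hge, ← map_mul, ← map_mul, ← QuotientGroup.mk_mul, ← QuotientGroup.mk_mul,
        show H * x * H⁻¹ * (H * x * H⁻¹) * (H * x * H⁻¹) = H * (x * x * x) * H⁻¹ by group, hxxx, mul_one,
        mul_inv_cancel, QuotientGroup.mk_one, map_one]
    rw [eq_inv_of_mul_eq_one_left h3, hg, _root_.mul_inv_rev]
    congr 1
    · exact inv_eq_of_mul_eq_one_right (wd_wd h2 a)
    · rw [u_inv]
      congr 1
      linear_combination (-(a : F)) * h2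
  have key : quotRep e N hc g (quotRep e N hc g v) + quotRep e N hc g v + v = 0 := by
    refine Additive.toMul.injective (Subtype.ext ?_)
    show ((quotRep e N hc g (quotRep e N hc g v)).toMul : G) * ((quotRep e N hc g v).toMul : G) * (v.toMul : G) = 1
    obtain ⟨z, hz⟩ : ∃ z : Mod N, z = quotRep e N hc g (quotRep e N hc g v) + quotRep e N hc g v + v := ⟨_, rfl⟩
    have hgz : quotRep e N hc g z = z := by
      have h3 : quotRep e N hc g (quotRep e N hc g (quotRep e N hc g v)) = v := by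
        refine Additive.toMul.injective (Subtype.ext ?_)
        rw [hge, quotRep_apply, quotRep_apply, quotRep_apply,
          show H * x * H⁻¹ * (H * x * H⁻¹ * (H * x * H⁻¹ * (v.toMul : G) * (H * x * H⁻¹)⁻¹) * (H * x * H⁻¹)⁻¹) *
            (H * x * H⁻¹)⁻¹ = (H * (x * x * x) * H⁻¹) * (v.toMul : G) * (H * (x * x * x) * H⁻¹)⁻¹ by group, hxxx]
        simp
      rw [hz, map_add, map_add, h3]
      abel
    have hgz' := congrArg (fun y : Mod N => (y.toMul : G)) hgz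
    simp only [hge, quotRep_apply] at hgz'
    have h1 : H⁻¹ * (z.toMul : G) * H = 1 := by
      refine hfpf _ ?_ ?_
      · simpa using Subgroup.Normal.conj_mem (inferInstance : N.Normal) _ z.toMul.2 H⁻¹
      · calc x * (H⁻¹ * (z.toMul : G) * H) * x⁻¹ = H⁻¹ * (H * x * H⁻¹ * (z.toMul : G) * (H * x * H⁻¹)⁻¹) * H := by
              group
          _ = _ := by rw [hgz']
    have h2' : (z.toMul : G) = 1 := by
      calc (z.toMul : G) = H * (H⁻¹ * (z.toMul : G) * H) * H⁻¹ := by group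
        _ = 1 := by rw [h1]; group
    rw [hz] at h2'
    exact h2'
  rw [← SLTwoNatural.ρ_mul, ← SLTwoNatural.ρ_mul (quotRep e N hc) (d a * w F) (u (a : F)), ← hg, ← hgg,
    SLTwoNatural.ρ_mul, add_comm (quotRep e N hc g v)]
  exact key

omit h2 hF hQ hx in
theorem two_power (N : Subgroup G) [IsMulCommutative N] (hN : IsPGroup 2 ↥N) (v : Mod N) :
    ∃ k : ℕ, (2 ^ k) • v = 0 := by
  obtain ⟨k, hk⟩ := hN v.toMul
  exact ⟨k, Additive.toMul.injective hk⟩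

/-- The abelian case of Higman's theorem. -/
theorem abelian_case (N : Subgroup G) [N.Normal] [IsMulCommutative N] (hN : IsPGroup 2 ↥N)
    (hc : Q ≤ Subgroup.centralizer (N : Set G)) (hfpf : ∀ q ∈ N, x * q * x⁻¹ = q → q = 1) :
    IsElementaryAbelian 2 N ∧
      ∃ (k : ℕ) (T : (Fin k → Fin 2 → F) →+ Mod N), Function.Bijective T ∧
        ∀ (g : SL(2, F)) (v : Fin k → Fin 2 → F),
          T (fun i => (g : Matrix (Fin 2) (Fin 2) F).mulVec (v i)) = quotRep e N hc g (T v) := by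
  have hR := rel_quotRep e h2 hQ x hx N hc hfpf
  obtain ⟨htwo, hdisj, hdec, hquad⟩ :=
    decomposition (quotRep e N hc) h2 hR (two_power N hN) hF
  refine ⟨⟨inferInstance, fun a ha => ?_⟩, exists_sum_natural _ hdisj hdec hquad⟩
  have h := congrArg (fun y : Mod N => (y.toMul : G)) (htwo (Additive.ofMul ⟨a, ha⟩))
  rw [pow_two]
  exact h

end

section

variable [Finite G] [Finite F]

/-- If the derived subgroup is central then it is trivial. -/
theorem derived_eq_bot_of_central (h2 : (2 : F) = 0) (hF : ∃ a : Fˣ, (a : F) ≠ 1) (hQ : IsPGroup 2 ↥Q)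
    (x : G) (hx : orderOf x = 3) (hfpf : ∀ q ∈ Q, x * q * x⁻¹ = q → q = 1)
    (hcen : Q ≤ Subgroup.centralizer ((⁅Q, Q⁆ : Subgroup G) : Set G)) (e : G ⧸ Q ≃* SL(2, F)) : ⁅Q, Q⁆ = ⊥ := by
  classical
  obtain ⟨L, hL⟩ : ∃ L, L = ⁅Q, Q⁆ := ⟨_, rfl⟩
  rw [← hL] at hcen
  haveI : L.Normal := hL ▸ Subgroup.commutator_normal Q Q
  have hLQ : L ≤ Q := hL ▸ Subgroup.commutator_le_left Q Q
  haveI : IsMulCommutative L := ⟨⟨fun a b => Subtype.ext
    (Subgroup.mem_centralizer_iff.1 (hcen (hLQ b.2)) a.1 a.2)⟩⟩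
  obtain ⟨P, hP⟩ : ∃ P : Subgroup (G ⧸ L), P = Q.map (QuotientGroup.mk' L) := ⟨_, rfl⟩
  haveI : P.Normal := hP ▸ Subgroup.Normal.map inferInstance _ (QuotientGroup.mk'_surjective L)
  haveI : IsMulCommutative P := by
    refine ⟨⟨?_⟩⟩
    rintro ⟨p, hp⟩ ⟨p', hp'⟩
    rw [hP] at hp hp'
    obtain ⟨q, hq, rfl⟩ := hp
    obtain ⟨q', hq', rfl⟩ := hp'
    refine Subtype.ext ?_
    show (q : G ⧸ L) * (q' : G ⧸ L) = (q' : G ⧸ L) * (q : G ⧸ L)
    rw [← QuotientGroup.mk_mul, ← QuotientGroup.mk_mul, QuotientGroup.eq, hL,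
      show (q * q')⁻¹ * (q' * q) = ⁅q'⁻¹, q⁻¹⁆ by rw [commutatorElement_def]; group]
    exact Subgroup.commutator_mem_commutator (inv_mem hq') (inv_mem hq)
  obtain ⟨eP, heP⟩ : ∃ eP : (G ⧸ L) ⧸ P ≃* SL(2, F), ∀ g : G, eP ((g : G ⧸ L) : (G ⧸ L) ⧸ P) = e g :=
    ⟨(QuotientGroup.quotientMulEquivOfEq (show P = Q.map (QuotientGroup.mk' L) from hP)).trans
      ((QuotientGroup.quotientQuotientEquivQuotient L Q hLQ).trans e), fun g => rfl⟩
  have hx3 : x ^ 3 = 1 := hx ▸ pow_orderOf_eq_one x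
  have hPfpf : ∀ p ∈ P, (x : G ⧸ L) * p * (x : G ⧸ L)⁻¹ = p → p = 1 := by
    let δ : ↥Q → ↥Q := fun q => ⟨q.1⁻¹ * (x * q.1 * x⁻¹), mul_mem (inv_mem q.2) (Subgroup.Normal.conj_mem inferInstance _ q.2 x)⟩
    let δL : ↥L → ↥L := fun q => ⟨q.1⁻¹ * (x * q.1 * x⁻¹), mul_mem (inv_mem q.2) (Subgroup.Normal.conj_mem inferInstance _ q.2 x)⟩
    have hinj : Function.Injective δ := by
      intro a b h
      have h' : a.1⁻¹ * (x * a.1 * x⁻¹) = b.1⁻¹ * (x * b.1 * x⁻¹) := congrArg Subtype.val h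
      have := hfpf (b.1 * a.1⁻¹) (mul_mem b.2 (inv_mem a.2)) (by
        calc x * (b.1 * a.1⁻¹) * x⁻¹ = b.1 * (b.1⁻¹ * (x * b.1 * x⁻¹)) * (a.1⁻¹ * (x * a.1 * x⁻¹))⁻¹ * a.1⁻¹ := by
              group
          _ = b.1 * a.1⁻¹ := by rw [h']; group)
      exact Subtype.ext (mul_inv_eq_one.1 this).symm
    have hinjL : Function.Injective δL := fun a b h => by
      have := @hinj ⟨a.1, hLQ a.2⟩ ⟨b.1, hLQ b.2⟩ (Subtype.ext (by simpa [δ, δL] using h))
      exact Subtype.ext (by simpa using this)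
    intro p hp hfix
    rw [hP] at hp
    obtain ⟨q, hq, rfl⟩ := hp
    have hmem : q⁻¹ * (x * q * x⁻¹) ∈ L := QuotientGroup.eq.1 (show (q : G ⧸ L) = ((x * q * x⁻¹ : G) : G ⧸ L) by
      rw [QuotientGroup.mk_mul, QuotientGroup.mk_mul, QuotientGroup.mk_inv]; exact hfix.symm)
    obtain ⟨l', hl'⟩ := Finite.surjective_of_injective hinjL ⟨_, hmem⟩
    have heq : (⟨l'.1, hLQ l'.2⟩ : ↥Q) = ⟨q, hq⟩ := hinj (Subtype.ext (show l'.1⁻¹ * (x * l'.1 * x⁻¹) = q⁻¹ * (x * q * x⁻¹) from congrArg Subtype.val hl'))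
    exact (QuotientGroup.eq_one_iff q).2 (by rw [← show l'.1 = q from congrArg Subtype.val heq]; exact l'.2)
  have hxL : x ∉ L := by
    intro h
    obtain ⟨k, hk⟩ := hQ ⟨x, hLQ h⟩
    have h3 : 3 ∣ 2 ^ k := hx ▸ orderOf_dvd_of_pow_eq_one (congrArg Subtype.val hk)
    have := Nat.prime_three.dvd_of_dvd_pow h3
    omega
  have hxP : orderOf (x : G ⧸ L) = 3 := by
    haveI := Fact.mk Nat.prime_three
    exact orderOf_eq_prime (by rw [← QuotientGroup.mk_pow, hx3, QuotientGroup.mk_one])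
      (fun h => hxL ((QuotientGroup.eq_one_iff x).1 h))
  have hP2 : IsPGroup 2 ↥P := hP ▸ hQ.map _
  have hcP : P ≤ Subgroup.centralizer (P : Set (G ⧸ L)) := fun p hp =>
    Subgroup.mem_centralizer_iff.2 fun p' hp' => congrArg Subtype.val
      (IsMulCommutative.is_comm.comm (⟨p', hp'⟩ : ↥P) ⟨p, hp⟩)
  have hfL : ∀ q ∈ L, x * q * x⁻¹ = q → q = 1 := fun q hq => hfpf q (hLQ hq)
  obtain ⟨ρ, hρ⟩ : ∃ ρ, ρ = quotRep eP P hcP := ⟨_, rfl⟩
  obtain ⟨σ, hσ⟩ : ∃ σ, σ = quotRep e L hcen := ⟨_, rfl⟩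
  have hRρ : Rel ρ := hρ ▸ rel_quotRep eP h2 hP2 _ hxP P hcP hPfpf
  have hRσ : Rel σ := hσ ▸ rel_quotRep e h2 hQ x hx L hcen hfL
  have hMρ : ∀ v : Mod P, ∃ k : ℕ, (2 ^ k) • v = 0 := fun v => by
    obtain ⟨k, hk⟩ := hP2 v.toMul
    exact ⟨k, Additive.toMul.injective hk⟩
  have hMσ : ∀ v : Mod L, ∃ k : ℕ, (2 ^ k) • v = 0 := fun v => by
    obtain ⟨k, hk⟩ := (hQ.to_le hLQ) v.toMul
    exact ⟨k, Additive.toMul.injective hk⟩
  obtain ⟨hρ2, -, hρdec, -⟩ := decomposition ρ h2 hRρ hMρ hF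
  obtain ⟨hσ2, hσdisj, hσdec, -⟩ := decomposition σ h2 hRσ hMσ hF
  have negρ : ∀ v : Mod P, -v = v := fun v => neg_eq_of_add_eq_zero_right (hρ2 v)
  have negσ : ∀ v : Mod L, -v = v := fun v => neg_eq_of_add_eq_zero_right (hσ2 v)
  -- lifts and the commutator pairing
  have hlift : ∀ v : Mod P, ∃ q ∈ Q, (q : G ⧸ L) = (v.toMul : G ⧸ L) := fun v => by
    obtain ⟨q, hq, hqe⟩ : (v.toMul : G ⧸ L) ∈ Q.map (QuotientGroup.mk' L) := hP ▸ v.toMul.2
    exact ⟨q, hq, hqe⟩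
  choose s hsQ hs using hlift
  have hmem : ∀ {a b}, a ∈ Q → b ∈ Q → ⁅a, b⁆ ∈ L := fun ha hb => hL ▸ Subgroup.commutator_mem_commutator ha hb
  have hlc : ∀ {l q}, l ∈ L → q ∈ Q → q * l = l * q := fun hl hq =>
    (Subgroup.mem_centralizer_iff.1 (hcen hq) _ hl).symm
  have hmul : ∀ {a b c}, a ∈ Q → b ∈ Q → c ∈ Q → ⁅a * b, c⁆ = ⁅a, c⁆ * ⁅b, c⁆ := by
    intro a b c ha hb hc
    have h1 : ⁅a * b, c⁆ = (a * ⁅b, c⁆) * a⁻¹ * ⁅a, c⁆ := by simp only [commutatorElement_def]; group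
    rw [h1, hlc (hmem hb hc) ha, mul_inv_cancel_right]
    exact (hlc (hmem hb hc) (hLQ (hmem ha hc))).symm
  have hinvc : ∀ {a b}, a ∈ Q → b ∈ Q → ⁅b, a⁆ = ⁅a, b⁆ := by
    intro a b ha hb
    have := congrArg (fun y : Mod L => (y.toMul : G)) (negσ (Additive.ofMul ⟨⁅a, b⁆, hmem ha hb⟩))
    rw [← commutatorElement_inv a b]
    exact this
  have hl1 : ∀ {l q}, l ∈ L → q ∈ Q → ⁅l, q⁆ = 1 := fun hl hq =>
    commutatorElement_eq_one_iff_mul_comm.2 (hlc hl hq).symm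
  have hwd : ∀ {a a' b b'}, a ∈ Q → a' ∈ Q → b ∈ Q → b' ∈ Q → (a : G ⧸ L) = a' → (b : G ⧸ L) = b' →
      ⁅a, b⁆ = ⁅a', b'⁆ := by
    intro a a' b b' ha ha' hb hb' h1 h2
    have e1 : a' = a * (a⁻¹ * a') := by group
    have e2 : b' = b * (b⁻¹ * b') := by group
    have l1 := QuotientGroup.eq.1 h1
    have l2 := QuotientGroup.eq.1 h2
    rw [e1, hmul ha (hLQ l1) hb', hl1 l1 hb', mul_one, hinvc hb' ha, e2, hmul hb (hLQ l2) ha, hl1 l2 ha, mul_one,
      hinvc ha hb]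
  let Bf : Mod P → Mod P → Mod L := fun v v' => Additive.ofMul ⟨⁅s v, s v'⁆, hmem (hsQ v) (hsQ v')⟩
  have hBs : ∀ v v', Bf v v' = Bf v' v := fun v v' =>
    Additive.toMul.injective (Subtype.ext (hinvc (hsQ v') (hsQ v)))
  have hBadd : ∀ v v' v'', Bf (v + v') v'' = Bf v v'' + Bf v' v'' := by
    intro v v' v''
    refine Additive.toMul.injective (Subtype.ext ?_)
    show ⁅s (v + v'), s v''⁆ = ⁅s v, s v''⁆ * ⁅s v', s v''⁆
    rw [← hmul (hsQ v) (hsQ v') (hsQ v'')]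
    refine hwd (hsQ _) (mul_mem (hsQ v) (hsQ v')) (hsQ _) (hsQ _) ?_ rfl
    rw [hs, QuotientGroup.mk_mul, hs, hs]
    rfl
  obtain ⟨B, hB⟩ : ∃ B : Mod P →+ Mod P →+ Mod L, ∀ v v', B v v' = Bf v v' :=
    ⟨AddMonoidHom.mk' (fun v => AddMonoidHom.mk' (Bf v) fun a b => by rw [hBs, hBadd, hBs a, hBs b])
      fun a b => AddMonoidHom.ext fun c => hBadd a b c, fun v v' => rfl⟩
  have hBeq : ∀ t v v', B (ρ t v) (ρ t v') = σ t (B v v') := by
    intro t v v'
    obtain ⟨g, hg⟩ := QuotientGroup.mk_surjective (e.symm t)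
    have ht : t = e g := by rw [hg, e.apply_symm_apply]
    refine Additive.toMul.injective (Subtype.ext ?_)
    rw [hB, hB, hσ, hρ, ht, quotRep_apply]
    show ⁅s _, s _⁆ = g * ⁅s v, s v'⁆ * g⁻¹
    rw [conjugate_commutatorElement]
    refine hwd (hsQ _) (Subgroup.Normal.conj_mem inferInstance _ (hsQ v) g) (hsQ _)
      (Subgroup.Normal.conj_mem inferInstance _ (hsQ v') g) ?_ ?_
    all_goals
      rw [hs, ← heP g, quotRep_apply, QuotientGroup.mk_mul, QuotientGroup.mk_mul, QuotientGroup.mk_inv, hs]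
  have huw : ∀ {M : Type _} [AddCommGroup M] (τ : SL(2, F) →* AddMonoid.End M), Rel τ → (∀ v : M, -v = v) →
      ∀ k ∈ fixU τ, ∀ a : Fˣ, τ (u (a : F)) (τ (w F) k) = τ (w F) k + τ (d a) k := by
    intro M _ τ hR hn k hk a
    rw [u_wd_fixed τ h2 hR hk a, hn, sub_eq_add_neg, hn]
  have hdecw : ∀ z : Mod P, ∃ a ∈ fixU ρ, ∃ b ∈ fixU ρ, z = a + ρ (w F) b := fun z => by
    obtain ⟨a, ha, y, hy, rfl⟩ := hρdec z
    exact ⟨a, ha, _, w_mem_fixU ρ hy, by rw [ρ_w_w ρ h2]⟩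
  have hdecwσ : ∀ z : Mod L, ∃ a ∈ fixU σ, ∃ b ∈ fixU σ, z = a + σ (w F) b := fun z => by
    obtain ⟨a, ha, y, hy, rfl⟩ := hσdec z
    exact ⟨a, ha, _, w_mem_fixU σ hy, by rw [ρ_w_w σ h2]⟩
  have hzero := pairing_zero ρ σ hF h2 (huw ρ hRρ negρ) (huw σ hRσ negσ) hdecw hdecwσ hσdisj hσ2
    (fun y hy => (fixU_two σ h2 hRσ hMσ hF hy).2) B hBeq (fun v v' => by rw [hB, hB, hBs])
  rw [eq_bot_iff, Subgroup.commutator_le]
  intro a ha b hb
  obtain ⟨va, hva⟩ : ∃ va : Mod P, (va.toMul : G ⧸ L) = (a : G ⧸ L) :=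
    ⟨Additive.ofMul ⟨(a : G ⧸ L), hP ▸ Subgroup.mem_map_of_mem _ ha⟩, rfl⟩
  obtain ⟨vb, hvb⟩ : ∃ vb : Mod P, (vb.toMul : G ⧸ L) = (b : G ⧸ L) :=
    ⟨Additive.ofMul ⟨(b : G ⧸ L), hP ▸ Subgroup.mem_map_of_mem _ hb⟩, rfl⟩
  have h := congrArg (fun y : Mod L => (y.toMul : G)) (hzero va vb)
  rw [hB] at h
  rw [Subgroup.mem_bot, ← hwd (hsQ va) ha (hsQ vb) hb ((hs va).trans hva) ((hs vb).trans hvb)]
  exact h

/-- The derived subgroup of `Q` is trivial. -/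
theorem derived_eq_bot (h2 : (2 : F) = 0) (hF : ∃ a : Fˣ, (a : F) ≠ 1) (hQ : IsPGroup 2 ↥Q)
    (x : G) (hx : orderOf x = 3) (hfpf : ∀ q ∈ Q, x * q * x⁻¹ = q → q = 1)
    (e : G ⧸ Q ≃* SL(2, F)) : ⁅Q, Q⁆ = ⊥ := by
  classical
  obtain ⟨K, hK⟩ : ∃ K, K = ⁅⁅Q, Q⁆, Q⁆ := ⟨_, rfl⟩
  haveI : (⁅Q, Q⁆ : Subgroup G).Normal := Subgroup.commutator_normal Q Q
  haveI : K.Normal := hK ▸ Subgroup.commutator_normal _ Q
  have hKQ : K ≤ Q := hK ▸ Subgroup.commutator_le_right _ Q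
  obtain ⟨π, hπ⟩ : ∃ π : G →* G ⧸ K, π = QuotientGroup.mk' K := ⟨_, rfl⟩
  haveI : (Q.map π).Normal := hπ ▸ Subgroup.Normal.map inferInstance _ (QuotientGroup.mk'_surjective K)
  have hx3 : x ^ 3 = 1 := hx ▸ pow_orderOf_eq_one x
  have hxK : x ∉ K := by
    intro h
    obtain ⟨k, hk⟩ := hQ ⟨x, hKQ h⟩
    have h3 : 3 ∣ 2 ^ k := hx ▸ orderOf_dvd_of_pow_eq_one (congrArg Subtype.val hk)
    have := Nat.prime_three.dvd_of_dvd_pow h3
    omega
  have hxP : orderOf (x : G ⧸ K) = 3 := by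
    haveI := Fact.mk Nat.prime_three
    exact orderOf_eq_prime (by rw [← QuotientGroup.mk_pow, hx3, QuotientGroup.mk_one])
      (fun h => hxK ((QuotientGroup.eq_one_iff x).1 h))
  have hfP : ∀ p ∈ Q.map π, (x : G ⧸ K) * p * (x : G ⧸ K)⁻¹ = p → p = 1 := by
    let δ : ↥Q → ↥Q := fun q => ⟨q.1⁻¹ * (x * q.1 * x⁻¹), mul_mem (inv_mem q.2) (Subgroup.Normal.conj_mem inferInstance _ q.2 x)⟩
    let δK : ↥K → ↥K := fun q => ⟨q.1⁻¹ * (x * q.1 * x⁻¹), mul_mem (inv_mem q.2) (Subgroup.Normal.conj_mem inferInstance _ q.2 x)⟩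
    have hinj : Function.Injective δ := by
      intro a b h
      have h' : a.1⁻¹ * (x * a.1 * x⁻¹) = b.1⁻¹ * (x * b.1 * x⁻¹) := congrArg Subtype.val h
      have := hfpf (b.1 * a.1⁻¹) (mul_mem b.2 (inv_mem a.2)) (by
        calc x * (b.1 * a.1⁻¹) * x⁻¹ = b.1 * (b.1⁻¹ * (x * b.1 * x⁻¹)) * (a.1⁻¹ * (x * a.1 * x⁻¹))⁻¹ * a.1⁻¹ := by
              group
          _ = b.1 * a.1⁻¹ := by rw [h']; group)
      exact Subtype.ext (mul_inv_eq_one.1 this).symm
    have hinjK : Function.Injective δK := fun a b h => by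
      have := @hinj ⟨a.1, hKQ a.2⟩ ⟨b.1, hKQ b.2⟩ (Subtype.ext (by simpa [δ, δK] using h))
      exact Subtype.ext (by simpa using this)
    rintro p ⟨q, hq, rfl⟩ hfix
    rw [hπ] at hfix ⊢
    have hmem : q⁻¹ * (x * q * x⁻¹) ∈ K := QuotientGroup.eq.1 (show (q : G ⧸ K) = ((x * q * x⁻¹ : G) : G ⧸ K) by
      rw [QuotientGroup.mk_mul, QuotientGroup.mk_mul, QuotientGroup.mk_inv]; exact hfix.symm)
    obtain ⟨l', hl'⟩ := Finite.surjective_of_injective hinjK ⟨_, hmem⟩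
    have heq : (⟨l'.1, hKQ l'.2⟩ : ↥Q) = ⟨q, hq⟩ := hinj (Subtype.ext (show l'.1⁻¹ * (x * l'.1 * x⁻¹) = q⁻¹ * (x * q * x⁻¹) from congrArg Subtype.val hl'))
    exact (QuotientGroup.eq_one_iff q).2 (by rw [← show l'.1 = q from congrArg Subtype.val heq]; exact l'.2)
  have hcen : Q.map π ≤ Subgroup.centralizer ((⁅Q.map π, Q.map π⁆ : Subgroup (G ⧸ K)) : Set (G ⧸ K)) := by
    rw [← Subgroup.map_commutator]
    rintro _ ⟨q, hq, rfl⟩
    rw [Subgroup.mem_centralizer_iff]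
    rintro _ ⟨l, hl, rfl⟩
    have h1 : ⁅l, q⁆ ∈ K := hK ▸ Subgroup.commutator_mem_commutator hl hq
    refine commutatorElement_eq_one_iff_mul_comm.1 ?_
    rw [← map_commutatorElement, hπ, QuotientGroup.mk'_apply]
    exact (QuotientGroup.eq_one_iff _).2 h1
  have eP : (G ⧸ K) ⧸ Q.map π ≃* SL(2, F) :=
    (QuotientGroup.quotientMulEquivOfEq (by rw [hπ])).trans
      ((QuotientGroup.quotientQuotientEquivQuotient K Q hKQ).trans e)
  have hbot := derived_eq_bot_of_central h2 hF (hQ.map π) _ hxP hfP hcen eP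
  rw [← Subgroup.map_commutator, Subgroup.map_eq_bot_iff, hπ, QuotientGroup.ker_mk'] at hbot
  -- a perfect descent in a nilpotent group
  haveI : Fact (Nat.Prime 2) := ⟨Nat.prime_two⟩
  haveI : Group.IsNilpotent ↥Q := hQ.isNilpotent
  obtain ⟨n, hn⟩ := Subgroup.nilpotent_iff_lowerCentralSeries.1 (inferInstance : Group.IsNilpotent ↥Q)
  have hdesc : ∀ n, ⁅Q, Q⁆ ≤ ((⊤ : Subgroup ↥Q).lowerCentralSeries n).map Q.subtype := by
    intro n
    induction n with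
    | zero =>
      rw [Subgroup.lowerCentralSeries_zero, ← MonoidHom.range_eq_map, Subgroup.range_subtype]
      exact Subgroup.commutator_le_left Q Q
    | succ n ih =>
      refine hbot.trans (hK ▸ ?_)
      rw [show (⊤ : Subgroup ↥Q).lowerCentralSeries (n + 1) = ⁅(⊤ : Subgroup ↥Q).lowerCentralSeries n, ⊤⁆ from rfl,
        Subgroup.map_commutator, ← MonoidHom.range_eq_map, Subgroup.range_subtype]
      exact Subgroup.commutator_mono ih le_rfl
  exact le_bot_iff.1 ((hdesc n).trans (by rw [hn, Subgroup.map_bot]))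

end

end Cfsg.Lib.Local.Higman
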