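import Cfsg.Agent.Lib.Local.PrimeOrderOperator
import Cfsg.Agent.Lib.Coprime.Action
import Cfsg.Agent.Lib.PGroup.Basic

/-!
BG 3.7 for odd primes: if an element `x` of prime order acts without fixed points on an `ℓ`-group `V`, then
`[Q, x]` centralizes `V` for every invariant `q`-group `Q` of operators.
-/

set_option autoImplicit false
set_option linter.style.haveILetI false

namespace Cfsg.Lib.Local

open Subgroup
open scoped commutatorElement IsMulCommutative

universe u

variable {X : Type u} [Group X] [Finite X]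

/-- `[Q, x]` centralizes `V` when `C_V (x) = 1`. -/
theorem commutator_le_centralizer_of_fixedFree {ℓ q r : ℕ} [hl : Fact ℓ.Prime] [hq : Fact q.Prime]
    [hr : Fact r.Prime] (hq2 : q ≠ 2) (hlq : ℓ ≠ q) (hlr : ℓ ≠ r) (hqr : q ≠ r) {V Q : Subgroup X} {x : X}
    (hV : IsPGroup ℓ V) (hQ : IsPGroup q Q) (hQV : Q ≤ normalizer (V : Set X))
    (hxV : x ∈ normalizer (V : Set X)) (hxQ : x ∈ normalizer (Q : Set X)) (hxr : x ^ r = 1)
    (hC : V ⊓ centralizer ({x} : Set X) = ⊥) : ⁅Q, zpowers x⁆ ≤ centralizer (V : Set X) := by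
  haveI hcomm : IsMulCommutative (V ⧸ frattini V) :=
    Subgroup.Normal.quotient_commutative_iff_commutator_le.mpr (PGroup.commutator_le_frattini hV)
  let φ : normalizer (V : Set X) →* MulAut (V ⧸ frattini V) :=
    { toFun := fun g => QuotientGroup.congr (frattini V) (frattini V) (autOf V g)
        (characteristic_iff_map_eq.1 frattini_characteristic _)
      map_one' := MulEquiv.ext fun z => by
        obtain ⟨a, rfl⟩ := QuotientGroup.mk'_surjective _ z
        show QuotientGroup.mk' _ (autOf V 1 a) = _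
        rw [map_one]; rfl
      map_mul' := fun g h => MulEquiv.ext fun z => by
        obtain ⟨a, rfl⟩ := QuotientGroup.mk'_surjective _ z
        show QuotientGroup.mk' _ (autOf V (g * h) a) =
          QuotientGroup.mk' _ (autOf V g (autOf V h a))
        rw [map_mul]; rfl }
  have hφ : ∀ (g : normalizer (V : Set X)) (a : V),
      φ g (QuotientGroup.mk' (frattini V) a) = QuotientGroup.mk' (frattini V) (autOf V g a) := fun _ _ => rfl
  have hcopV : (Nat.card (zpowers x)).Coprime (Nat.card V) := by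
    obtain ⟨n, hn⟩ := IsPGroup.iff_card.mp hV
    rw [hn, Nat.card_zpowers]
    exact (Nat.Coprime.coprime_dvd_left (orderOf_dvd_of_pow_eq_one hxr)
      ((Nat.coprime_primes hr.out hl.out).2 hlr.symm)).pow_right n
  set y := φ ⟨x, hxV⟩
  set Q' := (Q.subgroupOf (normalizer (V : Set X))).map φ
  have hfpf : ∀ w : V ⧸ frattini V, y w = w → w = 1 := by
    intro w hw
    obtain ⟨v, rfl⟩ := QuotientGroup.mk'_surjective _ w
    refine (QuotientGroup.eq_one_iff v).mpr ?_
    set N := (frattini V).map V.subtype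
    have hnV : normalizer (V : Set X) ≤ normalizer (N : Set X) := fun g hg => by
      refine mem_normalizer_iff_map_conj_eq.2 (eq_of_le_of_card_ge ?_
        (card_map_of_injective (MulAut.conj g).injective).ge)
      rintro _ ⟨_, ⟨b, hb, rfl⟩, rfl⟩
      refine ⟨autOf V ⟨g, hg⟩ b, ?_, rfl⟩
      exact (characteristic_iff_map_eq.1 frattini_characteristic (autOf V ⟨g, hg⟩)).le ⟨b, hb, rfl⟩
    have hmem : ∀ i : ℤ, ⁅(v : X), x ^ i⁆ ∈ N := fun i => by
      have h1 : φ (⟨x, hxV⟩ ^ i) (QuotientGroup.mk' _ v) = QuotientGroup.mk' _ v := by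
        rw [map_zpow]
        exact (zpow_mem (show y ∈ MulAction.stabilizer (MulAut (V ⧸ frattini V)) (QuotientGroup.mk' (frattini V) v)
          from hw) i)
      rw [hφ] at h1
      refine ⟨v * (autOf V (⟨x, hxV⟩ ^ i) v)⁻¹, ?_, ?_⟩
      · refine (QuotientGroup.eq_one_iff _).mp ?_
        change QuotientGroup.mk' (frattini V) (v * (autOf V (⟨x, hxV⟩ ^ i) v)⁻¹) = 1
        rw [map_mul, map_inv, h1, mul_inv_cancel]
      · show (v : X) * ((((⟨x, hxV⟩ : normalizer (V : Set X)) ^ i : normalizer (V : Set X)) : X) * v *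
          (((⟨x, hxV⟩ : normalizer (V : Set X)) ^ i : normalizer (V : Set X)) : X)⁻¹)⁻¹ = ⁅(v : X), x ^ i⁆
        rw [SubgroupClass.coe_zpow, commutatorElement_def]
        group
    obtain ⟨n, hn, c, hc, he⟩ := Coprime.exists_mul_centralizer_of_commutator_mem (zpowers_le.mpr hxV) hcopV
      (Or.inl (Group.isSolvable_of_comm fun a b => mul_comm' a b)) (map_subtype_le (frattini V))
      (zpowers_le.mpr (hnV hxV)) v.2 (fun a ha => by
        obtain ⟨i, rfl⟩ := mem_zpowers_iff.mp ha
        exact hmem i)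
    have hc1 : c = 1 := mem_bot.mp (hC.le (Subgroup.mem_inf.mpr ⟨hc.1,
      mem_centralizer_singleton_iff.mpr (mem_centralizer_iff.mp hc.2 x (mem_zpowers x)).symm⟩))
    obtain ⟨b, hb, hbn⟩ := hn
    rw [hc1, mul_one, ← hbn] at he
    rwa [Subtype.ext he]
  have hfix : ∀ a ∈ Q', y * a * y⁻¹ = a := by
    by_contra hne
    push Not at hne
    have hQ' : IsPGroup q Q' := (hQ.comap_of_injective _ (Subgroup.subtype_injective _)).map φ
    obtain ⟨Q0, -, h, -⟩ := exists_minimalMoved' (H := MulAut (V ⧸ frattini V)) (X := zpowers y) hQ'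
      (fun g hg => by
        have hn : y ∈ normalizer (Q' : Set (MulAut (V ⧸ frattini V))) :=
          mem_normalizer_of_conj_mem fun a ha => by
            obtain ⟨b, hb, rfl⟩ := ha
            refine ⟨⟨x, hxV⟩ * b * ⟨x, hxV⟩⁻¹, (mem_normalizer_iff.mp hxQ _).mp hb, ?_⟩
            rw [map_mul, map_mul, map_inv]
        exact fun a ha => (mem_normalizer_iff.mp (zpowers_le.mpr hn hg) a).mp ha)
      hne (mem_zpowers y) (fun g hg => by
        obtain ⟨k, rfl⟩ := mem_zpowers_iff.1 hg
        exact ((Commute.refl y).zpow_left k).eq)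
      ((Nat.Coprime.coprime_dvd_left (orderOf_dvd_of_pow_eq_one (by rw [← map_pow, show
          (⟨x, hxV⟩ : normalizer (V : Set X)) ^ r = 1 from Subtype.ext hxr, map_one]))
        ((Nat.coprime_primes hr.out hq.out).2 hqr.symm)))
    obtain ⟨-, h2, -⟩ := prime_exception (W := V ⧸ frattini V) (ℓ := ℓ)
      (fun w => (PGroup.isElementaryAbelian_quotient_frattini hV).2 w (mem_top w)) h
      (by rw [← map_pow, show (⟨x, hxV⟩ : normalizer (V : Set X)) ^ r = 1 from Subtype.ext hxr, map_one])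
      hlq hlr hqr hfpf
    exact hq2 h2
  set Y := ⁅Q, zpowers x⁆
  have hYQ : Y ≤ Q := Coprime.commutator_le_of_le_normalizer (zpowers_le.mpr hxQ)
  have hker : Y ≤ φ.ker.map (normalizer (V : Set X)).subtype := by
    refine commutator_le.mpr fun a ha b hb => ?_
    obtain ⟨i, rfl⟩ := mem_zpowers_iff.mp hb
    refine ⟨⁅(⟨a, hQV ha⟩ : normalizer (V : Set X)), ⟨x, hxV⟩ ^ i⁆, ?_, ?_⟩
    · refine MonoidHom.mem_ker.mpr ?_
      rw [map_commutatorElement, map_zpow, commutatorElement_eq_one_iff_mul_comm]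
      exact ((show Commute y (φ ⟨a, hQV ha⟩) from
        mul_inv_eq_iff_eq_mul.mp (hfix _ ⟨_, ha, rfl⟩)).zpow_left i).symm.eq
    · rw [map_commutatorElement, map_zpow]; rfl
  refine Coprime.le_centralizer_of_commutator_le_frattini (hYQ.trans hQV) ?_
    (Or.inr (by haveI := hV.isNilpotent; infer_instance)) (commutator_le.mpr fun v hv z hz => ?_)
  · exact IsPGroup.coprime_card_of_ne q ℓ hlq.symm Y V (hQ.to_le hYQ) hV
  · obtain ⟨g, hg, rfl⟩ := hker hz
    have h1 := DFunLike.congr_fun (MonoidHom.mem_ker.mp hg) (QuotientGroup.mk' (frattini V) ⟨v, hv⟩)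
    rw [hφ] at h1
    change QuotientGroup.mk' (frattini V) (autOf V g ⟨v, hv⟩) = QuotientGroup.mk' (frattini V) ⟨v, hv⟩ at h1
    refine ⟨⟨v, hv⟩ * (autOf V g ⟨v, hv⟩)⁻¹, ?_, ?_⟩
    · refine (QuotientGroup.eq_one_iff _).mp ?_
      change QuotientGroup.mk' (frattini V) (⟨v, hv⟩ * (autOf V g ⟨v, hv⟩)⁻¹) = 1
      rw [map_mul, map_inv, h1, mul_inv_cancel]
    · show v * ((g : X) * v * (g : X)⁻¹)⁻¹ = ⁅v, (g : X)⁆
      rw [commutatorElement_def]
      group

end Cfsg.Lib.Local
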