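import Cfsg.Agent.Lib.Local.FixedOrderClosed
import Cfsg.Agent.Lib.Solv.Supersolvable
import Cfsg.Agent.Lib.Solv.Huppert
import Cfsg.Agent.Lib.Core.PSolvable
import Cfsg.Agent.Lib.Coprime.Action

/-!
# Supersolvability from strongly closed subgroups of fixed order in the Sylow subgroups
-/

set_option autoImplicit false
set_option linter.style.haveILetI false

namespace Cfsg.Lib.Local.FixedOrder

open Subgroup
open scoped commutatorElement

universe u

variable {G : Type u} [Group G]

/-- The subgroup generated by commutators and `(q-1)`-th powers. -/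
def powComm (q : ℕ) (G : Type u) [Group G] : Subgroup G :=
  commutator G ⊔ closure (Set.range fun a : G => a ^ (q - 1))

theorem map_powComm_le (q : ℕ) {H : Type u} [Group H] (f : G →* H) :
    (powComm q G).map f ≤ powComm q H := by
  rw [powComm, Subgroup.map_sup, commutator_def, map_commutator, MonoidHom.map_closure]
  refine sup_le_sup (commutator_mono le_top le_top) (closure_mono ?_)
  rintro _ ⟨_, ⟨a, rfl⟩, rfl⟩
  exact ⟨f a, (map_pow f a _).symm⟩

/-- A `q'`-element of `powComm q G` centralizes every cyclic normal `q`-subgroup. -/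
theorem commute_cyclic_normal [Finite G] {q : ℕ} [hq : Fact q.Prime] {C : Subgroup G} [C.Normal]
    [IsCyclic C] (hC : IsPGroup q C) {x : G} (hx : x ∈ powComm q G) (hco : (orderOf x).Coprime q) :
    ∀ c ∈ C, x * c = c * x := by
  obtain ⟨k, hk⟩ := IsPGroup.iff_card.mp hC
  let φ : G →* (ZMod (Nat.card C))ˣ :=
    (IsCyclic.mulAutMulEquiv C).toMonoidHom.comp MulAut.conjNormal
  let T : Subgroup G := ((powMonoidHom (q ^ k)).ker : Subgroup (ZMod (Nat.card C))ˣ).comap φ
  have hT : powComm q G ≤ T := by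
    refine sup_le ?_ ((closure_le _).mpr ?_)
    · refine (Abelianization.commutator_subset_ker φ).trans fun y hy => ?_
      show φ y ^ q ^ k = 1
      rw [MonoidHom.mem_ker.mp hy, one_pow]
    · rintro _ ⟨a, rfl⟩
      show φ (a ^ (q - 1)) ^ q ^ k = 1
      rw [map_pow, ← pow_mul]
      refine orderOf_dvd_iff_pow_eq_one.mp ((orderOf_dvd_of_pow_eq_one (ZMod.pow_totient (φ a))).trans ?_)
      rw [hk]
      rcases Nat.eq_zero_or_pos k with rfl | hk0
      · simp
      · rw [Nat.totient_prime_pow hq.out hk0, mul_comm]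
        exact Nat.mul_dvd_mul_left _ (pow_dvd_pow q (Nat.sub_le _ _))
  have h1 : φ x ^ q ^ k = 1 := hT hx
  have h2 : orderOf (φ x) ∣ Nat.gcd (orderOf x) (q ^ k) :=
    Nat.dvd_gcd (orderOf_map_dvd φ x) (orderOf_dvd_of_pow_eq_one h1)
  rw [(hco.pow_right k).gcd_eq_one, Nat.dvd_one, orderOf_eq_one_iff] at h2
  have h3 : (MulAut.conjNormal x : MulAut C) = 1 :=
    (IsCyclic.mulAutMulEquiv C).injective (h2.trans (map_one _).symm)
  intro c hc
  have h4 := congrArg (fun e : MulAut C => ((e ⟨c, hc⟩ : C) : G)) h3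
  simp only [MulAut.conjNormal_apply, MulAut.one_apply] at h4
  exact mul_inv_eq_iff_eq_mul.mp h4

/-- A `q'`-element of `powComm q G` acts trivially on a normal section of order `q`. -/
theorem commutator_mem_of_relIndex [Finite G] {q : ℕ} [hq : Fact q.Prime] {A B : Subgroup G}
    [A.Normal] [B.Normal] (hBA : B ≤ A) (hidx : B.relIndex A = q) {x : G} (hx : x ∈ powComm q G)
    (hco : (orderOf x).Coprime q) {a : G} (ha : a ∈ A) : x * a * x⁻¹ * a⁻¹ ∈ B := by
  let π : G →* G ⧸ B := QuotientGroup.mk' B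
  haveI : (A.map π).Normal := Normal.map inferInstance π (QuotientGroup.mk'_surjective B)
  have hcard : Nat.card (A.map π) = q := by
    rw [← relIndex_bot_left, ← map_bot π, relIndex_map_map, bot_sup_eq, QuotientGroup.ker_mk',
      sup_of_le_left hBA, hidx]
  haveI : IsCyclic (A.map π) := isCyclic_of_prime_card hcard
  have := commute_cyclic_normal (q := q) (IsPGroup.of_card (n := 1) (by rw [hcard, pow_one]))
    (map_powComm_le q π ⟨x, hx, rfl⟩) (hco.coprime_dvd_left (orderOf_map_dvd π x)) (π a) (mem_map_of_mem π ha)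
  rw [← QuotientGroup.ker_mk' B, MonoidHom.mem_ker]
  show π (x * a * x⁻¹ * a⁻¹) = 1
  rw [map_mul, map_mul, map_mul, map_inv, map_inv, this, mul_inv_cancel_right, mul_inv_cancel]

/-- A normal `q`-subgroup centralized by the `q'`-elements of `powComm q G`, with supersolvable
quotient. -/
theorem supersolvable_of_centralized {q : ℕ} [hq : Fact q.Prime] : ∀ {G : Type u} [Group G] [Finite G]
    (Q : Subgroup G) [Q.Normal], IsPGroup q Q → Cfsg.IsSupersolvable (G ⧸ Q) →
    (∀ x ∈ powComm q G, (orderOf x).Coprime q → ∀ v ∈ Q, x * v = v * x) →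
    Cfsg.IsSupersolvable G := by
  intro G _ _
  induction hn : Nat.card G using Nat.strong_induction_on generalizing G with
  | _ n ih =>
  subst hn
  intro Q _ hQ hGQ hK
  by_cases hQ1 : Q = ⊥
  · subst hQ1
    exact Cfsg.Lib.Supersolvable.of_mulEquiv hGQ QuotientGroup.quotientBot
  obtain ⟨N, hN, hNQ⟩ := Cfsg.Lib.Core.exists_isMinNormal (inferInstance : Q.Normal) hQ1
  haveI := hN.1
  have hNp : IsPGroup q N := hQ.to_le hNQ
  have hNs : Group.IsSolvable N := by
    have := hNp.isNilpotent
    infer_instance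
  obtain ⟨hNab, r, hr, hNexp, hNr⟩ := Cfsg.Lib.Core.minimal_solvable_elementary hN hNs
  obtain ⟨v₁, hv₁, hv₁1⟩ := N.bot_or_exists_ne_one.resolve_left hN.2.1
  have hrq : r = q := by
    obtain ⟨j, hj⟩ := IsPGroup.iff_orderOf.mp hNp ⟨v₁, hv₁⟩
    rw [Subgroup.orderOf_mk] at hj
    have h1 : orderOf v₁ = r := orderOf_eq_prime (hp := ⟨hr⟩) (hNexp v₁ hv₁) hv₁1
    rw [h1] at hj
    have : j = 1 := (Nat.Prime.pow_eq_iff (hj ▸ hr)).mp rfl |> fun h => by
      have h2 := hr
      rw [hj] at h2
      exact Nat.Prime.eq_one_of_pow h2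
    rw [hj, this, pow_one]
  rw [hrq] at hNexp
  set K := powComm q G with hKdef
  -- `powComm` centralizes `N`
  have hcent : ∀ w ∈ K, ∀ v ∈ N, w * v = v * w := by
    let S : Sylow q K := Classical.arbitrary _
    let U : Subgroup G := (S : Subgroup K).map K.subtype ⊔ N
    have hUp : IsPGroup q U :=
      ((S.2 : IsPGroup q (S : Subgroup K)).map K.subtype).to_sup_of_normal_right hNp
    have hNU : (N.subgroupOf U) ⊓ center U ≠ ⊥ := by
      haveI : (N.subgroupOf U).Normal := normal_subgroupOf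
      refine Cfsg.Lib.PGroup.inf_center_ne_bot hUp fun h => hN.2.1 ?_
      rw [subgroupOf_eq_bot] at h
      exact disjoint_self.mp (h.mono_right le_sup_right)
    obtain ⟨⟨v₀, hv₀U⟩, ⟨hv₀N, hv₀c⟩, hv₀1⟩ := (Subgroup.bot_or_exists_ne_one _).resolve_left hNU
    have hv₀N' : v₀ ∈ N := mem_subgroupOf.mp hv₀N
    have hres : ∀ m ∈ Cfsg.pResidual q K, (m : G) * v₀ = v₀ * m := by
      intro m hm
      have hle : (Cfsg.pResidual q K).map K.subtype ≤ centralizer ({v₀} : Set G) := by
        rw [Cfsg.pResidual, MonoidHom.map_closure, closure_le]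
        rintro _ ⟨z, hz, rfl⟩
        exact mem_centralizer_singleton_iff.mpr
          (hK z z.2 (by rw [Subgroup.orderOf_coe]; exact hz) v₀ (hNQ hv₀N'))
      exact mem_centralizer_singleton_iff.mp (hle ⟨m, hm, rfl⟩)
    have hfix : ∀ w ∈ K, w * v₀ = v₀ * w := by
      intro w hw
      obtain ⟨s, hs, m, hm, he⟩ := Cfsg.Lib.Fusion.exists_mul_of_sylow S ⟨w, hw⟩
      have hw' : w = (s : G) * m := congrArg Subtype.val he
      have hsU : (s : G) ∈ U := mem_sup_left ⟨s, hs, rfl⟩
      have hsv : (s : G) * v₀ = v₀ * s :=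
        congrArg Subtype.val (mem_center_iff.mp hv₀c ⟨s, hsU⟩)
      rw [hw', mul_assoc, hres m hm, ← mul_assoc, hsv, mul_assoc]
    haveI : K.Normal := by
      rw [hKdef, powComm]
      haveI : (closure (Set.range fun a : G => a ^ (q - 1))).Normal := by
        refine ⟨fun y hy g => ?_⟩
        have : (closure (Set.range fun a : G => a ^ (q - 1))).map (MulAut.conj g).toMonoidHom ≤
            closure (Set.range fun a : G => a ^ (q - 1)) := by
          rw [MonoidHom.map_closure]
          refine closure_mono ?_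
          rintro _ ⟨_, ⟨a, rfl⟩, rfl⟩
          exact ⟨g * a * g⁻¹, by simp [conj_pow]⟩
        exact this ⟨y, hy, rfl⟩
      infer_instance
    have hC : N ⊓ centralizer (K : Set G) = N := by
      haveI : (centralizer (K : Set G)).Normal := inferInstance
      refine (hN.2.2 (N ⊓ centralizer (K : Set G)) inferInstance inf_le_left).resolve_left fun h => hv₀1 ?_
      have hmem : v₀ ∈ N ⊓ centralizer (K : Set G) := ⟨hv₀N', fun w hw => hfix w hw⟩
      rw [h, mem_bot] at hmem
      exact Subtype.ext hmem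
    intro w hw v hv
    rw [← hC] at hv
    exact hv.2 w hw
  -- every element acts as a power map
  have hpow : ∀ g : G, ∃ i : ℕ, ∀ v ∈ N, g * v * g⁻¹ = v ^ i := by
    intro g
    letI : CommGroup N := { (inferInstance : Group N) with mul_comm := fun a b => hNab.is_comm.comm a b }
    haveI : Nontrivial N := (nontrivial_iff_ne_bot N).mpr hN.2.1
    let T : N →* N := MonoidHom.mk' (fun v => ⟨g * v * g⁻¹, hN.1.conj_mem _ v.2 g⟩)
      fun a b => Subtype.ext (by simp [mul_assoc])
    have hTit : ∀ (m : ℕ) (v : N), ((T^[m] v : N) : G) = g ^ m * v * (g ^ m)⁻¹ := by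
      intro m
      induction m with
      | zero => simp
      | succ m ihm =>
        intro v
        rw [Function.iterate_succ_apply']
        show g * _ * g⁻¹ = _
        rw [ihm, pow_succ']
        group
    obtain ⟨v₂, i, hv₂, hTv₂⟩ := Cfsg.Lib.Huppert.exists_power_eigen (p := q)
      (fun v : N => Subtype.ext (hNexp v v.2)) T (fun v => Subtype.ext (by
        rw [hTit, hcent _ (mem_sup_right (subset_closure ⟨g, rfl⟩)) v v.2, mul_inv_cancel_right]))
    let W : Subgroup G :=
      { carrier := {v | v ∈ N ∧ g * v * g⁻¹ = v ^ i}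
        one_mem' := ⟨one_mem N, by simp⟩
        mul_mem' := by
          rintro a b ⟨ha, ha'⟩ ⟨hb, hb'⟩
          refine ⟨mul_mem ha hb, ?_⟩
          have hc : Commute a b := congrArg Subtype.val (hNab.is_comm.comm (⟨a, ha⟩ : N) ⟨b, hb⟩)
          rw [hc.mul_pow, ← ha', ← hb']
          group
        inv_mem' := by
          rintro a ⟨ha, ha'⟩
          refine ⟨inv_mem ha, ?_⟩
          rw [inv_pow, ← ha']
          group }
    haveI : W.Normal := ⟨fun v hv h => by
      have hNv : h * v * h⁻¹ ∈ N := hN.1.conj_mem _ hv.1 h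
      refine ⟨hNv, ?_⟩
      have hcw : ⁅g, h⁆ ∈ K := mem_sup_left (commutator_mem_commutator (mem_top g) (mem_top h))
      have h2 := hcent _ hcw _ (hN.1.conj_mem _ (hN.1.conj_mem _ hv.1 g) h)
      calc g * (h * v * h⁻¹) * g⁻¹
          = ⁅g, h⁆ * (h * (g * v * g⁻¹) * h⁻¹) * ⁅g, h⁆⁻¹ := by rw [commutatorElement_def]; group
        _ = h * (g * v * g⁻¹) * h⁻¹ := by rw [h2, mul_inv_cancel_right]
        _ = (h * v * h⁻¹) ^ i := by rw [hv.2, conj_pow]⟩
    have hWN : W = N := (hN.2.2 W inferInstance fun v hv => hv.1).resolve_left fun h => hv₂ (by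
      have hmem : (v₂ : G) ∈ W := ⟨v₂.2, congrArg Subtype.val hTv₂⟩
      rw [h, mem_bot] at hmem
      exact Subtype.ext hmem)
    refine ⟨i, fun v hv => ?_⟩
    rw [← hWN] at hv
    exact hv.2
  have hNcard : Nat.card N = q := by
    haveI : (zpowers v₁).Normal := ⟨fun v hv g => by
      obtain ⟨i, hi⟩ := hpow g
      rw [hi v (zpowers_le.mpr hv₁ hv)]
      exact pow_mem hv i⟩
    have := (hN.2.2 (zpowers v₁) inferInstance (zpowers_le.mpr hv₁)).resolve_left fun h => hv₁1 (by
      simpa [zpowers_eq_bot] using h)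
    rw [← this, Nat.card_zpowers]
    exact orderOf_eq_prime (hNexp v₁ hv₁) hv₁1
  refine Cfsg.Lib.Supersolvable.of_normal_prime N (hNcard ▸ hq.out) ?_
  haveI : (Q.map (QuotientGroup.mk' N)).Normal :=
    Normal.map inferInstance _ (QuotientGroup.mk'_surjective N)
  refine ih (Nat.card (G ⧸ N)) (Cfsg.Lib.Core.card_quotient_lt hN.2.1) rfl
    (Q.map (QuotientGroup.mk' N)) (hQ.map _)
    (Cfsg.Lib.Supersolvable.of_mulEquiv hGQ (QuotientGroup.quotientQuotientEquivQuotient N Q hNQ).symm)
    ?_
  intro xb hxb hcob vb hvb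
  obtain ⟨v, hv, rfl⟩ := hvb
  have hKsurj : (powComm q (G ⧸ N)) ≤ K.map (QuotientGroup.mk' N) := by
    rw [hKdef, powComm, powComm, Subgroup.map_sup, MonoidHom.map_closure]
    refine sup_le_sup ?_ (closure_mono ?_)
    · rw [commutator_def, commutator_def, map_commutator,
        map_top_of_surjective _ (QuotientGroup.mk'_surjective N)]
    · rintro _ ⟨a, rfl⟩
      obtain ⟨a, rfl⟩ := QuotientGroup.mk'_surjective N a
      exact ⟨_, ⟨a, rfl⟩, map_pow _ a _⟩
  obtain ⟨x, hx, rfl⟩ := hKsurj hxb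
  set m := orderOf (QuotientGroup.mk' N x) with hm
  obtain ⟨e, t, hqt, het⟩ := Nat.exists_eq_pow_mul_and_not_dvd (orderOf_pos x).ne' q hq.out.ne_one
  have hmt : m ∣ t := by
    have h1 : m ∣ q ^ e * t := het ▸ orderOf_map_dvd _ x
    exact (hcob.pow_right e).dvd_of_dvd_mul_left h1
  obtain ⟨k, hk1, hk2⟩ := Nat.chineseRemainder
    ((((hq.out.coprime_iff_not_dvd).mpr hqt).pow_left e)) 0 1
  have hxk : QuotientGroup.mk' N x = QuotientGroup.mk' N (x ^ k) := by
    rw [map_pow]
    conv_lhs => rw [← pow_one (QuotientGroup.mk' N x)]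
    exact (pow_eq_pow_iff_modEq.mpr ((hk2.of_dvd hmt).symm))
  have hcok : (orderOf (x ^ k)).Coprime q := by
    obtain ⟨c, hc⟩ := (Nat.modEq_zero_iff_dvd.mp hk1)
    have h1 : (x ^ k) ^ t = 1 := by
      rw [hc, ← pow_mul, mul_right_comm, ← het, pow_mul, pow_orderOf_eq_one, one_pow]
    exact Nat.Coprime.coprime_dvd_left (orderOf_dvd_of_pow_eq_one h1)
      ((hq.out.coprime_iff_not_dvd).mpr hqt).symm
  rw [hxk, ← map_mul, ← map_mul, hK _ (pow_mem hx k) hcok v hv]

/-- The hypothesis on the Sylow subgroups, intrinsically. -/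
def SylowHyp (E : Type u) [Group E] : Prop :=
  ∀ (p : ℕ) [Fact p.Prime] (S : Sylow p E), ¬ IsCyclic (S : Subgroup E) →
    ∃ d : ℕ, 0 < d ∧ p ^ d < Nat.card (S : Subgroup E) ∧
      ∀ F : Subgroup E, F ≤ (S : Subgroup E) →
        (Nat.card F = p ^ d ∨ (d = 1 ∧ p = 2 ∧ Nat.card F = 4)) →
        ∀ g : E, F.map (MulAut.conj g).toMonoidHom ⊓ normalizer (F : Set E) ≤ F

/-- The Sylow subgroup for the largest prime is normal. -/
theorem sylow_max_normal : ∀ {E : Type u} [Group E] [Finite E], SylowHyp E →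
    ∀ (q : ℕ) [Fact q.Prime], (∀ r : ℕ, r.Prime → r ∣ Nat.card E → r ≤ q) →
    ∀ S : Sylow q E, (S : Subgroup E).Normal := by
  intro E _ _
  induction hn : Nat.card E using Nat.strong_induction_on generalizing E with
  | _ n ih =>
  subst hn
  intro hyp q _ hmax S
  by_cases h1 : Nat.card E = 1
  · haveI : Subsingleton E := (Nat.card_eq_one_iff_unique.mp h1).1
    exact ⟨fun x hx g => by rw [Subsingleton.elim (g * x * g⁻¹) x]; exact hx⟩
  haveI hp : Fact (Nat.card E).minFac.Prime := ⟨Nat.minFac_prime h1⟩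
  set p := (Nat.card E).minFac with hpdef
  have hmin : ∀ r : ℕ, r.Prime → r ∣ Nat.card E → p ≤ r := fun r hr hrd => Nat.minFac_le_of_dvd hr.two_le hrd
  let P : Sylow p E := Classical.arbitrary _
  have hnc : Cfsg.HasNormalPComplement p E := by
    by_cases hc : IsCyclic (P : Subgroup E)
    · exact hasNormalPComplement_of_cyclic hmin P hc
    obtain ⟨d, hd0, hd, hF⟩ := hyp p P hc
    exact main hmin P d hd0 hd (fun F hF' hFc => sc_of_hsubgroup P.2 hF' (hF F hF' (Or.inl hFc)))
      (fun h1 h2 F hF' hFc => sc_of_hsubgroup P.2 hF' (hF F hF' (Or.inr ⟨h1, h2, hFc⟩)))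
  set K := Cfsg.pResidual p E with hK
  have hKco : (Nat.card K).Coprime p := Cfsg.Lib.Fusion.hasNormalPComplement_iff_coprime.mp hnc
  obtain ⟨e, he⟩ := Cfsg.Lib.Fusion.index_pResidual_eq_pow (G := E) (p := p)
  by_cases hqp : q = p
  · -- then `E` is a `q`-group
    have hK1 : Nat.card K = 1 := by
      by_contra hne
      obtain ⟨r, hr, hrd⟩ := Nat.exists_prime_and_dvd hne
      have hrE := hrd.trans (card_subgroup_dvd_card K)
      have : r = p := le_antisymm (hqp ▸ hmax r hr hrE) (hmin r hr hrE)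
      subst this
      exact hp.out.ne_one (Nat.dvd_one.mp (hKco.gcd_eq_one ▸ Nat.dvd_gcd hrd dvd_rfl))
    have hEp : IsPGroup q E := by
      refine IsPGroup.of_card (n := e) ?_
      rw [← card_mul_index K, hK1, one_mul, he, hqp]
    have : (S : Subgroup E) = ⊤ := (S.3 ((hEp.to_subgroup ⊤)) le_top).symm
    rw [this]; infer_instance
  have hKne : K ≠ ⊤ := fun h => by
    rw [h, card_top] at hKco
    exact hp.out.ne_one (Nat.dvd_one.mp (hKco.gcd_eq_one ▸ Nat.dvd_gcd (Nat.minFac_dvd _) dvd_rfl))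
  have hlift : ∀ (r : ℕ) [Fact r.Prime], r ≠ p → ∀ T : Sylow r K,
      ¬ r ∣ ((T : Subgroup K).map K.subtype).index := by
    intro r _ hrp T hd
    rw [index_map_subtype, Nat.Prime.dvd_mul (Fact.out : r.Prime)] at hd
    rcases hd with hd | hd
    · exact T.not_dvd_index hd
    · rw [he] at hd
      exact hrp ((Nat.prime_dvd_prime_iff_eq Fact.out hp.out).mp ((Fact.out : r.Prime).dvd_of_dvd_pow hd))
  have hKhyp : SylowHyp K := by
    intro r hr T hTc
    by_cases hrp : r = p
    · subst hrp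
      refine absurd ?_ hTc
      have hT1 : Nat.card (T : Subgroup K) = 1 := by
        obtain ⟨j, hj⟩ := IsPGroup.iff_card.mp (T.2 : IsPGroup p (T : Subgroup K))
        refine Nat.dvd_one.mp ?_
        rw [← (hKco.pow_right j).gcd_eq_one, ← hj]
        exact Nat.dvd_gcd (card_subgroup_dvd_card _) dvd_rfl
      haveI : Subsingleton (T : Subgroup K) := (Nat.card_eq_one_iff_unique.mp hT1).1
      infer_instance
    let T' : Sylow r E := ((T.2 : IsPGroup r (T : Subgroup K)).map K.subtype).toSylow (hlift r hrp T)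
    have hT'c : ¬ IsCyclic (T' : Subgroup E) := fun h => hTc (by
      haveI : IsCyclic ((T : Subgroup K).map K.subtype) := h
      exact isCyclic_of_surjective
        ((T : Subgroup K).equivMapOfInjective K.subtype K.subtype_injective).symm.toMonoidHom
        (MulEquiv.surjective _))
    obtain ⟨d, hd0, hd, hF⟩ := hyp r T' hT'c
    refine ⟨d, hd0, by rwa [← card_map_of_injective K.subtype_injective], fun F hFT hFc g => ?_⟩
    have h2 := hF (F.map K.subtype) (map_mono hFT)
      (by rwa [card_map_of_injective K.subtype_injective]) (g : E)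
    rintro y ⟨⟨f, hf, rfl⟩, hy⟩
    obtain ⟨f', hf', hfe⟩ := h2 (x := ((g * f * g⁻¹ : K) : E))
      ⟨⟨f, ⟨f, hf, rfl⟩, by simp⟩, mem_normalizer_of_conj_le (by
        rintro _ ⟨z, hz, rfl⟩
        exact ⟨_, (mem_normalizer_iff.mp hy z).mp hz, by simp⟩)⟩
    have : f' = g * f * g⁻¹ := Subtype.ext hfe
    rw [this] at hf'
    exact hf'
  let T : Sylow q K := Classical.arbitrary _
  haveI hTn : (T : Subgroup K).Normal := ih (Nat.card K) (Cfsg.Lib.Core.lt_card_of_ne_top hKne) rfl hKhyp q
    (fun r hr hrd => hmax r hr (hrd.trans (card_subgroup_dvd_card K))) T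
  haveI : (T : Subgroup K).Characteristic := T.characteristic_of_normal hTn
  let T' : Sylow q E := ((T.2 : IsPGroup q (T : Subgroup K)).map K.subtype).toSylow (hlift q hqp T)
  haveI hT'n : (T' : Subgroup E).Normal := Cfsg.Lib.Core.normal_map_char_of_normal (T : Subgroup K)
  haveI := Sylow.unique_of_normal T' hT'n
  rw [Subsingleton.elim S T']
  exact hT'n

/-- A `p`-element normalizing `W` has a `W`-conjugate normalizing a Sylow subgroup of `W`. -/
theorem exists_conj_mem_normalizer [Finite G] {p : ℕ} [Fact p.Prime] {W F : Subgroup G} {y : G}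
    (hy : y ∈ normalizer (W : Set G)) (hyp : IsPGroup p (zpowers y)) (hFW : F ≤ W)
    (hF : IsPGroup p F) (hidx : ¬ p ∣ F.relIndex W) :
    ∃ w ∈ W, w * y * w⁻¹ ∈ normalizer (F : Set G) := by
  let U : Subgroup G := W ⊔ zpowers y
  have hWU : W ≤ U := le_sup_left
  have hyU : y ∈ U := mem_sup_right (mem_zpowers y)
  haveI : (W.subgroupOf U).Normal :=
    normal_subgroupOf_of_le_normalizer (sup_le Subgroup.le_normalizer (zpowers_le.mpr hy))
  obtain ⟨S, hS⟩ := (hyp.of_equiv (subgroupOfEquivOfLe (le_sup_right : zpowers y ≤ U)).symm).exists_le_sylow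
  let A : Subgroup G := (S : Subgroup U).map U.subtype ⊓ W
  have hAp : IsPGroup p A := ((S.2 : IsPGroup p (S : Subgroup U)).map U.subtype).to_inf_left
  have hSU : (S : Subgroup U).map U.subtype ≤ U := map_subtype_le _
  have hArel : ¬ p ∣ A.relIndex W := by
    have h1 : A.relIndex W = (S : Subgroup U).relIndex (W.subgroupOf U) := by
      rw [inf_relIndex_right, ← relIndex_subgroupOf hWU]
      congr 1
      exact comap_map_eq_self_of_injective U.subtype_injective _
    rw [h1]
    intro hd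
    have h5 : (S : Subgroup U).relIndex (W.subgroupOf U) ∣ (S : Subgroup U).index := by
      set W' := W.subgroupOf U
      set S' := (S : Subgroup U)
      have e1 := relIndex_mul_relIndex (S' ⊓ W') S' (S' ⊔ W') inf_le_left le_sup_left
      have e2 := relIndex_mul_relIndex (S' ⊓ W') W' (S' ⊔ W') inf_le_right le_sup_right
      rw [inf_relIndex_left] at e1
      rw [inf_relIndex_right, relIndex_sup_right (K := W') (H := S')] at e2
      have h6 : S'.relIndex W' = S'.relIndex (S' ⊔ W') := Nat.eq_of_mul_eq_mul_right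
        (Nat.pos_of_ne_zero index_ne_zero_of_finite : 0 < W'.relIndex S')
        (e2.trans (e1.symm.trans (mul_comm _ _)))
      rw [h6]
      exact relIndex_dvd_index_of_le le_sup_left
    exact S.not_dvd_index (hd.trans h5)
  have hAn : y ∈ normalizer (A : Set G) := by
    refine mem_normalizer_of_conj_le fun k hk => ⟨?_, (mem_normalizer_iff.mp hy k).mp hk.2⟩
    obtain ⟨s, hs, rfl⟩ := hk.1
    exact ⟨⟨y, hyU⟩ * s * ⟨y, hyU⟩⁻¹,
      mul_mem (mul_mem (hS (mem_subgroupOf.mpr (mem_zpowers y))) hs)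
        (inv_mem (hS (mem_subgroupOf.mpr (mem_zpowers y)))), by simp⟩
  have hA' : A ≤ W := inf_le_right
  let T₁ : Sylow p W := (hAp.of_equiv (subgroupOfEquivOfLe hA').symm).toSylow hArel
  let T₂ : Sylow p W := (hF.of_equiv (subgroupOfEquivOfLe hFW).symm).toSylow hidx
  obtain ⟨w, hw⟩ := MulAction.exists_smul_eq W T₁ T₂
  have hmem : ∀ k ∈ A, (w : G) * k * (w : G)⁻¹ ∈ F := by
    intro k hk
    have h1 : w * ⟨k, hA' hk⟩ * w⁻¹ ∈ (T₂ : Subgroup W) := by
      rw [← hw, Sylow.coe_subgroup_smul]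
      exact Subgroup.smul_mem_pointwise_smul _ (MulAut.conj w) _ (mem_subgroupOf.mpr hk)
    exact mem_subgroupOf.mp h1
  have hcard : Nat.card A = Nat.card F := by
    have h1 := Sylow.card_eq_multiplicity T₁
    have h2 := Sylow.card_eq_multiplicity T₂
    rw [← Nat.card_congr (subgroupOfEquivOfLe hA').toEquiv, ← Nat.card_congr (subgroupOfEquivOfLe hFW).toEquiv]
    exact h1.trans h2.symm
  have hmap : A.map (MulAut.conj (w : G)).toMonoidHom = F :=
    eq_of_le_of_card_ge (by rintro _ ⟨k, hk, rfl⟩; exact hmem k hk)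
      (by rw [card_map_of_injective (MulAut.conj (w : G)).injective, hcard])
  refine ⟨w, w.2, mem_normalizer_of_conj_le ?_⟩
  rw [← hmap]
  rintro _ ⟨k, hk, rfl⟩
  refine ⟨y * k * y⁻¹, (mem_normalizer_iff.mp hAn k).mp hk, ?_⟩
  simp only [MulEquiv.coe_toMonoidHom, MulAut.conj_apply]
  group

/-- The hypothesis of the theorem, in the ambient group. -/
def FixedOrderHyp (E : Subgroup G) : Prop :=
  ∀ (p : ℕ), p.Prime → ∀ P : Subgroup G, P ≤ E → IsPGroup p P → ¬ p ∣ P.relIndex E → ¬ IsCyclic P →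
    ∃ D : Subgroup G, D ≤ P ∧ 1 < Nat.card D ∧ Nat.card D < Nat.card P ∧
      ∀ F : Subgroup G, F ≤ P → (Nat.card F = Nat.card D ∨ (Nat.card D = 2 ∧ Nat.card F = 4)) →
        ∀ g : G, F.map (MulAut.conj g).toMonoidHom ⊓ normalizer (F : Set G) ≤ F

theorem sylowHyp_of_fixedOrderHyp [Finite G] {E : Subgroup G} (h : FixedOrderHyp E) : SylowHyp E := by
  intro p hp S hSc
  obtain ⟨D, hDS, hD1, hD2, hF⟩ := h p hp.out ((S : Subgroup E).map E.subtype) (map_subtype_le _)
    ((S.2 : IsPGroup p (S : Subgroup E)).map E.subtype)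
    (by
      show ¬ p ∣ (((S : Subgroup E).map E.subtype).subgroupOf E).index
      rw [subgroupOf, comap_map_eq_self_of_injective E.subtype_injective]
      exact S.not_dvd_index)
    (fun hc => hSc (by
      haveI := hc
      exact isCyclic_of_surjective
        ((S : Subgroup E).equivMapOfInjective E.subtype E.subtype_injective).symm.toMonoidHom
        (MulEquiv.surjective _)))
  obtain ⟨d, hd⟩ := IsPGroup.iff_card.mp (((S.2 : IsPGroup p (S : Subgroup E)).map E.subtype).to_le hDS)
  rw [card_map_of_injective E.subtype_injective, hd] at hD2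
  refine ⟨d, ?_, hD2, fun F hFS hFc g => ?_⟩
  · rcases Nat.eq_zero_or_pos d with rfl | h0
    · rw [hd, pow_zero] at hD1; exact absurd hD1 (lt_irrefl 1)
    · exact h0
  have h2 := hF (F.map E.subtype) (map_mono hFS) (by
    rw [card_map_of_injective E.subtype_injective, hd]
    rcases hFc with h1 | ⟨h1, h2, h3⟩
    · exact Or.inl h1
    · exact Or.inr ⟨by rw [h1, h2, pow_one], h3⟩) (g : G)
  rintro y ⟨⟨f, hf, rfl⟩, hy⟩
  obtain ⟨f', hf', hfe⟩ := h2 (x := ((g * f * g⁻¹ : E) : G))
    ⟨⟨f, ⟨f, hf, rfl⟩, by simp⟩, mem_normalizer_of_conj_le (by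
      rintro _ ⟨z, hz, rfl⟩
      exact ⟨_, (mem_normalizer_iff.mp hy z).mp hz, by simp⟩)⟩
  have : f' = g * f * g⁻¹ := Subtype.ext hfe
  rw [this] at hf'
  exact hf'

theorem supersolvable : ∀ {G : Type u} [Group G] [Finite G] (E : Subgroup G) [E.Normal],
    Cfsg.IsSupersolvable (G ⧸ E) → FixedOrderHyp E → Cfsg.IsSupersolvable G := by
  intro G _ _
  induction hn : Nat.card G using Nat.strong_induction_on generalizing G with
  | _ n ih =>
  subst hn
  intro E _ hGE hyp
  by_cases hE1 : E = ⊥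
  · subst hE1
    exact Cfsg.Lib.Supersolvable.of_mulEquiv hGE QuotientGroup.quotientBot
  have hEc : Nat.card E ≠ 1 := fun h => hE1 (eq_bot_of_card_eq E h)
  have hne : (Nat.card E).primeFactors.Nonempty :=
    Nat.nonempty_primeFactors.mpr (lt_of_le_of_ne Nat.card_pos hEc.symm)
  set q := (Nat.card E).primeFactors.max' hne with hqdef
  have hqmem := Finset.max'_mem _ hne
  rw [← hqdef, Nat.mem_primeFactors] at hqmem
  haveI hq : Fact q.Prime := ⟨hqmem.1⟩
  have hmax : ∀ r : ℕ, r.Prime → r ∣ Nat.card E → r ≤ q := fun r hr hrd =>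
    Finset.le_max' _ r (Nat.mem_primeFactors.mpr ⟨hr, hrd, Nat.card_pos.ne'⟩)
  let S : Sylow q E := Classical.arbitrary _
  haveI hSn : (S : Subgroup E).Normal := sylow_max_normal (sylowHyp_of_fixedOrderHyp hyp) q hmax S
  haveI : (S : Subgroup E).Characteristic := S.characteristic_of_normal hSn
  set Q := (S : Subgroup E).map E.subtype with hQdef
  haveI hQn : Q.Normal := Cfsg.Lib.Core.normal_map_char_of_normal (S : Subgroup E)
  have hQE : Q ≤ E := map_subtype_le _
  have hQp : IsPGroup q Q := (S.2 : IsPGroup q (S : Subgroup E)).map _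
  have hQrel : ¬ q ∣ Q.relIndex E := by
    show ¬ q ∣ (Q.subgroupOf E).index
    rw [hQdef, subgroupOf, comap_map_eq_self_of_injective E.subtype_injective]
    exact S.not_dvd_index
  have hQne : Q ≠ ⊥ := fun h => hQrel (by rw [h, relIndex_bot_left]; exact hqmem.2.1)
  -- the quotient
  let π : G →* G ⧸ Q := QuotientGroup.mk' Q
  have hπ : Function.Surjective π := QuotientGroup.mk'_surjective Q
  haveI : (E.map π).Normal := Normal.map inferInstance π hπ
  have hQEc : Nat.card E = Nat.card Q * Nat.card (E.map π) := by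
    rw [← Cfsg.Lib.Core.card_mul_relIndex hQE, ← relIndex_bot_left (H := E.map π), ← map_bot π,
      relIndex_map_map, bot_sup_eq, QuotientGroup.ker_mk', sup_of_le_left hQE]
  have hqnd : ¬ q ∣ Nat.card (E.map π) := by
    intro hd
    have h1 := Cfsg.Lib.Core.card_mul_relIndex hQE
    rw [hQEc] at h1
    rw [Nat.eq_of_mul_eq_mul_left Nat.card_pos h1] at hQrel
    exact hQrel hd
  have hbar : FixedOrderHyp (E.map π) := by
    intro p hp P hPE hPp hPrel hPc
    haveI : Fact p.Prime := ⟨hp⟩
    obtain ⟨a, ha⟩ := IsPGroup.iff_card.mp hPp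
    have hpq : p ≠ q := by
      intro hpq
      refine hPc ?_
      have h1 : a = 0 := by
        by_contra ha0
        exact hqnd (hpq ▸ ((ha ▸ dvd_pow_self p ha0).trans (card_dvd_of_le hPE)))
      haveI : Subsingleton P := (Nat.card_eq_one_iff_unique.mp (by rw [ha, h1, pow_zero])).1
      infer_instance
    set W := P.comap π with hW
    have hQW : Q ≤ W := fun x hx => by
      rw [hW, mem_comap, show π x = 1 from (QuotientGroup.eq_one_iff x).mpr hx]
      exact one_mem P
    have hWc : Nat.card W = Nat.card Q * Nat.card P := by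
      rw [← Cfsg.Lib.Core.card_mul_relIndex hQW, ← relIndex_bot_left (H := P), ← map_bot π,
        ← map_comap_eq_self_of_surjective hπ P, relIndex_map_map, bot_sup_eq, QuotientGroup.ker_mk',
        sup_of_le_left hQW]
    have hWE : W ≤ E := by
      intro x hx
      obtain ⟨y, hy, hyx⟩ := hPE hx
      have : y⁻¹ * x ∈ Q := QuotientGroup.eq.mp hyx
      have h2 := mul_mem hy (hQE this)
      rwa [mul_inv_cancel_left] at h2
    obtain ⟨b, hb⟩ := IsPGroup.iff_card.mp hQp
    let T : Sylow p W := Classical.arbitrary _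
    set P₀ := (T : Subgroup W).map W.subtype with hP₀
    have hP₀W : P₀ ≤ W := map_subtype_le _
    have hP₀p : IsPGroup p P₀ := (T.2 : IsPGroup p (T : Subgroup W)).map _
    have hcop : Nat.Coprime (q ^ b) (p ^ a) := Nat.coprime_pow_primes _ _ hq.out hp hpq.symm
    have hP₀c : Nat.card P₀ = Nat.card P := by
      rw [hP₀, card_map_of_injective W.subtype_injective]
      obtain ⟨c, hc⟩ := IsPGroup.iff_card.mp (T.2 : IsPGroup p (T : Subgroup W))
      have h1 := card_mul_index (T : Subgroup W)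
      rw [hWc, hb, ha, hc] at h1
      have h2 : p ^ c ∣ p ^ a := (Nat.Coprime.dvd_of_dvd_mul_left
        (Nat.coprime_pow_primes _ _ hp hq.out hpq) (Dvd.intro _ h1))
      have h3 : p ^ a ∣ p ^ c := by
        refine (Nat.Coprime.dvd_of_dvd_mul_right ?_ (Dvd.intro_left _ h1.symm : p ^ a ∣ p ^ c * _))
        exact ((Nat.Prime.coprime_iff_not_dvd hp).mpr T.not_dvd_index).pow_left a
      rw [hc, ha]; exact Nat.dvd_antisymm h2 h3
    have hinj : ∀ x ∈ P₀, π x = 1 → x = 1 := by
      intro x hx hx1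
      have hxQ : x ∈ Q := (QuotientGroup.eq_one_iff x).mp hx1
      have : Q ⊓ P₀ = ⊥ := inf_eq_bot_of_coprime (by rw [hb, hP₀c, ha]; exact hcop)
      exact mem_bot.mp (this ▸ ⟨hxQ, hx⟩)
    have hcardmap : ∀ H ≤ P₀, Nat.card (H.map π) = Nat.card H := fun H hH =>
      (Nat.card_congr (Equiv.ofBijective (fun x : H => (⟨π x, ⟨x, x.2, rfl⟩⟩ : H.map π))
        ⟨fun x y hxy => Subtype.ext (mul_inv_eq_one.mp (hinj _
          (P₀.mul_mem (hH x.2) (P₀.inv_mem (hH y.2)))
          (by rw [map_mul, map_inv, show π (x : G) = π (y : G) from congrArg Subtype.val hxy, mul_inv_cancel]))),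
        fun ⟨_, x, hx, he⟩ => ⟨⟨x, hx⟩, Subtype.ext he⟩⟩)).symm
    have hP₀map : P₀.map π = P := eq_of_le_of_card_ge
      (by rintro _ ⟨x, hx, rfl⟩; exact hP₀W hx)
      (by rw [hcardmap P₀ le_rfl, hP₀c])
    obtain ⟨D, hDP, hD1, hD2, hF⟩ := hyp p hp P₀ (hP₀W.trans hWE) hP₀p (by
      intro hd
      have h1 := Cfsg.Lib.Core.card_mul_relIndex (hP₀W.trans hWE)
      rw [hQEc, hP₀c, ← Cfsg.Lib.Core.card_mul_relIndex hPE] at h1
      have h2 : P₀.relIndex E = Nat.card Q * P.relIndex (E.map π) :=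
        Nat.eq_of_mul_eq_mul_left Nat.card_pos (h1.trans (by ring))
      rw [h2, hb, hp.dvd_mul] at hd
      rcases hd with hd | hd
      · exact hpq ((Nat.prime_dvd_prime_iff_eq hp hq.out).mp (hp.dvd_of_dvd_pow hd))
      · exact hPrel hd)
      (fun hc => hPc (by
        haveI := hc
        rw [← hP₀map]
        exact isCyclic_of_surjective (π.subgroupMap P₀) (π.subgroupMap_surjective P₀)))
    refine ⟨D.map π, (map_mono hDP).trans hP₀map.le, by rwa [hcardmap D hDP],
      by rwa [hcardmap D hDP, ← hP₀c], fun F hFP hFc gb => ?_⟩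
    obtain ⟨g, rfl⟩ := hπ gb
    set F₀ := P₀ ⊓ F.comap π with hF₀
    have hF₀map : F₀.map π = F := le_antisymm
      (by rintro _ ⟨x, hx, rfl⟩; exact hx.2)
      (fun y hy => by
        obtain ⟨x, hx, rfl⟩ := (hP₀map.symm ▸ hFP hy : y ∈ P₀.map π)
        exact ⟨x, ⟨hx, hy⟩, rfl⟩)
    have hF₀c : Nat.card F₀ = Nat.card F := by rw [← hcardmap F₀ inf_le_left, hF₀map]
    have hH := hF F₀ inf_le_left (by rwa [hF₀c, ← hcardmap D hDP])
    rintro yb ⟨⟨fb, hfb, rfl⟩, hyb⟩
    obtain ⟨f, hf, rfl⟩ := (hF₀map.symm ▸ hfb : fb ∈ F₀.map π)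
    set y := g * f * g⁻¹ with hy
    have hπy : π y = π g * π f * (π g)⁻¹ := by simp [hy]
    set WF := F.comap π with hWF
    have hyW : y ∈ normalizer (WF : Set G) := mem_normalizer_of_conj_le fun k hk => by
      rw [hWF, mem_comap] at hk ⊢
      rw [map_mul, map_mul, map_inv, hπy]
      exact (mem_normalizer_iff.mp hyb _).mp hk
    have hyp' : IsPGroup p (zpowers y) := by
      obtain ⟨j, hj⟩ := IsPGroup.iff_orderOf.mp hP₀p ⟨f, hf.1⟩
      rw [Subgroup.orderOf_mk] at hj
      refine IsPGroup.of_card (n := j) ?_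
      rw [Nat.card_zpowers, hy, ← MulAut.conj_apply, MulEquiv.orderOf_eq, hj]
    have hrelF : ¬ p ∣ F₀.relIndex WF := by
      intro hd
      have h1 := Cfsg.Lib.Core.card_mul_relIndex (inf_le_right : F₀ ≤ WF)
      have h2 : Nat.card WF = Nat.card Q * Nat.card F := by
        have hQWF : Q ≤ WF := fun x hx => by
          rw [hWF, mem_comap, show π x = 1 from (QuotientGroup.eq_one_iff x).mpr hx]
          exact one_mem F
        rw [← Cfsg.Lib.Core.card_mul_relIndex hQWF, ← relIndex_bot_left (H := F), ← map_bot π,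
          ← map_comap_eq_self_of_surjective hπ F, relIndex_map_map, bot_sup_eq, QuotientGroup.ker_mk',
          sup_of_le_left hQWF]
      rw [h2, hF₀c, mul_comm (Nat.card Q)] at h1
      rw [Nat.eq_of_mul_eq_mul_left Nat.card_pos h1, hb] at hd
      exact hpq ((Nat.prime_dvd_prime_iff_eq hp hq.out).mp (hp.dvd_of_dvd_pow hd))
    obtain ⟨w, hw, hwy⟩ := exists_conj_mem_normalizer hyW hyp' inf_le_right
      (hP₀p.to_le inf_le_left) hrelF
    have h3 : w * y * w⁻¹ ∈ F₀ := hH (w * g) ⟨⟨f, hf, by simp [hy, mul_assoc]⟩, hwy⟩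
    have hwF : π w ∈ F := hw
    have h4 := mem_map_of_mem π h3
    rw [hF₀map, map_mul, map_mul, map_inv, hπy] at h4
    have h5 := F.mul_mem (F.mul_mem (F.inv_mem hwF) h4) hwF
    simpa [mul_assoc] using h5
  have hGQ : Cfsg.IsSupersolvable (G ⧸ Q) :=
    ih (Nat.card (G ⧸ Q)) (Cfsg.Lib.Core.card_quotient_lt hQne) rfl (E.map π)
      (Cfsg.Lib.Supersolvable.of_mulEquiv hGE (QuotientGroup.quotientQuotientEquivQuotient Q E hQE).symm)
      hbar
  refine supersolvable_of_centralized Q hQp hGQ fun x hx hco => ?_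
  by_cases hQc : IsCyclic Q
  · exact commute_cyclic_normal hQp hx hco
  obtain ⟨D, hDQ, hD1, hD2, hF⟩ := hyp q hq.out Q hQE hQp hQrel hQc
  obtain ⟨d, hd⟩ := IsPGroup.iff_card.mp (hQp.to_le hDQ)
  have hd0 : 0 < d := by
    rcases Nat.eq_zero_or_pos d with rfl | h0
    · rw [hd, pow_zero] at hD1; exact absurd hD1 (lt_irrefl 1)
    · exact h0
  rw [hd] at hD2
  have hnormal : ∀ F : Subgroup G, F ≤ Q →
      (Nat.card F = q ^ d ∨ (d = 1 ∧ q = 2 ∧ Nat.card F = 4)) → F.Normal := by
    intro F hFQ hFc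
    have hh := hF F hFQ (by
      rcases hFc with h | ⟨h1, h2, h3⟩
      · exact Or.inl (h.trans hd.symm)
      · exact Or.inr ⟨by rw [hd, h1, h2, pow_one], h3⟩)
    have hsc := sc_of_hsubgroup hQp hFQ hh
    exact ⟨fun f hf g => hh g ⟨⟨f, hf, rfl⟩, hsc.le_normalizer (hQn.conj_mem f (hFQ hf) g)⟩⟩
  -- subgroups of order `q ^ d` are centralized
  have key : ∀ F : Subgroup G, F ≤ Q → Nat.card F = q ^ d → ∀ f ∈ F, x * f = f * x := by
    intro F hFQ hFc
    haveI := hnormal F hFQ (Or.inl hFc)
    by_cases hFcy : IsCyclic F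
    · exact commute_cyclic_normal (hQp.to_le hFQ) hx hco
    obtain ⟨c, hc⟩ := IsPGroup.iff_card.mp hQp
    obtain ⟨M, hMQ, hFM, hM⟩ := exists_between hQp hFQ hFc (Nat.le_succ d)
      (by
        rw [hc] at hD2 ⊢
        exact Nat.pow_le_pow_right hq.out.pos ((Nat.pow_lt_pow_iff_right hq.out.one_lt).mp hD2))
    have hMp : IsPGroup q M := hQp.to_le hMQ
    have hMcy : ¬ IsCyclic M := fun hcy => hFcy (by
      haveI := hcy
      exact isCyclic_of_injective (inclusion hFM) (inclusion_injective hFM))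
    -- `M` is normal
    haveI hMn : M.Normal := by
      have hlt : F < M := lt_of_le_of_ne hFM fun he => by
        rw [he, hM] at hFc
        exact absurd (Nat.pow_right_injective hq.out.two_le hFc) (by omega)
      obtain ⟨y, hyM, hyF⟩ := SetLike.exists_of_lt hlt
      obtain ⟨j, hj⟩ := IsPGroup.iff_orderOf.mp hMp ⟨y, hyM⟩
      rw [Subgroup.orderOf_mk] at hj
      have hjd : j ≤ d := by
        by_contra hjd
        refine hMcy ?_
        have hzM : zpowers y = M := by
          refine eq_of_le_of_card_ge (zpowers_le.mpr hyM) ?_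
          rw [Nat.card_zpowers, hj, hM]
          exact Nat.pow_le_pow_right hq.out.pos (by omega)
        rw [← hzM]; infer_instance
      obtain ⟨F', hF'M, hyF', hF'⟩ := exists_between hMp (zpowers_le.mpr hyM)
        (by rw [Nat.card_zpowers, hj]) hjd (by rw [hM]; exact Nat.pow_le_pow_right hq.out.pos (Nat.le_succ d))
      haveI := hnormal F' (hF'M.trans hMQ) (Or.inl hF')
      have hjoin : F ⊔ F' = M := by
        refine eq_of_le_of_card_ge (sup_le hFM hF'M) ?_
        have hlt' : F < F ⊔ F' := lt_of_le_of_ne le_sup_left fun he =>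
          hyF (he.symm.le (mem_sup_right (hyF' (mem_zpowers y))))
        obtain ⟨e, he⟩ := IsPGroup.iff_card.mp (hMp.to_le (sup_le hFM hF'M))
        have h1 := Cfsg.Lib.Fusion.card_lt_card_of_lt hlt'
        rw [hFc, he] at h1
        rw [hM, he]
        exact Nat.pow_le_pow_right hq.out.pos ((Nat.pow_lt_pow_iff_right hq.out.one_lt).mp h1)
      rw [← hjoin]; infer_instance
    have hA : zpowers x ≤ centralizer (M : Set G) := by
      refine Cfsg.Lib.Coprime.le_centralizer_of_commutator_le_frattini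
        (by rw [normalizer_eq_top_iff.mpr hMn]; exact le_top)
        (by rw [Nat.card_zpowers, hM]; exact hco.pow_right _)
        (Or.inr (by have := hMp.isNilpotent; infer_instance)) ?_
      rw [commutator_le]
      intro m hm a ha
      have hmem : ⁅m, a⁆ ∈ M := by
        rw [commutatorElement_def, mul_assoc, mul_assoc, ← mul_assoc a]
        exact M.mul_mem hm (hMn.conj_mem _ (M.inv_mem hm) a)
      refine ⟨⟨⁅m, a⁆, hmem⟩, ?_, rfl⟩
      simp only [frattini, Order.radical, SetLike.mem_coe, Subgroup.mem_iInf, Set.mem_setOf_eq]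
      intro K hK
      set H := K.map M.subtype with hH
      have hHc : Nat.card H = q ^ d := by
        obtain ⟨i, hi⟩ := IsPGroup.iff_card.mp (hMp.to_subgroup K)
        rw [hH, card_map_of_injective M.subtype_injective, hi]
        have hlt : i < d + 1 := by
          by_contra hge
          refine hK.1 (eq_top_of_le_card K ?_)
          rw [hi, hM]
          exact Nat.pow_le_pow_right hq.out.pos (not_lt.mp hge)
        obtain ⟨L, hL, hKL⟩ := Sylow.exists_subgroup_card_pow_succ (p := q) (n := i)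
          (by rw [hM]; exact pow_dvd_pow q hlt) hi
        have hLtop : L = ⊤ := hK.2 L (lt_of_le_of_ne hKL fun he => by
          rw [← he, hi] at hL
          exact absurd (Nat.pow_right_injective hq.out.two_le hL) (by omega))
        rw [hLtop, card_top, hM] at hL
        have := Nat.pow_right_injective hq.out.two_le hL
        congr 1; omega
      have hHM : H ≤ M := map_subtype_le _
      haveI := hnormal H (hHM.trans hMQ) (Or.inl hHc)
      have hidx : H.relIndex M = q := by
        have h1 := Cfsg.Lib.Core.card_mul_relIndex hHM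
        rw [hHc, hM, pow_succ q d] at h1
        exact Nat.eq_of_mul_eq_mul_left (pow_pos hq.out.pos d) h1
      have hax : a ∈ powComm q G := zpowers_le.mpr hx ha
      have haco : (orderOf a).Coprime q := by
        obtain ⟨k, rfl⟩ := mem_zpowers_iff.mp ha
        exact hco.coprime_dvd_left (orderOf_dvd_of_pow_eq_one (by
          rw [← zpow_natCast, ← zpow_mul, mul_comm, zpow_mul, zpow_natCast, pow_orderOf_eq_one, one_zpow]))
      have h1 := commutator_mem_of_relIndex hHM hidx hax haco hm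
      have h2 : ⁅m, a⁆ ∈ H := by
        have := H.inv_mem h1
        convert this using 1
        rw [commutatorElement_def]; group
      obtain ⟨k, hk, hke⟩ := h2
      have : k = ⟨⁅m, a⁆, hmem⟩ := Subtype.ext hke
      exact this ▸ hk
    intro f hf
    exact (hA (mem_zpowers x) f (hFM hf)).symm
  intro v hv
  obtain ⟨c, hc⟩ := IsPGroup.iff_card.mp hQp
  have hA : zpowers x ≤ centralizer (Q : Set G) := by
    refine Cfsg.Lib.Thompson.le_centralizer_of_centralizes_small (zpowers x) Q hQp
      (by rw [normalizer_eq_top_iff.mpr hQn]; exact le_top)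
      (by rw [Nat.card_zpowers, hc]; exact hco.pow_right c) fun a ha hsmall b hb => ?_
    obtain ⟨k, rfl⟩ := mem_zpowers_iff.mp hb
    refine (Commute.zpow_left ?_ k).eq
    show x * a = a * x
    obtain ⟨j, hj⟩ := IsPGroup.iff_orderOf.mp hQp ⟨a, ha⟩
    rw [Subgroup.orderOf_mk] at hj
    by_cases hjd : j ≤ d
    · obtain ⟨F, hFQ, haF, hFc⟩ := exists_between hQp (zpowers_le.mpr ha)
        (by rw [Nat.card_zpowers, hj]) hjd hD2.le
      exact key F hFQ hFc a (haF (mem_zpowers a))
    · have hza : zpowers a ≤ Q := zpowers_le.mpr ha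
      rcases hsmall with h | ⟨h2, h⟩
      · have := orderOf_dvd_of_pow_eq_one h
        rw [hj] at this
        nth_rewrite 2 [← pow_one q] at this
        have := (Nat.pow_dvd_pow_iff_le_right hq.out.one_lt).mp this
        omega
      · have h3 := orderOf_dvd_of_pow_eq_one h
        rw [hj, h2, show 4 = 2 ^ 2 by norm_num] at h3
        have := (Nat.pow_dvd_pow_iff_le_right (by norm_num : 1 < 2)).mp h3
        haveI := hnormal (zpowers a) hza (Or.inr ⟨by omega, h2, by
          rw [Nat.card_zpowers, hj, h2, show j = 2 by omega]; norm_num⟩)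
        exact commute_cyclic_normal (hQp.to_le hza) hx hco a (mem_zpowers a)
  exact (hA (mem_zpowers x) v hv).symm

end Cfsg.Lib.Local.FixedOrder
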