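import Cfsg.Agent.Lib.Local.FreeActionAbelian
import Cfsg.Agent.Lib.Core.Fitting

/-!
Frobenius groups `K ⟨u⟩` with `|u|` prime acting without fixed points of `K`: `|M| = |C_M (u)| ^ r`, and
`K'` centralizes `M` if `C_M (u)` is cyclic.
-/

set_option autoImplicit false
set_option linter.style.haveILetI false
set_option linter.unusedSectionVars false

namespace Cfsg.Lib.Local.FreeAction

open Subgroup Uniq
open scoped IsMulCommutative commutatorElement

universe u

variable {X : Type u} [Group X] [Finite X]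

theorem normalizer_le_normalizer_commutator (M : Subgroup X) :
    normalizer (M : Set X) ≤ normalizer ((⁅M, M⁆ : Subgroup X) : Set X) := fun g hg => by
  rw [Core.mem_normalizer_iff_map_conj, Subgroup.map_commutator, Core.map_conj_eq_of_mem_normalizer hg]

theorem card_map_mul {Y : Type u} [Group Y] (f : X →* Y) (H : Subgroup X) :
    Nat.card ↥(H.map f) * Nat.card ↥(H ⊓ f.ker) = Nat.card H := by
  rw [Subgroup.card_eq_card_quotient_mul_card_subgroup ((f.comp H.subtype).ker)]
  congr 1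
  · rw [← H.range_subtype, ← MonoidHom.range_comp, H.range_subtype]
    exact (Nat.card_congr (QuotientGroup.quotientKerEquivRange (f.comp H.subtype)).toEquiv).symm
  · exact Nat.card_congr ⟨fun z => ⟨⟨z.1, z.2.1⟩, z.2.2⟩, fun z => ⟨z.1.1, Subgroup.mem_inf.mpr ⟨z.1.2, z.2⟩⟩,
      fun z => rfl, fun z => rfl⟩

theorem inf_centralizer_subgroupOf {L A B : Subgroup X} (hB : B ≤ L) :
    (A ⊓ centralizer (B : Set X)).subgroupOf L =
      A.subgroupOf L ⊓ centralizer ((B.subgroupOf L : Subgroup L) : Set L) := by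
  ext ⟨x, hx⟩
  simp only [mem_subgroupOf, Subgroup.mem_inf, mem_centralizer_iff]
  refine and_congr_right fun _ => ⟨fun h b hb => Subtype.ext (h b hb), fun h b hb => ?_⟩
  exact congrArg Subtype.val (h ⟨b, hB hb⟩ hb)

theorem centralizer_zpowers_eq (u : X) :
    centralizer ((zpowers u : Subgroup X) : Set X) = centralizer ({u} : Set X) := by
  refine le_antisymm (Subgroup.centralizer_le (Set.singleton_subset_iff.mpr (mem_zpowers u))) fun c hc =>
    mem_centralizer_iff.mpr fun z hz => ?_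
  obtain ⟨i, rfl⟩ := mem_zpowers_iff.mp hz
  exact (((show Commute c u from mem_centralizer_singleton_iff.mp hc).zpow_right i).symm).eq

theorem coe_zpowers_centralizer {A : Subgroup X} (u : X) :
    A ⊓ centralizer ((zpowers u : Subgroup X) : Set X) = A ⊓ centralizer ({u} : Set X) := by
  rw [centralizer_zpowers_eq]

/-- The centre of the group of operators induced by `K` on `M`. -/
theorem exists_center_part {K M : Subgroup X} (hKM : K ≤ normalizer (M : Set X)) (hnil : Group.IsNilpotent K)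
    (hne : ¬ K ≤ centralizer (M : Set X)) :
    ∃ Z : Subgroup X, Z ≤ K ∧ K ≤ normalizer (Z : Set X) ∧
      (∀ v : X, v ∈ normalizer (K : Set X) → v ∈ normalizer (M : Set X) → v ∈ normalizer (Z : Set X)) ∧
      (∀ k ∈ K, ∀ z ∈ Z, k * z * k⁻¹ * z⁻¹ ∈ Z ⊓ centralizer (M : Set X)) ∧ ¬ Z ≤ centralizer (M : Set X) := by
  have hCK : K ≤ normalizer ((centralizer (M : Set X) : Subgroup X) : Set X) :=
    hKM.trans (Local.normalizer_le_normalizer_centralizer M)
  set N0 := (centralizer (M : Set X)).subgroupOf K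
  haveI : N0.Normal := normal_subgroupOf_of_le_normalizer hCK
  set Z := ((Subgroup.center (↥K ⧸ N0)).comap (QuotientGroup.mk' N0)).map K.subtype
  have hZK : Z ≤ K := map_subtype_le _
  have hZmem : ∀ {z : X}, z ∈ Z ↔ z ∈ K ∧ ∀ k ∈ K, k * z * k⁻¹ * z⁻¹ ∈ centralizer (M : Set X) := by
    intro z
    refine ⟨fun hz => ⟨hZK hz, fun k hk => ?_⟩, fun ⟨hz, hzk⟩ => ⟨⟨z, hz⟩, mem_comap.mpr
      (Subgroup.mem_center_iff.mpr fun q => ?_), rfl⟩⟩
    · obtain ⟨z0, hz0, rfl⟩ := hz
      have h1 := Subgroup.mem_center_iff.mp hz0 (QuotientGroup.mk' N0 ⟨k, hk⟩)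
      have h2 : QuotientGroup.mk' N0 (⟨k, hk⟩ * z0 * ⟨k, hk⟩⁻¹ * z0⁻¹) = 1 := by
        rw [map_mul, map_mul, map_mul, map_inv, map_inv, h1]; group
      exact mem_subgroupOf.mp ((QuotientGroup.eq_one_iff _).mp h2)
    · obtain ⟨⟨k, hk⟩, rfl⟩ := QuotientGroup.mk'_surjective N0 q
      have h2 : QuotientGroup.mk' N0 ((⟨k, hk⟩ : K) * ⟨z, hz⟩ * (⟨k, hk⟩ : K)⁻¹ * (⟨z, hz⟩ : K)⁻¹) = 1 :=
        (QuotientGroup.eq_one_iff _).mpr (mem_subgroupOf.mpr (hzk k hk))
      rwa [map_mul, map_mul, map_mul, map_inv, map_inv, mul_inv_eq_one, mul_inv_eq_iff_eq_mul] at h2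
  have key : ∀ {v : X}, v ∈ normalizer (K : Set X) → v ∈ normalizer ((centralizer (M : Set X) : Subgroup X) : Set X) →
      ∀ z ∈ Z, v * z * v⁻¹ ∈ Z := by
    intro v hvK hvC z hz
    obtain ⟨hz1, hz2⟩ := hZmem.mp hz
    refine hZmem.mpr ⟨(mem_normalizer_iff.mp hvK z).mp hz1, fun k hk => ?_⟩
    have h1 := (mem_normalizer_iff.mp hvC _).mp (hz2 (v⁻¹ * k * v) (by
      have := (mem_normalizer_iff.mp (inv_mem hvK) k).mp hk
      rwa [inv_inv] at this))
    rwa [show v * (v⁻¹ * k * v * z * (v⁻¹ * k * v)⁻¹ * z⁻¹) * v⁻¹ =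
      k * (v * z * v⁻¹) * k⁻¹ * (v * z * v⁻¹)⁻¹ by group] at h1
  have hNZ : ∀ v : X, v ∈ normalizer (K : Set X) → v ∈ normalizer (M : Set X) → v ∈ normalizer (Z : Set X) := by
    intro v hvK hvM
    have hvC := Local.normalizer_le_normalizer_centralizer M hvM
    refine mem_normalizer_iff.mpr fun z => ⟨key hvK hvC z, fun hz => ?_⟩
    have := key (inv_mem hvK) (inv_mem hvC) _ hz
    rwa [inv_inv, show v⁻¹ * (v * z * v⁻¹) * v = z by group] at this
  have hcomm : ∀ k ∈ K, ∀ z ∈ Z, k * z * k⁻¹ * z⁻¹ ∈ Z ⊓ centralizer (M : Set X) := by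
    intro k hk z hz
    obtain ⟨hz1, hz2⟩ := hZmem.mp hz
    refine Subgroup.mem_inf.mpr ⟨hZmem.mpr ⟨mul_mem (mul_mem (mul_mem hk hz1) (inv_mem hk)) (inv_mem hz1),
      fun l hl => ?_⟩, hz2 k hk⟩
    exact mul_mem ((mem_normalizer_iff.mp (hCK hl) _).mp (hz2 k hk)) (inv_mem (hz2 k hk))
  refine ⟨Z, hZK, fun k hk => hNZ k (Subgroup.le_normalizer hk) (hKM hk), hNZ, hcomm, fun hle => ?_⟩
  have hnt : Nontrivial (↥K ⧸ N0) := by
    by_contra hnt
    rw [not_nontrivial_iff_subsingleton] at hnt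
    exact hne fun k hk => mem_subgroupOf.mp ((QuotientGroup.eq_one_iff (⟨k, hk⟩ : K)).mp (Subsingleton.elim _ _))
  haveI := hnt
  haveI := hnil
  haveI : Nontrivial ↥(Subgroup.center (↥K ⧸ N0)) :=
    (nontrivial_iff_ne_bot _).mpr (Group.IsNilpotent.center_ne_bot _)
  obtain ⟨c, hc⟩ := exists_ne (1 : Subgroup.center (↥K ⧸ N0))
  obtain ⟨k, hk⟩ := QuotientGroup.mk'_surjective N0 (c : ↥K ⧸ N0)
  refine hc (Subtype.ext ?_)
  rw [← hk]
  exact (QuotientGroup.eq_one_iff k).mpr (mem_subgroupOf.mpr (hle ⟨k, mem_comap.mpr (hk ▸ c.2), rfl⟩))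

/-- The standing hypotheses. -/
structure Setting (X : Type u) [Group X] (K M : Subgroup X) (u : X) (r : ℕ) : Prop where
  pow : u ^ r = 1
  normM : K ≤ normalizer (M : Set X)
  unormM : u ∈ normalizer (M : Set X)
  unormK : u ∈ normalizer (K : Set X)
  free : K ⊓ centralizer ({u} : Set X) = ⊥
  coprime : (Nat.card K).Coprime (Nat.card M)
  coprimeM : ¬ r ∣ Nat.card M
  coprimeK : ¬ r ∣ Nat.card K
  solvable : Group.IsSolvable M
  nilpotent : Group.IsNilpotent K
  fixed : M ⊓ centralizer (K : Set X) = ⊥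

/-- BG 3.10, in general form. -/
theorem main : ∀ (n : ℕ) {X : Type u} [Group X] [Finite X] (K M : Subgroup X) (u : X) (r : ℕ) [Fact r.Prime],
    Nat.card M = n → Setting X K M u r →
    Nat.card M = Nat.card ↥(M ⊓ centralizer ({u} : Set X)) ^ r ∧
      (IsCyclic ↥(M ⊓ centralizer ({u} : Set X)) → ⁅K, K⁆ ≤ centralizer (M : Set X)) := by
  intro n
  induction n using Nat.strong_induction_on with
  | _ n ih =>
  intro X _ _ K M u r _ hn h
  rcases eq_or_ne M ⊥ with rfl | hM1
  · refine ⟨by rw [bot_inf_eq, card_bot, one_pow], fun _ k _ => mem_centralizer_iff.mpr fun m hm => ?_⟩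
    rw [mem_bot.mp hm, one_mul, mul_one]
  by_cases hred : ∃ N : Subgroup X, N < M ∧ N ≠ ⊥ ∧ M ≤ normalizer (N : Set X) ∧ K ≤ normalizer (N : Set X) ∧
      u ∈ normalizer (N : Set X)
  · obtain ⟨N, hNM, hN1, hMN, hKN, huN⟩ := hred
    have hlt : Nat.card N < n := hn ▸ lt_of_le_of_ne (card_le_of_le hNM.le)
      fun e => hNM.ne (eq_of_le_of_card_ge hNM.le e.ge)
    obtain ⟨hcN, hdN⟩ := ih _ hlt K N u r rfl ⟨h.pow, hKN, huN, h.unormK, h.free,
      h.coprime.coprime_dvd_right (card_dvd_of_le hNM.le), fun hd => h.coprimeM (hd.trans (card_dvd_of_le hNM.le)),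
      h.coprimeK, Cfsg.Lib.Core.isSolvable_of_le hNM.le h.solvable, h.nilpotent,
      le_bot_iff.mp ((inf_le_inf hNM.le le_rfl).trans h.fixed.le)⟩
    set L := normalizer (N : Set X)
    set N' := N.subgroupOf L
    haveI : N'.Normal := (normal_subgroupOf_iff_le_normalizer Subgroup.le_normalizer).mpr le_rfl
    set f := QuotientGroup.mk' N'
    set KL := K.subgroupOf L
    set ML := M.subgroupOf L
    set uL : L := ⟨u, huN⟩
    have hker : f.ker = N' := QuotientGroup.ker_mk' N'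
    have hcard : ∀ {A : Subgroup X}, A ≤ L → Nat.card ↥(A.subgroupOf L) = Nat.card A := fun hA =>
      Nat.card_congr (subgroupOfEquivOfLe hA).toEquiv
    have hMmul : Nat.card ↥(ML.map f) * Nat.card N = Nat.card M := by
      have h1 := card_map_mul f ML
      rw [hker, show ML ⊓ N' = (M ⊓ N).subgroupOf L from (Subgroup.comap_inf M N L.subtype).symm,
        inf_eq_right.mpr hNM.le, hcard Subgroup.le_normalizer, hcard hMN] at h1
      exact h1
    have hKLM : KL ≤ normalizer (ML : Set L) := Uniq.subgroupOf_le_normalizer h.normM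
    have huLM : uL ∈ normalizer (ML : Set L) := by
      refine mem_normalizer_iff.mpr fun z => ?_
      exact mem_normalizer_iff.mp h.unormM (z : X)
    haveI := h.solvable
    have hsolM : Group.IsSolvable ML :=
      Group.isSolvable_of_surjective (f := (subgroupOfEquivOfLe hMN).symm.toMonoidHom) (MulEquiv.surjective _)
    have hfixU : (M ⊓ centralizer ({u} : Set X)).subgroupOf L = ML ⊓ centralizer (((zpowers uL) : Subgroup L) : Set L) := by
      rw [centralizer_zpowers_eq]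
      ext ⟨x, hx⟩
      simp only [mem_subgroupOf, Subgroup.mem_inf, mem_centralizer_singleton_iff, ML, uL]
      exact and_congr_right fun _ => ⟨fun h => Subtype.ext h, fun h => congrArg Subtype.val h⟩
    have huo : Nat.card (zpowers uL) ∣ r := by
      rw [Nat.card_zpowers]; exact orderOf_dvd_of_pow_eq_one (Subtype.ext h.pow)
    have hsolu : Group.IsSolvable (zpowers uL) := Group.isSolvable_of_comm fun s t => mul_comm' s t
    have hmapU : ((M ⊓ centralizer ({u} : Set X)).subgroupOf L).map f =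
        ML.map f ⊓ centralizer ({f uL} : Set _) := by
      rw [hfixU, Cfsg.Lib.Coprime.map_inf_centralizer_eq f (zpowers_le.mpr huLM)
        (Nat.Coprime.coprime_dvd_left huo (by
          rw [hcard hMN]; exact (Fact.out : r.Prime).coprime_iff_not_dvd.mpr h.coprimeM))
        (Or.inl hsolu), MonoidHom.map_zpowers, centralizer_zpowers_eq]
    have hC : Nat.card ↥(ML.map f ⊓ centralizer ({f uL} : Set _)) *
        Nat.card ↥(N ⊓ centralizer ({u} : Set X)) = Nat.card ↥(M ⊓ centralizer ({u} : Set X)) := by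
      have h1 := card_map_mul f ((M ⊓ centralizer ({u} : Set X)).subgroupOf L)
      rw [hmapU, hker, show (M ⊓ centralizer ({u} : Set X)).subgroupOf L ⊓ N' =
          ((M ⊓ centralizer ({u} : Set X)) ⊓ N).subgroupOf L from (Subgroup.comap_inf _ N L.subtype).symm,
        inf_right_comm, inf_eq_right.mpr hNM.le, hcard (inf_le_left.trans Subgroup.le_normalizer),
        hcard (inf_le_left.trans hMN)] at h1
      exact h1
    have hKN0 : ∀ z ∈ K, z ∈ N → z = 1 := fun z hz hzN => mem_bot.mp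
      ((inf_eq_bot_of_coprime h.coprime).le (Subgroup.mem_inf.mpr ⟨hz, hNM.le hzN⟩))
    have hS : Setting (↥L ⧸ N') (KL.map f) (ML.map f) (f uL) r := by
      refine ⟨by rw [← map_pow, show uL ^ r = 1 from Subtype.ext h.pow, map_one],
        (map_mono hKLM).trans (le_normalizer_map f), le_normalizer_map f (mem_map_of_mem f huLM), ?_, ?_, ?_, ?_, ?_,
        ?_, ?_, ?_⟩
      · refine le_normalizer_map f (mem_map_of_mem f ?_)
        exact mem_normalizer_iff.mpr fun z => mem_normalizer_iff.mp h.unormK (z : X)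
      · refine le_bot_iff.mp ?_
        rintro _ ⟨⟨k, hk, rfl⟩, hc⟩
        have h1 : f (k * uL * k⁻¹ * uL⁻¹) = 1 := by
          rw [map_mul, map_mul, map_mul, map_inv, map_inv, mem_centralizer_singleton_iff.mp hc]
          group
        rw [← MonoidHom.mem_ker, hker] at h1
        have h2 : (k : X) * u * (k : X)⁻¹ * u⁻¹ ∈ K := by
          rw [show (k : X) * u * (k : X)⁻¹ * u⁻¹ = k * (u * (k : X)⁻¹ * u⁻¹) by group]
          exact mul_mem hk ((mem_normalizer_iff.mp h.unormK _).mp (inv_mem hk))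
        have h3 := hKN0 _ h2 (mem_subgroupOf.mp h1)
        rw [mul_inv_eq_one, mul_inv_eq_iff_eq_mul] at h3
        have h4 : k = 1 := Subtype.ext (mem_bot.mp (h.free.le
          (Subgroup.mem_inf.mpr ⟨hk, mem_centralizer_singleton_iff.mpr h3⟩)))
        rw [h4, map_one]; exact one_mem _
      · exact Nat.Coprime.of_dvd (Core.card_map_dvd f KL |>.trans (hcard hKN).dvd)
          (Dvd.intro _ hMmul) h.coprime
      · exact fun hd => h.coprimeM (hd.trans (Dvd.intro _ hMmul))
      · exact fun hd => h.coprimeK (hd.trans (Core.card_map_dvd f KL |>.trans (hcard hKN).dvd))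
      · exact Cfsg.Lib.Core.isSolvable_map hsolM f
      · exact Cfsg.Lib.Core.isNilpotent_map (by
          haveI := h.nilpotent
          exact Group.nilpotent_of_mulEquiv (subgroupOfEquivOfLe hKN).symm) f
      · rw [← Cfsg.Lib.Coprime.map_inf_centralizer_eq f hKLM (by rw [hcard hKN, hcard hMN]; exact h.coprime)
          (Or.inr hsolM), ← inf_centralizer_subgroupOf hKN, h.fixed, bot_subgroupOf, Subgroup.map_bot]
    have hltQ : Nat.card ↥(ML.map f) < n := by
      rw [← hn, ← hMmul]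
      exact lt_mul_of_one_lt_right Nat.card_pos ((one_lt_card_iff_ne_bot N).mpr hN1)
    obtain ⟨hcQ, hdQ⟩ := ih _ hltQ (KL.map f) (ML.map f) (f uL) r rfl hS
    refine ⟨by rw [← hMmul, hcQ, hcN, ← mul_pow, hC], fun hcyc => ?_⟩
    haveI := hcyc
    have hcycN : IsCyclic ↥(N ⊓ centralizer ({u} : Set X)) :=
      isCyclic_of_injective (f := inclusion (inf_le_inf hNM.le le_rfl)) (inclusion_injective _)
    have hcycQ : IsCyclic ↥(ML.map f ⊓ centralizer ({f uL} : Set _)) := by
      rw [← hmapU]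
      haveI : IsCyclic ↥((M ⊓ centralizer ({u} : Set X)).subgroupOf L) :=
        (subgroupOfEquivOfLe (inf_le_left.trans hMN)).isCyclic.mpr hcyc
      exact isCyclic_of_surjective (f.subgroupMap _) (f.subgroupMap_surjective _)
    have h1 := hdQ hcycQ
    have hKK : ⁅K, K⁆ ≤ K := Subgroup.commutator_le_self K
    have hA : ⁅M, ⁅K, K⁆⁆ = ⊥ := by
      refine Cfsg.Lib.Coprime.commutator_eq_bot_of_stabilizes (hKK.trans h.normM)
        (h.coprime.coprime_dvd_left (card_dvd_of_le hKK)) (Or.inr h.solvable) (N := N) ?_ ?_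
      · rw [Subgroup.commutator_le]
        intro m hm c hc
        have h2 : f ⟨c, hKN (hKK hc)⟩ ∈ ⁅KL.map f, KL.map f⁆ := by
          rw [← Subgroup.map_commutator]
          refine mem_map_of_mem f ?_
          have h3 : c ∈ ⁅KL, KL⁆.map L.subtype := by
            rw [Subgroup.map_commutator, map_subgroupOf_eq_of_le hKN]; exact hc
          obtain ⟨z, hz, hzc⟩ := h3
          rwa [show (⟨c, hKN (hKK hc)⟩ : L) = z from Subtype.ext hzc.symm]
        have h3 := mem_centralizer_iff.mp (h1 h2) (f ⟨m, hMN hm⟩) (mem_map_of_mem f hm)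
        have h4 : f ⁅(⟨m, hMN hm⟩ : L), (⟨c, hKN (hKK hc)⟩ : L)⁆ = 1 := by
          rw [map_commutatorElement]; exact commutatorElement_eq_one_iff_mul_comm.mpr h3
        rw [← MonoidHom.mem_ker, hker] at h4
        exact mem_subgroupOf.mp h4
      · rw [Subgroup.commutator_comm, Subgroup.commutator_eq_bot_iff_le_centralizer]
        exact hdN hcycN
    rw [Subgroup.commutator_comm, Subgroup.commutator_eq_bot_iff_le_centralizer] at hA
    exact hA
  push Not at hred
  have hirr : ∀ W : Subgroup X, W ≤ M → M ≤ normalizer (W : Set X) → K ≤ normalizer (W : Set X) →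
      u ∈ normalizer (W : Set X) → W = ⊥ ∨ W = M := fun W hW h1 h2 h3 => by
    by_contra hno
    push Not at hno
    exact hred W (lt_of_le_of_ne hW hno.2) hno.1 h1 h2 h3
  have hder : ⁅M, M⁆ = ⊥ := by
    refine (hirr _ (Subgroup.commutator_le_self M) (normalizer_commutator_ge_left M M)
      (h.normM.trans (normalizer_le_normalizer_commutator M))
      (normalizer_le_normalizer_commutator M h.unormM)).resolve_right fun e => ?_
    haveI := h.solvable
    haveI : Nontrivial M := (nontrivial_iff_ne_bot M).mpr hM1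
    refine (Group.IsSolvable.commutator_lt_top_of_nontrivial M).ne ?_
    refine map_injective M.subtype_injective ?_
    rw [map_subtype_commutator, ← MonoidHom.range_eq_map, M.range_subtype, e]
  haveI : IsMulCommutative M := by
    rw [← le_centralizer_iff_isMulCommutative, ← Subgroup.commutator_eq_bot_iff_le_centralizer]
    exact hder
  have hirr' : ∀ W : Subgroup X, W ≤ M → K ≤ normalizer (W : Set X) → u ∈ normalizer (W : Set X) → W = ⊥ ∨ W = M :=
    fun W hW h2 h3 => hirr W hW (((Subgroup.le_centralizer_iff_isMulCommutative.mpr inferInstance).trans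
      (Subgroup.centralizer_le hW)).trans (centralizer_le_normalizer _)) h2 h3
  obtain ⟨Z, hZK, hKZ, hNZ, hcomm, hZne⟩ := exists_center_part h.normM h.nilpotent
    (fun hle => hM1 (le_bot_iff.mp ((le_inf le_rfl (le_centralizer_iff.mp hle)).trans h.fixed.le)))
  have huZ : u ∈ normalizer (Z : Set X) := hNZ u h.unormK h.unormM
  have hfreeZ : Z ⊓ centralizer ({u} : Set X) = ⊥ := le_bot_iff.mp ((inf_le_inf hZK le_rfl).trans h.free.le)
  have hrZ : ¬ r ∣ Nat.card Z := fun hd => h.coprimeK (hd.trans (card_dvd_of_le hZK))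
  have hC : M ⊓ centralizer (Z : Set X) = ⊥ := by
    refine (hirr' _ inf_le_left ((le_inf h.normM (hKZ.trans (Local.normalizer_le_normalizer_centralizer Z))).trans
      inf_normalizer_le_normalizer_inf) (inf_normalizer_le_normalizer_inf
        ⟨h.unormM, Local.normalizer_le_normalizer_centralizer Z huZ⟩)).resolve_right fun e => hZne ?_
    exact le_centralizer_iff.mp (e.ge.trans inf_le_right)
  have hcount := card_of_irreducible (M := M) (Z := Z) (K := K) h.normM h.unormM h.pow hZK huZ h.unormK hcomm hfreeZ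
    hrZ hC hirr'
  refine ⟨hcount, fun hcyc => ?_⟩
  haveI := hcyc
  obtain ⟨⟨g0, hg0⟩, hgen⟩ := IsCyclic.exists_generator (α := ↥(M ⊓ centralizer ({u} : Set X)))
  set C := M ⊓ centralizer ({u} : Set X)
  set S : Set X := {y | ∃ z ∈ Z, ∃ g ∈ C, y = z * g * z⁻¹}
  set D := Subgroup.closure S
  have hDM : D ≤ M := by
    rw [closure_le]
    rintro _ ⟨z, hz, g, hg, rfl⟩
    exact (mem_normalizer_iff.mp (h.normM (hZK hz)) g).mp hg.1
  have hDnorm : ∀ v : X, (∀ y ∈ S, v * y * v⁻¹ ∈ S) → (∀ y ∈ S, v⁻¹ * y * v ∈ S) → v ∈ normalizer (D : Set X) := by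
    intro v h1 h2
    rw [Core.mem_normalizer_iff_map_conj, MonoidHom.map_closure]
    congr 1
    ext y
    refine ⟨?_, fun hy => ⟨v⁻¹ * y * v, h2 y hy, by show v * (v⁻¹ * y * v) * v⁻¹ = y; group⟩⟩
    rintro ⟨y, hy, rfl⟩
    exact h1 y hy
  have hZD : Z ≤ normalizer (D : Set X) := by
    refine fun z hz => hDnorm z ?_ ?_
    · rintro _ ⟨z', hz', g, hg, rfl⟩
      exact ⟨z * z', mul_mem hz hz', g, hg, by group⟩
    · rintro _ ⟨z', hz', g, hg, rfl⟩
      exact ⟨z⁻¹ * z', mul_mem (inv_mem hz) hz', g, hg, by group⟩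
  have huD : u ∈ normalizer (D : Set X) := by
    refine hDnorm u ?_ ?_
    · rintro _ ⟨z, hz, g, hg, rfl⟩
      refine ⟨u * z * u⁻¹, (mem_normalizer_iff.mp huZ z).mp hz, g, hg, ?_⟩
      calc u * (z * g * z⁻¹) * u⁻¹ = u * z * u⁻¹ * (u * g * u⁻¹) * (u * z * u⁻¹)⁻¹ := by group
        _ = _ := by rw [show u * g * u⁻¹ = g by
              rw [← mem_centralizer_singleton_iff.mp hg.2, mul_inv_cancel_right]]
    · rintro _ ⟨z, hz, g, hg, rfl⟩
      refine ⟨u⁻¹ * z * u, by simpa using (mem_normalizer_iff.mp (inv_mem huZ) z).mp hz, g, hg, ?_⟩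
      calc u⁻¹ * (z * g * z⁻¹) * u = u⁻¹ * z * u * (u⁻¹ * g * u) * (u⁻¹ * z * u)⁻¹ := by group
        _ = _ := by rw [show u⁻¹ * g * u = g by
              rw [mul_assoc, mem_centralizer_singleton_iff.mp hg.2, inv_mul_cancel_left]]
  have hCD : C ≤ D := fun g hg => subset_closure ⟨1, one_mem _, g, hg, by group⟩
  have hD : D = M := by
    by_contra hne
    have hlt : Nat.card D < n := hn ▸ lt_of_le_of_ne (card_le_of_le hDM) fun e => hne (eq_of_le_of_card_ge hDM e.ge)
    obtain ⟨hcD, -⟩ := ih _ hlt Z D u r rfl ⟨h.pow, hZD, huD, huZ, hfreeZ,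
      Nat.Coprime.of_dvd (card_dvd_of_le hZK) (card_dvd_of_le hDM) h.coprime,
      fun hd => h.coprimeM (hd.trans (card_dvd_of_le hDM)), hrZ, Cfsg.Lib.Core.isSolvable_of_le hDM h.solvable,
      Cfsg.Lib.Core.isNilpotent_of_le hZK h.nilpotent, le_bot_iff.mp ((inf_le_inf hDM le_rfl).trans hC.le)⟩
    refine hne (eq_of_le_of_card_ge hDM (le_of_eq ?_))
    rw [hcount, hcD]
    congr 2
    exact congrArg (fun A : Subgroup X => ↥A) (le_antisymm (le_inf hCD inf_le_right)
      (inf_le_inf hDM le_rfl))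
  -- the operators commute
  set φ : ↥K → AddMonoid.End (Additive M) := fun k => rho M ⟨k, h.normM k.2⟩
  set g : Additive M := Additive.ofMul ⟨g0, hg0.1⟩
  have hP : ∀ m ∈ D, ∃ T : AddMonoid.End (Additive M), val (T g) = m ∧
      (∀ T' : AddMonoid.End (Additive M), (∀ l, Commute T' (φ l)) → Commute T T') ∧ ∀ l, Commute T (φ l) := by
    intro m hm
    induction hm using closure_induction with
    | mem y hy =>
      obtain ⟨z, hz, g', hg', rfl⟩ := hy
      obtain ⟨i, hi⟩ := mem_zpowers_iff.mp (hgen ⟨g', hg'⟩)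
      refine ⟨i • φ ⟨z, hZK hz⟩, ?_, fun T' hT' => by
        rw [zsmul_eq_mul]; exact (Int.cast_commute i T').mul_left (hT' _).symm, fun l => ?_⟩
      · have h1 : g0 ^ i = g' := congrArg Subtype.val hi
        show val (i • (φ ⟨z, hZK hz⟩ g)) = _
        rw [← h1, show z * g0 ^ i * z⁻¹ = (z * g0 * z⁻¹) ^ i from conj_zpow.symm]
        rfl
      · rw [zsmul_eq_mul]
        refine (Int.cast_commute i _).mul_left ?_
        refine AddMonoidHom.ext fun v => val_injective ?_
        show val (rho M _ (rho M _ v)) = val (rho M _ (rho M _ v))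
        simp only [val_rho]
        set p := (l : X)
        set w := z * (p * val v * p⁻¹) * z⁻¹
        have hc := (hcomm p l.2 z hz).2
        have hw : w ∈ M := (mem_normalizer_iff.mp (h.normM (hZK hz)) _).mp
          ((mem_normalizer_iff.mp (h.normM l.2) _).mp (val_mem v))
        show z * (p * val v * p⁻¹) * z⁻¹ = p * (z * val v * z⁻¹) * p⁻¹
        symm
        calc p * (z * val v * z⁻¹) * p⁻¹ = (p * z * p⁻¹ * z⁻¹) * w * (p * z * p⁻¹ * z⁻¹)⁻¹ := by
              simp only [w]; group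
          _ = w := by rw [← mem_centralizer_iff.mp hc w hw, mul_inv_cancel_right]
    | one => exact ⟨0, rfl, fun T' _ => Commute.zero_left T', fun l => Commute.zero_left _⟩
    | mul a b _ _ ha hb =>
      obtain ⟨T1, e1, c1, d1⟩ := ha
      obtain ⟨T2, e2, c2, d2⟩ := hb
      exact ⟨T1 + T2, by rw [← e1, ← e2]; rfl, fun T' hT' => (c1 T' hT').add_left (c2 T' hT'),
        fun l => (d1 l).add_left (d2 l)⟩
    | inv a _ ha =>
      obtain ⟨T1, e1, c1, d1⟩ := ha
      exact ⟨-T1, by rw [← e1]; rfl, fun T' hT' => (c1 T' hT').neg_left, fun l => (d1 l).neg_left⟩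
  have happ : ∀ {S T : AddMonoid.End (Additive M)}, Commute S T → ∀ v, S (T v) = T (S v) := fun hc v =>
    DFunLike.congr_fun hc.eq v
  have hg' : ∀ k l : ↥K, φ k (φ l g) = φ l (φ k g) := by
    intro k l
    obtain ⟨S1, e1, c1, d1⟩ := hP _ (hD.ge (val_mem (φ k g)))
    obtain ⟨T1, e2, -, d2⟩ := hP _ (hD.ge (val_mem (φ l g)))
    have e1' := val_injective e1
    have e2' := val_injective e2
    calc φ k (φ l g) = φ k (T1 g) := by rw [e2']
      _ = T1 (φ k g) := happ (d2 k).symm g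
      _ = T1 (S1 g) := by rw [e1']
      _ = S1 (T1 g) := happ (c1 T1 d2).symm g
      _ = S1 (φ l g) := by rw [e2']
      _ = φ l (S1 g) := happ (d1 l) g
      _ = φ l (φ k g) := by rw [e1']
  rw [Subgroup.commutator_le]
  intro k hk l hl
  refine mem_centralizer_iff.mpr fun m hm => ?_
  obtain ⟨T, eT, -, dT⟩ := hP m (hD.ge hm)
  set v : Additive M := Additive.ofMul ⟨m, hm⟩
  have heq : φ ⟨k, hk⟩ (φ ⟨l, hl⟩ v) = φ ⟨l, hl⟩ (φ ⟨k, hk⟩ v) := by
    rw [show v = T g from val_injective eT.symm]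
    rw [← happ (dT ⟨l, hl⟩), ← happ (dT ⟨k, hk⟩), ← happ (dT ⟨k, hk⟩), ← happ (dT ⟨l, hl⟩), hg']
  have h5 : k * (l * m * l⁻¹) * k⁻¹ = l * (k * m * k⁻¹) * l⁻¹ := congrArg val heq
  symm
  rw [commutatorElement_def]
  have hmem : k⁻¹ * (l⁻¹ * m * l) * k ∈ M := by
    have h6 := (mem_normalizer_iff.mp (h.normM (inv_mem hk)) _).mp
      ((mem_normalizer_iff.mp (h.normM (inv_mem hl)) m).mp hm)
    rwa [inv_inv, inv_inv] at h6
  set m0 := k⁻¹ * (l⁻¹ * m * l) * k
  have h7 : ∀ y ∈ M, k * (l * y * l⁻¹) * k⁻¹ = l * (k * y * k⁻¹) * l⁻¹ := fun y hy => by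
    obtain ⟨T, eT, -, dT⟩ := hP y (hD.ge hy)
    have heq : φ ⟨k, hk⟩ (φ ⟨l, hl⟩ (T g)) = φ ⟨l, hl⟩ (φ ⟨k, hk⟩ (T g)) := by
      rw [← happ (dT ⟨l, hl⟩), ← happ (dT ⟨k, hk⟩), ← happ (dT ⟨k, hk⟩), ← happ (dT ⟨l, hl⟩), hg']
    rw [← eT]
    exact congrArg val heq
  have h8 := h7 m0 hmem
  calc k * l * k⁻¹ * l⁻¹ * m = k * l * k⁻¹ * l⁻¹ * (l * (k * m0 * k⁻¹) * l⁻¹) := by simp only [m0]; group
    _ = (k * (l * m0 * l⁻¹) * k⁻¹) * (k * l * k⁻¹ * l⁻¹) := by group
    _ = (l * (k * m0 * k⁻¹) * l⁻¹) * (k * l * k⁻¹ * l⁻¹) := by rw [h8]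
    _ = m * (k * l * k⁻¹ * l⁻¹) := by simp only [m0]; group

end Cfsg.Lib.Local.FreeAction
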