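import Cfsg.Agent.Lib.Local.FixedFreeOperator
import Cfsg.Agent.Lib.Local.FreeAction
import Cfsg.Agent.Lib.Local.Sigma.KappaStructure

/-!
Operators whose fixed points on a `q`-group lie in a normal section: the group they act on freely centralizes
the factor group.
-/

set_option autoImplicit false
set_option linter.style.haveILetI false

namespace Cfsg.Lib.Local

open Subgroup
open scoped commutatorElement

universe u

variable {G : Type u} [Group G] [Finite G]

omit [Finite G] in
theorem subgroupOf_mem_normalizer {M V : Subgroup G} {g : M} (hg : (g : G) ∈ normalizer (V : Set G)) :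
    g ∈ normalizer (V.subgroupOf M : Set M) := by
  refine mem_normalizer_iff.mpr fun x => ?_
  rw [mem_subgroupOf, mem_subgroupOf]
  exact mem_normalizer_iff.mp hg (x : G)

/-- `A ⊓ C (u) ≤ N` gives no fixed points of `u` on the image of `A` modulo `N`. -/
theorem map_inf_centralizer_eq_bot {X : Type u} [Group X] [Finite X] {Y : Type u} [Group Y] [Finite Y] (f : X →* Y)
    {A : Subgroup X} {x : X} (hx : x ∈ normalizer (A : Set X)) (hcop : (orderOf x).Coprime (Nat.card A))
    (h : A ⊓ centralizer ({x} : Set X) ≤ f.ker) : A.map f ⊓ centralizer ({f x} : Set Y) = ⊥ := by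
  have h1 := Coprime.map_inf_centralizer_eq f (A := zpowers x) (G := A) (zpowers_le.mpr hx)
    (by rwa [Nat.card_zpowers]) (Or.inl (Group.isSolvable_of_comm fun a b => mul_comm' a b))
  rw [MonoidHom.map_zpowers, FreeAction.centralizer_zpowers_eq, FreeAction.centralizer_zpowers_eq] at h1
  rw [← h1, Subgroup.map_eq_bot_iff]
  exact h

/-- BG 3.7, relative form. -/
theorem commutator_le_of_fixed_le {q r : ℕ} [hq : Fact q.Prime] [hr : Fact r.Prime] {M V D N : Subgroup G} {u : G}
    (hqr : q ≠ r) (hodd : Odd (Nat.card D)) (hqD : ¬ q ∣ Nat.card D) (hrD : ¬ r ∣ Nat.card D)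
    (hV : IsPGroup q V) (hVM : V ≤ M) (hDM : D ≤ M) (huM : u ∈ M) (hNM : N ≤ M)
    (hMN : M ≤ normalizer (N : Set G)) (hDV : D ≤ normalizer (V : Set G)) (huV : u ∈ normalizer (V : Set G))
    (huD : u ∈ normalizer (D : Set G)) (hur : u ^ r = 1) (hfree : D ⊓ centralizer ({u} : Set G) = ⊥)
    (hfix : V ⊓ centralizer ({u} : Set G) ≤ N) : ⁅V, D⁆ ≤ N := by
  haveI : (N.subgroupOf M).Normal := (normal_subgroupOf_iff_le_normalizer hNM).mpr hMN
  set f := QuotientGroup.mk' (N.subgroupOf M)
  set V' := V.subgroupOf M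
  set D' := D.subgroupOf M
  set u' : M := ⟨u, huM⟩
  have huV' : u' ∈ normalizer (V' : Set M) := subgroupOf_mem_normalizer huV
  have huD' : u' ∈ normalizer (D' : Set M) := subgroupOf_mem_normalizer huD
  have hou : orderOf u' ∣ r := orderOf_dvd_of_pow_eq_one (Subtype.ext hur)
  have hV' : IsPGroup q V' := hV.of_equiv (subgroupOfEquivOfLe hVM).symm
  have hcD : Nat.card D' = Nat.card D := Nat.card_congr (subgroupOfEquivOfLe hDM).toEquiv
  have hcopV : (orderOf u').Coprime (Nat.card V') := by
    obtain ⟨n, hn⟩ := IsPGroup.iff_card.mp hV'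
    rw [hn]
    exact (((Nat.coprime_primes hr.out hq.out).2 hqr.symm).coprime_dvd_left hou).pow_right n
  have hVb : V'.map f ⊓ centralizer ({f u'} : Set (M ⧸ N.subgroupOf M)) = ⊥ := by
    refine map_inf_centralizer_eq_bot f huV' hcopV fun x hx => ?_
    rw [QuotientGroup.ker_mk', mem_subgroupOf]
    refine hfix (Subgroup.mem_inf.mpr ⟨hx.1, mem_centralizer_singleton_iff.mpr ?_⟩)
    exact congrArg Subtype.val (mem_centralizer_singleton_iff.mp hx.2)
  have hcopD : (Nat.card (zpowers u')).Coprime (Nat.card D') := by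
    rw [Nat.card_zpowers, hcD]
    exact (hr.out.coprime_iff_not_dvd.mpr hrD).coprime_dvd_left hou
  set C' := (centralizer (V'.map f : Set (M ⧸ N.subgroupOf M))).comap f
  have hsyl : ∀ s : ℕ, s.Prime → ¬ s ∣ C'.relIndex D' := by
    intro s hs hd
    haveI : Fact s.Prime := ⟨hs⟩
    have hsD : s ∣ Nat.card D := hcD ▸ hd.trans (relIndex_dvd_card _ _)
    obtain ⟨P, hP⟩ := Coprime.exists_invariant_sylow (zpowers_le.mpr huD') hcopD
      (Or.inl (Group.isSolvable_of_comm fun a b => mul_comm' a b)) s
    set S := (P : Subgroup D').map D'.subtype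
    have hSD : S ≤ D' := map_subtype_le _
    have hSfree : S ⊓ centralizer ((zpowers u' : Subgroup M) : Set M) = ⊥ := by
      refine le_bot_iff.mp fun x hx => mem_bot.mpr (Subtype.ext (mem_bot.mp (hfree.le
        (Subgroup.mem_inf.mpr ⟨hSD hx.1, mem_centralizer_singleton_iff.mpr ?_⟩))))
      exact (congrArg Subtype.val (mem_centralizer_iff.mp hx.2 u' (mem_zpowers u'))).symm
    have hSS : ⁅S, zpowers u'⁆ = S := by
      have h1 := Coprime.commutator_sup_centralizer_eq hP (hcopD.coprime_dvd_right (card_dvd_of_le hSD))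
        (Or.inl (Group.isSolvable_of_comm fun a b => mul_comm' a b))
      rwa [hSfree, sup_bot_eq] at h1
    have hle : S.map f ≤ centralizer (V'.map f : Set (M ⧸ N.subgroupOf M)) := by
      have h1 := commutator_le_centralizer_of_fixedFree (ℓ := q) (q := s) (r := r)
        (fun e => (Nat.not_even_iff_odd.mpr hodd) (even_iff_two_dvd.mpr (e ▸ hsD)))
        (fun e => hqD (e ▸ hsD)) hqr (fun e => hrD (e ▸ hsD)) (hV'.map f) ((P.2.map D'.subtype).map f)
        ((map_mono (hSD.trans fun d hd => subgroupOf_mem_normalizer (hDV hd))).trans (le_normalizer_map f))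
        (le_normalizer_map f (mem_map_of_mem f huV'))
        (le_normalizer_map f (mem_map_of_mem f (hP (mem_zpowers u'))))
        (by rw [← map_pow, show u' ^ r = 1 from Subtype.ext hur, map_one]) hVb
      rwa [← MonoidHom.map_zpowers, ← map_commutator, hSS] at h1
    refine P.not_dvd_index ?_
    have h2 := hd.trans (relIndex_dvd_of_le_left D' (map_le_iff_le_comap.mp hle))
    rwa [relIndex, show S.subgroupOf D' = (P : Subgroup D') from
      comap_map_eq_self_of_injective D'.subtype_injective _] at h2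
  have hDC : D' ≤ C' := relIndex_eq_one.mp (Nat.eq_one_iff_not_exists_prime_dvd.mpr hsyl)
  refine commutator_le.mpr fun v hv d hd => ?_
  have h1 : f ⁅(⟨v, hVM hv⟩ : M), (⟨d, hDM hd⟩ : M)⁆ = 1 := by
    rw [map_commutatorElement, commutatorElement_eq_one_iff_mul_comm]
    exact mem_centralizer_iff.mp (mem_comap.mp (hDC (x := ⟨d, hDM hd⟩) hd)) _ (mem_map_of_mem f hv)
  exact mem_subgroupOf.mp ((QuotientGroup.eq_one_iff _).mp h1)

/-- If an element of prime order fixes only elements of a normal subgroup, the factor group is nilpotent. -/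
theorem isNilpotent_quotient_of_fixed_le {r : ℕ} [hr : Fact r.Prime] {X Y : Type u} [Group X] [Finite X]
    [Group Y] [Finite Y] (f : X →* Y) {A : Subgroup X} {x : X} (hx : x ∈ normalizer (A : Set X)) (hxr : x ^ r = 1)
    (hrA : ¬ r ∣ Nat.card A) (h : A ⊓ centralizer ({x} : Set X) ≤ f.ker) :
    Group.IsNilpotent (A.map f) :=
  Sigma.isNilpotent_of_fixedfree hr.out (by rw [← map_pow, hxr, map_one])
    (le_normalizer_map f (mem_map_of_mem f hx))
    (map_inf_centralizer_eq_bot f hx
      ((hr.out.coprime_iff_not_dvd.mpr hrA).coprime_dvd_left (orderOf_dvd_of_pow_eq_one hxr)) h)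

end Cfsg.Lib.Local
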