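import Cfsg.Agent.Lib.Local.SLSuzukiDihedralForcing
import Cfsg.Agent.Lib.Linear.Suzuki.Partition
import Cfsg.Agent.Lib.Core.Basic
import Cfsg.Agent.Lib.Local.WeaklyClosed

/-!
# Root subgroups of `SL₂(q)`, `Sz(q)` and dihedral groups

The properties of the subgroup `Y` used for the fixed-point-free action: elements of order `p`
normalizing `Y` lie in it, and an element of other prime order is a product of two elements of
conjugates of `Y` or (the central involution) the cube of such a product with a swapping braid.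
-/

set_option autoImplicit false

namespace Cfsg.Lib.Local.FrakL

open Subgroup
open scoped MatrixGroups

/-- The facts on the root subgroup `Y`. -/
structure Facts {H : Type*} [Group H] (p : ℕ) (Y : Subgroup H) : Prop where
  norm_mem : ∀ x ∈ normalizer (Y : Set H), x ^ p = 1 → x ∈ Y
  split : ∀ h : H, (orderOf h).Prime → orderOf h ≠ p →
    (∃ g₁ g₂ : H, ∃ x ∈ Y.map (MulAut.conj g₁).toMonoidHom, ∃ y ∈ Y.map (MulAut.conj g₂).toMonoidHom,
        x * y = h) ∨
      (p ≠ 2 ∧ h * h = 1 ∧ (∀ z : H, h * z = z * h) ∧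
        ∃ g₁ g₂ : H, ∃ x ∈ Y.map (MulAut.conj g₁).toMonoidHom, ∃ w ∈ Y.map (MulAut.conj g₂).toMonoidHom,
          (Y.map (MulAut.conj g₁).toMonoidHom).map (MulAut.conj (x * w * x)).toMonoidHom =
              Y.map (MulAut.conj g₂).toMonoidHom ∧
            (Y.map (MulAut.conj g₂).toMonoidHom).map (MulAut.conj (x * w * x)).toMonoidHom =
              Y.map (MulAut.conj g₁).toMonoidHom ∧
            (x * w) ^ 3 = h)

theorem facts_of_equiv {H K : Type*} [Group H] [Group K] {p : ℕ} (e : H ≃* K) (Y : Subgroup H)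
    (hK : Facts p (Y.map e.toMonoidHom)) : Facts p Y := by
  have hm : ∀ x, x ∈ Y.map e.toMonoidHom ↔ e.symm x ∈ Y := fun x => mem_map_equiv
  have hc : ∀ (g : K) (Z : Subgroup H), (Z.map e.toMonoidHom).map (MulAut.conj g).toMonoidHom =
      (Z.map (MulAut.conj (e.symm g)).toMonoidHom).map e.toMonoidHom := fun g Z => by
    rw [map_map, map_map]
    congr 1
    ext x
    simp
  have hmem : ∀ (g : K) (x : K), x ∈ (Y.map e.toMonoidHom).map (MulAut.conj g).toMonoidHom →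
      e.symm x ∈ Y.map (MulAut.conj (e.symm g)).toMonoidHom := fun g x hx => by
    rw [hc] at hx
    exact mem_map_equiv.1 hx
  refine ⟨fun x hx hxp => ?_, fun h hh hhp => ?_⟩
  · have := hK.norm_mem (e x) (by rw [← map_equiv_normalizer_eq]; exact ⟨x, hx, rfl⟩)
      (by rw [← map_pow, hxp, map_one])
    rwa [hm, e.symm_apply_apply] at this
  · have ho : orderOf (e h) = orderOf h := orderOf_injective e.toMonoidHom (show Function.Injective e.toMonoidHom from e.injective) h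
    rcases hK.split (e h) (ho ▸ hh) (ho ▸ hhp) with ⟨g₁, g₂, x, hx, y, hy, he⟩ | ⟨hp, hsq, hcen, g₁, g₂, x, hx, w, hw, h1, h2, h3⟩
    · exact Or.inl ⟨_, _, _, hmem g₁ x hx, _, hmem g₂ y hy, by rw [← map_mul, he, e.symm_apply_apply]⟩
    · refine Or.inr ⟨hp, e.injective (by rw [map_mul, map_one, hsq]),
        fun z => e.injective (by rw [map_mul, map_mul, hcen]), _, _, _, hmem g₁ x hx, _, hmem g₂ w hw,
        map_injective (f := e.toMonoidHom) e.injective ?_, map_injective (f := e.toMonoidHom) e.injective ?_, ?_⟩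
      · rw [← map_mul, ← map_mul, ← hc, ← hc, ← hc]
        exact h1
      · rw [← map_mul, ← map_mul, ← hc, ← hc, ← hc]
        exact h2
      · rw [← map_mul, ← map_pow, h3, e.symm_apply_apply]

/-- A `p`-element lies in a conjugate of a subgroup all of whose Sylow overgroups confine it. -/
theorem mem_conj_of_sylow {H : Type*} [Group H] [Finite H] {p : ℕ} [Fact p.Prime] {U Y : Subgroup H}
    (hU : ∀ P : Sylow p H, ∃ g : H, (P : Subgroup H) = U.map (MulAut.conj g).toMonoidHom)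
    (hY : ∀ u ∈ U, u ^ p = 1 → u ∈ Y) {x : H} (hx : x ^ p = 1) :
    ∃ g : H, x ∈ Y.map (MulAut.conj g).toMonoidHom := by
  obtain ⟨P, hP⟩ := (show IsPGroup p (zpowers x) from fun z => ⟨1, Subtype.ext (by
    obtain ⟨i, hi⟩ := z.2
    change x ^ i = (z : H) at hi
    rw [pow_one, SubmonoidClass.coe_pow, OneMemClass.coe_one, ← hi, ← zpow_natCast, ← zpow_mul, mul_comm,
      zpow_mul, zpow_natCast, hx, one_zpow])⟩).exists_le_sylow
  obtain ⟨g, hg⟩ := hU P
  have h1 := hP (mem_zpowers x)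
  rw [hg] at h1
  obtain ⟨u, hu, rfl⟩ := h1
  refine ⟨g, u, hY u hu ((MulAut.conj g).injective ?_), rfl⟩
  rw [map_pow, map_one]
  exact hx

/-- An element of order `p` normalizing a full set `Y` of elements of order `p` of a Sylow subgroup. -/
theorem norm_mem_of_sylow {H : Type*} [Group H] [Finite H] {p : ℕ} [Fact p.Prime] {U V Y : Subgroup H}
    (hU : ∀ P : Sylow p H, ∃ g : H, (P : Subgroup H) = U.map (MulAut.conj g).toMonoidHom)
    (hV : ∀ u ∈ U, u ^ p = 1 → u ∈ V) (hcard : Nat.card V = Nat.card Y)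
    (hY : ∀ y ∈ Y, y ^ p = 1) {x : H} (hxY : x ∈ normalizer (Y : Set H)) (hx : x ^ p = 1) : x ∈ Y := by
  have hYp : IsPGroup p Y := fun z => ⟨1, Subtype.ext (by rw [pow_one]; exact hY z z.2)⟩
  have hxp : IsPGroup p (zpowers x) := fun z => ⟨1, Subtype.ext (by
    obtain ⟨i, hi⟩ := z.2
    change x ^ i = (z : H) at hi
    rw [pow_one, SubmonoidClass.coe_pow, OneMemClass.coe_one, ← hi, ← zpow_natCast, ← zpow_mul, mul_comm,
      zpow_mul, zpow_natCast, hx, one_zpow])⟩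
  obtain ⟨P, hP⟩ := (IsPGroup.to_sup_of_normal_right' hxp hYp (zpowers_le.2 hxY)).exists_le_sylow
  obtain ⟨g, hg⟩ := hU P
  have key : ∀ z ∈ (P : Subgroup H), z ^ p = 1 → z ∈ V.map (MulAut.conj g).toMonoidHom := by
    intro z hz hzp
    rw [hg] at hz
    obtain ⟨u, hu, rfl⟩ := hz
    refine ⟨u, hV u hu ((MulAut.conj g).injective ?_), rfl⟩
    rw [map_pow, map_one]
    exact hzp
  have heq : Y = V.map (MulAut.conj g).toMonoidHom := eq_of_le_of_card_ge
    (fun y hy => key y (hP (mem_sup_right hy)) (hY y hy))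
    (by rw [card_map_of_injective (MulAut.conj g).injective, hcard])
  rw [heq]
  exact key x (hP (mem_sup_left (mem_zpowers x))) hx

section SLTwo

variable {F : Type*} [Field F] [Fintype F]

/-- A non-scalar element of `SL₂` is a product of two elements of order dividing `p`. -/
theorem sl_two_product (p : ℕ) [CharP F p] (h : SL(2, F))
    (hns : ¬ ∃ c : F, (h : Matrix (Fin 2) (Fin 2) F) = Matrix.scalar (Fin 2) c) :
    ∃ x y : SL(2, F), x ^ p = 1 ∧ y ^ p = 1 ∧ x * y = h := by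
  set M : Matrix (Fin 2) (Fin 2) F := (h : Matrix (Fin 2) (Fin 2) F) with hM
  obtain ⟨v0, v1, hd⟩ : ∃ v0 v1 : F, v0 * (M 1 0 * v0 + M 1 1 * v1) - v1 * (M 0 0 * v0 + M 0 1 * v1) ≠ 0 := by
    by_contra hno
    push Not at hno
    have h10 := hno 1 0
    have h01 := hno 0 1
    have h11 := hno 1 1
    simp only [mul_one, one_mul, mul_zero, zero_mul, add_zero, zero_add, sub_zero, zero_sub, neg_eq_zero] at h10 h01 h11
    refine hns ⟨M 0 0, ?_⟩
    ext i j
    fin_cases i <;> fin_cases j <;> simp [h10, h01]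
    linear_combination h11 - h10 + h01
  obtain ⟨u0, hu0⟩ : ∃ u0, u0 = M 0 0 * v0 + M 0 1 * v1 := ⟨_, rfl⟩
  obtain ⟨u1, hu1⟩ : ∃ u1, u1 = M 1 0 * v0 + M 1 1 * v1 := ⟨_, rfl⟩
  rw [← hu0, ← hu1] at hd
  set a : F := M 0 0 + M 1 1 - 2 with ha
  set g : Matrix (Fin 2) (Fin 2) F := !![v0, u0 - (1 + a) * v0; v1, u1 - (1 + a) * v1] with hg
  set D : F := v0 * u1 - v1 * u0 with hD
  set gi : Matrix (Fin 2) (Fin 2) F :=
    !![(u1 - (1 + a) * v1) / D, -(u0 - (1 + a) * v0) / D; -v1 / D, v0 / D] with hgi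
  have hgg : g * gi = 1 := by
    have hD0 : D ≠ 0 := hd
    rw [hg, hgi, Matrix.mul_fin_two, Matrix.one_fin_two]
    ext i j
    fin_cases i <;> fin_cases j <;> simp <;> field_simp <;> (rw [hD]; ring)
  have hgig : gi * g = 1 := mul_eq_one_comm.1 hgg
  have hdet : (M 0 0) * M 1 1 - M 0 1 * M 1 0 = 1 := by
    have := h.2
    rwa [Matrix.det_fin_two] at this
  set X : Matrix (Fin 2) (Fin 2) F := !![1, a; 0, 1] with hX
  set W : Matrix (Fin 2) (Fin 2) F := !![1, 0; 1, 1] with hW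
  have hconj : g * (X * W) = M * g := by
    rw [hg, hX, hW, Matrix.mul_fin_two, Matrix.mul_fin_two]
    conv_rhs => rw [Matrix.eta_fin_two M, Matrix.mul_fin_two]
    ext i j
    subst hu0 hu1
    rw [ha]
    fin_cases i <;> fin_cases j <;> simp <;>
      first | linear_combination v0 * hdet | linear_combination v1 * hdet | ring
  have hXn : ∀ n : ℕ, X ^ n = !![1, (n : F) * a; 0, 1] := by
    intro n
    induction n with
    | zero => simp [Matrix.one_fin_two]
    | succ n ih =>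
      rw [pow_succ, ih, hX, Matrix.mul_fin_two]
      ext i j
      fin_cases i <;> fin_cases j <;> simp
      ring
  have hWn : ∀ n : ℕ, W ^ n = !![1, 0; (n : F), 1] := by
    intro n
    induction n with
    | zero => simp [Matrix.one_fin_two]
    | succ n ih =>
      rw [pow_succ, ih, hW, Matrix.mul_fin_two]
      ext i j
      fin_cases i <;> fin_cases j <;> simp
  have hcp : ∀ N : Matrix (Fin 2) (Fin 2) F, ∀ n : ℕ, (g * N * gi) ^ n = g * N ^ n * gi := by
    intro N n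
    induction n with
    | zero => rw [pow_zero, pow_zero, mul_one, hgg]
    | succ n ih =>
      rw [pow_succ, ih, pow_succ, show g * N ^ n * gi * (g * N * gi) = g * N ^ n * (gi * g) * N * gi by
        simp only [mul_assoc], hgig, mul_one]
      simp only [mul_assoc]
  have hdetc : ∀ N : Matrix (Fin 2) (Fin 2) F, N.det = 1 → (g * N * gi).det = 1 := by
    intro N hN
    rw [Matrix.det_mul, Matrix.det_mul, hN, mul_one, ← Matrix.det_mul, hgg, Matrix.det_one]
  obtain ⟨x, hx⟩ : ∃ x : SL(2, F), (x : Matrix (Fin 2) (Fin 2) F) = g * X * gi :=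
    ⟨⟨g * X * gi, hdetc X (by rw [hX, Matrix.det_fin_two]; simp)⟩, rfl⟩
  obtain ⟨y, hy⟩ : ∃ y : SL(2, F), (y : Matrix (Fin 2) (Fin 2) F) = g * W * gi :=
    ⟨⟨g * W * gi, hdetc W (by rw [hW, Matrix.det_fin_two]; simp)⟩, rfl⟩
  refine ⟨x, y, Subtype.ext ?_, Subtype.ext ?_, Subtype.ext ?_⟩
  · rw [Matrix.SpecialLinearGroup.coe_pow, Matrix.SpecialLinearGroup.coe_one, hx, hcp, hXn, CharP.cast_eq_zero,
      zero_mul, ← Matrix.one_fin_two, mul_one, hgg]
  · rw [Matrix.SpecialLinearGroup.coe_pow, Matrix.SpecialLinearGroup.coe_one, hy, hcp, hWn, CharP.cast_eq_zero,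
      ← Matrix.one_fin_two, mul_one, hgg]
  · rw [Matrix.SpecialLinearGroup.coe_mul, hx, hy,
      show g * X * gi * (g * W * gi) = g * X * (gi * g) * W * gi by simp only [mul_assoc], hgig, mul_one,
      mul_assoc g X W, hconj, mul_assoc, hgg, mul_one]

theorem facts_sl_two (p : ℕ) [Fact p.Prime] [CharP F p] (Y : Subgroup SL(2, F))
    (hY : IsElementaryAbelian p Y) (hc : Nat.card Y = Fintype.card F) : Facts p Y := by
  have hp : p.Prime := Fact.out
  set U := Linear.Two.UT F with hU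
  have hUsyl : ∀ P : Sylow p SL(2, F), ∃ g : SL(2, F),
      (P : Subgroup SL(2, F)) = U.map (MulAut.conj g).toMonoidHom := fun P => by
    obtain ⟨g, hg⟩ := Linear.Two.exists_conj_UT p P
    exact ⟨g, hg⟩
  obtain ⟨g₀, hg₀⟩ : ∃ g₀ : SL(2, F), Y = U.map (MulAut.conj g₀).toMonoidHom := by
    obtain ⟨P, hP⟩ := (show IsPGroup p Y from fun z => ⟨1, Subtype.ext (by rw [pow_one]; exact hY.2 z z.2)⟩).exists_le_sylow
    obtain ⟨g, hg⟩ := hUsyl P
    refine ⟨g, eq_of_le_of_card_ge (hP.trans hg.le) ?_⟩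
    rw [card_map_of_injective (MulAut.conj g).injective, hU, Linear.Two.card_UT, hc]
  have hconjY : ∀ k : SL(2, F), U.map (MulAut.conj k).toMonoidHom =
      Y.map (MulAut.conj (k * g₀⁻¹)).toMonoidHom := fun k => by
    rw [hg₀, ← Core.map_conj_mul, inv_mul_cancel_right]
  refine ⟨fun x hxY hx => norm_mem_of_sylow hUsyl (fun u hu _ => hu)
    (by rw [hU, Linear.Two.card_UT, hc]) hY.2 hxY hx, fun h hh hhp => ?_⟩
  have h1 : h ≠ 1 := fun e => hh.ne_one (by rw [e, orderOf_one])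
  by_cases hns : ∃ c : F, (h : Matrix (Fin 2) (Fin 2) F) = Matrix.scalar (Fin 2) c
  · obtain ⟨c, hcM⟩ := hns
    have hdet : c * c = 1 := by
      have h2 := h.2
      rw [hcM, Matrix.det_fin_two] at h2
      simpa using h2
    have hcm : c = -1 := (mul_self_eq_one_iff.1 hdet).resolve_left fun e => h1 (Subtype.ext (by
      rw [hcM, e, map_one, Matrix.SpecialLinearGroup.coe_one]))
    subst hcm
    have hp2 : p ≠ 2 := by
      rintro rfl
      refine h1 (Subtype.ext ?_)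
      rw [hcM, show (-1 : F) = 1 from CharTwo.neg_eq 1, map_one, Matrix.SpecialLinearGroup.coe_one]
    refine Or.inr ⟨hp2, Subtype.ext ?_, fun z => Subtype.ext ?_, ?_⟩
    · rw [Matrix.SpecialLinearGroup.coe_mul, hcM, ← map_mul, hdet, map_one, Matrix.SpecialLinearGroup.coe_one]
    · rw [Matrix.SpecialLinearGroup.coe_mul, Matrix.SpecialLinearGroup.coe_mul, hcM]
      exact Matrix.scalar_commute (-1 : F) (fun r => mul_comm _ r) _
    obtain ⟨n, hn⟩ : ∃ n : SL(2, F), (n : Matrix (Fin 2) (Fin 2) F) = !![0, 1; -1, 0] :=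
      ⟨⟨!![0, 1; -1, 0], by simp [Matrix.det_fin_two]⟩, rfl⟩
    obtain ⟨ni, hni⟩ : ∃ n : SL(2, F), (n : Matrix (Fin 2) (Fin 2) F) = !![0, -1; 1, 0] :=
      ⟨⟨!![0, -1; 1, 0], by simp [Matrix.det_fin_two]⟩, rfl⟩
    set x := Linear.Two.ut (Multiplicative.ofAdd (1 : F)) with hx
    set w := n * x * n⁻¹ with hw
    have hnn : n * ni = 1 := by
      refine Subtype.ext ?_
      rw [Matrix.SpecialLinearGroup.coe_mul, hn, hni, Matrix.mul_fin_two, Matrix.SpecialLinearGroup.coe_one,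
        Matrix.one_fin_two]
      simp
    have hwm : (w : Matrix (Fin 2) (Fin 2) F) = !![1, 0; -1, 1] := by
      rw [hw, ← eq_inv_of_mul_eq_one_right hnn, Matrix.SpecialLinearGroup.coe_mul,
        Matrix.SpecialLinearGroup.coe_mul, hn, hni, hx, Linear.Two.ut_coe, toAdd_ofAdd, Matrix.mul_fin_two,
        Matrix.mul_fin_two]
      simp
    have hxwx : x * w * x = n := by
      refine Subtype.ext ?_
      rw [Matrix.SpecialLinearGroup.coe_mul, Matrix.SpecialLinearGroup.coe_mul, hwm, hn, hx, Linear.Two.ut_coe,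
        toAdd_ofAdd, Matrix.mul_fin_two, Matrix.mul_fin_two]
      simp
    have hcube : (x * w) ^ 3 = h := by
      refine Subtype.ext ?_
      rw [Matrix.SpecialLinearGroup.coe_pow, Matrix.SpecialLinearGroup.coe_mul, hwm, hcM, hx, Linear.Two.ut_coe,
        toAdd_ofAdd, pow_succ, pow_two, Matrix.mul_fin_two, Matrix.mul_fin_two, Matrix.mul_fin_two]
      ext i j
      fin_cases i <;> fin_cases j <;> simp
    have hnU : ((U.map (MulAut.conj n).toMonoidHom).map (MulAut.conj n).toMonoidHom) = U := by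
      rw [← Core.map_conj_mul]
      refine Core.map_conj_eq_of_mem_normalizer (centralizer_le_normalizer _ ?_)
      refine mem_centralizer_iff.2 fun z _ => Subtype.ext ?_
      have e : ((n * n : SL(2, F)) : Matrix (Fin 2) (Fin 2) F) = Matrix.scalar (Fin 2) (-1) := by
        rw [Matrix.SpecialLinearGroup.coe_mul, hn, Matrix.mul_fin_two]
        ext i j
        fin_cases i <;> fin_cases j <;> simp
      rw [Matrix.SpecialLinearGroup.coe_mul, Matrix.SpecialLinearGroup.coe_mul (n * n), e]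
      exact (Matrix.scalar_commute (-1 : F) (fun r => mul_comm _ r) _).symm
    refine ⟨1 * g₀⁻¹, n * g₀⁻¹, x, ?_, w, ?_, ?_, ?_, hcube⟩
    · rw [← hconjY, map_conj_one]
      exact ⟨_, rfl⟩
    · rw [← hconjY]
      exact ⟨x, ⟨_, rfl⟩, rfl⟩
    · rw [← hconjY, ← hconjY, hxwx, map_conj_one]
    · rw [← hconjY, ← hconjY, hxwx, map_conj_one, hnU]
  · obtain ⟨x, y, hx, hy, he⟩ := sl_two_product p h hns
    obtain ⟨g₁, hg₁⟩ := mem_conj_of_sylow hUsyl (fun u hu _ => hu) hx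
    obtain ⟨g₂, hg₂⟩ := mem_conj_of_sylow hUsyl (fun u hu _ => hu) hy
    exact Or.inl ⟨g₁ * g₀⁻¹, g₂ * g₀⁻¹, x, hconjY g₁ ▸ hg₁, y, hconjY g₂ ▸ hg₂, he⟩

end SLTwo

section Suzuki

open Linear.Suz

variable {F : Type*} [Field F] [Fintype F] {m : ℕ} (h : Params F m)
include h

/-- An element of odd prime order of a Suzuki group is inverted by an involution. -/
theorem exists_inverting {z : ↥(Cfsg.Sz F m)} (hz : (orderOf z).Prime) (hz2 : orderOf z ≠ 2) :
    ∃ t : ↥(Cfsg.Sz F m), t * t = 1 ∧ t * z * t = z⁻¹ := by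
  have hz1 : z ≠ 1 := fun e => hz.ne_one (by rw [e, orderOf_one])
  have hback : ∀ σ : ↥(Cfsg.Sz F m), ∀ t, t * t = 1 → t * (σ * z * σ⁻¹) * t = (σ * z * σ⁻¹)⁻¹ →
      ∃ t, t * t = 1 ∧ t * z * t = z⁻¹ := fun σ t h1 h2 => by
    refine ⟨σ⁻¹ * t * σ, ?_, ?_⟩
    · rw [show σ⁻¹ * t * σ * (σ⁻¹ * t * σ) = σ⁻¹ * (t * t) * σ by group, h1]
      group
    · rw [show σ⁻¹ * t * σ * z * (σ⁻¹ * t * σ) = σ⁻¹ * (t * (σ * z * σ⁻¹) * t) * σ by group, h2]
      group
  by_cases hf : Fpf h z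
  · obtain ⟨x₁, x₂, hx₁, hx₂, -, -, n₁, n₂, hall⟩ := tori h
    have key : ∀ x, Fpf h x → Nat.card ↥(normalizer (centralizer ({x} : Set ↥(Cfsg.Sz F m)) : Set ↥(Cfsg.Sz F m))) =
        4 * Nat.card ↥(centralizer ({x} : Set ↥(Cfsg.Sz F m))) →
        z ∈ conjSet (centralizer ({x} : Set ↥(Cfsg.Sz F m))) → ∃ t, t * t = 1 ∧ t * z * t = z⁻¹ := by
      rintro x hx hn ⟨-, σ, hσ⟩
      haveI : Fact (Nat.Prime 2) := ⟨Nat.prime_two⟩
      obtain ⟨hcyc, hT, -, -, -⟩ := torus_data h hx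
      obtain ⟨t, ht⟩ := exists_prime_orderOf_dvd_card'
        (G := ↥(normalizer (centralizer ({x} : Set ↥(Cfsg.Sz F m)) : Set ↥(Cfsg.Sz F m)))) 2
        (by rw [hn]; exact dvd_mul_of_dvd_left (by norm_num) _)
      have ht2 : (t : ↥(Cfsg.Sz F m)) * t = 1 := by
        rw [← pow_two, ← Subgroup.orderOf_coe] at *
        rw [← ht, pow_orderOf_eq_one]
      have ht1 : (t : ↥(Cfsg.Sz F m)) ≠ 1 := fun e => by
        rw [← Subgroup.orderOf_coe, e, orderOf_one] at ht
        norm_num at ht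
      have htU : (t : ↥(Cfsg.Sz F m)) ∉ centralizer ({x} : Set ↥(Cfsg.Sz F m)) := fun hmem => by
        have h2 := fpf_dvd h (by rw [Subgroup.orderOf_coe, ht]) (hT _ hmem ht1).1
        have : 2 ∣ (2 ^ (2 * m + 1)) ^ 2 := dvd_pow (dvd_pow_self 2 (by omega)) two_ne_zero
        omega
      set u := σ * z * σ⁻¹ with hu
      have hu' : (t : ↥(Cfsg.Sz F m)) * u * t ∈ centralizer ({x} : Set ↥(Cfsg.Sz F m)) := by
        have := (mem_normalizer_iff.1 t.2 u).1 hσ
        rwa [inv_eq_of_mul_eq_one_right ht2] at this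
      have hvC := mul_mem hσ hu'
      refine hback σ t ht2 (eq_inv_of_mul_eq_one_right ?_)
      by_contra hv
      refine htU ?_
      suffices hmem : (t : ↥(Cfsg.Sz F m)) ∈ centralizer ({u * ((t : ↥(Cfsg.Sz F m)) * u * t)} : Set ↥(Cfsg.Sz F m)) by
        rwa [(hT _ hvC hv).2] at hmem
      refine mem_centralizer_singleton_iff.2 ?_
      haveI := hcyc
      letI := IsCyclic.commGroup (α := ↥(centralizer ({x} : Set ↥(Cfsg.Sz F m))))
      have hcom : u * ((t : ↥(Cfsg.Sz F m)) * u * t) = (t : ↥(Cfsg.Sz F m)) * u * t * u :=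
        congrArg Subtype.val (mul_comm (⟨_, hσ⟩ : ↥(centralizer ({x} : Set ↥(Cfsg.Sz F m)))) ⟨_, hu'⟩)
      conv_lhs => rw [hcom]
      simp only [← mul_assoc]
      rw [ht2, one_mul, mul_assoc _ (t : ↥(Cfsg.Sz F m)) (t : ↥(Cfsg.Sz F m)), ht2, mul_one]
    rcases hall z hf with hc | hc
    · exact key x₁ hx₁ n₁ hc
    · exact key x₂ hx₂ n₂ hc
  · rcases classify h hz1 hf with ⟨-, σ, hσ⟩ | ⟨-, σ, k, hσ⟩
    · exfalso
      have h4 := pow_four_of_mem_US h hσ
      rw [conj_pow, mul_inv_eq_one, mul_eq_left] at h4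
      have h5 : orderOf z ∣ 2 ^ 2 := orderOf_dvd_of_pow_eq_one h4
      exact hz2 ((Nat.prime_dvd_prime_iff_eq hz Nat.prime_two).1 (hz.dvd_of_dvd_pow h5))
    · refine hback σ (wS h) (wS_mul_self h) ?_
      rw [← hσ, wS_conj h, mul_assoc, wS_mul_self h, mul_one, map_inv]

theorem facts_suzuki (Y : Subgroup ↥(Cfsg.Sz F m)) (hY : IsElementaryAbelian 2 Y)
    (hc : Nat.card Y = Fintype.card F) : Facts 2 Y := by
  haveI : Fact (Nat.Prime 2) := ⟨Nat.prime_two⟩
  have hUsyl : ∀ P : Sylow 2 ↥(Cfsg.Sz F m), ∃ g : ↥(Cfsg.Sz F m),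
      (P : Subgroup ↥(Cfsg.Sz F m)) = (US h).map (MulAut.conj g).toMonoidHom := fun P => by
    obtain ⟨g, hg⟩ := sylow_conj h P
    exact ⟨g, hg⟩
  have invol : ∀ u ∈ US h, u ^ 2 = 1 → u ∈ ZS h := by
    rintro _ ⟨a, b, rfl⟩ e
    rw [pow_two, uS_mul h, ← uS_zero h] at e
    have e2 := (uS_inj h e).2
    rw [add_self h b, zero_add, mul_eq_zero, th_eq_zero h, or_self] at e2
    exact ⟨b, by rw [e2]⟩
  have hcard : Nat.card (ZS h) = Nat.card Y := by
    rw [hc, ← Nat.card_eq_fintype_card]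
    refine (Nat.card_eq_of_bijective (fun b => (⟨uS h 0 b, b, rfl⟩ : ↥(ZS h))) ⟨fun a b e => ?_, ?_⟩).symm
    · exact (uS_inj h (congrArg Subtype.val e)).2
    · rintro ⟨_, b, rfl⟩
      exact ⟨b, rfl⟩
  obtain ⟨g₀, hg₀⟩ : ∃ g₀, Y = (ZS h).map (MulAut.conj g₀).toMonoidHom := by
    obtain ⟨P, hP⟩ := (show IsPGroup 2 Y from fun z => ⟨1, Subtype.ext (by rw [pow_one]; exact hY.2 z z.2)⟩).exists_le_sylow
    obtain ⟨g, hg⟩ := hUsyl P
    refine ⟨g, eq_of_le_of_card_ge (fun y hy => ?_) (by rw [card_map_of_injective (MulAut.conj g).injective, hcard])⟩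
    obtain ⟨u, hu, rfl⟩ := (hP.trans hg.le) hy
    refine ⟨u, invol u hu ((MulAut.conj g).injective ?_), rfl⟩
    rw [map_pow, map_one]
    exact hY.2 _ hy
  have hmem : ∀ x : ↥(Cfsg.Sz F m), x ^ 2 = 1 → ∃ g, x ∈ Y.map (MulAut.conj g).toMonoidHom := fun x hx => by
    obtain ⟨g, hg⟩ := mem_conj_of_sylow hUsyl invol hx
    refine ⟨g * g₀⁻¹, ?_⟩
    rwa [hg₀, ← Core.map_conj_mul, inv_mul_cancel_right]
  refine ⟨fun x hxY hx => norm_mem_of_sylow hUsyl invol hcard hY.2 hxY hx, fun z hz hzp => Or.inl ?_⟩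
  obtain ⟨t, ht, htz⟩ := exists_inverting h hz hzp
  obtain ⟨g₁, hg₁⟩ := hmem t (by rw [pow_two, ht])
  obtain ⟨g₂, hg₂⟩ := hmem (t * z) (by rw [pow_two, ← mul_assoc, htz, inv_mul_cancel])
  exact ⟨g₁, g₂, t, hg₁, t * z, hg₂, by rw [← mul_assoc, ht, one_mul]⟩

end Suzuki

/-- Two generating conjugate involutions. -/
theorem facts_of_two_involutions {H : Type*} [Group H] [Finite H] (hH : UniqueInvol H) (Y : Subgroup H)
    (hY : IsElementaryAbelian 2 Y) (hY1 : Y ≠ ⊥) {g : H}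
    (hgen : Y ⊔ Y.map (MulAut.conj g).toMonoidHom = ⊤) : Facts 2 Y := by
  obtain ⟨s, hs, hs1⟩ := (Subgroup.bot_or_exists_ne_one Y).resolve_left hY1
  have hsq : ∀ a ∈ Y, a * a = 1 := fun a ha => by rw [← pow_two]; exact hY.2 a ha
  have hcomm : ∀ a ∈ Y, ∀ b ∈ Y, a * b = b * a := fun a ha b hb =>
    congrArg Subtype.val (hY.1.1.1 ⟨a, ha⟩ ⟨b, hb⟩)
  have honly : ∀ y ∈ Y, y = 1 ∨ y = s := fun y hy => or_iff_not_imp_left.2 fun hy1 =>
    hH y s (hsq y hy) (hsq s hs) (hcomm y hy s hs) hy1 hs1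
  refine ⟨fun x hxY hx => ?_, fun h hh hh2 => Or.inl ?_⟩
  · by_cases hx1 : x = 1
    · rw [hx1]; exact one_mem _
    rcases honly _ ((mem_normalizer_iff.1 hxY s).1 hs) with h1 | h1
    · exact absurd (by rwa [mul_inv_eq_one, mul_eq_left] at h1) hs1
    · rw [hH x s (by rw [← pow_two, hx]) (hsq s hs) (mul_inv_eq_iff_eq_mul.1 h1) hx1 hs1]
      exact hs
  set t := g * s * g⁻¹ with ht
  have hs2 := hsq s hs
  have ht2 : t * t = 1 := by
    rw [ht, show g * s * g⁻¹ * (g * s * g⁻¹) = g * (s * s) * g⁻¹ by group, hs2]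
    group
  have hsi : s⁻¹ = s := inv_eq_of_mul_eq_one_right hs2
  have hti : t⁻¹ = t := inv_eq_of_mul_eq_one_right ht2
  have hflip : ∀ i : ℤ, s * (s * t) ^ i * s = (s * t) ^ (-i) := by
    intro i
    have h1 : s * (s * t) * s⁻¹ = (s * t)⁻¹ := by
      rw [mul_inv_rev, hsi, hti, ← mul_assoc, hs2, one_mul]
    calc s * (s * t) ^ i * s = s * (s * t) ^ i * s⁻¹ := by rw [hsi]
      _ = (s * (s * t) * s⁻¹) ^ i := by rw [conj_zpow]
      _ = _ := by rw [h1, inv_zpow, zpow_neg]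
  have htflip : ∀ i : ℤ, t * (s * t) ^ i = (s * t) ^ (-i) * t := by
    intro i
    have h1 : t * (s * t) * t⁻¹ = (s * t)⁻¹ := by
      rw [hti, mul_inv_rev, hti, hsi, mul_assoc t, mul_assoc s, ht2, mul_one]
    have h2 : t * (s * t) ^ i * t⁻¹ = (s * t) ^ (-i) := by
      rw [← conj_zpow, h1, inv_zpow, zpow_neg]
    rw [← h2, inv_mul_cancel_right]
  let D : Subgroup H :=
  { carrier := {z | ∃ i : ℤ, z = (s * t) ^ i ∨ z = (s * t) ^ i * s}
    one_mem' := ⟨0, Or.inl (zpow_zero _).symm⟩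
    mul_mem' := by
      rintro a b ⟨i, rfl | rfl⟩ ⟨j, rfl | rfl⟩
      · exact ⟨i + j, Or.inl (zpow_add _ _ _).symm⟩
      · exact ⟨i + j, Or.inr (by rw [zpow_add, mul_assoc])⟩
      · refine ⟨i + -j, Or.inr ?_⟩
        rw [zpow_add, ← hflip j]
        simp only [mul_assoc]
        rw [hs2, mul_one]
      · refine ⟨i + -j, Or.inl ?_⟩
        rw [zpow_add, ← hflip j]
        simp only [mul_assoc]
    inv_mem' := by
      rintro a ⟨i, rfl | rfl⟩
      · exact ⟨-i, Or.inl (zpow_neg _ _).symm⟩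
      · refine ⟨i, Or.inr ?_⟩
        rw [mul_inv_rev, hsi, ← zpow_neg, ← hflip i]
        simp only [mul_assoc]
        rw [← mul_assoc s s, hs2, one_mul] }
  have htop : D = ⊤ := by
    rw [eq_top_iff, ← hgen, sup_le_iff]
    refine ⟨fun y hy => ?_, ?_⟩
    · rcases honly y hy with rfl | rfl
      · exact one_mem _
      · exact ⟨0, Or.inr (by rw [zpow_zero, one_mul])⟩
    · rintro _ ⟨y, hy, rfl⟩
      rcases honly y hy with rfl | rfl
      · rw [map_one]; exact one_mem _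
      · refine ⟨-1, Or.inr ?_⟩
        show t = _
        rw [zpow_neg_one, mul_inv_rev, hsi, hti, mul_assoc, hs2, mul_one]
  have hconjT : ∀ j : ℤ, ∃ g', t * (s * t) ^ j ∈ Y.map (MulAut.conj g').toMonoidHom := by
    intro j
    rcases Int.even_or_odd' j with ⟨i, rfl | rfl⟩
    · refine ⟨(s * t) ^ (-i) * g, s, hs, ?_⟩
      show (s * t) ^ (-i) * g * s * ((s * t) ^ (-i) * g)⁻¹ = _
      rw [mul_inv_rev, ← zpow_neg, neg_neg, two_mul, zpow_add, ← mul_assoc t, htflip i]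
      simp only [ht, mul_assoc]
    · refine ⟨(s * t) ^ (-i) * t, s, hs, ?_⟩
      show (s * t) ^ (-i) * t * s * ((s * t) ^ (-i) * t)⁻¹ = _
      rw [mul_inv_rev, ← zpow_neg, neg_neg, hti, show (2 * i + 1 : ℤ) = i + (1 + i) by ring, zpow_add,
        ← mul_assoc t, htflip i, zpow_add, zpow_one]
      simp only [mul_assoc]
      rw [htflip i]
  obtain ⟨i, hi | hi⟩ : h ∈ D := htop ▸ mem_top h
  · obtain ⟨g', hg'⟩ := hconjT (i - 1)
    refine ⟨1, g', s, ⟨s, hs, by simp⟩, _, hg', ?_⟩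
    rw [hi, ← mul_assoc]
    conv_lhs => rw [← zpow_one_add]
    ring_nf
  · exfalso
    have h2 : h * h = 1 := by
      rw [hi, show (s * t) ^ i * s * ((s * t) ^ i * s) = (s * t) ^ i * (s * (s * t) ^ i * s) by
        simp only [mul_assoc], hflip, ← zpow_add, add_neg_cancel, zpow_zero]
    have h3 : orderOf h ∣ 2 := orderOf_dvd_of_pow_eq_one (by rw [pow_two, h2])
    exact hh2 ((Nat.prime_dvd_prime_iff_eq hh Nat.prime_two).1 h3)

end Cfsg.Lib.Local.FrakL
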