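import Cfsg.Agent.Lib.Local.FrakLFacts
import Cfsg.Agent.Lib.Local.AsymLFactor
import Cfsg.Agent.Lib.Core.Cores
import Cfsg.Agent.Lib.Local.WeaklyClosed

/-!
# Fixed points on a quadratic kernel

`Γ / ker f` has the root-subgroup facts for the image of `Y`, and the abelian kernel `V` is generated
by the conjugates of `V ∩ Y` and has no central element. Then every element whose image has prime
order different from `p` fixes only the identity of `V`.
-/

set_option autoImplicit false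

namespace Cfsg.Lib.Local.FrakL

open Subgroup
open scoped commutatorElement

variable {Γ Λ : Type*} [Group Γ] [Group Λ] {p : ℕ}

local notation:max "cj" g:max K:max => Subgroup.map (MulEquiv.toMonoidHom (MulAut.conj g)) K

/-- Two different conjugates generate. -/
theorem join_eq_top [Finite Γ] {f : Γ →* Λ} {Y : Subgroup Γ} (hsurj : Function.Surjective f)
    (hypow : ∀ y ∈ Y, y ^ p = 1) (hnorm : f.ker ≤ normalizer (Y : Set Γ)) (hnle : ¬ Y ≤ f.ker)
    (hmax : ∀ X : Subgroup Γ, Y ≤ X → X ≠ ⊤ → X ≤ normalizer (Y : Set Γ))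
    (hcore : Cfsg.pCore p Λ = ⊥) (hfacts : Facts p (Y.map f)) {g₁ g₂ : Γ}
    (hne : (cj g₁ Y : Subgroup Γ) ≠ cj g₂ Y) : (cj g₁ Y : Subgroup Γ) ⊔ cj g₂ Y = ⊤ := by
  set g := g₁⁻¹ * g₂ with hg
  suffices hgen : Y ⊔ cj g Y = ⊤ by
    have h1 := congrArg (Subgroup.map (MulAut.conj g₁).toMonoidHom) hgen
    rwa [Subgroup.map_sup, ← Core.map_conj_mul, hg, mul_inv_cancel_left,
      map_top_of_surjective _ (MulAut.conj g₁).surjective] at h1
  have hgN : g ∉ normalizer (Y : Set Γ) := fun hn => by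
    refine hne ?_
    conv_rhs => rw [show g₂ = g₁ * g by rw [hg, mul_inv_cancel_left], Core.map_conj_mul,
      Core.map_conj_eq_of_mem_normalizer hn]
  by_contra hne'
  refine hgN ?_
  have h1 : (cj g Y : Subgroup Γ) ≤ normalizer (Y : Set Γ) := le_sup_right.trans (hmax _ le_sup_left hne')
  -- the image of the conjugate lies in the image of `Y`
  have h2 : (cj g Y).map f ≤ Y.map f := by
    rintro _ ⟨z, hz, rfl⟩
    refine hfacts.norm_mem _ (le_normalizer_map f ⟨z, h1 hz, rfl⟩) ?_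
    obtain ⟨y, hy, rfl⟩ := hz
    rw [← map_pow, ← map_pow, hypow y hy, map_one, map_one]
  set R := Y ⊔ f.ker with hR
  have hN : ∀ z, f z ∈ Y.map f → z ∈ R := fun z hz => by
    rwa [hR, ← comap_map_eq, mem_comap]
  have hgR : g ∈ normalizer (R : Set Γ) := by
    rw [Core.mem_normalizer_iff_map_conj]
    refine eq_of_le_of_card_ge ?_ (card_map_of_injective (MulAut.conj g).injective).ge
    rw [hR, Subgroup.map_sup,
      Core.map_conj_eq_of_mem_normalizer (le_normalizer_normal (H := f.ker) (zpowers g) (mem_zpowers g))]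
    exact sup_le (fun z hz => hN z (h2 ⟨z, hz, rfl⟩)) le_sup_right
  -- the normalizer of `Y V` is proper, hence normalizes `Y`
  refine hmax (normalizer (R : Set Γ)) (le_sup_left.trans le_normalizer) (fun htop => ?_) hgR
  haveI : R.Normal := normalizer_eq_top_iff.1 htop
  have hnY : (R.map f).Normal := (inferInstance : R.Normal).map _ hsurj
  have hRf : R.map f = Y.map f := by
    rw [hR, Subgroup.map_sup, (Subgroup.map_eq_bot_iff (f := f) f.ker).2 le_rfl, sup_bot_eq]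
  have hYp : IsPGroup p Y := fun z => ⟨1, Subtype.ext (by rw [pow_one]; exact hypow z z.2)⟩
  have h3 : Y.map f ≤ Cfsg.pCore p Λ := Core.le_pCore' (hRf ▸ hnY) (hYp.map f)
  rw [hcore, le_bot_iff, Subgroup.map_eq_bot_iff] at h3
  exact hnle h3

/-- The hypotheses on the extension. -/
structure Ext (p : ℕ) (f : Γ →* Λ) (Y : Subgroup Γ) : Prop where
  surj : Function.Surjective f
  kab : f.ker ≤ centralizer (f.ker : Set Γ)
  kp : IsPGroup p f.ker
  yab : Y ≤ centralizer (Y : Set Γ)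
  ypow : ∀ y ∈ Y, y ^ p = 1
  norm : f.ker ≤ normalizer (Y : Set Γ)
  gen : f.ker ≤ normalClosure ((f.ker ⊓ Y : Subgroup Γ) : Set Γ)
  nle : ¬ Y ≤ f.ker
  max : ∀ X : Subgroup Γ, Y ≤ X → X ≠ ⊤ → X ≤ normalizer (Y : Set Γ)
  cent : f.ker ⊓ center Γ = ⊥
  core : Cfsg.pCore p Λ = ⊥
  facts : Facts p (Y.map f)

variable {f : Γ →* Λ} {Y : Subgroup Γ} (h : Ext p f Y)
include h

theorem Ext.ker_le_conj (g : Γ) : f.ker ≤ normalizer ((cj g Y : Subgroup Γ) : Set Γ) := by
  rw [normalizer_map_conj]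
  have := map_mono (f := (MulAut.conj g).toMonoidHom) h.norm
  rwa [Core.map_conj_eq_of_mem_normalizer (le_normalizer_normal (H := f.ker) (zpowers g) (mem_zpowers g))] at this

theorem Ext.comm_le (g : Γ) : ⁅f.ker, cj g Y⁆ ≤ cj g Y := by
  rw [commutator_comm]
  exact Coprime.commutator_le_of_le_normalizer (h.ker_le_conj g)

theorem Ext.yab_conj (g : Γ) : (cj g Y : Subgroup Γ) ≤ centralizer ((cj g Y : Subgroup Γ) : Set Γ) := by
  rw [centralizer_map_conj]
  exact map_mono h.yab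

theorem Ext.comm_mem (g : Γ) {v x : Γ} (hv : v ∈ f.ker) (hx : x ∈ (cj g Y : Subgroup Γ)) :
    x * v * x⁻¹ * v⁻¹ ∈ f.ker ⊓ centralizer ((cj g Y : Subgroup Γ) : Set Γ) := by
  refine ⟨f.ker.mul_mem (f.normal_ker.conj_mem v hv x) (f.ker.inv_mem hv), h.yab_conj g ?_⟩
  rw [show x * v * x⁻¹ * v⁻¹ = ⁅v, x⁆⁻¹ by simp [commutatorElement_def, mul_assoc]]
  exact inv_mem (h.comm_le g (commutator_mem_commutator hv hx))

theorem Ext.join_eq_top [Finite Γ] {g₁ g₂ : Γ} (hne : (cj g₁ Y : Subgroup Γ) ≠ cj g₂ Y) :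
    (cj g₁ Y : Subgroup Γ) ⊔ cj g₂ Y = ⊤ :=
  FrakL.join_eq_top h.surj h.ypow h.norm h.nle h.max h.core h.facts hne

theorem Ext.not_normalizes [Finite Γ] : ∃ k : Γ, (cj k Y : Subgroup Γ) ≠ Y := by
  by_contra hno
  push Not at hno
  haveI : Y.Normal := Core.normal_iff_map_conj.2 hno
  have hYp : IsPGroup p Y := fun z => ⟨1, Subtype.ext (by rw [pow_one]; exact h.ypow z z.2)⟩
  have h3 : Y.map f ≤ Cfsg.pCore p Λ :=
    Core.le_pCore' ((inferInstance : Y.Normal).map _ h.surj) (hYp.map f)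
  rw [h.core, le_bot_iff, Subgroup.map_eq_bot_iff] at h3
  exact h.nle h3

theorem Ext.exists_ne_conj [Finite Γ] (g : Γ) : ∃ k : Γ, (cj g Y : Subgroup Γ) ≠ cj k Y := by
  obtain ⟨k, hk⟩ := h.not_normalizes
  refine ⟨g * k, fun e => hk ?_⟩
  rw [Core.map_conj_mul] at e
  exact (map_injective (f := (MulAut.conj g).toMonoidHom) (MulAut.conj g).injective e).symm

/-- The fixed points of two generating conjugates are trivial. -/
theorem Ext.disjoint [Finite Γ] {g₁ g₂ : Γ} (hne : (cj g₁ Y : Subgroup Γ) ≠ cj g₂ Y) {v : Γ}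
    (hv : v ∈ f.ker) (h1 : v ∈ centralizer ((cj g₁ Y : Subgroup Γ) : Set Γ))
    (h2 : v ∈ centralizer ((cj g₂ Y : Subgroup Γ) : Set Γ)) : v = 1 := by
  rw [← mem_bot, ← h.cent]
  refine ⟨hv, mem_center_iff.2 fun z => ?_⟩
  have h3 : (⊤ : Subgroup Γ) ≤ centralizer ({v} : Set Γ) := by
    rw [← h.join_eq_top hne]
    exact sup_le (fun y hy => mem_centralizer_singleton_iff.2 (mem_centralizer_iff.1 h1 y hy))
      fun y hy => mem_centralizer_singleton_iff.2 (mem_centralizer_iff.1 h2 y hy)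
  exact mem_centralizer_singleton_iff.1 (h3 (mem_top z))

/-- The kernel is the product of its parts in two generating conjugates. -/
theorem Ext.decomp [Finite Γ] {g₁ g₂ : Γ} (hne : (cj g₁ Y : Subgroup Γ) ≠ cj g₂ Y) {v : Γ}
    (hv : v ∈ f.ker) : ∃ a b : Γ, a * b = v ∧
      a ∈ f.ker ⊓ centralizer ((cj g₁ Y : Subgroup Γ) : Set Γ) ∧
      b ∈ f.ker ⊓ centralizer ((cj g₂ Y : Subgroup Γ) : Set Γ) := by
  set B := fun g : Γ => f.ker ⊓ centralizer ((cj g Y : Subgroup Γ) : Set Γ) with hB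
  set D := B g₁ ⊔ B g₂ with hD
  have hBY : ∀ g, f.ker ⊓ cj g Y ≤ B g := fun g => inf_le_inf_left _ (h.yab_conj g)
  have hDV : D ≤ f.ker := sup_le inf_le_left inf_le_left
  have hstep : ∀ g, B g ≤ D → (cj g Y : Subgroup Γ) ≤ normalizer (D : Set Γ) := by
    intro g hg
    refine Core.le_normalizer_iff_conj_mem.2 fun y hy x hx => ?_
    have h1 := hg (h.comm_mem g (hDV hx) hy)
    have := mul_mem h1 hx
    simpa [mul_assoc] using this
  haveI : D.Normal := by
    rw [← normalizer_eq_top_iff, eq_top_iff, ← h.join_eq_top hne]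
    exact sup_le (hstep g₁ le_sup_left) (hstep g₂ le_sup_right)
  have hYD : f.ker ⊓ Y ≤ D := by
    intro z hz
    have h1 : g₁ * z * g₁⁻¹ ∈ D :=
      mem_sup_left (hBY g₁ ⟨f.normal_ker.conj_mem z hz.1 g₁, ⟨z, hz.2, rfl⟩⟩)
    have := (inferInstance : D.Normal).conj_mem _ h1 g₁⁻¹
    simpa [mul_assoc] using this
  have hle : f.ker ≤ D := h.gen.trans (normalClosure_le_normal hYD)
  obtain ⟨a, ha, b, hb, e⟩ := (Core.mem_sup_of_le_normalizer
    (((inf_le_left : B g₁ ≤ f.ker).trans h.kab).trans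
      ((cent_mono inf_le_left).trans (centralizer_le_normalizer _)))).1 (hle hv)
  exact ⟨a, b, e, ha, hb⟩
where
  cent_mono {A B : Subgroup Γ} (h : A ≤ B) : centralizer (B : Set Γ) ≤ centralizer (A : Set Γ) :=
    centralizer_le (SetLike.coe_subset_coe.2 h)

/-- An element of a conjugate outside the kernel has the fixed points of the conjugate. -/
theorem Ext.semiregular [Finite Γ] [Finite Λ] [Fact p.Prime] {g x : Γ} (hx : x ∈ (cj g Y : Subgroup Γ))
    (hxV : x ∉ f.ker) {v : Γ} (hv : v ∈ f.ker) (hxv : x * v = v * x) :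
    v ∈ centralizer ((cj g Y : Subgroup Γ) : Set Γ) := by
  obtain ⟨k, hne⟩ := h.exists_ne_conj g
  obtain ⟨a, b, rfl, ha, hb⟩ := h.decomp hne hv
  have hax : x * a = a * x := mem_centralizer_iff.1 ha.2 x hx
  have hbx : x * b = b * x := by
    have h1 : a * (x * b) = a * (b * x) := by rw [← mul_assoc, ← hax, mul_assoc, hxv, mul_assoc]
    exact mul_left_cancel h1
  set X := zpowers x ⊔ (cj k Y ⊔ f.ker) with hX
  by_cases hXt : X = ⊤
  · have hb1 : b = 1 := by
      rw [← mem_bot, ← h.cent]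
      refine ⟨hb.1, mem_center_iff.2 fun z => ?_⟩
      have h3 : (⊤ : Subgroup Γ) ≤ centralizer ({b} : Set Γ) := by
        rw [← hXt]
        refine sup_le (zpowers_le.2 (mem_centralizer_singleton_iff.2 hbx))
          (sup_le (fun y hy => mem_centralizer_singleton_iff.2 (mem_centralizer_iff.1 hb.2 y hy)) ?_)
        exact fun w hw => mem_centralizer_singleton_iff.2 (mem_centralizer_iff.1 (h.kab hb.1) w hw)
      exact mem_centralizer_singleton_iff.1 (h3 (mem_top z))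
    rw [hb1, mul_one]
    exact ha.2
  exfalso
  have hle : (cj k Y : Subgroup Γ) ≤ X := le_sup_left.trans le_sup_right
  have hX' : (cj k⁻¹ X : Subgroup Γ) ≤ normalizer (Y : Set Γ) := by
    refine h.max _ ?_ fun e => hXt ?_
    · have := map_mono (f := (MulAut.conj k⁻¹).toMonoidHom) hle
      rwa [map_conj_inv_cancel] at this
    · rw [← map_conj_cancel_inv X k, e, map_top_of_surjective _ (MulAut.conj k).surjective]
  have hxk : x ∈ normalizer ((cj k Y : Subgroup Γ) : Set Γ) := by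
    rw [normalizer_map_conj, Core.mem_map_conj]
    refine hX' ⟨x, mem_sup_left (mem_zpowers x), ?_⟩
    simp
  obtain ⟨y, hy, hxy⟩ := hx
  have hxp : f x ^ p = 1 := by
    rw [← hxy, ← map_pow, ← map_pow, h.ypow y hy, map_one, map_one]
  have hmap : ∀ g : Γ, (cj g Y).map f = cj (f g) (Y.map f) := fun g => by
    rw [map_map, map_map]
    congr 1
    ext z
    simp
  have hxin : f x ∈ (cj k Y).map f := by
    have h1 := le_normalizer_map f ⟨x, hxk, rfl⟩
    rw [hmap, normalizer_map_conj, Core.mem_map_conj] at h1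
    rw [hmap, Core.mem_map_conj]
    refine h.facts.norm_mem _ h1 ?_
    have h2 := conj_pow (a := (f k)⁻¹) (b := f x) (i := p)
    rw [inv_inv] at h2
    rw [h2, hxp]
    group
  have hcenx : ∀ z : Λ, z * f x = f x * z := by
    have h3 : (⊤ : Subgroup Λ) ≤ centralizer ({f x} : Set Λ) := by
      rw [← map_top_of_surjective f h.surj, ← h.join_eq_top hne, Subgroup.map_sup]
      refine sup_le ?_ ?_
      · rintro _ ⟨z, hz, rfl⟩
        refine mem_centralizer_singleton_iff.2 ?_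
        rw [← map_mul, ← map_mul, mem_centralizer_iff.1 (h.yab_conj g ⟨y, hy, hxy⟩) z hz]
      · rintro _ ⟨z, hz, rfl⟩
        obtain ⟨w, hw, hwx⟩ := hxin
        refine mem_centralizer_singleton_iff.2 ?_
        rw [← hwx, ← map_mul, ← map_mul, mem_centralizer_iff.1 (h.yab_conj k hw) z hz]
    exact fun z => mem_centralizer_singleton_iff.1 (h3 (mem_top z))
  have hn : (zpowers (f x)).Normal := ⟨fun z hz w => by
    obtain ⟨i, rfl⟩ := hz
    rw [(Commute.zpow_right (show Commute w (f x) from hcenx w) i).eq, mul_inv_cancel_right]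
    exact zpow_mem (mem_zpowers _) i⟩
  have hpow : IsPGroup p (zpowers (f x)) := fun z => ⟨1, Subtype.ext (by
    obtain ⟨i, hi⟩ := z.2
    change f x ^ i = (z : Λ) at hi
    rw [pow_one, SubmonoidClass.coe_pow, OneMemClass.coe_one, ← hi, ← zpow_natCast, ← zpow_mul, mul_comm,
      zpow_mul, zpow_natCast, hxp, one_zpow])⟩
  have h4 := Core.le_pCore' hn hpow (mem_zpowers (f x))
  rw [h.core, mem_bot] at h4
  exact hxV h4

theorem Ext.centralizer_mod (g : Γ) {v : Γ} (hv : v ∈ f.ker) :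
    v ∈ centralizer ((cj g Y : Subgroup Γ) : Set Γ) ↔
      v ∈ centralizer (((cj g Y).map f).comap f : Set Γ) := by
  rw [comap_map_eq]
  refine ⟨fun h1 => mem_centralizer_iff.2 fun z hz => mem_centralizer_singleton_iff.1 ?_,
    fun h1 => centralizer_le (SetLike.coe_subset_coe.2 le_sup_left) h1⟩
  exact (sup_le (fun y hy => mem_centralizer_singleton_iff.2 (mem_centralizer_iff.1 h1 y hy))
    fun w hw => mem_centralizer_singleton_iff.2 (mem_centralizer_iff.1 (h.kab hv) w hw) :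
      cj g Y ⊔ f.ker ≤ centralizer ({v} : Set Γ)) hz

/-- Conjugation respects the fixed-point subgroups of conjugates with equal images. -/
theorem Ext.conj_centralizer {a g₁ g₂ : Γ}
    (he : ((cj g₁ Y).map f).map (MulAut.conj (f a)).toMonoidHom = (cj g₂ Y).map f) {v : Γ}
    (hv : v ∈ f.ker) (h1 : v ∈ centralizer ((cj g₁ Y : Subgroup Γ) : Set Γ)) :
    a * v * a⁻¹ ∈ centralizer ((cj g₂ Y : Subgroup Γ) : Set Γ) := by
  refine mem_centralizer_iff.2 fun z hz => ?_
  have h2 : f z ∈ ((cj g₁ Y).map f).map (MulAut.conj (f a)).toMonoidHom := he ▸ ⟨z, hz, rfl⟩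
  rw [Core.mem_map_conj, ← map_inv, ← map_mul, ← map_mul] at h2
  have h3 := mem_centralizer_iff.1 ((h.centralizer_mod g₁ hv).1 h1) (a⁻¹ * z * a) h2
  have h4 := congrArg (fun w => a * w * a⁻¹) h3
  simpa [mul_assoc] using h4

/-- The central involution fixes nothing. -/
theorem Ext.involution [Finite Γ] [Finite Λ] [Fact p.Prime] (hp2 : p ≠ 2) {a₁ a₂ h₀ x w : Γ}
    (hne : (cj a₁ Y : Subgroup Γ) ≠ cj a₂ Y) (hx : x ∈ (cj a₁ Y : Subgroup Γ))
    (hw : w ∈ (cj a₂ Y : Subgroup Γ))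
    (hsw : ((cj a₁ Y).map f).map (MulAut.conj (f (x * w * x))).toMonoidHom = (cj a₂ Y).map f)
    (hcube : f ((x * w) ^ 3) = f h₀) {v : Γ} (hv : v ∈ f.ker)
    (h1 : v ∈ centralizer ((cj a₁ Y : Subgroup Γ) : Set Γ)) (hfix : h₀ * v = v * h₀) : v = 1 := by
  have hcom : ∀ u ∈ f.ker, ∀ u' ∈ f.ker, u * u' = u' * u := fun u hu u' hu' =>
    mem_centralizer_iff.1 (h.kab hu') u hu
  have hxv : x * v = v * x := mem_centralizer_iff.1 h1 x hx
  set β := w * v * w⁻¹ * v⁻¹ with hβ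
  have hβB := h.comm_mem a₂ hv hw
  rw [← hβ] at hβB
  set γ := x * β * x⁻¹ * β⁻¹ with hγ
  have hγB := h.comm_mem a₁ hβB.1 hx
  rw [← hγ] at hγB
  -- the braid
  have hn : (x * w * x) * v * (x * w * x)⁻¹ = γ * β * v := by
    calc (x * w * x) * v * (x * w * x)⁻¹ = x * w * (x * v * x⁻¹) * w⁻¹ * x⁻¹ := by group
      _ = x * (w * v * w⁻¹) * x⁻¹ := by rw [hxv, mul_inv_cancel_right]; group
      _ = x * (β * v) * x⁻¹ := by rw [hβ]; group
      _ = (x * β * x⁻¹) * (x * v * x⁻¹) := by group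
      _ = γ * β * v := by rw [hxv, mul_inv_cancel_right, hγ, inv_mul_cancel_right]
  have hnB := h.conj_centralizer hsw hv h1
  rw [hn] at hnB
  have hγv : γ * v = 1 := by
    refine h.disjoint hne (mul_mem hγB.1 hv) (mul_mem hγB.2 h1) ?_
    have := mul_mem hnB (inv_mem hβB.2)
    rwa [show γ * β * v * β⁻¹ = γ * v by
      rw [mul_assoc γ β v, hcom β hβB.1 v hv, ← mul_assoc, mul_inv_cancel_right]] at this
  have hγ' : γ = v⁻¹ := eq_inv_of_mul_eq_one_left hγv
  set T := x * w with hT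
  have hTv : T * v * T⁻¹ = β := by
    calc T * v * T⁻¹ = x * (w * v * w⁻¹) * x⁻¹ := by rw [hT]; group
      _ = x * (β * v) * x⁻¹ := by rw [hβ]; group
      _ = (x * β * x⁻¹) * (x * v * x⁻¹) := by group
      _ = γ * β * v := by rw [hxv, mul_inv_cancel_right, hγ, inv_mul_cancel_right]
      _ = β := by rw [hγ', mul_assoc, hcom β hβB.1 v hv, inv_mul_cancel_left]
  have hwβ : w * β = β * w := mem_centralizer_iff.1 hβB.2 w hw
  have hTβ : T * β * T⁻¹ = v⁻¹ * β := by
    calc T * β * T⁻¹ = x * (w * β * w⁻¹) * x⁻¹ := by rw [hT]; group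
      _ = x * β * x⁻¹ := by rw [hwβ, mul_inv_cancel_right]
      _ = v⁻¹ * β := by rw [← hγ', hγ, inv_mul_cancel_right]
  have hT3 : T ^ 3 * v * (T ^ 3)⁻¹ = v⁻¹ := by
    calc T ^ 3 * v * (T ^ 3)⁻¹ = T * (T * (T * v * T⁻¹) * T⁻¹) * T⁻¹ := by
          simp only [pow_succ, pow_zero, one_mul, mul_inv_rev, mul_assoc]
      _ = T * (v⁻¹ * β) * T⁻¹ := by rw [hTv, hTβ]
      _ = (T * v * T⁻¹)⁻¹ * (T * β * T⁻¹) := by group
      _ = v⁻¹ := by rw [hTv, hTβ, hcom v⁻¹ (inv_mem hv) β hβB.1, inv_mul_cancel_left]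
  -- `h₀` acts as `T ^ 3`
  have hk : h₀⁻¹ * T ^ 3 ∈ f.ker := by
    rw [MonoidHom.mem_ker, map_mul, map_inv, hcube, inv_mul_cancel]
  have hsame : T ^ 3 * v * (T ^ 3)⁻¹ = v := by
    have h2 := hcom _ hk v hv
    calc T ^ 3 * v * (T ^ 3)⁻¹ = h₀ * ((h₀⁻¹ * T ^ 3) * v) * (T ^ 3)⁻¹ := by group
      _ = h₀ * (v * (h₀⁻¹ * T ^ 3)) * (T ^ 3)⁻¹ := by rw [h2]
      _ = h₀ * v * h₀⁻¹ := by group
      _ = v := by rw [hfix, mul_inv_cancel_right]
  rw [hT3] at hsame
  refine orderOf_eq_one_iff.1 ?_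
  obtain ⟨j, hj⟩ := h.kp ⟨v, hv⟩
  have hd1 : orderOf v ∣ p ^ j := orderOf_dvd_of_pow_eq_one (congrArg Subtype.val hj)
  have hd2 : orderOf v ∣ 2 := orderOf_dvd_of_pow_eq_one (by
    rw [pow_two]
    nth_rw 1 [← hsame]
    exact inv_mul_cancel v)
  exact Nat.eq_one_of_dvd_coprimes
    (Nat.Coprime.pow_left j ((Nat.coprime_primes (Fact.out : p.Prime) Nat.prime_two).2 hp2)) hd1 hd2

/-- An element whose image has prime order other than `p` has no fixed points on the kernel. -/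
theorem Ext.fixed_point_free [Finite Γ] [Finite Λ] [Fact p.Prime] {h₀ : Γ} (ho : (orderOf (f h₀)).Prime)
    (hop : orderOf (f h₀) ≠ p) {v : Γ} (hv : v ∈ f.ker) (hfix : h₀ * v = v * h₀) : v = 1 := by
  have hcom : ∀ u ∈ f.ker, ∀ u' ∈ f.ker, u * u' = u' * u := fun u hu u' hu' =>
    mem_centralizer_iff.1 (h.kab hu') u hu
  have hmap : ∀ g : Γ, (cj g Y).map f = cj (f g) (Y.map f) := fun g => by
    rw [map_map, map_map]
    congr 1
    ext z
    simp
  have hpow : ∀ {g x : Γ}, x ∈ (cj g Y : Subgroup Γ) → x ^ p = 1 := by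
    rintro g _ ⟨y, hy, rfl⟩
    rw [← map_pow, h.ypow y hy, map_one]
  have hlift : ∀ (g : Γ) (x' : Λ), x' ∈ cj (f g) (Y.map f) → ∃ x ∈ (cj g Y : Subgroup Γ), f x = x' := by
    intro g x' hx'
    rw [← hmap] at hx'
    exact hx'
  have hp : p.Prime := Fact.out
  have hnp : ¬ f h₀ ^ p = 1 := fun e =>
    hop ((Nat.prime_dvd_prime_iff_eq ho hp).1 (orderOf_dvd_of_pow_eq_one e))
  rcases h.facts.split (f h₀) ho hop with ⟨b₁, b₂, x', hx', y', hy', he⟩ |
      ⟨hp2, hsq, hcen, b₁, b₂, x', hx', w', hw', hs1, hs2, hcube⟩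
  · obtain ⟨a₁, rfl⟩ := h.surj b₁
    obtain ⟨a₂, rfl⟩ := h.surj b₂
    obtain ⟨x, hx, rfl⟩ := hlift a₁ x' hx'
    obtain ⟨y, hy, rfl⟩ := hlift a₂ y' hy'
    have hne : (cj a₁ Y : Subgroup Γ) ≠ cj a₂ Y := fun e => hnp (by
      rw [← he, ← map_mul, ← map_pow, hpow (mul_mem (e ▸ hx) hy : x * y ∈ (cj a₂ Y : Subgroup Γ)), map_one])
    have hxV : x ∉ f.ker := fun hxk => hnp (by
      rw [← he, MonoidHom.mem_ker.1 hxk, one_mul, ← map_pow, hpow hy, map_one])
    have hyV : y ∉ f.ker := fun hyk => hnp (by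
      rw [← he, MonoidHom.mem_ker.1 hyk, mul_one, ← map_pow, hpow hx, map_one])
    have hk : h₀⁻¹ * (x * y) ∈ f.ker := by
      rw [MonoidHom.mem_ker, map_mul, map_mul, map_inv, he, inv_mul_cancel]
    have hxyv : (x * y) * v = v * (x * y) := by
      calc (x * y) * v = h₀ * ((h₀⁻¹ * (x * y)) * v) := by group
        _ = h₀ * (v * (h₀⁻¹ * (x * y))) := by rw [hcom _ hk v hv]
        _ = h₀ * v * h₀⁻¹ * (x * y) := by group
        _ = v * (x * y) := by rw [hfix, mul_inv_cancel_right]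
    set β := y * v * y⁻¹ * v⁻¹ with hβ
    have hβ2 := h.comm_mem a₂ hv hy
    rw [← hβ] at hβ2
    have hβ1 := h.comm_mem a₁ hv (inv_mem hx)
    have heq : x⁻¹ * v * x⁻¹⁻¹ * v⁻¹ = β := by
      rw [hβ, inv_inv]
      congr 1
      calc x⁻¹ * v * x = x⁻¹ * (v * (x * y)) * y⁻¹ := by group
        _ = x⁻¹ * (x * y * v) * y⁻¹ := by rw [hxyv]
        _ = y * v * y⁻¹ := by group
    rw [heq] at hβ1
    have hβone : β = 1 := h.disjoint hne hβ2.1 hβ1.2 hβ2.2
    have hyv : y * v = v * y := by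
      rw [hβ] at hβone
      exact mul_inv_eq_iff_eq_mul.1 (mul_inv_eq_one.1 hβone)
    have hxv : x * v = v * x := by
      refine mul_right_cancel (b := y) ?_
      rw [mul_assoc, ← hyv, ← mul_assoc, hxyv, ← mul_assoc]
    exact h.disjoint hne hv (h.semiregular hx hxV hv hxv) (h.semiregular hy hyV hv hyv)
  · obtain ⟨a₁, rfl⟩ := h.surj b₁
    obtain ⟨a₂, rfl⟩ := h.surj b₂
    obtain ⟨x, hx, rfl⟩ := hlift a₁ x' hx'
    obtain ⟨w, hw, rfl⟩ := hlift a₂ w' hw'
    rw [← map_mul, ← map_mul, ← hmap, ← hmap] at hs1 hs2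
    rw [← map_mul, ← map_pow] at hcube
    have hne : (cj a₁ Y : Subgroup Γ) ≠ cj a₂ Y := fun e => hnp (by
      rw [← hcube, ← map_pow, ← pow_mul, mul_comm, pow_mul,
        hpow (mul_mem (e ▸ hx) hw : x * w ∈ (cj a₂ Y : Subgroup Γ)), one_pow, map_one])
    obtain ⟨a, b, rfl, ha, hb⟩ := h.decomp hne hv
    have hfixed : ∀ g : Γ, ((cj g Y).map f).map (MulAut.conj (f h₀)).toMonoidHom = (cj g Y).map f := fun g =>
      Core.map_conj_eq_of_mem_normalizer (centralizer_le_normalizer _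
        (mem_centralizer_iff.2 fun z _ => (hcen z).symm))
    have hma := h.conj_centralizer (hfixed a₁) ha.1 ha.2
    have hmb := h.conj_centralizer (hfixed a₂) hb.1 hb.2
    have hka : h₀ * a * h₀⁻¹ ∈ f.ker := f.normal_ker.conj_mem a ha.1 h₀
    have hkb : h₀ * b * h₀⁻¹ ∈ f.ker := f.normal_ker.conj_mem b hb.1 h₀
    have hab : (h₀ * a * h₀⁻¹) * (h₀ * b * h₀⁻¹) = a * b := by
      calc (h₀ * a * h₀⁻¹) * (h₀ * b * h₀⁻¹) = h₀ * (a * b) * h₀⁻¹ := by group
        _ = a * b := by rw [hfix, mul_inv_cancel_right]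
    have h5 : a⁻¹ * (h₀ * a * h₀⁻¹) = 1 := by
      refine h.disjoint hne (mul_mem (inv_mem ha.1) hka) (mul_mem (inv_mem ha.2) hma) ?_
      rw [show a⁻¹ * (h₀ * a * h₀⁻¹) = b * (h₀ * b * h₀⁻¹)⁻¹ by
        rw [eq_mul_inv_iff_mul_eq, mul_assoc, hab, inv_mul_cancel_left]]
      exact mul_mem hb.2 (inv_mem hmb)
    have hfa : h₀ * a = a * h₀ := mul_inv_eq_iff_eq_mul.1 (inv_mul_eq_one.1 h5).symm
    have hfb : h₀ * b = b * h₀ := by
      have e : a * (h₀ * b) = a * (b * h₀) := by rw [← mul_assoc, ← hfa, mul_assoc, hfix, mul_assoc]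
      exact mul_left_cancel e
    have ha1 : a = 1 := h.involution hp2 hne hx hw hs1 hcube ha.1 ha.2 hfa
    -- the same braid with `x` and `w` exchanged
    have hcube' : f ((w * x) ^ 3) = f h₀ := by
      rw [show (w * x) ^ 3 = x⁻¹ * (x * w) ^ 3 * x by simp [pow_succ, mul_assoc], map_mul, map_mul, map_inv, hcube, mul_assoc,
        hcen, inv_mul_cancel_left]
    have hs2' : ((cj a₂ Y).map f).map (MulAut.conj (f (w * x * w))).toMonoidHom = (cj a₁ Y).map f := by
      have e1 : f (w * x * w) = (f (x * w * x))⁻¹ * f h₀ := by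
        rw [← hcube, ← map_inv, ← map_mul]
        congr 1
        simp [pow_succ, mul_assoc]
      rw [e1, Core.map_conj_mul, hfixed a₂]
      conv_lhs => rw [← hs1, map_conj_inv_cancel]
    have hb1 : b = 1 := h.involution hp2 (Ne.symm hne) hw hx hs2' hcube' hb.1 hb.2 hfb
    rw [ha1, hb1, one_mul]

end Cfsg.Lib.Local.FrakL
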