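import Cfsg.Agent.Lib.Local.PrimeOrderOperator
import Cfsg.Agent.Lib.Coprime.Action
import Cfsg.Agent.Lib.Local.Basic
import Cfsg.Agent.Lib.Local.Uniq.Tools

/-!
An operator `u` of prime order `r`, fixed-point-free on an operator group without fixed points on an
abelian group `M`, makes `M` free: `|M| = |C_M (u)| ^ r`.
-/

set_option autoImplicit false
set_option linter.style.haveILetI false
set_option linter.unusedSectionVars false

namespace Cfsg.Lib.Local.FreeAction

open Subgroup Uniq
open scoped IsMulCommutative commutatorElement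

universe u v

section Interpolation

variable {V : Type v} [AddCommGroup V] [Finite V]

/-- Interpolation for commuting operators with bijective differences. -/
theorem interpolate : ∀ (n : ℕ) (x : ℕ → AddMonoid.End V), (∀ i j, Commute (x i) (x j)) →
    (∀ i j, i < n → j < n → i ≠ j → Function.Bijective (x i - x j : AddMonoid.End V)) →
    Function.Bijective (fun (h : Fin n → V) (k : Fin n) => ∑ i : Fin n, (x k ^ (i : ℕ)) (h i)) := by
  intro n
  induction n with
  | zero => exact fun x _ _ => ⟨fun a b _ => funext fun i => i.elim0, fun b => ⟨b, funext fun i => i.elim0⟩⟩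
  | succ n ih =>
    intro x hc hd
    refine Function.Surjective.bijective_of_finite fun v => ?_
    set c : V := v (Fin.last n) with hcd
    choose w hw using fun k : Fin n => (hd k n (k.2.trans n.lt_succ_self) n.lt_succ_self k.2.ne).2
      (v k.castSucc - c)
    obtain ⟨g, hg⟩ := (ih x hc fun i j hi hj => hd i j (hi.trans n.lt_succ_self) (hj.trans n.lt_succ_self)).2 w
    refine ⟨fun i => (Fin.cons c g : Fin (n + 1) → V) i -
      (Fin.snoc (fun j => x n (g j)) 0 : Fin (n + 1) → V) i, funext fun k => ?_⟩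
    have key : ∑ i : Fin (n + 1), (x k ^ (i : ℕ)) ((Fin.cons c g : Fin (n + 1) → V) i -
        (Fin.snoc (fun j => x n (g j)) 0 : Fin (n + 1) → V) i) =
        c + (x k - x n : AddMonoid.End V) (∑ j : Fin n, (x k ^ (j : ℕ)) (g j)) := by
      simp only [map_sub, Finset.sum_sub_distrib]
      rw [Fin.sum_univ_succ, Fin.sum_univ_castSucc (f := fun i : Fin (n + 1) =>
        (x k ^ (i : ℕ)) ((Fin.snoc (fun j => x n (g j)) 0 : Fin (n + 1) → V) i))]
      simp only [Fin.cons_zero, Fin.cons_succ, Fin.snoc_castSucc, Fin.snoc_last, map_zero, add_zero,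
        Fin.val_zero, pow_zero, AddMonoid.End.coe_one, id_eq, Fin.val_succ, Fin.val_castSucc]
      rw [show ∀ a b : AddMonoid.End V, ∀ z, (a - b) z = a z - b z from fun a b z => rfl, map_sum, map_sum,
        add_sub_assoc]
      refine congrArg (c + ·) (congrArg₂ (· - ·) (Finset.sum_congr rfl fun j _ => ?_)
        (Finset.sum_congr rfl fun j _ => ?_))
      · rw [pow_succ']; rfl
      · exact DFunLike.congr_fun ((hc k n).pow_left (j : ℕ)).eq (g j)
    show ∑ i : Fin (n + 1), (x k ^ (i : ℕ)) _ = v k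
    rw [key]
    rcases Fin.eq_castSucc_or_eq_last k with ⟨j, rfl⟩ | rfl
    · have hgj : ∑ i : Fin n, (x j ^ (i : ℕ)) (g i) = w j := congrFun hg j
      simp only [Fin.val_castSucc]
      rw [hgj, hw j, add_sub_cancel]
    · simp only [Fin.val_last, sub_self]
      exact add_zero _

omit [Finite V] in
theorem sum_shift {r : ℕ} (F : ℕ → V) (hF : F r = F 0) :
    ∑ k ∈ Finset.range r, F (k + 1) = ∑ k ∈ Finset.range r, F k := by
  have h := (Finset.sum_range_succ' F r).symm.trans (Finset.sum_range_succ F r)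
  rw [hF] at h
  exact add_right_cancel h

end Interpolation

variable {X : Type u} [Group X] [Finite X] {M : Subgroup X}

/-- The underlying element. -/
def val (v : Additive M) : X := ((Additive.toMul v : M) : X)

theorem val_injective : Function.Injective (val (M := M)) := fun _ _ h =>
  Additive.toMul.injective (Subtype.ext h)

theorem val_mem (v : Additive M) : val v ∈ M := (Additive.toMul v).2

variable [IsMulCommutative M]

/-- Conjugation on the abelian group `M`. -/
noncomputable def rho (M : Subgroup X) [IsMulCommutative M] : normalizer (M : Set X) →* AddMonoid.End (Additive M) where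
  toFun g := MonoidHom.toAdditive (autOf M g).toMonoidHom
  map_one' := AddMonoidHom.ext fun v => by rw [map_one]; rfl
  map_mul' g h := AddMonoidHom.ext fun v => by rw [map_mul]; rfl

theorem val_rho (g : normalizer (M : Set X)) (v : Additive M) :
    val (rho M g v) = (g : X) * val v * (g : X)⁻¹ := rfl

theorem rho_eq_iff {g : normalizer (M : Set X)} {v : Additive M} :
    rho M g v = v ↔ val v ∈ centralizer ({(g : X)} : Set X) := by
  rw [mem_centralizer_singleton_iff, ← val_injective.eq_iff, val_rho, mul_inv_eq_iff_eq_mul]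
  exact eq_comm

theorem card_fixed (g : normalizer (M : Set X)) :
    Nat.card {v : Additive M // rho M g v = v} = Nat.card ↥(M ⊓ centralizer ({(g : X)} : Set X)) :=
  Nat.card_eq_of_bijective (fun v => ⟨val v.1, Subgroup.mem_inf.mpr ⟨val_mem v.1, rho_eq_iff.mp v.2⟩⟩)
    ⟨fun a b h => by have := congrArg Subtype.val h; exact Subtype.ext (val_injective this),
      fun z => ⟨⟨Additive.ofMul ⟨z, z.2.1⟩, rho_eq_iff.mpr z.2.2⟩, Subtype.ext rfl⟩⟩

variable {Z K : Subgroup X} {u : X} {r : ℕ} [hr : Fact r.Prime]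

/-- The abelian case without proper invariant subgroups. -/
theorem card_of_irreducible (hKM : K ≤ normalizer (M : Set X)) (huM : u ∈ normalizer (M : Set X)) (hur : u ^ r = 1)
    (hZK : Z ≤ K) (huZ : u ∈ normalizer (Z : Set X)) (huK : u ∈ normalizer (K : Set X))
    (hcomm : ∀ k ∈ K, ∀ z ∈ Z, k * z * k⁻¹ * z⁻¹ ∈ Z ⊓ centralizer (M : Set X))
    (hfree : Z ⊓ centralizer ({u} : Set X) = ⊥) (hcop : ¬ r ∣ Nat.card Z)
    (hC : M ⊓ centralizer (Z : Set X) = ⊥)
    (hirr : ∀ W : Subgroup X, W ≤ M → K ≤ normalizer (W : Set X) → u ∈ normalizer (W : Set X) → W = ⊥ ∨ W = M) :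
    Nat.card M = Nat.card ↥(M ⊓ centralizer ({u} : Set X)) ^ r := by
  classical
  by_cases hM1 : M = ⊥
  · subst hM1
    rw [bot_inf_eq, card_bot, one_pow]
  have hr0 : 0 < r := hr.out.pos
  set U := rho M ⟨u, huM⟩
  have hUpow : ∀ k : ℕ, U ^ k = rho M (⟨u, huM⟩ ^ k) := fun k => (map_pow _ _ _).symm
  have hUr : U ^ r = 1 := by
    rw [hUpow, show (⟨u, huM⟩ : normalizer (M : Set X)) ^ r = 1 from Subtype.ext hur, map_one]
  -- a maximal subgroup with fixed points
  set P : Set (Subgroup X) := {B | Z ⊓ centralizer (M : Set X) ≤ B ∧ B ≤ Z ∧ M ⊓ centralizer (B : Set X) ≠ ⊥}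
  have hP0 : Z ⊓ centralizer (M : Set X) ∈ P := ⟨le_rfl, inf_le_left, fun e => hM1 (le_bot_iff.mp ((le_inf le_rfl
    ((le_centralizer_iff.mp inf_le_right) : M ≤ centralizer ((Z ⊓ centralizer (M : Set X) : Subgroup X) : Set X))).trans
      e.le))⟩
  obtain ⟨B, hBC, ⟨-, hBZ, hBne⟩, hBmax⟩ := (Set.toFinite P).exists_le_maximal hP0
  have hfix : ∀ a ∈ Z, a ∉ B → ∀ w ∈ M ⊓ centralizer (B : Set X), a * w = w * a → w = 1 := by
    intro a ha haB w hw haw
    by_contra hw1
    refine haB (hBmax (y := B ⊔ zpowers a) ⟨hBC.trans le_sup_left, sup_le hBZ (zpowers_le.mpr ha), fun e => hw1 ?_⟩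
      le_sup_left (mem_sup_right (mem_zpowers a)))
    refine mem_bot.mp (e.le (Subgroup.mem_inf.mpr ⟨hw.1, ?_⟩))
    have h2 : B ⊔ zpowers a ≤ centralizer ({w} : Set X) := sup_le
      (fun b hb => mem_centralizer_singleton_iff.mpr (mem_centralizer_iff.mp hw.2 b hb))
      (zpowers_le.mpr (mem_centralizer_singleton_iff.mpr haw))
    exact mem_centralizer_iff.mpr fun c hc => mem_centralizer_singleton_iff.mp (h2 hc)
  -- `K` normalizes every such subgroup
  have hKN : ∀ C : Subgroup X, C ≤ Z → Z ⊓ centralizer (M : Set X) ≤ C → K ≤ normalizer (C : Set X) := by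
    intro C hCZ hCC k hk
    have hmem : ∀ {k : X}, k ∈ K → ∀ c ∈ C, k * c * k⁻¹ ∈ C := fun {k} hk c hc => by
      have := mul_mem (hCC (hcomm k hk c (hCZ hc))) hc
      rwa [inv_mul_cancel_right] at this
    rw [mem_normalizer_iff]
    refine fun c => ⟨hmem hk c, fun h => ?_⟩
    have := hmem (inv_mem hk) _ h
    rwa [inv_inv, show k⁻¹ * (k * c * k⁻¹) * k = c by group] at this
  have hCM : ∀ {C : Subgroup X}, K ≤ normalizer (C : Set X) → K ≤ normalizer ((M ⊓ centralizer (C : Set X) : Subgroup X) : Set X) :=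
    fun {C} h => (le_inf hKM (h.trans (Local.normalizer_le_normalizer_centralizer C))).trans
      inf_normalizer_le_normalizer_inf
  by_cases huB : u ∈ normalizer (B : Set X)
  · -- all elements of `Z` outside `B` are regular
    have hW : M ⊓ centralizer (B : Set X) = M := (hirr _ inf_le_left (hCM (hKN B hBZ hBC))
      (inf_normalizer_le_normalizer_inf ⟨huM, Local.normalizer_le_normalizer_centralizer B huB⟩)).resolve_left hBne
    obtain ⟨a, haZ, haB⟩ : ∃ a ∈ Z, a ∉ B := by
      by_contra hno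
      push Not at hno
      exact hBne (le_bot_iff.mp ((inf_le_inf le_rfl (Subgroup.centralizer_le hno)).trans hC.le))
    have hpow : ∀ k : ℕ, u ^ k ∈ normalizer (Z : Set X) := fun k => pow_mem huZ k
    have hdZ : ∀ k : ℕ, u ^ k * a * (u ^ k)⁻¹ ∈ Z := fun k => (mem_normalizer_iff.mp (hpow k) a).mp haZ
    set d : ℕ → normalizer (M : Set X) := fun k => ⟨u ^ k * a * (u ^ k)⁻¹, hKM (hZK (hdZ k))⟩
    set x : ℕ → AddMonoid.End (Additive M) := fun k => rho M (d k)
    have hxc : ∀ i j, Commute (x i) (x j) := by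
      intro i j
      refine AddMonoidHom.ext fun v => val_injective ?_
      show val (rho M (d i) (rho M (d j) v)) = val (rho M (d j) (rho M (d i) v))
      simp only [val_rho, d]
      set p := u ^ i * a * (u ^ i)⁻¹
      set q := u ^ j * a * (u ^ j)⁻¹
      set w := q * (p * val v * p⁻¹) * q⁻¹
      have hz := (hcomm p (hZK (hdZ i)) q (hdZ j)).2
      have hw : w ∈ M := (mem_normalizer_iff.mp (hKM (hZK (hdZ j))) _).mp
        ((mem_normalizer_iff.mp (hKM (hZK (hdZ i))) _).mp (val_mem v))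
      calc p * (q * val v * q⁻¹) * p⁻¹ = (p * q * p⁻¹ * q⁻¹) * w * (p * q * p⁻¹ * q⁻¹)⁻¹ := by
            simp only [w]; group
        _ = w := by rw [← mem_centralizer_iff.mp hz w hw, mul_inv_cancel_right]
    have hxd : ∀ i j, i < r → j < r → i ≠ j → Function.Bijective (x i - x j : AddMonoid.End (Additive M)) := by
      intro i j hi hj hij
      refine Finite.injective_iff_bijective.mp ((injective_iff_map_eq_zero _).mpr fun v hv => val_injective ?_)
      have h1 : rho M (d i) v = rho M (d j) v := sub_eq_zero.mp hv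
      set z := (u ^ j * a * (u ^ j)⁻¹)⁻¹ * (u ^ i * a * (u ^ i)⁻¹)
      have hz : z ∈ Z := mul_mem (inv_mem (hdZ j)) (hdZ i)
      have h2 : z * val v = val v * z := by
        have h3 := congrArg val h1
        simp only [val_rho, d] at h3
        calc z * val v = (u ^ j * a * (u ^ j)⁻¹)⁻¹ * ((u ^ i * a * (u ^ i)⁻¹) * val v * (u ^ i * a * (u ^ i)⁻¹)⁻¹) *
              (u ^ i * a * (u ^ i)⁻¹) := by simp only [z]; group
          _ = val v * z := by rw [h3]; simp only [z]; group
      refine hfix z hz (fun hzB => haB ?_) (val v) (hW.ge (val_mem v)) h2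
      -- the coset `a B` would be fixed by `u`
      set g := (u ^ j)⁻¹ * u ^ i
      have hgN : g ∈ normalizer (B : Set X) := mul_mem (inv_mem (pow_mem huB j)) (pow_mem huB i)
      have hg : a⁻¹ * (g * a * g⁻¹) ∈ B := by
        have := (mem_normalizer_iff.mp (inv_mem (pow_mem huB j)) z).mp hzB
        rwa [inv_inv, show (u ^ j)⁻¹ * z * u ^ j = a⁻¹ * (g * a * g⁻¹) by simp only [z, g]; group] at this
      have huz : u ∈ zpowers g := by
        have hgu : g ∈ zpowers u := mul_mem (inv_mem (pow_mem (mem_zpowers u) j)) (pow_mem (mem_zpowers u) i)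
        have hg1 : g ≠ 1 := fun e => by
          rcases eq_or_ne u 1 with rfl | hu1
          · exact hij (absurd hfree (fun h => haB (hBC ⟨haZ, by
              have : a = 1 := mem_bot.mp (h.le (Subgroup.mem_inf.mpr ⟨haZ, mem_centralizer_singleton_iff.mpr (by simp)⟩))
              rw [this]; exact one_mem _⟩)))
          · have h5 := inv_mul_eq_one.mp e
            rw [pow_inj_mod, orderOf_eq_prime hur hu1, Nat.mod_eq_of_lt hi, Nat.mod_eq_of_lt hj] at h5
            exact hij h5.symm
        exact (zpowers_eq_of_mem hur hgu hg1).ge (mem_zpowers u)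
      have hgB : ∀ b ∈ zpowers g, ⁅a⁻¹, b⁆ ∈ B := by
        intro b hb
        set S : Set X := {b | b ∈ normalizer (B : Set X) ∧ a⁻¹ * (b * a * b⁻¹) ∈ B}
        have h5 : ∀ n : ℕ, g ^ n ∈ S := by
          intro n
          induction n with
          | zero => exact ⟨by rw [pow_zero]; exact one_mem _, by rw [pow_zero]; simp⟩
          | succ n ih =>
            refine ⟨pow_mem hgN _, ?_⟩
            have := mul_mem hg ((mem_normalizer_iff.mp hgN _).mp ih.2)
            -- rearrange using commutativity modulo `B`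
            rw [show a⁻¹ * (g * a * g⁻¹) * (g * (a⁻¹ * (g ^ n * a * (g ^ n)⁻¹)) * g⁻¹) =
              a⁻¹ * (g ^ (n + 1) * a * (g ^ (n + 1))⁻¹) by rw [pow_succ']; group] at this
            exact this
        obtain ⟨n, rfl⟩ := (mem_powers_iff_mem_zpowers.mpr hb : b ∈ Submonoid.powers g)
        show ⁅a⁻¹, g ^ n⁆ ∈ B
        rw [commutatorElement_def, inv_inv]
        simpa [mul_assoc] using (h5 n).2
      have hsol : Group.IsSolvable (zpowers g) := Group.isSolvable_of_comm fun s t => mul_comm' s t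
      have hgZ : zpowers g ≤ normalizer (Z : Set X) :=
        zpowers_le.mpr (mul_mem (inv_mem (hpow j)) (hpow i))
      obtain ⟨n, hn, c, hc, hnc⟩ := Cfsg.Lib.Coprime.exists_mul_centralizer_of_commutator_mem hgZ
        (Nat.Coprime.coprime_dvd_left (card_dvd_of_le (zpowers_le.mpr
          (mul_mem (inv_mem (pow_mem (mem_zpowers u) j)) (pow_mem (mem_zpowers u) i))))
          (Nat.Coprime.coprime_dvd_left (by rw [Nat.card_zpowers]; exact orderOf_dvd_of_pow_eq_one hur)
            (hr.out.coprime_iff_not_dvd.mpr hcop)))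
        (Or.inl hsol) hBZ (zpowers_le.mpr hgN) (inv_mem haZ) hgB
      have hc1 : c = 1 := mem_bot.mp (hfree.le (Subgroup.mem_inf.mpr ⟨hc.1, mem_centralizer_singleton_iff.mpr
        (mem_centralizer_iff.mp hc.2 u huz).symm⟩))
      rw [hc1, mul_one] at hnc
      exact inv_mem_iff.mp (hnc ▸ hn)
    have hUx : ∀ (k i : ℕ) (h : Additive M), (U ^ k) ((x 0 ^ i) h) = (x k ^ i) ((U ^ k) h) := by
      intro k i h
      have hs : SemiconjBy (U ^ k) (x 0) (x k) := by
        rw [SemiconjBy, hUpow, ← map_mul, ← map_mul]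
        refine congrArg _ (Subtype.ext ?_)
        show u ^ k * (u ^ 0 * a * (u ^ 0)⁻¹) = u ^ k * a * (u ^ k)⁻¹ * u ^ k
        simp
      exact DFunLike.congr_fun (hs.pow_right i).eq h
    have hUstep : ∀ (k i : ℕ) (h : Additive M), U ((x k ^ i) h) = (x (k + 1) ^ i) (U h) := by
      intro k i h
      have hs : SemiconjBy U (x k) (x (k + 1)) := by
        rw [SemiconjBy, ← map_mul, ← map_mul]
        refine congrArg _ (Subtype.ext ?_)
        show u * (u ^ k * a * (u ^ k)⁻¹) = u ^ (k + 1) * a * (u ^ (k + 1))⁻¹ * u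
        rw [pow_succ']; group
      exact DFunLike.congr_fun (hs.pow_right i).eq h
    have hint := interpolate r x hxc hxd
    let Φ : (Fin r → {v : Additive M // U v = v}) → Additive M := fun h => ∑ i : Fin r, (x 0 ^ (i : ℕ)) (h i).1
    have hΦ : ∀ (h : Fin r → {v : Additive M // U v = v}) (k : Fin r),
        (U ^ (k : ℕ)) (Φ h) = ∑ i : Fin r, (x k ^ (i : ℕ)) (h i).1 := by
      intro h k
      rw [map_sum]
      refine Finset.sum_congr rfl fun i _ => ?_
      rw [hUx]
      congr 1
      induction (k : ℕ) with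
      | zero => rw [pow_zero]; rfl
      | succ n ih => rw [pow_succ]; show (U ^ n) (U (h i).1) = _; rw [(h i).2, ih]
    have hbij : Function.Bijective Φ := by
      refine ⟨fun h h' he => ?_, fun v => ?_⟩
      · have h1 := hint.1 (a₁ := fun i => (h i).1) (a₂ := fun i => (h' i).1) (funext fun k => by
          show ∑ i : Fin r, _ = ∑ i : Fin r, _
          rw [← hΦ, ← hΦ, he])
        exact funext fun i => Subtype.ext (congrFun h1 i)
      · obtain ⟨h, hh⟩ := hint.2 fun k => (U ^ (k : ℕ)) v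
        have hfixh : ∀ i, U (h i) = h i := by
          intro i
          refine congrFun (hint.1 (a₁ := fun i => U (h i)) (a₂ := h) (funext fun k => ?_)) i
          set k' : ℕ := ((k : ℕ) + (r - 1)) % r
          have hk' : k' < r := Nat.mod_lt _ hr0
          have hmod : (k' + 1) % r = (k : ℕ) := by
            show (((k : ℕ) + (r - 1)) % r + 1) % r = k
            rw [Nat.mod_add_mod, show (k : ℕ) + (r - 1) + 1 = (k : ℕ) + r by omega, Nat.add_mod_right,
              Nat.mod_eq_of_lt k.2]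
          have hu' : u ^ (k' + 1) = u ^ (k : ℕ) := by
            rw [pow_eq_pow_mod _ hur, hmod]
          have h1 := congrArg (fun w => U w) (congrFun hh ⟨k', hk'⟩)
          simp only [map_sum, hUstep] at h1
          have h2 : U ((U ^ k') v) = (U ^ (k : ℕ)) v := by
            show (U * U ^ k') v = _
            rw [← pow_succ', pow_eq_pow_mod _ hUr, hmod]
          rw [h2] at h1
          rw [show x (k' + 1) = x k from congrArg (rho M) (Subtype.ext (by
            show u ^ (k' + 1) * a * (u ^ (k' + 1))⁻¹ = _; rw [hu']))] at h1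
          exact h1.trans (congrFun hh k).symm
        refine ⟨fun i => ⟨h i, hfixh i⟩, ?_⟩
        have h3 := congrFun hh ⟨0, hr0⟩
        simp only [pow_zero] at h3
        exact h3
    rw [show Nat.card M = Nat.card (Additive M) from rfl, ← Nat.card_eq_of_bijective Φ hbij, Nat.card_fun,
      Nat.card_fin, card_fixed]
  -- the conjugates of `B` are permuted freely
  set Bk : ℕ → Subgroup X := fun k => B.map (MulAut.conj (u ^ k)).toMonoidHom
  have hBkmem : ∀ {k : ℕ} {b : X}, b ∈ Bk k ↔ (u ^ k)⁻¹ * b * u ^ k ∈ B := by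
    intro k b
    refine ⟨fun ⟨c, hc, e⟩ => ?_, fun h => ⟨_, h, ?_⟩⟩
    · rw [← e]; show (u ^ k)⁻¹ * (u ^ k * c * (u ^ k)⁻¹) * u ^ k ∈ B
      rwa [show (u ^ k)⁻¹ * (u ^ k * c * (u ^ k)⁻¹) * u ^ k = c by group]
    · show u ^ k * ((u ^ k)⁻¹ * b * u ^ k) * (u ^ k)⁻¹ = b
      group
  have hBkZ : ∀ k, Bk k ≤ Z := fun k b hb => by
    have := (mem_normalizer_iff.mp (pow_mem huZ k) _).mp (hBZ (hBkmem.mp hb))
    rwa [show u ^ k * ((u ^ k)⁻¹ * b * u ^ k) * (u ^ k)⁻¹ = b by group] at this
  have hex : ∀ i j, i < r → j < r → i ≠ j → ∃ b ∈ Bk i, b ∉ Bk j := by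
    intro i j hi hj hij
    by_contra hno
    push Not at hno
    have heq : Bk i = Bk j := eq_of_le_of_card_ge hno (le_of_eq (by
      simp only [Bk, Cfsg.Lib.Coprime.card_map_conj]))
    have hN : (u ^ j)⁻¹ * u ^ i ∈ normalizer (B : Set X) := by
      rw [Core.mem_normalizer_iff_map_conj, ← Cfsg.Lib.Coprime.map_conj_conj]
      show (Bk i).map _ = B
      rw [heq, Cfsg.Lib.Coprime.map_conj_conj, inv_mul_cancel, Cfsg.Lib.Coprime.map_conj_one]
    refine huB ?_
    rcases eq_or_ne u 1 with rfl | hu1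
    · exact one_mem _
    have hg1 : (u ^ j)⁻¹ * u ^ i ≠ 1 := fun e => by
      have h5 := inv_mul_eq_one.mp e
      rw [pow_inj_mod, orderOf_eq_prime hur hu1, Nat.mod_eq_of_lt hi, Nat.mod_eq_of_lt hj] at h5
      exact hij h5.symm
    exact zpowers_le.mpr hN ((zpowers_eq_of_mem hur
      (mul_mem (inv_mem (pow_mem (mem_zpowers u) j)) (pow_mem (mem_zpowers u) i)) hg1).ge (mem_zpowers u))
  set Wk : ℕ → Subgroup X := fun k => M ⊓ centralizer (Bk k : Set X)
  have hBkC : ∀ k, Z ⊓ centralizer (M : Set X) ≤ Bk k := fun k z hz => hBkmem.mpr (hBC (Subgroup.mem_inf.mpr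
    ⟨by
      have := (mem_normalizer_iff.mp (inv_mem (pow_mem huZ k)) z).mp hz.1
      rwa [inv_inv] at this, by
      have hz2 := (mem_normalizer_iff.mp
        (Local.normalizer_le_normalizer_centralizer M (inv_mem (pow_mem huM k))) z).mp hz.2
      rwa [inv_inv] at hz2⟩))
  have hKW : ∀ k, K ≤ normalizer (Wk k : Set X) := fun k => hCM (hKN (Bk k) (hBkZ k) (hBkC k))
  have hWconj : ∀ (k l : ℕ) {w : X}, w ∈ Wk k → u ^ l * w * (u ^ l)⁻¹ ∈ Wk (k + l) := by
    intro k l w hw
    refine Subgroup.mem_inf.mpr ⟨(mem_normalizer_iff.mp (pow_mem huM l) w).mp hw.1, mem_centralizer_iff.mpr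
      fun c hc => ?_⟩
    have hc' : (u ^ l)⁻¹ * c * u ^ l ∈ Bk k := hBkmem.mpr (by
      have := hBkmem.mp hc
      rwa [show (u ^ k)⁻¹ * ((u ^ l)⁻¹ * c * u ^ l) * u ^ k = (u ^ (k + l))⁻¹ * c * u ^ (k + l) by
        rw [show u ^ (k + l) = u ^ l * u ^ k by rw [add_comm, pow_add]]
        group])
    have h1 := mem_centralizer_iff.mp hw.2 _ hc'
    calc c * (u ^ l * w * (u ^ l)⁻¹) = u ^ l * (((u ^ l)⁻¹ * c * u ^ l) * w) * (u ^ l)⁻¹ := by group
      _ = u ^ l * (w * ((u ^ l)⁻¹ * c * u ^ l)) * (u ^ l)⁻¹ := by rw [h1]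
      _ = u ^ l * w * (u ^ l)⁻¹ * c := by group
  have hfixk : ∀ k, ∀ b ∈ Z, b ∉ Bk k → ∀ w ∈ Wk k, b * w = w * b → w = 1 := by
    intro k b hb hbk w hw hbw
    have hw0 : (u ^ k)⁻¹ * w * u ^ k ∈ M ⊓ centralizer (B : Set X) := by
      refine Subgroup.mem_inf.mpr ⟨?_, mem_centralizer_iff.mpr fun c hc => ?_⟩
      · have := (mem_normalizer_iff.mp (inv_mem (pow_mem huM k)) w).mp hw.1
        rwa [inv_inv] at this
      · have h1 := mem_centralizer_iff.mp hw.2 (u ^ k * c * (u ^ k)⁻¹) (hBkmem.mpr (by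
          rwa [show (u ^ k)⁻¹ * (u ^ k * c * (u ^ k)⁻¹) * u ^ k = c by group]))
        calc c * ((u ^ k)⁻¹ * w * u ^ k) = (u ^ k)⁻¹ * ((u ^ k * c * (u ^ k)⁻¹) * w) * u ^ k := by group
          _ = (u ^ k)⁻¹ * (w * (u ^ k * c * (u ^ k)⁻¹)) * u ^ k := by rw [h1]
          _ = (u ^ k)⁻¹ * w * u ^ k * c := by group
    have hb0 : (u ^ k)⁻¹ * b * u ^ k ∈ Z := by
      have := (mem_normalizer_iff.mp (inv_mem (pow_mem huZ k)) b).mp hb
      rwa [inv_inv] at this
    have h2 := hfix _ hb0 (fun h => hbk (hBkmem.mpr h)) _ hw0 (by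
      calc (u ^ k)⁻¹ * b * u ^ k * ((u ^ k)⁻¹ * w * u ^ k) = (u ^ k)⁻¹ * (b * w) * u ^ k := by group
        _ = (u ^ k)⁻¹ * (w * b) * u ^ k := by rw [hbw]
        _ = (u ^ k)⁻¹ * w * u ^ k * ((u ^ k)⁻¹ * b * u ^ k) := by group)
    rwa [mul_assoc, inv_mul_eq_one, eq_comm, mul_eq_right] at h2
  -- independence
  have hind : ∀ s : Finset ℕ, (∀ k ∈ s, k < r) → ∀ w : ℕ → Additive M, (∀ k ∈ s, val (w k) ∈ Wk k) →
      ∑ k ∈ s, w k = 0 → ∀ k ∈ s, w k = 0 := by
    intro s
    induction s using Finset.induction_on with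
    | empty => simp
    | @insert i s his ih =>
      intro hs w hw hsum
      rw [Finset.sum_insert his] at hsum
      have hall : ∀ k ∈ s, w k = 0 := by
        intro k hk
        obtain ⟨b, hb, hbk⟩ := hex i k (hs i (Finset.mem_insert_self i s)) (hs k (Finset.mem_insert_of_mem hk))
          (fun e => his (e ▸ hk))
        have hbZ := hBkZ i hb
        set β := rho M ⟨b, hKM (hZK hbZ)⟩
        have hzero := ih (fun j hj => hs j (Finset.mem_insert_of_mem hj)) (fun j => β (w j) - w j) (fun j hj => by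
          show val (β (w j)) / val (w j) ∈ Wk j
          exact div_mem ((mem_normalizer_iff.mp (hKW j (hZK hbZ)) _).mp (hw j (Finset.mem_insert_of_mem hj)))
            (hw j (Finset.mem_insert_of_mem hj))) (by
          have hi : β (w i) = w i := rho_eq_iff.mpr (mem_centralizer_singleton_iff.mpr
            (mem_centralizer_iff.mp (hw i (Finset.mem_insert_self i s)).2 b hb).symm)
          rw [Finset.sum_sub_distrib, ← map_sum, eq_neg_of_add_eq_zero_right hsum, map_neg, hi, sub_self]) k hk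
        refine val_injective (hfixk k b hbZ hbk _ (hw k (Finset.mem_insert_of_mem hk)) ?_)
        exact (mem_centralizer_singleton_iff.mp (rho_eq_iff.mp (sub_eq_zero.mp hzero))).symm
      intro k hk
      rcases Finset.mem_insert.mp hk with rfl | hk'
      · rwa [Finset.sum_eq_zero hall, add_zero] at hsum
      · exact hall k hk'
  let S0 := {v : Additive M // val v ∈ Wk 0}
  have hUmem : ∀ (k : ℕ) (v : S0), val ((U ^ k) v.1) ∈ Wk k := by
    intro k v
    rw [hUpow, val_rho]
    have := hWconj 0 k v.2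
    rwa [zero_add] at this
  let Ψ : (Fin r → S0) → Additive M := fun f => ∑ k : Fin r, (U ^ (k : ℕ)) (f k).1
  have hinj : Function.Injective Ψ := by
    intro f g hfg
    set w : ℕ → Additive M := fun k => if h : k < r then (U ^ k) ((f ⟨k, h⟩).1 - (g ⟨k, h⟩).1) else 0
    have h0 : ∑ k ∈ Finset.range r, w k = 0 := by
      rw [← Fin.sum_univ_eq_sum_range]
      simp only [w, Fin.is_lt, dif_pos, map_sub, Finset.sum_sub_distrib]
      exact sub_eq_zero.mpr hfg
    have hall := hind (Finset.range r) (fun k hk => Finset.mem_range.mp hk) w (fun k hk => by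
      simp only [w, Finset.mem_range.mp hk, dif_pos]
      exact hUmem k ⟨_, (show val ((f ⟨k, _⟩).1 - (g ⟨k, _⟩).1) ∈ Wk 0 from div_mem (f _).2 (g _).2)⟩) h0
    refine funext fun k => Subtype.ext (sub_eq_zero.mp ?_)
    have h1 : U ^ (k : ℕ) * U ^ (r - k) = 1 := by rw [← pow_add, Nat.add_sub_cancel' k.2.le, hUr]
    have h1' : (U ^ (r - k : ℕ)) * U ^ (k : ℕ) = 1 := by rw [← pow_add, Nat.sub_add_cancel k.2.le, hUr]
    have h2 := hall k (Finset.mem_range.mpr k.2)
    simp only [w, k.2, dif_pos] at h2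
    have h3 := congrArg (U ^ (r - k : ℕ)) h2
    rw [map_zero] at h3
    rw [show (f k).1 - (g k).1 = (U ^ (r - k : ℕ) * U ^ (k : ℕ)) ((f k).1 - (g k).1) by rw [h1']; rfl]
    exact h3
  have hsurj : Function.Surjective Ψ := by
    intro v
    set V1 : Subgroup X := ⨆ k : Fin r, Wk k
    have hV1 : V1 = M := by
      refine (hirr V1 (iSup_le fun k => inf_le_left) ?_ ?_).resolve_left fun e => ?_
      · intro c hc
        rw [Core.mem_normalizer_iff_map_conj, Subgroup.map_iSup]
        exact iSup_congr fun k => Core.map_conj_eq_of_mem_normalizer (hKW k hc)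
      · rw [Core.mem_normalizer_iff_map_conj]
        refine eq_of_le_of_card_ge ?_ (Cfsg.Lib.Coprime.card_map_conj V1 u).ge
        rw [Subgroup.map_iSup]
        refine iSup_le fun k => ?_
        rintro _ ⟨w, hw, rfl⟩
        have h1 := hWconj k 1 hw
        rw [pow_one] at h1
        show u * w * u⁻¹ ∈ V1
        have h2 : Wk ((k : ℕ) + 1) = Wk (((k : ℕ) + 1) % r) := by
          simp only [Wk, Bk, ← pow_eq_pow_mod _ hur]
        rw [h2] at h1
        exact mem_iSup_of_mem (⟨((k : ℕ) + 1) % r, Nat.mod_lt _ hr0⟩ : Fin r) h1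
      · refine hBne (le_bot_iff.mp (le_trans ?_ e.le))
        refine le_trans (le_of_eq ?_) (le_iSup (fun k : Fin r => Wk k) ⟨0, hr0⟩)
        show _ = M ⊓ centralizer (Bk 0 : Set X)
        congr 3
        simp only [Bk, pow_zero, Cfsg.Lib.Coprime.map_conj_one]
    have hgen : ∀ y ∈ V1, ∃ f, val (Ψ f) = y := by
      intro y hy
      refine Subgroup.iSup_induction (S := fun k : Fin r => Wk k) (C := fun y => ∃ f, val (Ψ f) = y) hy
        (fun k y hy => ?_) ⟨fun _ => ⟨0, one_mem _⟩, ?_⟩ ?_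
      · have hy0 : (u ^ (r - k : ℕ)) * y * (u ^ (r - k : ℕ))⁻¹ ∈ Wk 0 := by
          have := hWconj k (r - k) hy
          rwa [Nat.add_sub_cancel' k.2.le, show Wk r = Wk 0 by simp only [Wk, Bk, hur, pow_zero]] at this
        refine ⟨fun i => if i = k then
          (⟨Additive.ofMul ⟨_, hy0.1⟩, hy0⟩ : S0) else ⟨0, one_mem _⟩, ?_⟩
        show val (∑ i : Fin r, _) = y
        rw [Finset.sum_eq_single k (fun i _ hi => by simp [hi]) (fun h => absurd (Finset.mem_univ k) h)]
        simp only [if_true, hUpow, val_rho]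
        show (u : X) ^ (k : ℕ) * (u ^ (r - k : ℕ) * y * (u ^ (r - k : ℕ))⁻¹) * (u ^ (k : ℕ))⁻¹ = y
        have h4 : u ^ (k : ℕ) * u ^ (r - k : ℕ) = 1 := by rw [← pow_add, Nat.add_sub_cancel' k.2.le, hur]
        calc u ^ (k : ℕ) * (u ^ (r - k : ℕ) * y * (u ^ (r - k : ℕ))⁻¹) * (u ^ (k : ℕ))⁻¹
            = (u ^ (k : ℕ) * u ^ (r - k : ℕ)) * y * (u ^ (k : ℕ) * u ^ (r - k : ℕ))⁻¹ := by group
          _ = y := by rw [h4, one_mul, inv_one, mul_one]
      · show val (∑ i : Fin r, (U ^ (i : ℕ)) (0 : Additive M)) = 1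
        simp only [map_zero, Finset.sum_const_zero]
        rfl
      · rintro y z ⟨f, rfl⟩ ⟨g, rfl⟩
        refine ⟨fun i => ⟨(f i).1 + (g i).1, mul_mem (f i).2 (g i).2⟩, ?_⟩
        show val (∑ i : Fin r, _) = val (_ + _)
        simp only [map_add, Finset.sum_add_distrib]
        rfl
    obtain ⟨f, hf⟩ := hgen (val v) (hV1.ge (val_mem v))
    exact ⟨f, val_injective hf⟩
  let θ : S0 → {v : Additive M // U v = v} := fun w => ⟨Ψ fun _ => w, by
    show U (∑ k : Fin r, (U ^ (k : ℕ)) w.1) = ∑ k : Fin r, (U ^ (k : ℕ)) w.1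
    rw [map_sum, Fin.sum_univ_eq_sum_range (fun k => U ((U ^ k) w.1)),
      Fin.sum_univ_eq_sum_range (fun k => (U ^ k) w.1), ← sum_shift (fun k => (U ^ k) w.1) (by rw [hUr, pow_zero])]
    exact Finset.sum_congr rfl fun k _ => by rw [pow_succ']; rfl⟩
  have hθ : Function.Bijective θ := by
    refine ⟨fun w w' h => congrFun (hinj (congrArg Subtype.val h)) ⟨0, hr0⟩, fun v => ?_⟩
    obtain ⟨f, hf⟩ := hsurj v.1
    set g : ℕ → S0 := fun k => f ⟨k % r, Nat.mod_lt _ hr0⟩
    have hg : Ψ (fun k : Fin r => g ((k : ℕ) + (r - 1))) = Ψ f := by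
      rw [hf, ← v.2, ← hf]
      show ∑ k : Fin r, _ = U (∑ k : Fin r, _)
      rw [map_sum]
      have hFr : ∀ k : Fin r, f k = g k := fun k => by
        simp only [g, Nat.mod_eq_of_lt k.2, Fin.eta]
      simp only [hFr]
      rw [Fin.sum_univ_eq_sum_range (fun k => (U ^ k) (g (k + (r - 1))).1),
        Fin.sum_univ_eq_sum_range (fun k => U ((U ^ k) (g k).1)),
        ← sum_shift (fun k => (U ^ k) (g (k + (r - 1))).1) (by
          simp only [hUr, pow_zero, g]
          congr 3
          exact Fin.ext (by show (r + (r - 1)) % r = (0 + (r - 1)) % r; rw [Nat.add_mod_left, zero_add]))]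
      refine Finset.sum_congr rfl fun k _ => ?_
      rw [pow_succ']
      show U ((U ^ k) (g (k + 1 + (r - 1))).1) = _
      rw [show g (k + 1 + (r - 1)) = g k from congrArg f (Fin.ext (by
        show (k + 1 + (r - 1)) % r = k % r
        rw [show k + 1 + (r - 1) = k + r by omega, Nat.add_mod_right]))]
    have hstep : ∀ (k : ℕ) (hk : k + 1 < r), f ⟨k + 1, hk⟩ = f ⟨k, Nat.lt_of_succ_lt hk⟩ := by
      intro k hk
      have h1 := congrFun (hinj hg) ⟨k + 1, hk⟩
      simp only [g] at h1
      rw [← h1]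
      exact congrArg f (Fin.ext (by
        show (k + 1 + (r - 1)) % r = k
        rw [show k + 1 + (r - 1) = k + r by omega, Nat.add_mod_right, Nat.mod_eq_of_lt (by omega)]))
    have hconst : ∀ k (hk : k < r), f ⟨k, hk⟩ = f ⟨0, hr0⟩ := by
      intro k
      induction k with
      | zero => exact fun _ => rfl
      | succ k ih => exact fun hk => (hstep k hk).trans (ih (by omega))
    refine ⟨f ⟨0, hr0⟩, Subtype.ext ?_⟩
    show Ψ _ = v.1
    rw [← hf]
    exact congrArg Ψ (funext fun k => (hconst k k.2).symm)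
  rw [show Nat.card M = Nat.card (Additive M) from rfl, ← Nat.card_eq_of_bijective Ψ ⟨hinj, hsurj⟩, Nat.card_fun,
    Nat.card_fin, Nat.card_eq_of_bijective θ hθ, card_fixed]

end Cfsg.Lib.Local.FreeAction
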