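import Cfsg.Agent.Lib.Local.FreeAction

/-!
Prime action of the complement of a Frobenius group: the complement has prime order.
-/

set_option autoImplicit false
set_option linter.style.haveILetI false
set_option linter.unusedSectionVars false

namespace Cfsg.Lib.Local.FreeAction

open Subgroup Uniq
open scoped IsMulCommutative commutatorElement

universe u

variable {X : Type u} [Group X] [Finite X] {M Z R : Subgroup X}

open scoped Classical in
/-- The conjugate `g z g⁻¹` as an operator on `M`. -/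
noncomputable def chi (M : Subgroup X) [IsMulCommutative M] (g z : X) : AddMonoid.End (Additive M) :=
  if h : g * z * g⁻¹ ∈ normalizer (M : Set X) then rho M ⟨g * z * g⁻¹, h⟩ else 0

theorem chi_eq [IsMulCommutative M] {g z : X} (h : g * z * g⁻¹ ∈ normalizer (M : Set X)) :
    chi M g z = rho M ⟨g * z * g⁻¹, h⟩ := dif_pos h

theorem val_chi [IsMulCommutative M] {g z : X} (h : g * z * g⁻¹ ∈ normalizer (M : Set X)) (v : Additive M) :
    val (chi M g z v) = g * z * g⁻¹ * val v * (g * z * g⁻¹)⁻¹ := by rw [chi_eq h]; rfl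

/-- Independence of the conjugates of an operator group without fixed points. -/
theorem eq_zero_of_sum [IsMulCommutative M] (hZM : Z ≤ normalizer (M : Set X))
    (hcomm : ∀ a ∈ Z, ∀ b ∈ Z, a * b * a⁻¹ * b⁻¹ ∈ centralizer (M : Set X))
    (hC : M ⊓ centralizer (Z : Set X) = ⊥) (hRZ : R ≤ normalizer (Z : Set X))
    (hfree : ∀ g ∈ R, g ≠ 1 → Z ⊓ centralizer ({g} : Set X) = ⊥) :
    ∀ (s : Finset X), (∀ g ∈ s, g ∈ R) → ∀ v : X → Additive M,
      (∀ z ∈ Z, ∑ g ∈ s, chi M g z (v g) = 0) → ∀ g ∈ s, v g = 0 := by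
  classical
  have hmem : ∀ {g z : X}, g ∈ R → z ∈ Z → g * z * g⁻¹ ∈ Z := fun hg hz =>
    (mem_normalizer_iff.mp (hRZ hg) _).mp hz
  have hmul : ∀ {g a b : X}, g ∈ R → a ∈ Z → b ∈ Z → chi M g (a * b) = chi M g a * chi M g b := by
    intro g a b hg ha hb
    rw [chi_eq (hZM (hmem hg (mul_mem ha hb))), chi_eq (hZM (hmem hg ha)), chi_eq (hZM (hmem hg hb)), ← map_mul]
    exact congrArg _ (Subtype.ext (show g * (a * b) * g⁻¹ = g * a * g⁻¹ * (g * b * g⁻¹) by group))
  have hcm : ∀ {g h a b : X}, g ∈ R → h ∈ R → a ∈ Z → b ∈ Z → ∀ w, chi M g a (chi M h b w) = chi M h b (chi M g a w) := by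
    intro g h a b hg hh ha hb w
    refine val_injective ?_
    rw [val_chi (hZM (hmem hg ha)), val_chi (hZM (hmem hh hb)), val_chi (hZM (hmem hh hb)), val_chi (hZM (hmem hg ha))]
    set p := g * a * g⁻¹
    set q := h * b * h⁻¹
    set m := q * (p * val w * p⁻¹) * q⁻¹
    have hc := hcomm p (hmem hg ha) q (hmem hh hb)
    have hm : m ∈ M := (mem_normalizer_iff.mp (hZM (hmem hh hb)) _).mp
      ((mem_normalizer_iff.mp (hZM (hmem hg ha)) _).mp (val_mem w))
    calc p * (q * val w * q⁻¹) * p⁻¹ = (p * q * p⁻¹ * q⁻¹) * m * (p * q * p⁻¹ * q⁻¹)⁻¹ := by simp only [m]; group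
      _ = m := by rw [← mem_centralizer_iff.mp hc m hm, mul_inv_cancel_right]
  intro s
  induction s using Finset.induction_on with
  | empty => simp
  | @insert i s his ih =>
    intro hs v hv
    have hiR := hs i (Finset.mem_insert_self i s)
    have hsR : ∀ g ∈ s, g ∈ R := fun g hg => hs g (Finset.mem_insert_of_mem hg)
    have hrest : ∀ g ∈ s, v g = 0 := by
      intro g hg
      have hgR := hsR g hg
      have hstep : ∀ z0 ∈ Z, chi M g z0 (v g) = chi M i z0 (v g) := by
        intro z0 hz0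
        refine sub_eq_zero.mp (ih hsR (fun k => chi M k z0 (v k) - chi M i z0 (v k)) (fun z hz => ?_) g hg)
        have h1 := hv (z * z0) (mul_mem hz hz0)
        have h2 := congrArg (chi M i z0) (hv z hz)
        rw [map_sum, map_zero] at h2
        rw [Finset.sum_insert his] at h1 h2
        have h3 : chi M i (z * z0) (v i) = chi M i z0 (chi M i z (v i)) := by
          rw [hmul hiR hz hz0]; exact hcm hiR hiR hz hz0 _
        simp only [map_sub, Finset.sum_sub_distrib]
        rw [show ∑ k ∈ s, chi M k z (chi M k z0 (v k)) = ∑ k ∈ s, chi M k (z * z0) (v k) from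
          Finset.sum_congr rfl fun k hk => by rw [hmul (hsR k hk) hz hz0]; rfl,
          show ∑ k ∈ s, chi M k z (chi M i z0 (v k)) = ∑ k ∈ s, chi M i z0 (chi M k z (v k)) from
          Finset.sum_congr rfl fun k hk => hcm (hsR k hk) hiR hz hz0 _,
          eq_neg_of_add_eq_zero_right h1, eq_neg_of_add_eq_zero_right h2, h3, sub_self]
      set k := i * g⁻¹
      have hkR : k ∈ R := mul_mem hiR (inv_mem hgR)
      have hk1 : k ≠ 1 := fun e => his (by rw [mul_inv_eq_one.mp e]; exact hg)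
      set F : Z → Z := fun z => ⟨(z : X)⁻¹ * (k * z * k⁻¹), mul_mem (inv_mem z.2) (hmem hkR z.2)⟩
      have hF : Function.Surjective F := by
        refine Finite.injective_iff_surjective.mp fun a b hab => ?_
        have h4 : (a : X)⁻¹ * (k * a * k⁻¹) = (b : X)⁻¹ * (k * b * k⁻¹) := congrArg Subtype.val hab
        have h5 : (a : X) * (b : X)⁻¹ ∈ Z ⊓ centralizer ({k} : Set X) := by
          refine Subgroup.mem_inf.mpr ⟨mul_mem a.2 (inv_mem b.2), mem_centralizer_singleton_iff.mpr ?_⟩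
          calc (a : X) * (b : X)⁻¹ * k = (a : X) * ((b : X)⁻¹ * (k * b * k⁻¹)) * k * (b : X)⁻¹ := by group
            _ = (a : X) * ((a : X)⁻¹ * (k * a * k⁻¹)) * k * (b : X)⁻¹ := by rw [h4]
            _ = k * ((a : X) * (b : X)⁻¹) := by group
        rw [hfree k hkR hk1, mem_bot, mul_inv_eq_one] at h5
        exact Subtype.ext h5
      have hfix : val (v g) ∈ M ⊓ centralizer (Z : Set X) := by
        refine Subgroup.mem_inf.mpr ⟨val_mem _, mem_centralizer_iff.mpr fun y hy => ?_⟩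
        obtain ⟨⟨z', hz'⟩, hzy⟩ := hF ⟨y, hy⟩
        obtain rfl : z'⁻¹ * (k * z' * k⁻¹) = y := congrArg Subtype.val hzy
        have hz0 : g⁻¹ * z' * g ∈ Z := by
          have := hmem (inv_mem hgR) hz'
          rwa [inv_inv] at this
        have h6 := congrArg val (hstep _ hz0)
        rw [val_chi (hZM (hmem hgR hz0)), val_chi (hZM (hmem hiR hz0))] at h6
        calc z'⁻¹ * (k * z' * k⁻¹) * val (v g)
            = z'⁻¹ * (i * (g⁻¹ * z' * g) * i⁻¹ * val (v g) * (i * (g⁻¹ * z' * g) * i⁻¹)⁻¹) * (k * z' * k⁻¹) := by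
              simp only [k]; group
          _ = z'⁻¹ * (g * (g⁻¹ * z' * g) * g⁻¹ * val (v g) * (g * (g⁻¹ * z' * g) * g⁻¹)⁻¹) * (k * z' * k⁻¹) := by rw [h6]
          _ = val (v g) * (z'⁻¹ * (k * z' * k⁻¹)) := by group
      rw [hC, mem_bot] at hfix
      exact val_injective hfix
    intro g hg
    rcases Finset.mem_insert.mp hg with rfl | hg'
    · have h1 := hv 1 (one_mem _)
      rw [Finset.sum_insert his, Finset.sum_eq_zero (fun k hk => by rw [hrest k hk, map_zero]), add_zero,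
        chi_eq (hZM (hmem hiR (one_mem _)))] at h1
      rwa [show (⟨g * 1 * g⁻¹, hZM (hmem hiR (one_mem _))⟩ : normalizer (M : Set X)) = 1 from
        Subtype.ext (show g * 1 * g⁻¹ = 1 by group), map_one] at h1
    · exact hrest g hg'

/-- The complement of a Frobenius group with prime action on `M` has prime order. -/
theorem prime_card {K R M : Subgroup X} (hR1 : R ≠ ⊥) (hKM : K ≤ normalizer (M : Set X))
    (hRM : R ≤ normalizer (M : Set X)) (hRK : R ≤ normalizer (K : Set X))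
    (hfree : ∀ g ∈ R, g ≠ 1 → K ⊓ centralizer ({g} : Set X) = ⊥) (hnilK : Group.IsNilpotent K)
    (hnilM : Group.IsNilpotent M) (hcopK : (Nat.card K).Coprime (Nat.card M))
    (hcopR : (Nat.card R).Coprime (Nat.card M)) (hcopKR : (Nat.card R).Coprime (Nat.card K))
    (hC : M ⊓ centralizer (K : Set X) = ⊥) (hM1 : M ≠ ⊥)
    (hpr : ∀ g ∈ R, g ≠ 1 → M ⊓ centralizer ({g} : Set X) = M ⊓ centralizer (R : Set X)) :
    (Nat.card R).Prime := by
  classical
  obtain ⟨r, hr, hrd⟩ := Nat.exists_prime_and_dvd fun e => hR1 (eq_bot_of_card_eq _ e)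
  haveI : Fact r.Prime := ⟨hr⟩
  obtain ⟨⟨u, hu⟩, huo⟩ := exists_prime_orderOf_dvd_card' r hrd
  rw [Subgroup.orderOf_mk] at huo
  have hur : u ^ r = 1 := huo ▸ pow_orderOf_eq_one u
  have hu1 : u ≠ 1 := fun e => hr.ne_one (by rw [← huo, e, orderOf_one])
  suffices h : R = zpowers u by rw [h, card_zpowers_eq hur hu1]; exact hr
  refine le_antisymm (fun w hw => by_contra fun hwu => ?_) (zpowers_le.mpr hu)
  -- a minimal invariant subgroup
  set P : Set (Subgroup X) := {N | N ≤ M ∧ N ≠ ⊥ ∧ K ≤ normalizer (N : Set X) ∧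
    R ≤ normalizer (N : Set X)}
  obtain ⟨N, -, ⟨hNM, hN1, hKN, hRN⟩, hmin⟩ :=
    (Set.toFinite P).exists_le_minimal (show M ∈ P from ⟨le_rfl, hM1, hKM, hRM⟩)
  have hsolN : Group.IsSolvable N := by
    haveI := hnilM
    exact Cfsg.Lib.Core.isSolvable_of_le hNM inferInstance
  have hder : ⁅N, N⁆ = ⊥ := by
    by_contra hne
    have hle : N ≤ ⁅N, N⁆ := hmin (y := ⁅N, N⁆) ⟨(Subgroup.commutator_le_self N).trans hNM, hne,
      hKN.trans (normalizer_le_normalizer_commutator N),
      hRN.trans (normalizer_le_normalizer_commutator N)⟩ (Subgroup.commutator_le_self N)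
    haveI := hsolN
    haveI : Nontrivial N := (nontrivial_iff_ne_bot N).mpr hN1
    refine (Group.IsSolvable.commutator_lt_top_of_nontrivial N).ne (map_injective N.subtype_injective ?_)
    rw [map_subtype_commutator, ← MonoidHom.range_eq_map, N.range_subtype]
    exact le_antisymm (Subgroup.commutator_le_self N) hle
  haveI : IsMulCommutative N := by
    rw [← le_centralizer_iff_isMulCommutative, ← Subgroup.commutator_eq_bot_iff_le_centralizer]
    exact hder
  have hCN : N ⊓ centralizer (K : Set X) = ⊥ := le_bot_iff.mp ((inf_le_inf hNM le_rfl).trans hC.le)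
  obtain ⟨Z, hZK, hKZ, hNZ, hcomm, hZne⟩ := exists_center_part hKN hnilK
    (fun hle => hN1 (le_bot_iff.mp ((le_inf le_rfl (le_centralizer_iff.mp hle)).trans hCN.le)))
  have hRZ : R ≤ normalizer (Z : Set X) := fun g hg => hNZ g (hRK hg) (hRN hg)
  have hCZ : N ⊓ centralizer (Z : Set X) = ⊥ := by
    by_contra hne
    refine hZne (le_centralizer_iff.mp ((hmin (y := N ⊓ centralizer (Z : Set X)) ⟨inf_le_left.trans hNM, hne,
      ?_, ?_⟩ inf_le_left).trans inf_le_right))
    · exact (le_inf hKN (hKZ.trans (Local.normalizer_le_normalizer_centralizer Z))).trans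
        inf_normalizer_le_normalizer_inf
    · exact (le_inf hRN (hRZ.trans (Local.normalizer_le_normalizer_centralizer Z))).trans
        inf_normalizer_le_normalizer_inf
  obtain ⟨hcard, -⟩ := main (Nat.card N) K N u r rfl ⟨hur, hKN, hRN hu, hRK hu, hfree u hu hu1,
    hcopK.coprime_dvd_right (card_dvd_of_le hNM),
    fun hd => hr.not_dvd_one (Nat.eq_one_of_dvd_coprimes hcopR hrd (hd.trans (card_dvd_of_le hNM)) ▸ dvd_rfl),
    fun hd => hr.ne_one (Nat.eq_one_of_dvd_coprimes hcopKR hrd hd), hsolN, hnilK, hCN⟩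
  obtain ⟨c0, hc0, hc01⟩ : ∃ c ∈ N ⊓ centralizer ({u} : Set X), c ≠ 1 :=
    (bot_or_exists_ne_one _).resolve_left fun e => hN1 (eq_bot_of_card_eq _ (by rw [hcard, e, card_bot, one_pow]))
  set c : Additive N := Additive.ofMul ⟨c0, hc0.1⟩
  set s1 : Finset X := (Finset.range r).image (u ^ ·)
  set s2 : Finset X := s1.image (w * ·)
  have hs1 : ∀ {g : X}, g ∈ s1 ↔ g ∈ zpowers u := by
    intro g
    rw [Finset.mem_image]
    refine ⟨fun ⟨k, _, e⟩ => e ▸ pow_mem (mem_zpowers u) k, fun hg => ?_⟩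
    obtain ⟨k, rfl⟩ := (mem_powers_iff_mem_zpowers.mpr hg : g ∈ Submonoid.powers u)
    exact ⟨k % r, Finset.mem_range.mpr (Nat.mod_lt _ hr.pos), (pow_eq_pow_mod k hur).symm⟩
  have hdisj : Disjoint s1 s2 := Finset.disjoint_left.mpr fun g hg1 hg2 => by
    obtain ⟨g', hg', rfl⟩ := Finset.mem_image.mp hg2
    exact hwu (((zpowers u).mul_mem_cancel_right (hs1.mp hg')).mp (hs1.mp hg1))
  set vv : X → Additive N := fun g => if g ∈ s1 then c else -c
  have hsR : ∀ g ∈ s1 ∪ s2, g ∈ R := fun g hg => by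
    rcases Finset.mem_union.mp hg with h | h
    · exact zpowers_le.mpr hu (hs1.mp h)
    · obtain ⟨g', hg', rfl⟩ := Finset.mem_image.mp h
      exact mul_mem hw (zpowers_le.mpr hu (hs1.mp hg'))
  have hZN : Z ≤ normalizer (N : Set X) := hZK.trans hKN
  have hfix : ∀ {g : X} (hg : g ∈ R), g ≠ 1 → ∀ v : Additive N, rho N ⟨u, hRN hu⟩ v = v → rho N ⟨g, hRN hg⟩ v = v := by
    intro g hg hg1 v hv
    have h1 : val v ∈ M ⊓ centralizer ({u} : Set X) := Subgroup.mem_inf.mpr ⟨hNM (val_mem v), rho_eq_iff.mp hv⟩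
    rw [hpr u hu hu1, ← hpr g hg hg1] at h1
    exact rho_eq_iff.mpr h1.2
  have hconj : ∀ {g k z : X} (hg : g ∈ R), k ∈ R → z ∈ Z → rho N ⟨g, hRN hg⟩ c = c →
      rho N ⟨g, hRN hg⟩ (chi N k z c) = chi N (g * k) z c := by
    intro g k z hg hk hz hgc
    conv_rhs => rw [← hgc]
    refine val_injective ?_
    rw [val_rho, val_chi (hZN ((mem_normalizer_iff.mp (hRZ hk) z).mp hz)),
      val_chi (hZN ((mem_normalizer_iff.mp (hRZ (mul_mem hg hk)) z).mp hz)), val_rho]
    group
  have huc : rho N ⟨u, hRN hu⟩ c = c := rho_eq_iff.mpr hc0.2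
  have hw1 : w ≠ 1 := fun e => hwu (e ▸ one_mem _)
  have hsum : ∀ z ∈ Z, ∑ g ∈ s1 ∪ s2, chi N g z (vv g) = 0 := by
    intro z hz
    rw [Finset.sum_union hdisj, Finset.sum_congr rfl (fun g hg => by rw [show vv g = c from if_pos hg]),
      Finset.sum_congr (rfl : s2 = s2) (fun g hg => by
        rw [show vv g = -c from if_neg (fun h => Finset.disjoint_left.mp hdisj h hg), map_neg]),
      Finset.sum_neg_distrib, ← sub_eq_add_neg, sub_eq_zero]
    have hS : rho N ⟨u, hRN hu⟩ (∑ g ∈ s1, chi N g z c) = ∑ g ∈ s1, chi N g z c := by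
      rw [map_sum]
      refine Finset.sum_bij (fun g _ => u * g) (fun g hg => hs1.mpr (mul_mem (mem_zpowers u) (hs1.mp hg)))
        (fun _ _ _ _ h => mul_left_cancel h) (fun b hb => ⟨u⁻¹ * b,
          hs1.mpr (mul_mem (inv_mem (mem_zpowers u)) (hs1.mp hb)), mul_inv_cancel_left u b⟩) (fun g hg => ?_)
      exact hconj hu (zpowers_le.mpr hu (hs1.mp hg)) hz huc
    rw [← hfix hw hw1 _ hS, map_sum, Finset.sum_image (fun _ _ _ _ h => mul_left_cancel h)]
    exact Finset.sum_congr rfl fun g hg => hconj hw (zpowers_le.mpr hu (hs1.mp hg)) hz (hfix hw hw1 c huc)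
  have hz := eq_zero_of_sum (R := R) hZN (fun a ha b hb => (hcomm a (hZK ha) b hb).2) hCZ hRZ
    (fun g hg hg1 => le_bot_iff.mp ((inf_le_inf hZK le_rfl).trans (hfree g hg hg1).le)) (s1 ∪ s2) hsR vv hsum
    1 (Finset.mem_union_left _ (hs1.mpr (one_mem _)))
  rw [show vv 1 = c from if_pos (hs1.mpr (one_mem _))] at hz
  exact hc01 (congrArg val hz)

end Cfsg.Lib.Local.FreeAction
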