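import Cfsg.Agent.Lib.Local.Averaging
import Cfsg.Agent.Lib.PGroup.ClassTwo

/-!
A Frobenius group whose kernel moves a `q`-group faithful on an elementary abelian `p`-group, where the
complement has at most `p` fixed points, does not exist in odd order.
-/

set_option autoImplicit false
set_option linter.style.haveILetI false

namespace Cfsg.Lib.Local.Averaging

open Subgroup
open scoped commutatorElement

universe u

variable {G : Type u} [Group G] [Finite G] {p q r : ℕ}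

omit [Finite G] in
theorem le_normalizer_commutator' {X U K : Subgroup G} (h1 : X ≤ normalizer (U : Set G))
    (h2 : X ≤ normalizer (K : Set G)) : X ≤ normalizer ((⁅U, K⁆ : Subgroup G) : Set G) := by
  intro a ha
  rw [mem_normalizer_iff_map_conj_eq, map_commutator]
  exact congrArg₂ (⁅·, ·⁆) (Cfsg.Lib.Coprime.map_conj_eq_self (h1 ha))
    (Cfsg.Lib.Coprime.map_conj_eq_self (h2 ha))

omit [Finite G] in
theorem conj_eq_commutator_mul (g y : G) : g * y * g⁻¹ = ⁅g, y⁆ * y := by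
  simp [commutatorElement_def]

/-- An abelian hyperplane configuration: `P` fixes each hyperplane with fixed points. -/
theorem normalizes_hyp [Fact p.Prime] [Fact q.Prime] (hr2 : r ≠ 2) (hp2 : p ≠ 2) {A U P : Subgroup G} {x z : G}
    (S : Setup p q r A U x z) (hPA : P ≤ normalizer (A : Set G)) (hPU : P ≤ normalizer (U : Set G))
    (hP : Cfsg.IsElementaryAbelian p P) (hxP : x ∈ normalizer (P : Set G))
    (hfpf : ∀ a ∈ P, x * a = a * x → a = 1)
    (hPmin : ∀ K ≤ P, x ∈ normalizer (K : Set G) → K = ⊥ ∨ K = P)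
    {T : Subgroup G} (hT : Hyp A T) (hW : U ⊓ centralizer (T : Set G) ≠ ⊥) :
    P ≤ normalizer (T : Set G) := by
  haveI := hP.1
  have hodd : Odd p := (Fact.out : p.Prime).odd_of_ne_two hp2
  have hfix : ∀ T, Hyp A T → U ⊓ centralizer (T : Set G) ≠ ⊥ → x ∈ normalizer (T : Set G) →
      P ≤ normalizer (T : Set G) := by
    intro T hT hW hxT
    set K := P ⊓ normalizer (T : Set G)
    have hxK : x ∈ normalizer (K : Set G) :=
      Subgroup.inf_normalizer_le_normalizer_inf ⟨hxP, le_normalizer hxT⟩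
    rcases hPmin K inf_le_left hxK with hK | hK
    swap
    · exact hK ▸ inf_le_right
    by_contra hne
    obtain ⟨a, ha, haT⟩ := SetLike.not_le_iff_exists.mp hne
    have hmoved : ∀ b ∈ P, b ∉ normalizer (T : Set G) → x ∉ normalizer (Sigma.cj b T : Set G) := by
      intro b hb hbT hx
      have h1 : x⁻¹ * (b⁻¹ * x * b) ∈ K := by
        refine mem_inf.mpr ⟨?_, mul_mem (inv_mem hxT) (mem_normalizer_iff_map_conj_eq.mpr ?_)⟩
        · rw [show x⁻¹ * (b⁻¹ * x * b) = x⁻¹ * b⁻¹ * x * b by group]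
          exact mul_mem ((mem_normalizer_iff''.mp hxP _).mp (inv_mem hb)) hb
        · show Sigma.cj (b⁻¹ * x * b) T = T
          rw [← Sigma.cj_cj b (b⁻¹ * x) T, ← Sigma.cj_cj x b⁻¹ (Sigma.cj b T),
            show Sigma.cj x (Sigma.cj b T) = Sigma.cj b T from Cfsg.Lib.Coprime.map_conj_eq_self hx,
            Sigma.cj_cj, inv_mul_cancel, Sigma.cj_one]
      rw [hK, mem_bot, inv_mul_eq_one] at h1
      have h2 : x * b = b * x :=
        calc x * b = b * (b⁻¹ * x * b) := by group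
          _ = b * x := by rw [← h1]
      exact hbT (hfpf b hb h2 ▸ one_mem _)
    have hai : a⁻¹ ∉ normalizer (T : Set G) := fun h => haT (by simpa using inv_mem h)
    have m1 := S.cj_mem hT hW (hPA ha) (hPU ha)
    have m2 := S.cj_mem hT hW (hPA (inv_mem ha)) (hPU (inv_mem ha))
    obtain ⟨i, hi⟩ := (S.moved m1.1 (hmoved a ha haT)).2 m1.2 _ m2.1 (hmoved _ (inv_mem ha) hai) m2.2
    have h2 : x ^ i * a * (x ^ i)⁻¹ * a ∈ K := by
      have hxa : x ^ i * a * (x ^ i)⁻¹ ∈ P := (mem_normalizer_iff.mp (pow_mem hxP i) a).mp ha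
      refine ⟨mul_mem hxa ha, ?_⟩
      rw [show x ^ i * a * (x ^ i)⁻¹ * a = a * (x ^ i * a * (x ^ i)⁻¹) from
        congrArg Subtype.val (mul_comm' (⟨_, hxa⟩ : P) ⟨a, ha⟩)]
      refine mem_normalizer_iff_map_conj_eq.mpr ?_
      show Sigma.cj (a * (x ^ i * a * (x ^ i)⁻¹)) T = T
      rw [← Sigma.cj_cj, ← Sigma.cj_cj, show Sigma.cj (x ^ i)⁻¹ T = T from
        Cfsg.Lib.Coprime.map_conj_eq_self (inv_mem (pow_mem hxT i)), ← Sigma.cj_cj, ← hi,
        Sigma.cj_cj, mul_inv_cancel, Sigma.cj_one]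
    have h3 := mem_of_conj_mul_self_mem (q := p) S.hr hr2 hodd S.hx inf_le_left hxP hxK hfpf ha
      (hP.2 a ha) h2
    exact haT h3.2
  by_cases hxT : x ∈ normalizer (T : Set G)
  · exact hfix T hT hW hxT
  intro a ha
  have m := S.cj_mem hT hW (hPA ha) (hPU ha)
  by_cases hxa : x ∈ normalizer (Sigma.cj a T : Set G)
  · have h1 := hfix _ m.1 m.2 hxa (inv_mem ha)
    have h2 : Sigma.cj a⁻¹ (Sigma.cj a T) = Sigma.cj a T := Cfsg.Lib.Coprime.map_conj_eq_self h1
    rw [Sigma.cj_cj, inv_mul_cancel, Sigma.cj_one] at h2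
    exact absurd (h2 ▸ hxa) hxT
  obtain ⟨i, hi⟩ := (S.moved hT hxT).2 hW _ m.1 hxa m.2
  by_cases hri : r ∣ i
  · obtain ⟨j, rfl⟩ := hri
    rw [pow_mul, S.hx, one_pow, Sigma.cj_one] at hi
    exact mem_normalizer_iff_map_conj_eq.mpr hi
  obtain ⟨b, hb, hba⟩ := disp_surj (pow_mem hxP i)
    (fun c hc h => hfpf c hc (commute_of_pow S.hr S.hx hri h)) ha
  -- `(x ^ i)⁻¹ * a` is conjugate to a power of `x`
  have h1 : Sigma.cj ((x ^ i)⁻¹ * a) T = T := by
    rw [← Sigma.cj_cj, hi, Sigma.cj_cj, inv_mul_cancel, Sigma.cj_one]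
  have e : (x ^ i)⁻¹ * a = b * (x ^ i)⁻¹ * b⁻¹ := by rw [← hba]; group
  rw [e] at h1
  have h2 : (x ^ i)⁻¹ ∈ normalizer (Sigma.cj b⁻¹ T : Set G) := by
    refine mem_normalizer_iff_map_conj_eq.mpr ?_
    show Sigma.cj (x ^ i)⁻¹ (Sigma.cj b⁻¹ T) = Sigma.cj b⁻¹ T
    conv_rhs => rw [← h1, Sigma.cj_cj]
    rw [Sigma.cj_cj]
    congr 1
    group
  have h3 : x ∈ normalizer (Sigma.cj b⁻¹ T : Set G) := mem_of_pow_mem S.hr S.hx hri (inv_mem_iff.mp h2)
  have m' := S.cj_mem hT hW (hPA (inv_mem hb)) (hPU (inv_mem hb))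
  have h4 : Sigma.cj b (Sigma.cj b⁻¹ T) = Sigma.cj b⁻¹ T :=
    Cfsg.Lib.Coprime.map_conj_eq_self (hfix _ m'.1 m'.2 h3 hb)
  rw [Sigma.cj_cj, mul_inv_cancel, Sigma.cj_one] at h4
  exact absurd (h4 ▸ h3) hxT

/-- The abelian case. -/
theorem abelian_case [Fact p.Prime] [Fact q.Prime] (hr2 : r ≠ 2) (hp2 : p ≠ 2) {A U P : Subgroup G} {x z : G}
    (S : Setup p q r A U x z) (hU : U ≠ ⊥) (hPA : P ≤ normalizer (A : Set G))
    (hPU : P ≤ normalizer (U : Set G))
    (hP : Cfsg.IsElementaryAbelian p P) (hxP : x ∈ normalizer (P : Set G))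
    (hfpf : ∀ a ∈ P, x * a = a * x → a = 1)
    (hPmin : ∀ K ≤ P, x ∈ normalizer (K : Set G) → K = ⊥ ∨ K = P) (hgen : ⁅A, P⁆ = A) : False := by
  haveI := hP.1
  haveI := S.commA
  obtain ⟨T, hT, hW⟩ := S.exists_hyp hU
  have hPT := normalizes_hyp hr2 hp2 S hPA hPU hP hxP hfpf hPmin hT hW
  set W := U ⊓ centralizer (T : Set G)
  set N := normalizer (W : Set G)
  have hPN : P ≤ N := Cfsg.Lib.Coprime.le_normalizer_inf_centralizer hPU hPT
  have hAT : A ≤ normalizer (T : Set G) := Sig.le_normalizer_of_invariant fun a ha t ht => by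
    rw [show a * t = t * a from congrArg Subtype.val (mul_comm' (⟨a, ha⟩ : A) ⟨t, hT.le ht⟩),
      mul_inv_cancel_right]
    exact ht
  have hAN : A ≤ N := Cfsg.Lib.Coprime.le_normalizer_inf_centralizer S.norm hAT
  suffices h : ∀ s ∈ A, ∀ a ∈ P, ⁅s, a⁆ ∈ centralizer (W : Set G) by
    refine hW (le_bot_iff.mp (S.fixA ▸ le_inf inf_le_left ?_))
    exact le_centralizer_iff.mp (hgen ▸ commutator_le.mpr h)
  by_cases hxT : x ∈ normalizer (T : Set G)
  swap
  · haveI : IsCyclic W := S.isCyclic hT hxT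
    exact fun s hs a ha => Uniq.commutator_mem_centralizer (hAN hs) (hPN ha)
  have hxN : x ∈ N := Cfsg.Lib.Coprime.le_normalizer_inf_centralizer (A := zpowers x)
    (zpowers_le.mpr S.normU) (zpowers_le.mpr hxT) (mem_zpowers x)
  set φ := autOf W
  obtain ⟨a₀, ha₀, ha₀T, hTa⟩ := hT
  set α := φ ⟨a₀, hAN ha₀⟩
  have hT1 : ∀ t (ht : t ∈ A), t ∈ T → φ ⟨t, hAN ht⟩ = 1 := fun t ht htT =>
    (autOf_eq_one_iff W _).mpr ((le_centralizer_iff.mp (inf_le_right : W ≤ _)) htT)
  have himg : ∀ s (hs : s ∈ A), φ ⟨s, hAN hs⟩ ∈ zpowers α := by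
    intro s hs
    have hs' : s ∈ T ⊔ zpowers a₀ := hTa.ge hs
    obtain ⟨t, ht, c, ⟨k, rfl⟩, rfl⟩ := Cfsg.Lib.Coprime.exists_mul_of_mem_sup
      ((zpowers_le.mpr ha₀).trans hAT) hs'
    have htA : t ∈ A := (hTa ▸ le_sup_left : T ≤ A) ht
    rw [show (⟨t * a₀ ^ k, hAN hs⟩ : N) = ⟨t, hAN htA⟩ * ⟨a₀, hAN ha₀⟩ ^ k from Subtype.ext rfl, map_mul,
      hT1 t htA ht, one_mul, map_zpow]
    exact zpow_mem (mem_zpowers α) k
  have hnorm : ∀ g (hg : g ∈ N), g ∈ normalizer (A : Set G) →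
      φ ⟨g, hg⟩ ∈ normalizer (zpowers α : Set (MulAut W)) := by
    intro g hg hgA
    have key : ∀ g (hg : g ∈ N), g ∈ normalizer (A : Set G) →
        φ ⟨g, hg⟩ * α * (φ ⟨g, hg⟩)⁻¹ ∈ zpowers α := by
      intro g hg hgA
      have := himg _ ((mem_normalizer_iff.mp hgA a₀).mp ha₀)
      rw [show (⟨g * a₀ * g⁻¹, _⟩ : N) = ⟨g, hg⟩ * ⟨a₀, hAN ha₀⟩ * ⟨g, hg⟩⁻¹ from Subtype.ext rfl,
        map_mul, map_mul, map_inv] at this
      exact this
    refine mem_normalizer_iff.mpr fun y => ⟨fun hy => ?_, fun hy => ?_⟩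
    · obtain ⟨k, rfl⟩ := mem_zpowers_iff.mp hy
      rw [← conj_zpow]
      exact zpow_mem (key g hg hgA) k
    · obtain ⟨k, hk⟩ := mem_zpowers_iff.mp hy
      have h1 := zpow_mem (key g⁻¹ (inv_mem hg) (inv_mem hgA)) k
      rw [conj_zpow, hk, show (⟨g⁻¹, inv_mem hg⟩ : N) = (⟨g, hg⟩ : N)⁻¹ from Subtype.ext rfl,
        map_inv] at h1
      simpa [mul_assoc] using h1
  intro s hs a ha
  obtain ⟨b, hb, hba⟩ := disp_surj hxP hfpf ha
  have h1 := Uniq.commutator_mem_centralizer (Y := zpowers α) (hnorm x hxN S.normA)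
    (hnorm b (hPN hb) (hPA hb))
  have h2 := mem_centralizer_iff.mp h1 _ (himg s hs)
  rw [← map_commutatorElement, ← commutatorElement_eq_one_iff_mul_comm, ← map_commutatorElement] at h2
  have h3 := (autOf_eq_one_iff W _).mp h2
  rw [← hba]
  exact h3

/-- The nonabelian case. -/
theorem nonabelian_case [Fact p.Prime] [Fact q.Prime] (hr2 : r ≠ 2) (hq2 : q ≠ 2) {S D A U P : Subgroup G}
    {x z c : G} (St : Setup p q r A U x z) (hU : U ≠ ⊥) (hD : D = ⁅S, S⁆) (hDA : D ≤ A)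
    (hA : A = D ⊔ zpowers c) (hc : c ∈ S) (hxc : x * c = c * x) (hDS : D ≤ centralizer (S : Set G))
    (hDfpf : ∀ d ∈ D, x * d = d * x → d = 1) (hDU : U ⊓ centralizer (D : Set G) = ⊥)
    (hxS : x ∈ normalizer (S : Set G)) (hSU : S ≤ normalizer (U : Set G)) (hSA : S ≤ normalizer (A : Set G))
    (hPS : P ≤ normalizer (S : Set G)) (hPD : P ≤ centralizer (D : Set G))
    (hSmin : ∀ K < S, x ∈ normalizer (K : Set G) → P ≤ normalizer (K : Set G) → K ≤ centralizer (P : Set G))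
    (hcP : c ∉ centralizer (P : Set G)) : False := by
  haveI := St.commA
  haveI : IsMulCommutative D :=
    ⟨⟨fun a b => Subtype.ext (congrArg Subtype.val (mul_comm' (⟨a, hDA a.2⟩ : A) ⟨b, hDA b.2⟩) :)⟩⟩
  have hodd : Odd q := (Fact.out : q.Prime).odd_of_ne_two hq2
  have hDS' : D ≤ S := hD ▸ (commutator_le.mpr fun a ha b hb => by
    simp only [commutatorElement_def]; exact mul_mem (mul_mem (mul_mem ha hb) (inv_mem ha)) (inv_mem hb))
  have hxD : x ∈ normalizer (D : Set G) := hD ▸ (le_normalizer_commutator' (X := zpowers x)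
    (zpowers_le.mpr hxS) (zpowers_le.mpr hxS)) (mem_zpowers x)
  obtain ⟨T, hT, hW⟩ := St.exists_hyp hU
  have hnDT : ¬ D ≤ T := fun h => hW (le_bot_iff.mp (hDU ▸ inf_le_inf le_rfl (centralizer_le h)))
  set T₀ := T ⊓ D with hT₀
  have hSD : ∀ g ∈ S, ∀ d ∈ D, g * d = d * g := fun g hg d hd =>
    mem_centralizer_iff.mp (hDS hd) g hg
  have hcjD : ∀ g ∈ S, Sigma.cj g T ⊓ D = T₀ := by
    intro g hg
    ext d
    simp only [mem_inf, hT₀, Cfsg.Lib.Coprime.mem_map_conj_iff]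
    constructor
    · rintro ⟨h1, h2⟩
      rw [mul_assoc, ← hSD g hg d h2, inv_mul_cancel_left] at h1
      exact ⟨h1, h2⟩
    · rintro ⟨h1, h2⟩
      refine ⟨?_, h2⟩
      rw [mul_assoc, ← hSD g hg d h2, inv_mul_cancel_left]
      exact h1
  by_cases hxT₀ : x ∈ normalizer (T₀ : Set G)
  swap
  · -- `S` fixes `T`
    have hxT : x ∉ normalizer (T : Set G) := fun h =>
      hxT₀ (Subgroup.inf_normalizer_le_normalizer_inf ⟨h, hxD⟩)
    have hST : S ≤ normalizer (T : Set G) := by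
      intro g hg
      have m := St.cj_mem hT hW (hSA hg) (hSU hg)
      have hxg : x ∉ normalizer (Sigma.cj g T : Set G) := fun h =>
        hxT₀ (hcjD g hg ▸ Subgroup.inf_normalizer_le_normalizer_inf ⟨h, hxD⟩)
      obtain ⟨i, hi⟩ := (St.moved hT hxT).2 hW _ m.1 hxg m.2
      by_cases hri : r ∣ i
      · obtain ⟨j, rfl⟩ := hri
        rw [pow_mul, St.hx, one_pow, Sigma.cj_one] at hi
        exact mem_normalizer_iff_map_conj_eq.mpr hi
      refine absurd (mem_of_pow_mem St.hr St.hx hri (mem_normalizer_iff_map_conj_eq.mpr ?_)) hxT₀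
      show (T ⊓ D).map (MulAut.conj (x ^ i)).toMonoidHom = T₀
      rw [Subgroup.map_inf _ _ _ (MulAut.conj (x ^ i)).injective,
        Cfsg.Lib.Coprime.map_conj_eq_self (pow_mem hxD i),
        show T.map (MulAut.conj (x ^ i)).toMonoidHom = Sigma.cj g T from hi.symm]
      exact hcjD g hg
    set W := U ⊓ centralizer (T : Set G)
    have hSW : S ≤ normalizer (W : Set G) := Cfsg.Lib.Coprime.le_normalizer_inf_centralizer hSU hST
    haveI : IsCyclic W := St.isCyclic hT hxT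
    refine hW (le_bot_iff.mp (hDU ▸ le_inf inf_le_left ?_))
    exact le_centralizer_iff.mp (hD ▸ commutator_le.mpr fun a ha b hb =>
      Uniq.commutator_mem_centralizer (hSW ha) (hSW hb))
  have hPT₀ : P ≤ normalizer (T₀ : Set G) :=
    (hPD.trans (centralizer_le (show (T₀ : Set G) ⊆ D from fun d hd => hd.2))).trans (centralizer_le_normalizer _)
  -- the map `s ↦ ⁅c, s⁆`
  have hcomm : ∀ a ∈ S, ∀ b ∈ S, ⁅a, b⁆ ∈ D := fun a ha b hb => hD ▸ commutator_mem_commutator ha hb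
  let f : S →* G := MonoidHom.mk' (fun s => ⁅c, (s : G)⁆) fun a b => by
    show ⁅c, (a : G) * b⁆ = _
    rw [commutatorElement_mul_right_eq_mul_conj, mul_assoc ⁅c, (a : G)⁆,
      hSD a a.2 _ (hcomm c hc b b.2)]
    simp [mul_assoc]
  obtain ⟨s, hs, hsT⟩ : ∃ s ∈ S, ⁅c, s⁆ ∉ T₀ := by
    by_contra hall
    push Not at hall
    let S₁ : Subgroup G :=
      { carrier := {y | y ∈ S ∧ ∀ s ∈ S, ⁅y, s⁆ ∈ T₀}
        one_mem' := ⟨one_mem S, fun s _ => by simp⟩
        mul_mem' := by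
          rintro a b ⟨ha, ha'⟩ ⟨hb, hb'⟩
          refine ⟨mul_mem ha hb, fun s hs => ?_⟩
          rw [commutatorElement_mul_left_eq_conj_mul, hSD a ha _ (hcomm b hb s hs),
            mul_inv_cancel_right]
          exact mul_mem (hb' s hs) (ha' s hs)
        inv_mem' := by
          rintro a ⟨ha, ha'⟩
          refine ⟨inv_mem ha, fun s hs => ?_⟩
          have e : ⁅a⁻¹, s⁆ = a⁻¹ * ⁅a, s⁆⁻¹ * a := by simp [commutatorElement_def, mul_assoc]
          rw [e, hSD a⁻¹ (inv_mem ha) _ (inv_mem (hcomm a ha s hs)), inv_mul_cancel_right]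
          exact inv_mem (ha' s hs) }
    have hinv : ∀ g, g ∈ normalizer (S : Set G) → g ∈ normalizer (T₀ : Set G) →
        ∀ y ∈ S₁, g * y * g⁻¹ ∈ S₁ := by
      rintro g hgS hgT y ⟨hy, hy'⟩
      refine ⟨(mem_normalizer_iff.mp hgS y).mp hy, fun s hs => ?_⟩
      have h1 := (mem_normalizer_iff.mp hgT _).mp (hy' (g⁻¹ * s * g) ((mem_normalizer_iff''.mp hgS s).mp hs))
      rwa [conjugate_commutatorElement, show g * (g⁻¹ * s * g) * g⁻¹ = s by group] at h1
    have hne : S₁ ≠ S := fun e => hnDT (hD ▸ commutator_le.mpr fun a ha b hb =>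
      ((e.ge ha).2 b hb).1)
    exact hcP (hSmin S₁ (lt_of_le_of_ne (fun y hy => hy.1) hne)
      (Sig.le_normalizer_of_invariant (A := zpowers x) (fun g hg => hinv g ((zpowers_le.mpr hxS) hg)
        ((zpowers_le.mpr hxT₀) hg)) (mem_zpowers x))
      (Sig.le_normalizer_of_invariant fun g hg => hinv g (hPS hg) (hPT₀ hg)) ⟨hc, hall⟩)
  set e := ⁅c, s⁆ with he
  have heD : e ∈ D := hcomm c hc s hs
  have hcA : c ∈ A := hA ▸ mem_sup_right (mem_zpowers c)
  have hTe : T ⊔ zpowers e = A := hT.sup_zpowers St.expA (hDA heD) fun h => hsT ⟨h, heD⟩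
  obtain ⟨k, hk⟩ : ∃ k : ℤ, c * e ^ k ∈ T := by
    have hn : zpowers e ≤ normalizer (T : Set G) :=
      (zpowers_le.mpr (hDA heD)).trans (Sig.le_normalizer_of_invariant fun a ha t ht => by
        rw [show a * t = t * a from congrArg Subtype.val (mul_comm' (⟨a, ha⟩ : A) ⟨t, hT.le ht⟩),
          mul_inv_cancel_right]
        exact ht)
    obtain ⟨t, ht, _, ⟨k, rfl⟩, hck⟩ := Cfsg.Lib.Coprime.exists_mul_of_mem_sup hn (hTe.symm ▸ hcA)
    exact ⟨-k, by rw [hck, mul_assoc, ← zpow_add, add_neg_cancel, zpow_zero, mul_one]; exact ht⟩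
  -- every translate of `c` lies in a conjugate hyperplane
  have hconj : ∀ n : ℤ, ∃ T', (Hyp A T' ∧ U ⊓ centralizer (T' : Set G) ≠ ⊥) ∧ T' ⊓ D = T₀ ∧
      c * e ^ n ∈ T' := by
    intro n
    set g := s ^ (k - n) with hg
    have hgS : g ∈ S := zpow_mem hs _
    have hf : ⁅c, g⁆ = e ^ (k - n) := by
      have := map_zpow f ⟨s, hs⟩ (k - n)
      exact this
    refine ⟨Sigma.cj g T, St.cj_mem hT hW (hSA hgS) (hSU hgS), hcjD g hgS, c * e ^ k, hk, ?_⟩
    show g * (c * e ^ k) * g⁻¹ = c * e ^ n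
    calc g * (c * e ^ k) * g⁻¹ = (g * c * g⁻¹) * (g * e ^ k * g⁻¹) := by group
      _ = (⁅c, g⁆⁻¹ * c) * e ^ k := by
        rw [hSD g hgS _ (zpow_mem heD k), mul_inv_cancel_right, conj_eq_commutator_mul,
          commutatorElement_inv]
      _ = c * ⁅c, g⁆⁻¹ * e ^ k := by rw [hSD c hc _ (inv_mem (hcomm c hc g hgS))]
      _ = c * e ^ n := by rw [hf, ← zpow_neg, mul_assoc, ← zpow_add]; congr 2; ring
  have hmov : ∀ T', (T' ⊓ D = T₀) → ∀ d ∈ D, c * d ∈ T' → d ∉ T₀ → x ∉ normalizer (T' : Set G) := by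
    intro T' hT' d hd hcd hdT hx
    have h1 := (mem_normalizer_iff.mp hx _).mp hcd
    have hxd : x * d * x⁻¹ ∈ D := (mem_normalizer_iff.mp hxD d).mp hd
    have h2 : x * d * x⁻¹ * d⁻¹ ∈ T₀ := by
      rw [← hT']
      refine mem_inf.mpr ⟨?_, mul_mem hxd (inv_mem hd)⟩
      have e1 : x * d * x⁻¹ * d⁻¹ = d⁻¹ * (x * d * x⁻¹) :=
        congrArg Subtype.val (mul_comm' (⟨_, hxd⟩ : D) ⟨d⁻¹, inv_mem hd⟩)
      have e2 : x * (c * d) * x⁻¹ = c * (x * d * x⁻¹) := by
        rw [show x * (c * d) * x⁻¹ = x * c * (d * x⁻¹) by group, hxc]; group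
      rw [e1, show d⁻¹ * (x * d * x⁻¹) = (c * d)⁻¹ * (c * (x * d * x⁻¹)) by group, ← e2]
      exact mul_mem (inv_mem hcd) h1
    exact hdT (mem_of_disp_mem inf_le_right hxT₀ hDfpf hd h2)
  obtain ⟨T₁, hT₁, hT₁D, hc₁⟩ := hconj 1
  obtain ⟨T₂, hT₂, hT₂D, hc₂⟩ := hconj (-1)
  rw [zpow_one] at hc₁
  rw [zpow_neg, zpow_one] at hc₂
  have hx1 := hmov T₁ hT₁D e heD hc₁ hsT
  have hx2 := hmov T₂ hT₂D e⁻¹ (inv_mem heD) hc₂ fun h => hsT (by simpa using inv_mem h)
  obtain ⟨i, hi⟩ := (St.moved hT₁.1 hx1).2 hT₁.2 T₂ hT₂.1 hx2 hT₂.2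
  have hxe : x ^ i * e * (x ^ i)⁻¹ ∈ D := (mem_normalizer_iff.mp (pow_mem hxD i) e).mp heD
  have h3 : c * (x ^ i * e * (x ^ i)⁻¹) ∈ T₂ := by
    rw [hi]
    refine ⟨c * e, hc₁, ?_⟩
    show x ^ i * (c * e) * (x ^ i)⁻¹ = _
    rw [show x ^ i * (c * e) * (x ^ i)⁻¹ = x ^ i * c * (e * (x ^ i)⁻¹) by group,
      (show Commute x c from hxc).pow_left i |>.eq]
    group
  have h4 : x ^ i * e * (x ^ i)⁻¹ * e ∈ T₀ := by
    rw [← hT₂D]
    refine mem_inf.mpr ⟨?_, mul_mem hxe heD⟩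
    rw [show x ^ i * e * (x ^ i)⁻¹ * e = e * (x ^ i * e * (x ^ i)⁻¹) from
        congrArg Subtype.val (mul_comm' (⟨_, hxe⟩ : D) ⟨e, heD⟩),
      show e * (x ^ i * e * (x ^ i)⁻¹) = (c * e⁻¹)⁻¹ * (c * (x ^ i * e * (x ^ i)⁻¹)) by group]
    exact mul_mem (inv_mem hc₂) h3
  exact hsT (mem_of_conj_mul_self_mem St.hr hr2 hodd St.hx inf_le_right hxD hxT₀ hDfpf heD
    (St.expA e (hDA heD)) h4)

/-- There is no such configuration. -/
theorem false_of_config [Fact p.Prime] [Fact q.Prime] [hr : Fact r.Prime] (hr2 : r ≠ 2) (hp2 : p ≠ 2)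
    (hq2 : q ≠ 2) (hpq : p ≠ q) (hrq : r ≠ q) {V P S : Subgroup G} {x z : G}
    (hV : Cfsg.IsElementaryAbelian p V) (hx : x ^ r = 1) (hxV : x ∈ normalizer (V : Set G))
    (hP : Cfsg.IsElementaryAbelian p P) (hxP : x ∈ normalizer (P : Set G))
    (hPV : P ≤ normalizer (V : Set G)) (hS : IsPGroup q S) (hxS : x ∈ normalizer (S : Set G))
    (hSV : S ≤ normalizer (V : Set G)) (hPS : P ≤ normalizer (S : Set G))
    (hfpf : ∀ a ∈ P, x * a = a * x → a = 1)
    (hPmin : ∀ K ≤ P, x ∈ normalizer (K : Set G) → K = ⊥ ∨ K = P)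
    (hSmin : ∀ K < S, x ∈ normalizer (K : Set G) → P ≤ normalizer (K : Set G) → K ≤ centralizer (P : Set G))
    (hfaith : S ⊓ centralizer (V : Set G) = ⊥) (hz : z ^ p = 1)
    (hfix : V ⊓ centralizer ({x} : Set G) ≤ zpowers z) (hcyc : IsCyclic ↥(S ⊓ centralizer ({x} : Set G)))
    (hnc : ¬ P ≤ centralizer (S : Set G)) : False := by
  haveI := hV.1
  haveI := hP.1
  have hPp := Cfsg.Lib.PGroup.isPGroup_of_isElementaryAbelian hP
  have hVp := Cfsg.Lib.PGroup.isPGroup_of_isElementaryAbelian hV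
  haveI : Group.IsNilpotent S := hS.isNilpotent
  have hsol : ∀ B : Subgroup G, Group.IsSolvable B ∨ Group.IsSolvable S := fun _ => Or.inr inferInstance
  have hcopPS : (Nat.card P).Coprime (Nat.card S) := hPp.coprime_card_of_ne p q hpq _ _ hS
  have hcopSV : ∀ B ≤ S, (Nat.card B).Coprime (Nat.card V) := fun B hB =>
    (hS.to_le hB).coprime_card_of_ne q p hpq.symm _ _ hVp
  have hxz : ∀ {K : Subgroup G}, x ∈ normalizer (K : Set G) → zpowers x ≤ normalizer (K : Set G) :=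
    fun h => zpowers_le.mpr h
  -- `S = [S, P]`
  have hgen : ⁅S, P⁆ = S := by
    have hle := Cfsg.Lib.Coprime.commutator_le_of_le_normalizer hPS
    by_contra hne
    have h1 := hSmin _ (lt_of_le_of_ne hle hne)
      (le_normalizer_commutator' (hxz hxS) (hxz hxP) (mem_zpowers x))
      (normalizer_commutator_ge_right S P)
    have h2 := Cfsg.Lib.Coprime.commutator_eq_bot_of_commutator_commutator_eq_bot hPS hcopPS (hsol _)
      (commutator_eq_bot_iff_le_centralizer.mpr h1)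
    exact hnc (le_centralizer_iff.mp (commutator_eq_bot_iff_le_centralizer.mp h2))
  set D := ⁅S, S⁆ with hD
  have hDS : D ≤ S := commutator_le.mpr fun a ha b hb => by
    simp only [commutatorElement_def]; exact mul_mem (mul_mem (mul_mem ha hb) (inv_mem ha)) (inv_mem hb)
  have hS1 : S ≠ ⊥ := fun e => hnc fun a _ => mem_centralizer_iff.mpr fun b hb => by
    rw [e, SetLike.mem_coe, mem_bot] at hb
    simp [hb]
  have hDlt : D < S := by
    haveI : Nontrivial S := (Subgroup.nontrivial_iff_ne_bot S).mpr hS1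
    rw [hD, ← Subgroup.map_subtype_commutator]
    calc (commutator S).map S.subtype < (⊤ : Subgroup S).map S.subtype :=
          Subgroup.map_subtype_lt_map_subtype.mpr (Group.IsSolvable.commutator_lt_top_of_nontrivial S)
      _ = S := by rw [← MonoidHom.range_eq_map, Subgroup.range_subtype]
  have hxD : x ∈ normalizer (D : Set G) := le_normalizer_commutator' (hxz hxS) (hxz hxS) (mem_zpowers x)
  have hDP : D ≤ centralizer (P : Set G) := hSmin D hDlt hxD (le_normalizer_commutator' hPS hPS)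
  have hDc : D ≤ centralizer (S : Set G) := by
    have h1 : ⁅⁅P, D⁆, S⁆ = ⊥ := by
      rw [commutator_eq_bot_iff_le_centralizer.mpr (le_centralizer_iff.mp hDP), commutator_bot_left]
    have h2 : ⁅⁅D, S⁆, P⁆ = ⊥ := commutator_eq_bot_iff_le_centralizer.mpr
      (le_trans (commutator_le.mpr fun a ha b hb => by
        simp only [commutatorElement_def]
        exact hD ▸ (hD ▸ commutator_mem_commutator (hDS ha) hb :)) hDP)
    have h3 := commutator_commutator_eq_bot_of_rotate (H₁ := S) (H₂ := P) (H₃ := D) h1 h2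
    rw [hgen] at h3
    exact le_centralizer_iff.mp (commutator_eq_bot_iff_le_centralizer.mp h3)
  -- exponent `q`
  have hexp : ∀ y ∈ S, y ^ q = 1 := by
    have hcl : commutator S ≤ center S := by
      intro y hy
      refine mem_center_iff.mpr fun g => Subtype.ext ?_
      have hyD : (y : G) ∈ D := by rw [hD, ← Subgroup.map_subtype_commutator]; exact ⟨y, hy, rfl⟩
      exact mem_centralizer_iff.mp (hDc hyD) g g.2
    let O : Subgroup G :=
      { carrier := {y | y ∈ S ∧ y ^ q = 1}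
        one_mem' := ⟨one_mem S, one_pow q⟩
        mul_mem' := by
          rintro a b ⟨ha, ha'⟩ ⟨hb, hb'⟩
          refine ⟨mul_mem ha hb, ?_⟩
          have hb1 : (⟨b, hb⟩ : S) ^ q = 1 := Subtype.ext hb'
          have h := Cfsg.Lib.PGroup.mul_pow_of_class_two hcl (⟨a, ha⟩ : S) ⟨b, hb⟩ q
          have hch : q ∣ q.choose 2 := (Fact.out : q.Prime).dvd_choose_self (by norm_num)
            (lt_of_le_of_ne (Fact.out : q.Prime).two_le (Ne.symm hq2))
          obtain ⟨m, hm⟩ := hch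
          rw [show (⟨a, ha⟩ : S) ^ q = 1 from Subtype.ext ha', hb1, hm, pow_mul,
            ← Cfsg.Lib.PGroup.commutatorElement_pow_left hcl, hb1, commutatorElement_one_left,
            one_pow, one_mul, one_mul] at h
          exact congrArg Subtype.val h
        inv_mem' := by
          rintro a ⟨ha, ha'⟩
          exact ⟨inv_mem ha, by rw [inv_pow, ha', inv_one]⟩ }
    have hinv : ∀ g ∈ normalizer (S : Set G), ∀ y ∈ O, g * y * g⁻¹ ∈ O := fun g hg y hy =>
      ⟨(mem_normalizer_iff.mp hg y).mp hy.1, by rw [conj_pow, hy.2, mul_one, mul_inv_cancel]⟩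
    by_contra hne
    push Not at hne
    obtain ⟨y, hy, hy1⟩ := hne
    have hO := hSmin O (lt_of_le_of_ne (fun y hy => hy.1) fun e => hy1 (e.ge hy).2)
      (Sig.le_normalizer_of_invariant (fun g hg => hinv g (hxz hxS hg)) (mem_zpowers x))
      (Sig.le_normalizer_of_invariant fun g hg => hinv g (hPS hg))
    exact hnc (Cfsg.Lib.PGroup.le_centralizer_of_centralizes_omega hq2 P S hS hPS hcopPS
      fun y hy hyq a ha => mem_centralizer_iff.mp (hO ⟨hy, hyq⟩) a ha)
  have hUV : ∀ B ≤ S, ⁅V, B⁆ ≤ V := fun B hB =>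
    Cfsg.Lib.Coprime.commutator_le_of_le_normalizer (hB.trans hSV)
  have hUB : ∀ B ≤ S, B ≠ ⊥ → ⁅V, B⁆ ≠ ⊥ := fun B hB hB1 e => hB1 (le_bot_iff.mp
    (hfaith ▸ le_inf hB (le_centralizer_iff.mp (commutator_eq_bot_iff_le_centralizer.mp e))))
  have hUc : ∀ B ≤ S, ⁅V, B⁆ ⊓ centralizer (B : Set G) = ⊥ := fun B hB =>
    disjoint_iff.mp (Cfsg.Lib.Coprime.disjoint_commutator_centralizer (hB.trans hSV) (hcopSV B hB))
  by_cases hD1 : D = ⊥
  · have hSab : IsMulCommutative S := ⟨⟨fun a b => Subtype.ext (mem_centralizer_iff.mp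
      (commutator_eq_bot_iff_le_centralizer.mp hD1 b.2) a a.2)⟩⟩
    refine abelian_case hr2 hp2 (A := S) (U := ⁅V, S⁆) (z := z) (q := q)
      { commA := hSab
        commU := commutative_of_le (hUV S le_rfl)
        pU := hVp.to_le (hUV S le_rfl)
        expA := hexp
        norm := le_normalizer_commutator' hSV le_normalizer
        cop := (hcopSV S le_rfl).coprime_dvd_right (card_dvd_of_le (hUV S le_rfl))
        fixA := hUc S le_rfl
        hr := hr.out
        hx := hx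
        normU := le_normalizer_commutator' (hxz hxV) (hxz hxS) (mem_zpowers x)
        normA := hxS
        hz := hz
        fixU := (inf_le_inf (hUV S le_rfl) le_rfl).trans hfix }
      (hUB S le_rfl hS1) hPS (le_normalizer_commutator' hPV hPS) hP hxP hfpf hPmin hgen
  -- a fixed point of `x` moved by `P`
  obtain ⟨c, hc, hcP⟩ : ∃ c ∈ S ⊓ centralizer ({x} : Set G), c ∉ centralizer (P : Set G) := by
    refine SetLike.not_le_iff_exists.mp fun h => hnc ?_
    exact centralizes_of_frobenius_group hS hcopPS hrq.symm hPS hxS hxP hx hfpf h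
  have hxc : x * c = c * x := (mem_centralizer_singleton_iff.mp hc.2).symm
  have hDfpf : ∀ d ∈ D, x * d = d * x → d = 1 := by
    intro d hd hxd
    by_contra hd1
    refine hcP (hDP ((zpowers_le.mpr hd) (Uniq.mem_zpowers_of_isCyclic (q := q)
      (Y := S ⊓ centralizer ({x} : Set G)) ⟨hDS hd, mem_centralizer_singleton_iff.mpr hxd.symm⟩ hc
      (hexp d (hDS hd)) hd1 (hexp c hc.1))))
  have hDel : Cfsg.IsElementaryAbelian q D :=
    ⟨⟨⟨fun a b => Subtype.ext (mem_centralizer_iff.mp (hDc b.2) a (hDS a.2))⟩⟩,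
      fun d hd => hexp d (hDS hd)⟩
  have hAel := Uniq.elementary_adjoin hDel (hexp c hc.1)
    (mem_centralizer_iff.mpr fun d hd => (mem_centralizer_iff.mp (hDc hd) c hc.1).symm)
  set A := D ⊔ zpowers c with hA
  have hAS : A ≤ S := sup_le hDS (zpowers_le.mpr hc.1)
  have hSA : S ≤ normalizer (A : Set G) := Sig.le_normalizer_of_invariant fun g hg a ha => by
    rw [conj_eq_commutator_mul]
    exact mul_mem (mem_sup_left (hD ▸ commutator_mem_commutator hg (hAS ha) :)) ha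
  have hxA : x ∈ normalizer (A : Set G) := by
    refine mem_normalizer_iff_map_conj_eq.mpr ?_
    show (D ⊔ zpowers c).map (MulAut.conj x).toMonoidHom = _
    rw [Subgroup.map_sup, Cfsg.Lib.Coprime.map_conj_eq_self hxD, MonoidHom.map_zpowers]
    congr 2
    show x * c * x⁻¹ = c
    rw [hxc, mul_inv_cancel_right]
  refine nonabelian_case hr2 hq2 (U := ⁅V, D⁆) (z := z) (p := p)
    { commA := hAel.1
      commU := commutative_of_le (hUV D hDS)
      pU := hVp.to_le (hUV D hDS)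
      expA := hAel.2
      norm := le_normalizer_commutator' (hAS.trans hSV)
        (hAS.trans (Cfsg.Lib.Coprime.commutator_le_normalizer_commutator le_normalizer))
      cop := (hcopSV A hAS).coprime_dvd_right (card_dvd_of_le (hUV D hDS))
      fixA := le_bot_iff.mp (hUc D hDS ▸ inf_le_inf le_rfl (centralizer_le (le_sup_left : D ≤ A)))
      hr := hr.out
      hx := hx
      normU := le_normalizer_commutator' (hxz hxV) (hxz hxD) (mem_zpowers x)
      normA := hxA
      hz := hz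
      fixU := (inf_le_inf (hUV D hDS) le_rfl).trans hfix }
    (hUB D hDS hD1) hD le_sup_left hA hc.1 hxc hDc hDfpf (hUc D hDS) hxS
    (le_normalizer_commutator' hSV (Cfsg.Lib.Coprime.commutator_le_normalizer_commutator le_normalizer))
    hSA hPS (le_centralizer_iff.mp hDP) hSmin hcP

end Cfsg.Lib.Local.Averaging
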