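import Mathlib

/-!
Finite groups of odd order with a faithful 2-dimensional representation in odd characteristic `p`:
if no line is invariant, then the order is prime to `p`.
-/

set_option autoImplicit false

namespace Cfsg.Lib.Local.GLTwoOdd

/-- Counting the conjugates of a TI set under a subgroup `K`. -/
theorem ti_count {H : Type*} [Group H] [Finite H] {K L : Subgroup H} (hLK : L ≤ K) {T : Set H}
    (hnorm : ∀ l ∈ L, ∀ t ∈ T, l * t * l⁻¹ ∈ T)
    (hti : ∀ x ∈ K, ∀ t ∈ T, x * t * x⁻¹ ∈ T → x ∈ L) :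
    {y : H | ∃ x ∈ K, ∃ t ∈ T, x * t * x⁻¹ = y}.ncard * Nat.card L = Nat.card K * T.ncard := by
  classical
  set S := {y : H | ∃ x ∈ K, ∃ t ∈ T, x * t * x⁻¹ = y}
  rw [← Nat.card_coe_set_eq S, ← Nat.card_coe_set_eq T, ← Nat.card_prod, ← Nat.card_prod]
  have hc : ∀ s : S, ∃ xt : K × T, (xt.1 : H) * xt.2 * (xt.1 : H)⁻¹ = s := by
    rintro ⟨y, x, hx, t, ht, rfl⟩
    exact ⟨(⟨x, hx⟩, ⟨t, ht⟩), rfl⟩
  choose c hcs using hc
  refine Nat.card_congr (Equiv.ofBijective
    (fun sl : S × L => ((c sl.1).1 * ⟨(sl.2 : H), hLK sl.2.2⟩,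
      (⟨(sl.2 : H)⁻¹ * (c sl.1).2 * sl.2, by
        simpa using hnorm _ (inv_mem sl.2.2) _ (c sl.1).2.2⟩ : T))) ⟨?_, ?_⟩)
  · rintro ⟨s, l⟩ ⟨s', l'⟩ h
    obtain ⟨h1, h2⟩ := Prod.mk.injEq _ _ _ _ ▸ h
    have h1' : ((c s).1 : H) * l = (c s').1 * l' := congrArg Subtype.val h1
    have h2' : (l : H)⁻¹ * (c s).2 * l = (l' : H)⁻¹ * (c s').2 * l' := congrArg Subtype.val h2
    have hs : s = s' := by
      apply Subtype.ext
      rw [← hcs s, ← hcs s']
      calc ((c s).1 : H) * (c s).2 * ((c s).1 : H)⁻¹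
          = ((c s).1 * l) * ((l : H)⁻¹ * (c s).2 * l) * (((c s).1 : H) * l)⁻¹ := by group
        _ = _ := by rw [h1', h2']; group
    subst hs
    exact Prod.ext rfl (Subtype.ext (mul_left_cancel h1'))
  · rintro ⟨x, t⟩
    let s : S := ⟨x * t * (x : H)⁻¹, x, x.2, t, t.2, rfl⟩
    have hs : ((c s).1 : H) * (c s).2 * ((c s).1 : H)⁻¹ = x * t * (x : H)⁻¹ := hcs s
    have e : ((c s).1 : H)⁻¹ * x * t * (((c s).1 : H)⁻¹ * x)⁻¹ = (c s).2 := by
      calc ((c s).1 : H)⁻¹ * x * t * (((c s).1 : H)⁻¹ * x)⁻¹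
          = ((c s).1 : H)⁻¹ * (x * t * (x : H)⁻¹) * (c s).1 := by group
        _ = _ := by rw [← hs]; group
    have hl : ((c s).1 : H)⁻¹ * x ∈ L :=
      hti _ (mul_mem (inv_mem (c s).1.2) x.2) t t.2 (by rw [e]; exact (c s).2.2)
    refine ⟨(s, ⟨_, hl⟩), Prod.ext (Subtype.ext ?_) (Subtype.ext ?_)⟩
    · simp
    · simp only [← e]; group

variable {F : Type*} [Field F]

local notation "M2" => Matrix (Fin 2) (Fin 2) F

/-- Discriminant of the characteristic polynomial of a 2 by 2 matrix. -/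
def disc (g : Matrix (Fin 2) (Fin 2) F) : F := (g 0 0 - g 1 1) ^ 2 + 4 * (g 0 1 * g 1 0)

/-- A scalar matrix. -/
def Scalar (g : Matrix (Fin 2) (Fin 2) F) : Prop := g 0 1 = 0 ∧ g 1 0 = 0 ∧ g 0 0 = g 1 1

theorem scalar_eq {g : M2} (h : Scalar g) : g = g 0 0 • 1 := by
  ext i j
  fin_cases i <;> fin_cases j <;> simp [h.1, h.2.1, h.2.2]

theorem commutant {g x : M2} (hg : ¬ Scalar g) (h : x * g = g * x) :
    ∃ a b : F, x = a • 1 + b • g := by
  have h00 := congrFun (congrFun h 0) 0
  have h01 := congrFun (congrFun h 0) 1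
  have h10 := congrFun (congrFun h 1) 0
  simp only [Matrix.mul_apply, Fin.sum_univ_two] at h00 h01 h10
  by_cases hq : g 0 1 = 0
  · by_cases hr : g 1 0 = 0
    · have hps : g 0 0 - g 1 1 ≠ 0 := sub_ne_zero.mpr fun e => hg ⟨hq, hr, e⟩
      refine ⟨x 0 0 - (x 0 0 - x 1 1) / (g 0 0 - g 1 1) * g 0 0,
        (x 0 0 - x 1 1) / (g 0 0 - g 1 1), ?_⟩
      have e01 : x 0 1 = 0 := by
        have : x 0 1 * (g 0 0 - g 1 1) = 0 := by
          linear_combination -h01 + (x 0 0 - x 1 1) * hq
        exact (mul_eq_zero.mp this).resolve_right hps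
      have e10 : x 1 0 = 0 := by
        have : x 1 0 * (g 0 0 - g 1 1) = 0 := by
          linear_combination h10 + (x 0 0 - x 1 1) * hr
        exact (mul_eq_zero.mp this).resolve_right hps
      ext i j
      fin_cases i <;> fin_cases j <;> simp [e01, e10, hq, hr]
      field_simp
      ring
    · refine ⟨x 0 0 - x 1 0 / g 1 0 * g 0 0, x 1 0 / g 1 0, ?_⟩
      ext i j
      fin_cases i <;> fin_cases j <;> simp [hq]
      · have : x 0 1 * g 1 0 = 0 := by linear_combination h00 + x 1 0 * hq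
        exact (mul_eq_zero.mp this).resolve_right hr
      · field_simp
      · field_simp
        linear_combination h10
  · refine ⟨x 0 0 - x 0 1 / g 0 1 * g 0 0, x 0 1 / g 0 1, ?_⟩
    ext i j
    fin_cases i <;> fin_cases j <;> simp
    · field_simp
    · field_simp
      linear_combination -h00
    · field_simp
      linear_combination -h01

theorem commute_of_commutant {g x y : M2} (hg : ¬ Scalar g) (hx : x * g = g * x)
    (hy : y * g = g * y) : x * y = y * x := by
  obtain ⟨a, b, rfl⟩ := commutant hg hx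
  obtain ⟨c, d, rfl⟩ := commutant hg hy
  simp only [add_mul, mul_add, smul_mul_assoc, mul_smul_comm, one_mul, mul_one]
  module

theorem disc_affine (a b : F) (g : M2) : disc (a • 1 + b • g) = b ^ 2 * disc g := by
  simp [disc]
  ring

theorem disc_conj (h : GL (Fin 2) F) (g : M2) :
    disc ((h : M2) * g * (↑h⁻¹ : M2)) = disc g := by
  have e : ∀ x : M2, disc x = x.trace ^ 2 - 4 * x.det := by
    intro x
    rw [disc, Matrix.trace_fin_two, Matrix.det_fin_two]
    ring
  rw [e, e]
  have h1 : ((h : M2) * g * (↑h⁻¹ : M2)).trace = g.trace := by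
    rw [Matrix.trace_mul_comm, ← mul_assoc, Units.inv_mul, one_mul]
  have h2 : ((h : M2) * g * (↑h⁻¹ : M2)).det = g.det := by
    rw [Matrix.det_mul, Matrix.det_mul, mul_comm ((h : M2).det), mul_assoc, ← Matrix.det_mul,
      Units.mul_inv, Matrix.det_one, mul_one]
  rw [h1, h2]

theorem trace_conj (h : GL (Fin 2) F) (g : M2) :
    ((h : M2) * g * (↑h⁻¹ : M2)).trace = g.trace := by
  rw [Matrix.trace_mul_comm, ← mul_assoc, Units.inv_mul, one_mul]

theorem conj_sq (h2 : (2 : F) ≠ 0) (h : GL (Fin 2) F) {g : M2} (hd : disc g ≠ 0)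
    (hc : Commute ((h : M2) * g * (↑h⁻¹ : M2)) g) :
    Commute (↑(h ^ 2) : M2) g := by
  have hg : ¬ Scalar g := fun s => hd (by simp [disc, s.1, s.2.2])
  obtain ⟨a, b, hab⟩ := commutant hg hc
  have hb : b ^ 2 = 1 := by
    have := disc_conj h g
    rw [hab, disc_affine] at this
    exact mul_right_cancel₀ hd (this.trans (one_mul _).symm)
  have ht : 2 * a + b * g.trace = g.trace := by
    have := trace_conj h g
    rw [hab] at this
    simp [Matrix.trace_fin_two] at this
    rw [Matrix.trace_fin_two]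
    linear_combination this
  have ha : a * (1 + b) = 0 := by
    have : 2 * (a * (1 + b)) = 0 := by linear_combination (1 + b) * ht - g.trace * hb
    exact (mul_eq_zero.mp this).resolve_left h2
  have key : (h : M2) * ((h : M2) * g * (↑h⁻¹ : M2)) * (↑h⁻¹ : M2) = g := by
    rw [hab, mul_add, add_mul, mul_smul_comm, mul_smul_comm, smul_mul_assoc, smul_mul_assoc,
      mul_one, Units.mul_inv, hab, smul_add, smul_smul, smul_smul, ← add_assoc, ← add_smul,
      ← sq, hb, one_smul, show a + b * a = 0 by linear_combination ha, zero_smul, zero_add]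
  show ((h ^ 2 : GL (Fin 2) F) : M2) * g = g * ((h ^ 2 : GL (Fin 2) F) : M2)
  conv_rhs => rw [← key]
  simp [sq, mul_assoc]

/-- The nilpotent part of a matrix with vanishing discriminant. -/
theorem nil_part (h2 : (2 : F) ≠ 0) {g : M2} (hd : disc g = 0) :
    ∃ c : F, (g - c • 1) * (g - c • 1) = 0 := by
  refine ⟨(g 0 0 + g 1 1) / 2, ?_⟩
  rw [disc] at hd
  ext i j
  fin_cases i <;> fin_cases j <;> simp [Matrix.mul_apply] <;> field_simp
  · linear_combination hd
  · ring
  · ring
  · linear_combination hd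

theorem sq_zero_smul {N : M2} (hN : N * N = 0) (c : F) :
    ∀ k : ℕ, (c • 1 + N) ^ (k + 1) = c ^ (k + 1) • 1 + ((k + 1 : ℕ) * c ^ k) • N := by
  intro k
  induction k with
  | zero => simp
  | succ k ih =>
    rw [pow_succ, ih]
    simp only [add_mul, mul_add, smul_mul_assoc, mul_smul_comm, one_mul, mul_one, smul_smul, hN,
      smul_zero, add_zero]
    push_cast
    module

/-- A nonscalar unit with vanishing discriminant has order divisible by the characteristic. -/
theorem char_dvd_orderOf (p : ℕ) [CharP F p] (h2 : (2 : F) ≠ 0) (g : GL (Fin 2) F)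
    (hns : ¬ Scalar (g : M2)) (hd : disc (g : M2) = 0) (hfin : IsOfFinOrder g) :
    p ∣ orderOf g := by
  obtain ⟨c, hc⟩ := nil_part h2 hd
  obtain ⟨k, hk⟩ : ∃ k, orderOf g = k + 1 :=
    ⟨orderOf g - 1, by have := hfin.orderOf_pos; omega⟩
  have e : (g : M2) ^ (k + 1) = 1 := by
    rw [← Units.val_pow_eq_pow_val, ← hk, pow_orderOf_eq_one]; rfl
  have e' := sq_zero_smul hc c k
  rw [add_sub_cancel, e] at e'
  have hc0 : c ≠ 0 := by
    rintro rfl
    rw [zero_smul, sub_zero] at hc
    have : IsUnit ((g : M2) * g) := g.isUnit.mul g.isUnit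
    rw [hc] at this
    exact not_isUnit_zero this
  rw [hk]
  refine (CharP.cast_eq_zero_iff F p (k + 1)).mp ?_
  by_contra hne
  apply hns
  have h01 := congrFun (congrFun e' 0) 1
  have h10 := congrFun (congrFun e' 1) 0
  have h00 := congrFun (congrFun e' 0) 0
  have h11 := congrFun (congrFun e' 1) 1
  simp at h01 h10 h00 h11
  have hm : ((k + 1 : ℕ) : F) * c ^ k ≠ 0 := mul_ne_zero hne (pow_ne_zero _ hc0)
  push_cast at hm
  have hne' : ¬ (((k : F) + 1 = 0) ∨ c = 0 ∧ ¬ k = 0) := by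
    rintro (e | ⟨e, -⟩)
    exacts [hne (by push_cast; exact e), hc0 e]
  refine ⟨h01.resolve_left hne', h10.resolve_left hne',
    mul_left_cancel₀ hm (by linear_combination h11 - h00)⟩

theorem sq_zero_of_pow_eq_zero {N : M2} {n : ℕ} (hN : N ^ n = 0) : N * N = 0 := by
  have hdet : N.det = 0 := by
    have h := congrArg Matrix.det hN
    rw [Matrix.det_pow, Matrix.det_zero] at h
    exact (pow_eq_zero_iff'.mp h).1
  have hsq : N * N = N.trace • N := by
    rw [Matrix.det_fin_two] at hdet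
    ext i j
    fin_cases i <;> fin_cases j <;> simp [Matrix.mul_apply, Matrix.trace_fin_two]
    · linear_combination -hdet
    · ring
    · ring
    · linear_combination -hdet
  by_cases ht : N.trace = 0
  · rw [hsq, ht, zero_smul]
  have hp : ∀ m : ℕ, N ^ (m + 1) = N.trace ^ m • N := by
    intro m
    induction m with
    | zero => simp
    | succ m ih => rw [pow_succ, ih, smul_mul_assoc, hsq, smul_smul, pow_succ]
  rcases n with - | m
  · rw [pow_zero] at hN
    rw [← mul_one N, hN]; simp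
  · have : N = 0 := by
      rw [hp, smul_eq_zero] at hN
      exact hN.resolve_left (pow_ne_zero _ ht)
    simp [this]

open Matrix in
/-- The kernel of a nonzero 2 by 2 matrix with a nonzero kernel vector is a line. -/
theorem mem_span_of_ker {N : M2} (hN : N ≠ 0) {v w : Fin 2 → F} (hv : v ≠ 0)
    (hNv : N *ᵥ v = 0) (hNw : N *ᵥ w = 0) : w ∈ Submodule.span F {v} := by
  have a := congrFun hNv 0
  have b := congrFun hNw 0
  have c := congrFun hNv 1
  have d := congrFun hNw 1
  simp [Matrix.mulVec, dotProduct, Fin.sum_univ_two] at a b c d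
  have hw : w 0 * v 1 = w 1 * v 0 := by
    by_contra hne
    rw [← sub_eq_zero] at hne
    refine hN ?_
    ext i j
    fin_cases i <;> fin_cases j <;> simp <;> refine (mul_eq_zero.mp ?_).resolve_right hne
    · linear_combination v 1 * b - w 1 * a
    · linear_combination w 0 * a - v 0 * b
    · linear_combination v 1 * d - w 1 * c
    · linear_combination w 0 * c - v 0 * d
  rw [Submodule.mem_span_singleton]
  by_cases h0 : v 0 = 0
  · have h1 : v 1 ≠ 0 := fun h1 => hv (by ext i; fin_cases i <;> assumption)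
    refine ⟨w 1 / v 1, ?_⟩
    ext i; fin_cases i <;> simp
    · rw [h0, mul_zero] at hw ⊢
      exact ((mul_eq_zero.mp hw).resolve_right h1).symm
    · field_simp
  · refine ⟨w 0 / v 0, ?_⟩
    ext i; fin_cases i <;> simp
    · field_simp
    · field_simp
      linear_combination hw

open Matrix in
/-- Two square-zero matrices killing the same nonzero vector commute. -/
theorem commute_of_same_ker {N M : M2} (hN : N * N = 0) (hM : M * M = 0) (hN0 : N ≠ 0)
    (hM0 : M ≠ 0) {v : Fin 2 → F} (hv : v ≠ 0) (hNv : N *ᵥ v = 0) (hMv : M *ᵥ v = 0) :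
    N * M = 0 := by
  refine Matrix.ext_iff_mulVec.mpr fun w => ?_
  have : M *ᵥ w ∈ Submodule.span F {v} :=
    mem_span_of_ker hM0 hv hMv (by rw [Matrix.mulVec_mulVec, hM, Matrix.zero_mulVec])
  obtain ⟨c, hc⟩ := Submodule.mem_span_singleton.mp this
  rw [← Matrix.mulVec_mulVec, ← hc, Matrix.mulVec_smul, hNv, smul_zero, Matrix.zero_mulVec]

open Matrix in
/-- The main theorem. -/
theorem not_char_dvd (p : ℕ) [Fact p.Prime] [CharP F p] (hp : p ≠ 2) {H : Type*} [Group H]
    [Finite H] (ρ : H →* GL (Fin 2) F) (hρ : Function.Injective ρ) (hodd : Odd (Nat.card H))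
    (hirr : ∀ v : Fin 2 → F, v ≠ 0 → ∃ g : H, (ρ g : M2) *ᵥ v ∉ Submodule.span F {v}) :
    ¬ p ∣ Nat.card H := by
  classical
  intro hdvd
  have hpp : p.Prime := Fact.out
  have h2 : (2 : F) ≠ 0 := by
    intro h
    have := (CharP.cast_eq_zero_iff F p 2).mp (by exact_mod_cast h)
    exact hp ((Nat.prime_dvd_prime_iff_eq hpp Nat.prime_two).mp this)
  let m : H →* M2 := (Units.coeHom _).comp ρ
  have hm : Function.Injective m := Units.val_injective.comp hρ
  have hmρ : ∀ x, (ρ x : M2) = m x := fun _ => rfl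
  have hcomm : ∀ {x y : H}, Commute (m x) (m y) → Commute x y := by
    intro x y h
    exact hm (by rw [map_mul, map_mul]; exact h)
  -- scalars
  have hScalarSmul : ∀ a : F, Scalar (a • (1 : M2)) := fun a => by simp [Scalar]
  let Z : Subgroup H :=
    { carrier := {x | Scalar (m x)}
      one_mem' := by simp [Scalar]
      mul_mem' := fun {x y} hx hy => by
        show Scalar (m (x * y))
        rw [map_mul, scalar_eq hx, scalar_eq hy, smul_mul_smul_comm, one_mul]
        exact hScalarSmul _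
      inv_mem' := fun {x} hx => by
        show Scalar (m x⁻¹)
        have h1 : m x⁻¹ * m x = 1 := by rw [← map_mul, inv_mul_cancel, map_one]
        rw [scalar_eq hx, mul_smul_comm, mul_one] at h1
        have h0 : m x 0 0 ≠ 0 := fun h0 => by rw [h0, zero_smul] at h1; exact zero_ne_one h1
        rw [show m x⁻¹ = (m x 0 0)⁻¹ • (1 : M2) by rw [← h1, smul_smul, inv_mul_cancel₀ h0, one_smul]]
        exact hScalarSmul _ }
  have hZ : ∀ {x}, x ∈ Z ↔ Scalar (m x) := Iff.rfl
  have hZc : ∀ z ∈ Z, ∀ x : H, Commute z x := by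
    intro z hz x
    apply hcomm
    rw [scalar_eq (hZ.mp hz)]
    exact (Commute.one_left _).smul_left _
  let A : H → Subgroup H := fun g => Subgroup.centralizer ({g} : Set H)
  have hA : ∀ {g x : H}, x ∈ A g ↔ Commute x g := fun {g x} =>
    Subgroup.mem_centralizer_singleton_iff
  have hAZ : ∀ g, Z ≤ A g := fun g z hz => hA.mpr (hZc z hz g)
  have hself : ∀ g, g ∈ A g := fun g => hA.mpr (Commute.refl g)
  have hAc : ∀ {g x y : H}, g ∉ Z → x ∈ A g → y ∈ A g → Commute x y := by
    intro g x y hg hx hy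
    exact hcomm (commute_of_commutant hg ((hA.mp hx).map m) ((hA.mp hy).map m))
  have hAeq : ∀ {g x : H}, g ∉ Z → x ∈ A g → x ∉ Z → A x = A g := by
    intro g x hg hx hxZ
    ext y
    refine ⟨fun hy => hA.mpr ?_, fun hy => hA.mpr (hAc hg hy hx)⟩
    exact hAc hxZ hy (hA.mpr (hA.mp hx).symm)
  have hdiscA : ∀ {g x : H}, g ∉ Z → x ∈ A g → x ∉ Z →
      (disc (m x) = 0 ↔ disc (m g) = 0) := by
    intro g x hg hx hxZ
    obtain ⟨a, b, hab⟩ := commutant hg ((hA.mp hx).map m)
    have hb : b ≠ 0 := by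
      rintro rfl
      apply hxZ
      rw [hZ, hab, zero_smul, add_zero]
      exact hScalarSmul _
    rw [hab, disc_affine]
    simp [hb]
  have hconjm : ∀ h x : H, m (h * x * h⁻¹) = (ρ h : M2) * m x * (↑(ρ h)⁻¹ : M2) := by
    intro h x
    rw [map_mul, map_mul]
    simp only [← hmρ, map_inv]
  have hdconj : ∀ h x : H, disc (m (h * x * h⁻¹)) = disc (m x) := fun h x => by
    rw [hconjm, disc_conj]
  -- semisimple centralizers are self-normalizing
  have hselfN : ∀ {g h : H}, disc (m g) ≠ 0 → h * g * h⁻¹ ∈ A g → h ∈ A g := by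
    intro g h hd hh
    have e : Commute (m (h ^ 2)) (m g) := by
      have := conj_sq h2 (ρ h) (g := m g) hd (by rw [← hconjm]; exact (hA.mp hh).map m)
      rw [← map_pow, hmρ] at this
      exact this
    obtain ⟨k, hk⟩ := hodd
    have hh2 : (h ^ 2) ^ (k + 1) = h := by
      rw [← pow_mul, show 2 * (k + 1) = Nat.card H + 1 by omega, pow_succ, pow_card_eq_one',
        one_mul]
    exact hA.mpr (hh2 ▸ (hcomm e).pow_left (k + 1))
  -- the unipotent element
  obtain ⟨P⟩ : Nonempty (Sylow p H) := inferInstance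
  haveI : Nontrivial ↥(P : Subgroup H) := by
    rw [Subgroup.nontrivial_iff_ne_bot]
    exact P.ne_bot_of_dvd_card hdvd
  haveI := P.2.center_nontrivial
  obtain ⟨z, hz1⟩ := exists_ne (1 : ↥(Subgroup.center ↥(P : Subgroup H)))
  obtain ⟨u₀, hu₀P, hu₀c, hu₀1⟩ : ∃ u : H, u ∈ (P : Subgroup H) ∧
      (∀ y ∈ (P : Subgroup H), Commute y u) ∧ orderOf u = p := by
    obtain ⟨k, hk⟩ := IsPGroup.iff_orderOf.mp P.2 z.1
    have hk0 : k ≠ 0 := by
      rintro rfl
      exact hz1 (Subtype.ext (orderOf_eq_one_iff.mp (by rw [hk, pow_zero])))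
    let w : ↥(P : Subgroup H) := z.1 ^ (orderOf z.1 / p)
    have hw : orderOf w = p :=
      orderOf_pow_orderOf_div (orderOf_pos _).ne' (hk ▸ dvd_pow_self p hk0)
    refine ⟨w, w.2, fun y hy => ?_, by rw [Subgroup.orderOf_coe, hw]⟩
    have := Subgroup.mem_center_iff.mp z.2 ⟨y, hy⟩
    exact ((Commute.pow_right (show Commute (⟨y, hy⟩ : ↥(P : Subgroup H)) z.1 from this) _).map
      (P : Subgroup H).subtype)
  have hord : ∀ {w : H}, orderOf w = p → w ∉ Z ∧ disc (m w) = 0 := by
    intro w hw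
    have hw1 : w ≠ 1 := fun e => hpp.ne_one (by rw [← hw, e, orderOf_one])
    have hNp : (m w - 1) ^ p = 0 := by
      rw [sub_pow_char_of_commute p (Commute.one_right _), one_pow, ← map_pow, ← hw,
        pow_orderOf_eq_one, map_one, sub_self]
    have hN := sq_zero_of_pow_eq_zero hNp
    have hd : disc (m w) = 0 := by
      have e : m w = (1 : F) • 1 + (1 : F) • (m w - 1) := by simp
      rw [e, disc_affine, one_pow, one_mul]
      generalize hNdef : m w - 1 = N at hN
      have e00 := congrFun (congrFun hN 0) 0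
      have e11 := congrFun (congrFun hN 1) 1
      have e01 := congrFun (congrFun hN 0) 1
      have e10 := congrFun (congrFun hN 1) 0
      simp [Matrix.mul_apply] at e00 e11 e01 e10
      rw [disc]
      by_cases hs : N 0 0 + N 1 1 = 0
      · linear_combination 4 * e00 + (N 1 1 - 3 * N 0 0) * hs
      · have h01 : N 0 1 = 0 := (mul_eq_zero.mp (by linear_combination e01 :
          N 0 1 * (N 0 0 + N 1 1) = 0)).resolve_right hs
        rw [h01] at e00 e11 ⊢
        have a0 : N 0 0 = 0 := by simpa using e00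
        have b0 : N 1 1 = 0 := by simpa using e11
        simp [a0, b0]
    refine ⟨fun hs => hw1 ?_, hd⟩
    have hs' := scalar_eq (hZ.mp hs)
    rw [hs', ← smul_one_smul F (m w 0 0) (1 : M2)] at hN
    have : m w 0 0 = 1 := by
      have := congrFun (congrFun hN 0) 0
      simp [Matrix.mul_apply] at this
      exact sub_eq_zero.mp this
    exact hm (by rw [hs', this, one_smul, map_one])
  obtain ⟨hu₀Z, hu₀d⟩ := hord hu₀1
  obtain ⟨Au, hAu⟩ : ∃ Au, Au = A u₀ := ⟨_, rfl⟩
  -- every element of vanishing discriminant is conjugate into `A u₀`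
  have hzero : ∀ x : H, x ∉ Z → disc (m x) = 0 → ∃ h : H, h * x * h⁻¹ ∈ Au := by
    intro x hx hd
    have hpx : p ∣ orderOf x := by
      rw [← orderOf_injective ρ hρ x]
      exact char_dvd_orderOf p h2 (ρ x) hx hd (ρ.isOfFinOrder (isOfFinOrder_of_finite x))
    set w := x ^ (orderOf x / p) with hwd
    have hw : orderOf w = p := orderOf_pow_orderOf_div (orderOf_pos _).ne' hpx
    obtain ⟨hwZ, -⟩ := hord hw
    have hwP : IsPGroup p ↥(Subgroup.zpowers w) :=
      IsPGroup.of_card (n := 1) (by rw [Nat.card_zpowers, hw, pow_one])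
    obtain ⟨Q, hQ⟩ := hwP.exists_le_sylow
    obtain ⟨h, hh⟩ := MulAction.exists_smul_eq H Q P
    refine ⟨h, ?_⟩
    have hwh : h * w * h⁻¹ ∈ (P : Subgroup H) := by
      rw [← hh, Sylow.coe_subgroup_smul]
      exact Subgroup.mem_map_of_mem _ (hQ (Subgroup.mem_zpowers w))
    have hwA : h * w * h⁻¹ ∈ A u₀ := hA.mpr (hu₀c _ hwh)
    have hwhZ : h * w * h⁻¹ ∉ Z := (hord (by
      rw [show h * w * h⁻¹ = MulAut.conj h w from rfl, MulEquiv.orderOf_eq, hw])).1
    rw [hAu, ← hAeq hu₀Z hwA hwhZ]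
    refine hA.mpr ?_
    exact ((Commute.refl x).pow_right _).map (MulAut.conj h).toMonoidHom
  -- the invariant line of `u₀`
  obtain ⟨N, hNdef⟩ : ∃ N, N = m u₀ - 1 := ⟨_, rfl⟩
  have hN : N * N = 0 := hNdef ▸ sq_zero_of_pow_eq_zero (n := p) (by
    rw [sub_pow_char_of_commute p (Commute.one_right _), one_pow, ← map_pow, ← hu₀1,
      pow_orderOf_eq_one, map_one, sub_self])
  have hN0 : N ≠ 0 := fun e => hu₀Z (by
    rw [hZ, show m u₀ = (1 : M2) from sub_eq_zero.mp (hNdef ▸ e)]; simp [Scalar])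
  obtain ⟨v, hv, hNv⟩ : ∃ v : Fin 2 → F, v ≠ 0 ∧ N *ᵥ v = 0 := by
    obtain ⟨w, hw⟩ : ∃ w, N *ᵥ w ≠ 0 := by
      by_contra hall
      push Not at hall
      exact hN0 (Matrix.ext_iff_mulVec.mpr fun w => by rw [hall w, Matrix.zero_mulVec])
    exact ⟨N *ᵥ w, hw, by rw [Matrix.mulVec_mulVec, hN, Matrix.zero_mulVec]⟩
  let B : Subgroup H :=
    { carrier := {h | m h *ᵥ v ∈ Submodule.span F {v}}
      one_mem' := by
        show m 1 *ᵥ v ∈ Submodule.span F {v}
        rw [map_one, Matrix.one_mulVec]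
        exact Submodule.mem_span_singleton_self v
      mul_mem' := fun {x y} hx hy => by
        obtain ⟨a, ha⟩ := Submodule.mem_span_singleton.mp hx
        obtain ⟨b, hb⟩ := Submodule.mem_span_singleton.mp hy
        show m (x * y) *ᵥ v ∈ Submodule.span F {v}
        rw [map_mul, ← Matrix.mulVec_mulVec, ← hb, Matrix.mulVec_smul, ← ha, smul_smul]
        exact Submodule.smul_mem _ _ (Submodule.mem_span_singleton_self v)
      inv_mem' := fun {x} hx => by
        obtain ⟨a, ha⟩ := Submodule.mem_span_singleton.mp hx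
        show m x⁻¹ *ᵥ v ∈ Submodule.span F {v}
        have h1 : m x⁻¹ *ᵥ (m x *ᵥ v) = v := by
          rw [Matrix.mulVec_mulVec, ← map_mul, inv_mul_cancel, map_one, Matrix.one_mulVec]
        rw [← ha, Matrix.mulVec_smul] at h1
        have ha0 : a ≠ 0 := fun e => hv (by rw [e, zero_smul] at h1; exact h1.symm)
        exact Submodule.mem_span_singleton.mpr ⟨a⁻¹, (inv_smul_eq_iff₀ ha0).mpr h1.symm⟩ }
  have hB : ∀ {h}, h ∈ B ↔ m h *ᵥ v ∈ Submodule.span F {v} := Iff.rfl
  have hAuB : Au ≤ B := by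
    intro x hx
    rw [hAu] at hx
    refine hB.mpr (mem_span_of_ker hN0 hv hNv ?_)
    have hc : N * m x = m x * N := by
      rw [hNdef, sub_mul, mul_sub, one_mul, mul_one, ((hA.mp hx).map m).eq]
    rw [Matrix.mulVec_mulVec, hc, ← Matrix.mulVec_mulVec, hNv, Matrix.mulVec_zero]
  have hBN : ∀ h ∈ B, h * u₀ * h⁻¹ ∈ Au := by
    intro h hh
    rw [hAu]
    refine hA.mpr (hcomm ?_)
    obtain ⟨a, ha⟩ := Submodule.mem_span_singleton.mp (B.inv_mem hh)
    have hM : m (h * u₀ * h⁻¹) - 1 = m h * N * m h⁻¹ := by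
      rw [hNdef, mul_sub, sub_mul, mul_one, map_mul, map_mul, ← map_mul m h h⁻¹, mul_inv_cancel,
        map_one]
    have hh1 : m h⁻¹ * m h = 1 := by rw [← map_mul, inv_mul_cancel, map_one]
    have hM2 : (m h * N * m h⁻¹) * (m h * N * m h⁻¹) = 0 := by
      rw [show m h * N * m h⁻¹ * (m h * N * m h⁻¹) = m h * N * (m h⁻¹ * m h) * N * m h⁻¹ by
        simp [mul_assoc], hh1, mul_one, mul_assoc (m h) N N, hN, mul_zero, zero_mul]
    have hM0 : m h * N * m h⁻¹ ≠ 0 := fun e => by
      have : m h⁻¹ * (m h * N * m h⁻¹) * m h = 0 := by rw [e, mul_zero, zero_mul]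
      rw [← mul_assoc, ← mul_assoc, hh1, one_mul, mul_assoc, hh1, mul_one] at this
      exact hN0 this
    have hMv : (m h * N * m h⁻¹) *ᵥ v = 0 := by
      rw [← Matrix.mulVec_mulVec, ← ha, Matrix.mulVec_smul, ← Matrix.mulVec_mulVec, hNv,
        Matrix.mulVec_zero, smul_zero]
    have c1 := commute_of_same_ker hN hM2 hN0 hM0 hv hNv hMv
    have c2 := commute_of_same_ker hM2 hN hM0 hN0 hv hMv hNv
    have hc : Commute (m (h * u₀ * h⁻¹) - 1) (m u₀ - 1) := by
      rw [hM, ← hNdef]; exact c2.trans c1.symm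
    have := (hc.add_left (Commute.one_left _)).add_right (Commute.one_right _)
    rwa [sub_add_cancel, sub_add_cancel] at this
  have hBzero : ∀ x ∈ B, x ∉ Z → disc (m x) = 0 → x ∈ Au := by
    intro x hx hxZ hd
    obtain ⟨c, hc⟩ := nil_part h2 hd
    have hM0 : m x - c • 1 ≠ 0 := fun e => hxZ (by
      rw [hZ, sub_eq_zero.mp e]; exact hScalarSmul _)
    obtain ⟨a, ha⟩ := Submodule.mem_span_singleton.mp (hB.mp hx)
    have hMv : (m x - c • 1) *ᵥ v = 0 := by
      have e1 : (m x - c • 1) *ᵥ v = (a - c) • v := by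
        rw [Matrix.sub_mulVec, ← ha, Matrix.smul_mulVec, Matrix.one_mulVec, sub_smul]
      have e2 : (a - c) • ((a - c) • v) = 0 := by
        rw [← e1, ← Matrix.mulVec_smul, ← e1, Matrix.mulVec_mulVec, hc, Matrix.zero_mulVec]
      rw [smul_smul, smul_eq_zero, mul_self_eq_zero] at e2
      rw [e1, e2.resolve_right hv, zero_smul]
    have c1 := commute_of_same_ker hN hc hN0 hM0 hv hNv hMv
    have c2 := commute_of_same_ker hc hN hM0 hN0 hv hMv hNv
    have hcc : Commute (m x - c • 1) (m u₀ - 1) := by rw [← hNdef]; exact c2.trans c1.symm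
    have := (hcc.add_left ((Commute.one_left _).smul_left c)).add_right (Commute.one_right _)
    rw [sub_add_cancel, sub_add_cancel] at this
    rw [hAu]
    exact hA.mpr (hcomm this)
  have hBne : B ≠ ⊤ := by
    intro e
    obtain ⟨g, hg⟩ := hirr v hv
    exact hg (hB.mp (e ▸ Subgroup.mem_top g))
  -- TI facts
  have hAuconj : ∀ {h t : H}, t ∈ Au → t ∉ Z → h * t * h⁻¹ ∈ Au → h ∈ B := by
    intro h t ht htZ hh
    rw [hAu] at ht hh
    have hc : Commute t u₀ := hA.mp ht
    have hhZ : h * t * h⁻¹ ∉ Z := fun hz => htZ (by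
      have := hZc _ hz h
      have e : h * t * h⁻¹ = t := by
        have : h * t * h⁻¹ * h = h * (h * t * h⁻¹) := this
        rw [inv_mul_cancel_right] at this
        exact (mul_left_cancel this).symm
      rwa [e] at hz)
    have hu : h * u₀ * h⁻¹ ∈ A u₀ := by
      rw [← hAeq hu₀Z hh hhZ]
      exact hA.mpr (hc.symm.map (MulAut.conj h).toMonoidHom)
    have hcu := (hA.mp hu).map m
    have hk : N *ᵥ ((m h) *ᵥ v) = 0 := by
      obtain ⟨a, b, hab⟩ := commutant hu₀Z hcu
      -- `m (h u₀ h⁻¹) - 1` is a multiple of `N`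
      have hMN : m (h * u₀ * h⁻¹) - 1 = (a + b - 1) • 1 + b • N := by
        rw [hab, hNdef, smul_sub, sub_smul, add_smul, one_smul]; abel
      have hpow : (h * u₀ * h⁻¹) ^ p = 1 := by
        rw [conj_pow, ← hu₀1, pow_orderOf_eq_one, mul_one, mul_inv_cancel]
      have hM2 := sq_zero_of_pow_eq_zero (n := p)
        (show (m (h * u₀ * h⁻¹) - 1) ^ p = 0 by
          rw [sub_pow_char_of_commute p (Commute.one_right _), one_pow, ← map_pow, hpow, map_one,
            sub_self])
      have hMv : (m (h * u₀ * h⁻¹) - 1) *ᵥ v = (a + b - 1) • v := by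
        rw [hMN, Matrix.add_mulVec, Matrix.smul_mulVec, Matrix.smul_mulVec, Matrix.one_mulVec,
          hNv, smul_zero, add_zero]
      have he : a + b - 1 = 0 := by
        have := congrArg (· *ᵥ v) hM2
        simp only [← Matrix.mulVec_mulVec, hMv, Matrix.mulVec_smul, Matrix.zero_mulVec,
          smul_smul] at this
        exact mul_self_eq_zero.mp ((smul_eq_zero.mp this).resolve_right hv)
      rw [he, zero_smul, zero_add] at hMN
      have hMN0 : (m (h * u₀ * h⁻¹) - 1) * m h = m h * N := by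
        rw [hNdef, sub_mul, mul_sub, one_mul, mul_one, ← map_mul, ← map_mul, inv_mul_cancel_right]
      have hb0 : b ≠ 0 := by
        rintro rfl
        rw [zero_smul] at hMN
        rw [hMN, zero_mul] at hMN0
        have := congrArg (m h⁻¹ * ·) hMN0
        simp only [mul_zero, ← mul_assoc] at this
        rw [← map_mul, inv_mul_cancel, map_one, one_mul] at this
        exact hN0 this.symm
      have h3 : b • (N *ᵥ (m h *ᵥ v)) = 0 := by
        rw [Matrix.mulVec_mulVec, ← Matrix.smul_mulVec, ← smul_mul_assoc, ← hMN, hMN0,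
          ← Matrix.mulVec_mulVec, hNv, Matrix.mulVec_zero]
      exact (smul_eq_zero.mp h3).resolve_left hb0
    exact hB.mpr (mem_span_of_ker hN0 hv hNv hk)
  -- counting
  set zc := Nat.card Z with hzc
  set n := Nat.card H with hn
  have hZle : Z ≤ Au := hAu ▸ hAZ u₀
  have hZncard : ∀ {L : Subgroup H}, Z ≤ L →
      ((L : Set H) \ (Z : Set H)).ncard + zc = Nat.card L := by
    intro L hL
    rw [hzc, ← Nat.card_coe_set_eq, ← SetLike.coe_sort_coe Z, Nat.card_coe_set_eq,
      Nat.card_coe_set_eq, Set.ncard_sdiff_add_ncard_of_subset hL, ← Nat.card_coe_set_eq]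
    rfl
  have hnormT : ∀ {L L' : Subgroup H}, (∀ l ∈ L', ∀ t ∈ L, l * t * l⁻¹ ∈ L) →
      ∀ l ∈ L', ∀ t ∈ (L : Set H) \ Z, l * t * l⁻¹ ∈ (L : Set H) \ Z := by
    intro L L' h l hl t ht
    refine ⟨h l hl t ht.1, fun hz => ht.2 ?_⟩
    have := hZc _ hz l
    have e : l * t * l⁻¹ = t := by
      have : l * t * l⁻¹ * l = l * (l * t * l⁻¹) := this
      rw [inv_mul_cancel_right] at this
      exact (mul_left_cancel this).symm
    rwa [e] at hz
  set SA := {y : H | ∃ x ∈ (⊤ : Subgroup H), ∃ t ∈ (Au : Set H) \ Z, x * t * x⁻¹ = y}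
  have hAunorm : ∀ l ∈ B, ∀ t ∈ Au, l * t * l⁻¹ ∈ Au := by
    intro l hl t ht
    have h1 := hBN l hl
    rw [hAu] at ht h1 ⊢
    have h1Z : l * u₀ * l⁻¹ ∉ Z := (hord (by
      rw [show l * u₀ * l⁻¹ = MulAut.conj l u₀ from rfl, MulEquiv.orderOf_eq, hu₀1])).1
    rw [← hAeq hu₀Z h1 h1Z]
    exact hA.mpr ((hA.mp ht).map (MulAut.conj l).toMonoidHom)
  have cA : SA.ncard * Nat.card B + n * zc = n * Nat.card Au := by
    rw [ti_count le_top (hnormT hAunorm)
      (fun x _ t ht h' => hAuconj ht.1 ht.2 h'.1), Subgroup.card_top, ← mul_add, hZncard hZle]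
  -- semisimple classes
  let SC : Subgroup H → H → Set H := fun K g =>
    {y : H | ∃ x ∈ K, ∃ t ∈ (A g : Set H) \ Z, x * t * x⁻¹ = y}
  have hTI : ∀ {g : H}, disc (m g) ≠ 0 → ∀ x t : H, t ∈ (A g : Set H) \ Z →
      x * t * x⁻¹ ∈ (A g : Set H) \ Z → x ∈ A g := by
    intro g hd x t ht ht'
    have hgZ : g ∉ Z := fun h => hd (by
      obtain ⟨q, w, e⟩ := hZ.mp h
      simp [disc, q, e])
    have he := hAeq hgZ ht.1 ht.2
    have hdt : disc (m t) ≠ 0 := fun h => hd ((hdiscA hgZ ht.1 ht.2).mp h)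
    have := hselfN hdt (by rw [he]; exact ht'.1)
    rwa [he] at this
  have cC : ∀ {K : Subgroup H} {g : H}, disc (m g) ≠ 0 → A g ≤ K →
      (SC K g).ncard * Nat.card (A g) + Nat.card K * zc = Nat.card K * Nat.card (A g) := by
    intro K g hd hgK
    rw [ti_count hgK (hnormT fun l hl t ht => mul_mem (mul_mem hl ht) (inv_mem hl))
      (fun x _ t ht ht' => hTI hd x t ht ht'), ← mul_add, hZncard (hAZ g)]
  have hgZ' : ∀ {g : H}, disc (m g) ≠ 0 → g ∉ Z := fun {g} hd h => hd (by
    obtain ⟨q, w, e⟩ := hZ.mp h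
    simp [disc, q, e])
  have h3 : ∀ {g : H}, g ∉ Z → 3 * zc ≤ Nat.card (A g) := by
    intro g hg
    obtain ⟨k, hk⟩ := Subgroup.card_dvd_of_le (hAZ g)
    have hkodd : Odd k := by
      have : Odd (Nat.card (A g)) := hodd.of_dvd_nat (Subgroup.card_subgroup_dvd_card _)
      rw [hk] at this
      exact (Nat.odd_mul.mp this).2
    have hk1 : k ≠ 1 := fun e => hg (by
      have := Subgroup.eq_of_le_of_card_ge (hAZ g) (by rw [hk, e, mul_one])
      rw [this]; exact hself g)
    rw [hk, mul_comm]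
    refine Nat.mul_le_mul_left _ ?_
    obtain ⟨j, rfl⟩ := hkodd
    omega
  have hbig : ∀ {K : Subgroup H} {g : H}, disc (m g) ≠ 0 → A g ≤ K →
      2 * Nat.card K ≤ 3 * (SC K g).ncard := by
    intro K g hd hgK
    have e := cC hd hgK
    have := Nat.mul_le_mul_left (Nat.card K) (h3 (hgZ' hd))
    refine Nat.le_of_mul_le_mul_right ?_ (Nat.card_pos (α := A g))
    nlinarith [e, this]
  have hSCmem : ∀ {K : Subgroup H} {g : H}, disc (m g) ≠ 0 → ∀ y ∈ SC K g,
      y ∉ Z ∧ disc (m y) ≠ 0 := by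
    rintro K g hd y ⟨x, hx, t, ht, rfl⟩
    have hd' : disc (m t) ≠ 0 := fun h => hd ((hdiscA (hgZ' hd) ht.1 ht.2).mp h)
    rw [← hdconj x t] at hd'
    exact ⟨hgZ' hd', hd'⟩
  have huniq : ∀ {K : Subgroup H} {g g' : H}, disc (m g) ≠ 0 → disc (m g') ≠ 0 → A g ≤ K →
      A g' ≤ K → g' ∈ K → g' ∈ SC K g := by
    intro K g g' hd hd' hg hg' hg'K
    by_contra hne
    have hdisj : Disjoint (SC K g) (SC K g') := by
      rw [Set.disjoint_left]
      rintro y ⟨x, hx, t, ht, rfl⟩ ⟨x', hx', t', ht', e⟩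
      apply hne
      have e1 : x'⁻¹ * x * t * (x'⁻¹ * x)⁻¹ = t' := by
        calc x'⁻¹ * x * t * (x'⁻¹ * x)⁻¹ = x'⁻¹ * (x * t * x⁻¹) * x' := by group
          _ = t' := by rw [← e]; group
      have eA : A t' = A g' := hAeq (hgZ' hd') ht'.1 ht'.2
      have et : A t = A g := hAeq (hgZ' hd) ht.1 ht.2
      have hg'' : (x'⁻¹ * x)⁻¹ * g' * (x'⁻¹ * x) ∈ A t := by
        have hc : Commute g' t' := hA.mp (by rw [eA]; exact hself g')
        rw [← e1] at hc
        refine hA.mpr ?_
        have := hc.map (MulAut.conj (x'⁻¹ * x)⁻¹).toMonoidHom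
        simpa [mul_assoc] using this
      rw [et] at hg''
      refine ⟨x'⁻¹ * x, mul_mem (inv_mem hx') hx, _, ⟨hg'', fun hz => hgZ' hd' ?_⟩, by group⟩
      have hk := hZc _ hz (x'⁻¹ * x)⁻¹
      have : g' = (x'⁻¹ * x)⁻¹ * g' * (x'⁻¹ * x) := by
        have := hk.eq
        group at this ⊢
        exact mul_left_cancel (a := 1) (by simpa [mul_assoc] using this)
      exact this ▸ hz
    have hsub : SC K g ∪ SC K g' ⊆ (K : Set H) := by
      rintro y (⟨x, hx, t, ht, rfl⟩ | ⟨x, hx, t, ht, rfl⟩)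
      · exact mul_mem (mul_mem hx (hg ht.1)) (inv_mem hx)
      · exact mul_mem (mul_mem hx (hg' ht.1)) (inv_mem hx)
    have := Set.ncard_le_ncard hsub
    rw [Set.ncard_union_eq hdisj] at this
    have hK : (K : Set H).ncard = Nat.card K := (Nat.card_coe_set_eq _).symm
    have := hbig hd hg
    have := hbig hd' hg'
    have := Nat.card_pos (α := K)
    omega
  have hSAzero : ∀ y ∈ SA, y ∉ Z ∧ disc (m y) = 0 := by
    rintro y ⟨x, -, t, ht, rfl⟩
    refine ⟨(hnormT (L := ⊤) (L' := ⊤) (fun _ _ _ _ => Subgroup.mem_top _) x (Subgroup.mem_top x) t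
      ⟨Subgroup.mem_top t, ht.2⟩).2, ?_⟩
    rw [hdconj]
    exact (hdiscA hu₀Z (hAu ▸ ht.1) ht.2).mpr hu₀d
  have hSAcov : ∀ x : H, x ∉ Z → disc (m x) = 0 → x ∈ SA := by
    intro x hx hd
    obtain ⟨h, hh⟩ := hzero x hx hd
    refine ⟨h⁻¹, Subgroup.mem_top _, h * x * h⁻¹, ⟨hh, ?_⟩, by group⟩
    exact (hnormT (L := ⊤) (L' := ⊤) (fun _ _ _ _ => Subgroup.mem_top _) h (Subgroup.mem_top h) x
      ⟨Subgroup.mem_top x, hx⟩).2
  have hZS : (Z : Set H).ncard = zc := (Nat.card_coe_set_eq _).symm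
  have hcardB : Nat.card B ≠ n := fun e => hBne (Subgroup.eq_top_of_card_eq B e)
  apply hcardB
  by_cases hex : ∃ g ∈ B, g ∉ Au
  · obtain ⟨g, hgB, hgA⟩ := hex
    have hgZ : g ∉ Z := fun h => hgA (hZle h)
    have hd : disc (m g) ≠ 0 := fun h => hgA (hBzero g hgB hgZ h)
    have hAB : ∀ {g' : H}, g' ∈ B → disc (m g') ≠ 0 → A g' ≤ B := by
      intro g' hg' hd' x hx
      obtain ⟨a, b, hab⟩ := commutant (hgZ' hd') ((hA.mp hx).map m)
      rw [hB, hab, Matrix.add_mulVec, Matrix.smul_mulVec, Matrix.smul_mulVec, Matrix.one_mulVec]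
      exact Submodule.add_mem _ (Submodule.smul_mem _ _ (Submodule.mem_span_singleton_self v))
        (Submodule.smul_mem _ _ (hB.mp hg'))
    have e1 : (Au : Set H) ∪ SC B g = (B : Set H) := by
      apply Set.Subset.antisymm
      · rintro y (hy | ⟨x, hx, t, ht, rfl⟩)
        · exact hAuB hy
        · exact mul_mem (mul_mem hx (hAB hgB hd ht.1)) (inv_mem hx)
      · intro y hy
        by_cases hyA : y ∈ Au
        · exact Or.inl hyA
        · have hdy : disc (m y) ≠ 0 := fun h => hyA (hBzero y hy (fun h' => hyA (hZle h')) h)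
          exact Or.inr (huniq hd hdy (hAB hgB hd) (hAB hy hdy) hy)
    have d1 : Disjoint (Au : Set H) (SC B g) := by
      rw [Set.disjoint_left]
      intro y hy hy'
      obtain ⟨hyZ, hyd⟩ := hSCmem hd y hy'
      exact hyd ((hdiscA hu₀Z (hAu ▸ hy) hyZ).mpr hu₀d)
    have k1 : Nat.card Au + (SC B g).ncard = Nat.card B := by
      have := congrArg Set.ncard e1
      rw [Set.ncard_union_eq d1, ← Nat.card_coe_set_eq, ← Nat.card_coe_set_eq (B : Set H)] at this
      exact this
    have e2 : ((Z : Set H) ∪ SC ⊤ g) ∪ SA = Set.univ := by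
      apply Set.eq_univ_of_forall
      intro y
      by_cases hy : y ∈ Z
      · exact Or.inl (Or.inl hy)
      by_cases hdy : disc (m y) = 0
      · exact Or.inr (hSAcov y hy hdy)
      · exact Or.inl (Or.inr (huniq hd hdy le_top le_top (Subgroup.mem_top y)))
    have d2 : Disjoint (Z : Set H) (SC ⊤ g) := by
      rw [Set.disjoint_left]; exact fun y hy hy' => (hSCmem hd y hy').1 hy
    have d3 : Disjoint ((Z : Set H) ∪ SC ⊤ g) SA := by
      rw [Set.disjoint_left]
      rintro y (hy | hy) hy'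
      · exact (hSAzero y hy').1 hy
      · exact (hSCmem hd y hy).2 (hSAzero y hy').2
    have k2 : zc + (SC ⊤ g).ncard + SA.ncard = n := by
      have := congrArg Set.ncard e2
      rw [Set.ncard_union_eq d3, Set.ncard_union_eq d2, hZS, Set.ncard_univ] at this
      exact this
    have k3 := cC (K := ⊤) hd le_top
    have k4 := cC (K := B) hd (hAB hgB hd)
    rw [Subgroup.card_top, ← hn] at k3
    have hzpos : 0 < zc := Nat.card_pos
    have hcpos : 0 < Nat.card (A g) := Nat.card_pos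
    have k5 : Nat.card Au * Nat.card (A g) = Nat.card B * zc := by nlinarith [k1, k4]
    have k6 : zc * Nat.card (A g) * n = zc * Nat.card (A g) * Nat.card B := by
      zify at k1 k2 k3 cA k5 ⊢
      linear_combination (n : ℤ) * k5 + (0 : ℤ) * k1 - (Nat.card B : ℤ) * (Nat.card (A g) : ℤ) * k2 + (Nat.card B : ℤ) * k3 + (Nat.card (A g) : ℤ) * cA
    exact (Nat.eq_of_mul_eq_mul_left (by positivity) k6).symm
  · push Not at hex
    have hBA : B = Au := le_antisymm hex hAuB
    rw [hBA] at cA ⊢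
    by_cases hd : ∃ g, disc (m g) ≠ 0 ∧ g ∉ Z
    · obtain ⟨g, hd, hgZ⟩ := hd
      exfalso
      have := hbig (K := ⊤) hd le_top
      rw [Subgroup.card_top, ← hn] at this
      have h3A : 3 * zc ≤ Nat.card Au := hAu ▸ h3 hu₀Z
      have hA2 : 2 * n ≤ 3 * SA.ncard := by
        refine Nat.le_of_mul_le_mul_right ?_ (Nat.card_pos (α := Au))
        nlinarith [cA, Nat.mul_le_mul_left n h3A]
      have hdis : Disjoint (SC ⊤ g) SA := by
        rw [Set.disjoint_left]
        exact fun y hy hy' => (hSCmem hd y hy).2 (hSAzero y hy').2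
      have := Set.ncard_le_ncard (Set.subset_univ (SC ⊤ g ∪ SA))
      rw [Set.ncard_union_eq hdis, Set.ncard_univ, ← hn] at this
      have : 0 < n := Nat.card_pos
      omega
    · push Not at hd
      have e2 : (Z : Set H) ∪ SA = Set.univ := by
        apply Set.eq_univ_of_forall
        intro y
        by_cases hy : y ∈ Z
        · exact Or.inl hy
        · exact Or.inr (hSAcov y hy (by_contra fun h => hy (hd y h)))
      have d2 : Disjoint (Z : Set H) SA := by
        rw [Set.disjoint_left]; exact fun y hy hy' => (hSAzero y hy').1 hy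
      have k2 : zc + SA.ncard = n := by
        have := congrArg Set.ncard e2
        rw [Set.ncard_union_eq d2, hZS, Set.ncard_univ] at this
        exact this
      have k6 : zc * Nat.card Au = zc * n := by nlinarith [k2, cA]
      exact Nat.eq_of_mul_eq_mul_left Nat.card_pos k6

end Cfsg.Lib.Local.GLTwoOdd
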