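import Cfsg.Agent.Lib.Local.GlaubermanElementary
import Cfsg.Agent.Lib.PGroup.OddOmega
import Cfsg.Agent.Lib.Thompson.Omega
import Cfsg.Agent.Lib.Fusion.Basic

/-!
# The whole centre of the elementary abelian Thompson subgroup

If `G = P C_G(Ω₁(Z(J(P))))` and the hypotheses of the `ZJ`-theorem hold, `Z(J(P))` is normal.
-/

set_option autoImplicit false
set_option linter.style.haveILetI false

universe u

namespace Cfsg.Lib.Local.GlaubermanZJ

open Subgroup Cfsg
open scoped commutatorElement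

variable {G : Type u} [Group G]

theorem mul_pow_of_commutator {x y c : G} (hcx : Commute c x) (hcy : Commute c y)
    (h : y * x = c * (x * y)) : ∀ n : ℕ, (x * y) ^ n = c ^ n.choose 2 * (x ^ n * y ^ n) := by
  have hyx : ∀ k : ℕ, y * x ^ k = c ^ k * (x ^ k * y) := by
    intro k
    induction k with
    | zero => simp
    | succ k ih =>
      calc y * x ^ (k + 1) = y * x * x ^ k := by rw [pow_succ', ← mul_assoc]
        _ = c * (x * (y * x ^ k)) := by rw [h]; simp only [mul_assoc]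
        _ = c * (x * c ^ k * (x ^ k * y)) := by rw [ih]; simp only [mul_assoc]
        _ = c ^ (k + 1) * (x ^ (k + 1) * y) := by
          rw [← (hcx.pow_left k).eq, pow_succ', pow_succ']; simp only [mul_assoc]
  intro n
  induction n with
  | zero => simp
  | succ k ih =>
    have e : (k + 1).choose 2 = k.choose 2 + k := by
      rw [Nat.choose_succ_succ', Nat.choose_one_right, add_comm]
    have h1 : Commute (c ^ k.choose 2) (x * y) := (hcx.mul_right hcy).pow_left _
    calc (x * y) ^ (k + 1) = x * y * (c ^ k.choose 2 * (x ^ k * y ^ k)) := by rw [pow_succ', ih]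
      _ = c ^ k.choose 2 * (x * (y * x ^ k) * y ^ k) := by
        rw [← mul_assoc, ← h1.eq]; simp only [mul_assoc]
      _ = c ^ k.choose 2 * (x * c ^ k * (x ^ k * y) * y ^ k) := by rw [hyx]; simp only [mul_assoc]
      _ = c ^ (k + 1).choose 2 * (x ^ (k + 1) * y ^ (k + 1)) := by
        rw [← (hcx.pow_left k).eq, e, pow_add, pow_succ' x, pow_succ' y]; simp only [mul_assoc]

variable [Finite G] {p : ℕ} [hp : Fact p.Prime]

theorem omegaZ_pow_eq_one {Q : Subgroup G} {x : G} (hx : x ∈ omegaZ p Q) :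
    x ∈ centerThompsonOf p Q ∧ x ^ p = 1 := by
  refine ⟨omegaZ_le Q hx, ?_⟩
  induction hx using closure_induction with
  | mem x hx => exact hx.2
  | one => simp
  | mul x y hx hy hxp hyp =>
    have hc : Commute x y :=
      (mem_centralizer_iff.1 (omegaZ_le Q hy).2 x (omegaZ_le Q hx).1)
    rw [hc.mul_pow, hxp, hyp, one_mul]
  | inv x _ hx => rw [inv_pow, hx, inv_one]

/-- `Z(J(P))` is normal when moreover `G = P C_G(Ω₁(Z(J(P))))`. -/
theorem centerThompson_normal (h2 : p ≠ 2) (hc : centralizer (pCore p G : Set G) ≤ pCore p G)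
    (hst : ∀ (V : Subgroup G) [V.Normal], IsPGroup p V → IsPStableOn p V) (P : Sylow p G)
    (hgen : (P : Subgroup G) ⊔ centralizer (omegaZ p (P : Subgroup G) : Set G) = ⊤) :
    (centerThompsonOf p (P : Subgroup G)).Normal := by
  set Z := centerThompsonOf p (P : Subgroup G) with hZ
  set Ω := omegaZ p (P : Subgroup G) with hΩ
  haveI hΩn : Ω.Normal := omegaZ_normal h2 hc hst P
  have hZP : Z ≤ (P : Subgroup G) := inf_le_left.trans (map_subtype_le _)
  have hZc : ∀ {x y : G}, x ∈ Z → y ∈ Z → Commute x y := fun hx hy =>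
    mem_centralizer_iff.1 hy.2 _ hx.1
  have hZab : IsMulCommutative Z :=
    ⟨⟨fun x y => Subtype.ext (hZc x.2 y.2)⟩⟩
  have hNJ : ∀ g ∈ normalizer (thompsonSubgroupOf p (P : Subgroup G) : Set G),
      g ∈ normalizer (Z : Set G) := fun g hg =>
    Thompson.normalizer_le_normalizer_zenter (thompsonSubgroupOf p (P : Subgroup G)) hg
  have hPJ : (P : Subgroup G) ≤ normalizer (thompsonSubgroupOf p (P : Subgroup G) : Set G) :=
    le_normalizer.trans (Thompson.normalizer_le_normalizer_thompsonSubgroupOf _)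
  have hPZ : (P : Subgroup G) ≤ normalizer (Z : Set G) := fun g hg => hNJ g (hPJ hg)
  have hO : IsPGroup p (pCore p G) := Cfsg.Lib.Core.pCore_isPGroup p G
  have hOP : pCore p G ≤ (P : Subgroup G) := le_sylow_of_normal hO P
  have hZO : Z ≤ pCore p G := le_pCore_of_abelian_normalized hc hst P hZab hPZ
  -- the `p'`-elements centralize `Ω`
  set E := pResidual p G with hE
  have hEC : E ≤ centralizer (Ω : Set G) := by
    refine Fusion.pResidual_le_of_isPGroup_quotient _ ?_
    refine (P.isPGroup'.map (QuotientGroup.mk' (centralizer (Ω : Set G)))).of_surjective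
      (Subgroup.subtype ((P : Subgroup G).map (QuotientGroup.mk' (centralizer (Ω : Set G)))))
      fun y => ⟨⟨y, ?_⟩, rfl⟩
    obtain ⟨g, rfl⟩ := QuotientGroup.mk'_surjective (centralizer (Ω : Set G)) y
    obtain ⟨x, hx, c, hcc, rfl⟩ := mem_sup_of_normal_right.1 (hgen.symm ▸ mem_top g)
    refine ⟨x, hx, ?_⟩
    rw [map_mul, show QuotientGroup.mk' (centralizer (Ω : Set G)) c = 1 from
      (QuotientGroup.eq_one_iff c).2 hcc, mul_one]
  have hPE : ∀ g : G, ∃ e ∈ E, ∃ x ∈ (P : Subgroup G), g = e * x := fun g => by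
    obtain ⟨e, he, x, hx, hex⟩ := mem_sup_of_normal_left.1
      (show g ∈ E ⊔ (P : Subgroup G) from by rw [sup_comm, Fusion.sylow_sup_pResidual]; exact mem_top g)
    exact ⟨e, he, x, hx, hex.symm⟩
  -- the filtration of `Z` by exponents
  let Zk : ℕ → Subgroup G := fun k =>
    { carrier := {z | z ∈ Z ∧ z ^ p ^ k = 1}
      one_mem' := ⟨one_mem Z, one_pow _⟩
      mul_mem' := fun {a b} ha hb => ⟨mul_mem ha.1 hb.1, by
        rw [(hZc ha.1 hb.1).mul_pow, ha.2, hb.2, one_mul]⟩
      inv_mem' := fun {a} ha => ⟨inv_mem ha.1, by rw [inv_pow, ha.2, inv_one]⟩ }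
  have hmem : ∀ {k z}, z ∈ Zk k ↔ z ∈ Z ∧ z ^ p ^ k = 1 := Iff.rfl
  have hNk : ∀ {k g}, g ∈ normalizer (Z : Set G) → g ∈ normalizer (Zk k : Set G) := fun {k g} hg =>
    mem_normalizer_fintype fun z hz =>
      ⟨(mem_normalizer_iff.1 hg z).1 hz.1, by rw [conj_pow, hz.2, mul_one, mul_inv_cancel]⟩
  suffices hall : ∀ k, (Zk k).Normal by
    obtain ⟨j, hj⟩ := (P.isPGroup'.to_le hZP).exists_card_eq
    have he : Zk j = Z := le_antisymm (fun z hz => hz.1) fun z hz => ⟨hz, by
      rw [← hj]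
      exact congrArg Subtype.val (pow_card_eq_one' (x := (⟨z, hz⟩ : Z)))⟩
    rw [← he]
    exact hall j
  intro k
  induction k with
  | zero =>
    have : Zk 0 = ⊥ := (eq_bot_iff_forall _).2 fun z hz => by simpa using hz.2
    rw [this]
    infer_instance
  | succ k ih =>
  rcases Nat.eq_zero_or_pos k with hk0 | hk0
  · have : Zk (k + 1) = Ω := by
      subst hk0
      refine le_antisymm (fun z hz => ?_) fun z hz => ?_
      · exact Subgroup.subset_closure (show z ∈ {x : G | x ∈ Z ∧ x ^ p = 1} from ⟨hz.1, by simpa using hz.2⟩)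
      obtain ⟨h1, h3⟩ := omegaZ_pow_eq_one hz
      exact ⟨h1, by simpa using h3⟩
    rw [this]
    exact hΩn
  haveI := ih
  have hΩk : Ω ≤ Zk k := fun z hz => by
    obtain ⟨h1, h3⟩ := omegaZ_pow_eq_one hz
    refine ⟨h1, ?_⟩
    obtain ⟨m, rfl⟩ := Nat.exists_eq_add_of_le hk0
    rw [pow_add, pow_one, pow_mul, h3, one_pow]
  have hEk : E ≤ centralizer (Zk k : Set G) := by
    refine (closure_le _).2 fun g hg => ?_
    have hsub : zpowers g ≤ centralizer (Zk k : Set G) := by
      refine Cfsg.Lib.PGroup.le_centralizer_of_centralizes_omega h2 (zpowers g) (Zk k)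
        (P.isPGroup'.to_le fun z hz => hZP hz.1) (by rw [normalizer_eq_top]; exact le_top) ?_ ?_
      · obtain ⟨j, hj⟩ := (P.isPGroup'.to_le fun z (hz : z ∈ Zk k) => hZP hz.1).exists_card_eq
        rw [Nat.card_zpowers, hj]
        exact Nat.Coprime.pow_right j hg
      · intro z hz hzp a ha
        have hzΩ : z ∈ Ω := subset_closure ⟨hz.1, hzp⟩
        exact (mem_centralizer_iff.1 (zpowers_le.2 (hEC (subset_closure hg)) ha) z hzΩ).symm
    exact hsub (mem_zpowers g)
  set S := Zk (k + 1) with hS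
  set B := normalClosure (S : Set G) with hB
  have hBn : B.Normal := normalClosure_normal
  have hBO : B ≤ pCore p G := normalClosure_le_normal fun z hz => hZO hz.1
  have hBP : B ≤ (P : Subgroup G) := hBO.trans hOP
  have hSB : S ≤ B := subset_normalClosure
  -- generators of `B`
  have hBgen : B ≤ closure {x | ∃ e ∈ E, ∃ z ∈ S, x = e * z * e⁻¹} := by
    refine (closure_le _).2 fun x hx => ?_
    obtain ⟨z, hz, hzx⟩ := Group.mem_conjugatesOfSet_iff.1 hx
    obtain ⟨g, rfl⟩ := isConj_iff.1 hzx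
    obtain ⟨e, he, y, hy, rfl⟩ := hPE g
    refine subset_closure ⟨e, he, y * z * y⁻¹,
      (mem_normalizer_iff.1 (hNk (hPZ hy)) z).1 hz, by group⟩
  have hBk : B ≤ centralizer (Zk k : Set G) := by
    refine hBgen.trans ((closure_le _).2 ?_)
    rintro _ ⟨e, he, z, hz, rfl⟩
    refine mul_mem (mul_mem (hEk he) ?_) (inv_mem (hEk he))
    exact fun w hw => (hZc hw.1 hz.1).eq
  have hSp : ∀ z ∈ S, z ^ p ∈ Zk k := fun z hz =>
    ⟨pow_mem hz.1 p, by rw [← pow_mul, ← pow_succ']; exact hz.2⟩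
  have hSΩ : ∀ z ∈ S, ∀ b ∈ B, ⁅z, b⁆ ∈ Ω := by
    intro z hz b hb
    have hconj : b * z⁻¹ * b⁻¹ ∈ S :=
      (mem_normalizer_iff.1 (hNk (hPZ (hBP hb))) _).1 (inv_mem hz)
    refine subset_closure ⟨?_, ?_⟩
    · rw [commutatorElement_def, mul_assoc z, mul_assoc z]
      exact Z.mul_mem hz.1 hconj.1
    · rw [commutatorElement_def, mul_assoc z, mul_assoc z, (hZc hz.1 hconj.1).mul_pow, conj_pow,
        inv_pow, ← mem_centralizer_iff.1 (hBk hb) _ (inv_mem (hSp z hz))]
      simp
  have hB'Ω : ⁅B, B⁆ ≤ Ω := by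
    let q := QuotientGroup.mk' Ω
    haveI : (B.map q).Normal := hBn.map q (QuotientGroup.mk'_surjective _)
    have h1 : (S : Set G) ⊆ ((centralizer (B.map q : Set (G ⧸ Ω))).comap q : Subgroup G) := by
      intro z hz
      rw [SetLike.mem_coe, mem_comap, mem_centralizer_iff]
      rintro _ ⟨y, hy, rfl⟩
      refine (commutatorElement_eq_one_iff_mul_comm.1 ?_).symm
      rw [← map_commutatorElement]
      exact (QuotientGroup.eq_one_iff _).2 (hSΩ z hz y hy)
    have h3 := normalClosure_le_normal h1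
    rw [commutator_le]
    intro x hx y hy
    rw [← QuotientGroup.eq_one_iff, ← QuotientGroup.mk'_apply, map_commutatorElement]
    exact commutatorElement_eq_one_iff_mul_comm.2
      (mem_centralizer_iff.1 (h3 hy) _ ⟨x, hx, rfl⟩)
  have hΩc : ∀ c ∈ Ω, ∀ y ∈ B, Commute c y := fun c hc y hy =>
    mem_centralizer_iff.1 (hBk hy) c (hΩk hc)
  have hΩA : ∀ {A : Subgroup G}, IsMaxEAIn p (P : Subgroup G) A → Ω ≤ A := fun hA =>
    omegaZ_le_of_isMaxEAIn hA
  -- the preimage of the largest normal `p`-subgroup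
  haveI : (centralizer (B : Set G)).Normal := inferInstance
  set q := QuotientGroup.mk' (centralizer (B : Set G)) with hq
  set L := (pCore p (G ⧸ centralizer (B : Set G))).comap q with hL
  haveI : L.Normal := inferInstance
  have hquad : ∀ {A : Subgroup G}, IsMaxEAIn p (P : Subgroup G) A → B ≤ normalizer (A : Set G) →
      A ≤ L := by
    intro A hA hBA a ha
    refine hst B (hO.to_le hBO) a ?_
    rw [commutator_eq_bot_iff_le_centralizer, commutator_le]
    intro x hx y hy z hz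
    have haA : zpowers a ≤ A := zpowers_le.2 ha
    have h1 : ⁅x, y⁆ ∈ A :=
      A.mul_mem ((mem_normalizer_iff.1 (hBA hx) y).1 (haA hy)) (A.inv_mem (haA hy))
    exact congrArg Subtype.val (hA.2.1.1.is_comm.comm ⟨z, haA hz⟩ ⟨_, h1⟩)
  set R := (P : Subgroup G) ⊓ L with hR
  have hLdec : ∀ l ∈ L, ∃ r ∈ R, ∃ c ∈ centralizer (B : Set G), l = r * c := by
    intro l hl
    have h1 : q l ∈ (P : Subgroup G).map q := by
      rw [← Sylow.coe_mapSurjective (P := P) (QuotientGroup.mk'_surjective _)]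
      exact le_sylow_of_normal (Cfsg.Lib.Core.pCore_isPGroup p _) _ hl
    obtain ⟨r, hr, hrl⟩ := h1
    have hrL : r ∈ L := by
      rw [hL, mem_comap, hrl]
      exact hl
    exact ⟨r, ⟨hr, hrL⟩, r⁻¹ * l, QuotientGroup.eq.1 hrl, (mul_inv_cancel_left r l).symm⟩
  have hfrattini : ∀ X : Subgroup G, normalizer (R : Set G) ≤ normalizer (X : Set G) →
      centralizer (B : Set G) ≤ normalizer (X : Set G) → X.Normal := by
    intro X hNX hCX
    have hS : ¬ p ∣ (R.subgroupOf L).index := by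
      rw [← relIndex, inf_relIndex_right]
      exact Solv.not_dvd_relIndex_of_isSubnormal P (Subgroup.Normal.isSubnormal inferInstance)
    let RS : Sylow p L :=
      ((P.isPGroup'.to_le inf_le_left).of_equiv
        (subgroupOfEquivOfLe (inf_le_right : R ≤ L)).symm).toSylow hS
    rw [← normalizer_eq_top_iff, eq_top_iff, ← Sylow.normalizer_sup_eq_top RS]
    refine sup_le ?_ fun l hl => ?_
    · rw [IsPGroup.toSylow_coe, map_subgroupOf_eq_of_le (inf_le_right : R ≤ L)]
      exact hNX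
    · obtain ⟨r, hr, c, hcc, rfl⟩ := hLdec l hl
      exact mul_mem (hNX (le_normalizer hr)) (hCX hcc)
  by_cases hall : ∀ A, IsMaxEAIn p (P : Subgroup G) A → A ≤ L
  · have he : thompsonSubgroupOf p R = thompsonSubgroupOf p (P : Subgroup G) := by
      obtain ⟨A₀, hA₀⟩ := exists_isMaxEAIn (p := p) (P : Subgroup G)
      rw [thompsonSubgroupOf_eq_sSup, thompsonSubgroupOf_eq_sSup]
      refine le_antisymm (sSup_le_sSup fun A hA => ⟨hA.1.trans inf_le_left, hA.2.1, fun C hC hCc =>
          (hA₀.2.2 C hC hCc).trans (hA.2.2 A₀ (le_inf hA₀.1 (hall A₀ hA₀)) hA₀.2.1)⟩)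
        (sSup_le_sSup fun A hA => ⟨le_inf hA.1 (hall A hA), hA.2.1,
          fun C hC hCc => hA.2.2 C (hC.trans inf_le_left) hCc⟩)
    refine hfrattini S (fun g hg => hNk (hNJ g ?_)) fun g hg => mem_normalizer_fintype fun z hz => ?_
    · rw [← he]
      exact Thompson.normalizer_le_normalizer_thompsonSubgroupOf R hg
    · show g * z * g⁻¹ ∈ S
      rw [← mem_centralizer_iff.1 hg z (hSB hz), mul_inv_cancel_right]
      exact hz
  exfalso
  obtain ⟨A₁, ⟨hA₁, hA₁L⟩, hA₁max⟩ := Set.exists_max_image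
    {A | IsMaxEAIn p (P : Subgroup G) A ∧ ¬ A ≤ L}
    (fun A => Nat.card (A ⊓ B : Subgroup G)) (Set.toFinite _)
    (by push Not at hall; obtain ⟨A, h, h'⟩ := hall; exact ⟨A, h, h'⟩)
  have hn : ¬ B ≤ normalizer (A₁ : Set G) := fun h => hA₁L (hquad hA₁ h)
  obtain ⟨A', hA', -, hlt, hnorm⟩ :=
    exists_replacementEA h2 P.isPGroup' hBP hA₁ (hB'Ω.trans (hΩA hA₁)) hn
  have hA'L : A' ≤ L := by
    by_contra h
    exact absurd (hA₁max A' ⟨hA', h⟩) (not_le.2 (Set.Finite.card_lt_card (Set.toFinite _) hlt))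
  have hJ : thompsonSubgroupOf p R ≤ thompsonSubgroupOf p (P : Subgroup G) := by
    rw [thompsonSubgroupOf_eq_sSup, thompsonSubgroupOf_eq_sSup]
    exact sSup_le_sSup fun A hA => ⟨hA.1.trans inf_le_left, hA.2.1, fun C hC hCc =>
      (hA'.2.2 C hC hCc).trans (hA.2.2 A' (le_inf hA'.1 hA'L) hA'.2.1)⟩
  have hA'R : A' ≤ thompsonSubgroupOf p R := by
    rw [thompsonSubgroupOf_eq_sSup]
    exact le_sSup ⟨le_inf hA'.1 hA'L, hA'.2.1, fun C hC hCc => hA'.2.2 C (hC.trans inf_le_left) hCc⟩
  set X := B ⊓ centralizer (thompsonSubgroupOf p R : Set G) with hX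
  have hXn : X.Normal := by
    refine hfrattini X (fun g hg => mem_normalizer_fintype fun x hx => ⟨hBn.conj_mem x hx.1 g, ?_⟩)
      fun g hg => mem_normalizer_fintype fun x hx => ?_
    · have hgJ := Thompson.normalizer_le_normalizer_thompsonSubgroupOf (p := p) R hg
      intro j hj
      have h1 := (mem_normalizer_iff.1 (inv_mem hgJ) j).1 hj
      rw [inv_inv] at h1
      have h3 : g⁻¹ * j * g * x = x * (g⁻¹ * j * g) := hx.2 _ h1
      calc j * (g * x * g⁻¹) = g * (g⁻¹ * j * g * x) * g⁻¹ := by group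
        _ = _ := by rw [h3]; group
    · show g * x * g⁻¹ ∈ X
      rw [← mem_centralizer_iff.1 hg x hx.1, mul_inv_cancel_right]
      exact hx
  have hBX : B ≤ centralizer (thompsonSubgroupOf p R : Set G) :=
    (normalClosure_le_normal (N := X) fun z (hz : z ∈ S) =>
      ⟨hSB hz, centralizer_le hJ hz.1.2⟩).trans inf_le_right
  refine hn (hBgen.trans ((closure_le _).2 ?_))
  rintro _ ⟨e, he, z, hz, rfl⟩
  have hzA₁ : z ∈ normalizer (A₁ : Set G) := by
    refine centralizer_le_normalizer _ (centralizer_le ?_ hz.1.2)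
    intro a ha
    rw [SetLike.mem_coe, thompsonSubgroupOf_eq_sSup]
    exact le_sSup (show A₁ ∈ {A | IsMaxEAIn p (P : Subgroup G) A} from hA₁) ha
  set w := e * z * e⁻¹ * z⁻¹ with hw
  have hwB : w ∈ B := mul_mem (hBn.conj_mem z (hSB hz) e) (inv_mem (hSB hz))
  have hwp : w ^ p = 1 := by
    set x := e * z * e⁻¹ with hx
    have hxB : x ∈ B := hBn.conj_mem z (hSB hz) e
    set c := ⁅z⁻¹, x⁆ with hcdef
    have hcΩ : c ∈ Ω := hSΩ _ (inv_mem hz) x hxB
    obtain ⟨m, hm⟩ := hp.out.odd_of_ne_two h2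
    have hchoose : c ^ p.choose 2 = 1 := by
      have : p.choose 2 = p * m := by
        rw [Nat.choose_two_right, hm, show 2 * m + 1 - 1 = 2 * m by omega,
          show (2 * m + 1) * (2 * m) = (2 * m + 1) * m * 2 by ring, Nat.mul_div_cancel _ two_pos]
      rw [this, pow_mul, (omegaZ_pow_eq_one hcΩ).2, one_pow]
    rw [hw, mul_pow_of_commutator (hΩc c hcΩ x hxB) (hΩc c hcΩ z⁻¹ (inv_mem (hSB hz)))
      (by rw [hcdef, commutatorElement_def]; group), hchoose, one_mul, hx, conj_pow,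
      ← mem_centralizer_iff.1 (hEk he) _ (hSp z hz), mul_inv_cancel_right, inv_pow, mul_inv_cancel]
  have hwA₁ : w ∈ normalizer (A₁ : Set G) := hnorm <| hA'.mem_of_commute (hBP hwB) hwp fun a ha =>
    (mem_centralizer_iff.1 (hBX hwB) a (hA'R ha)).symm
  have := mul_mem hwA₁ hzA₁
  rwa [hw, inv_mul_cancel_right] at this

end Cfsg.Lib.Local.GlaubermanZJ
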