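import Cfsg.Agent.Lib.Local.GrossTwoRadical

/-!
In characteristic two: on a component of an `r`-group of class two moved by the involutory power of an
element `x` of two-power order with vanishing norm, a square root of the involution has rank at most two.
-/

set_option autoImplicit false

namespace Cfsg.Lib.Local.GrossLength

open Subgroup Module
open scoped commutatorElement
open Cfsg.Lib.Local.GrossTwo

variable {H : Type*} [Group H] [Finite H] {F : Type*} [Field F] {V : Type*} [AddCommGroup V] [Module F V]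
  {ρ : H →* Module.End F V} {Q X : Subgroup H} {y : H} {q : ℕ} [hq : Fact q.Prime]

/-- The numerical bound on an invariant subspace of a component. -/
theorem component_bound_sub [IsAlgClosed F] [FiniteDimensional F V] (h : MinimalMoved Q X y q)
    (hna : ∃ a ∈ Q, ∃ b ∈ Q, a * b ≠ b * a) {ψ : H → F} (hc : IsComponent ρ Q ψ) {U : Submodule F V}
    (hU : U ≠ ⊥) (hUψ : U ≤ eigenOf ρ (innerCenter Q) ψ) (hQU : ∀ a ∈ Q, ∀ v ∈ U, ρ a v ∈ U)
    (hqF : (q : F) ≠ 0) {p : ℕ} [hp : Fact p.Prime] (hpq : q ≠ p) {z : H} (hz : z ∈ X) {f : ℕ}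
    (hzy : z ^ p ^ f = y) (hzP : z ^ p ^ (f + 1) = 1) (hzU : ∀ v ∈ U, ρ z v ∈ U)
    (hfix : ∀ a ∈ innerCenter Q, ψ (z * a * z⁻¹) = ψ a)
    (hN : ∀ v ∈ U, ∑ i ∈ Finset.range (p ^ (f + 1)), ρ (z ^ i) v = 0)
    (L : List F) (hL : ∀ v ∈ U, (L.map fun a => ρ z - a • (1 : Module.End F V)).prod v = 0) :
    ∃ m, 0 < m ∧ (radical h hc).relIndex Q = q ^ (2 * m) ∧
      (p ^ (f + 1) ∣ q ^ (2 * m) - 1 ∧ (p ^ (f + 1) ∣ q ^ m + 1 ∨ p ^ (f + 1) ∣ q ^ m - 1)) ∧
      q ^ (2 * m) * p ^ (f + 1) ≤ L.length * (p ^ (f + 1) - 1 + q ^ (2 * m)) := by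
  classical
  let S : Subgroup H :=
    { carrier := {g | ∀ v ∈ U, ρ g v ∈ U}
      one_mem' := fun v hv => by rw [map_one]; exact hv
      mul_mem' := fun {g g'} hg hg' v hv => by rw [ρ_mul_apply]; exact hg _ (hg' v hv)
      inv_mem' := fun {g} hg v hv => by
        have hpow : ∀ n : ℕ, ρ (g ^ n) v ∈ U := by
          intro n
          induction n with
          | zero => rw [pow_zero, map_one]; exact hv
          | succ n ih => rw [pow_succ', ρ_mul_apply]; exact hg _ ih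
        obtain ⟨n, hn⟩ : ∃ n : ℕ, g ^ n = g⁻¹ := mem_powers_iff_mem_zpowers.2 (inv_mem (mem_zpowers g))
        rw [← hn]
        exact hpow n }
  have hQS : Q ≤ S := hQU
  have hzS : z ∈ S := hzU
  have hyS : y ∈ S := hzy ▸ pow_mem hzS _
  let τ : S →* Module.End F U :=
    { toFun := fun g => (ρ g).restrict (p := U) (q := U) g.2
      map_one' := LinearMap.ext fun v => Subtype.ext (by simp)
      map_mul' := fun g g' => LinearMap.ext fun v => Subtype.ext (by simp) }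
  set Q' := Q.subgroupOf S with hQ'
  set yS : S := ⟨y, hyS⟩
  set zS : S := ⟨z, hzS⟩
  have hmap : Q'.map S.subtype = Q := by rw [hQ', subgroupOf_map_subtype, inf_eq_left.2 hQS]
  have hmemC : ∀ a : S, a ∈ innerCenter Q' ↔ (a : H) ∈ innerCenter Q := fun a => by
    rw [mem_innerCenter, mem_innerCenter]
    refine and_congr mem_subgroupOf ⟨fun hb b hb' => ?_, fun hb b hb' => Subtype.ext (hb b (mem_subgroupOf.1 hb'))⟩
    exact congrArg Subtype.val (hb ⟨b, hQS hb'⟩ (mem_subgroupOf.2 hb'))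
  have hX : ∀ g : S, g ∈ X.subgroupOf S ↔ (g : H) ∈ X := fun g => mem_subgroupOf
  have hfr : ∀ a ∈ (frattini Q').map Q'.subtype, (a : H) ∈ (frattini Q).map Q.subtype := by
    rintro _ ⟨b, hb, rfl⟩
    exact ⟨subgroupOfEquivOfLe hQS b, frattini_le_comap_frattini_of_surjective
      (φ := (subgroupOfEquivOfLe hQS).toMonoidHom) (subgroupOfEquivOfLe hQS).surjective hb, rfl⟩
  have h' : MinimalMoved Q' (X.subgroupOf S) yS q := {
    isP := h.isP.of_equiv (subgroupOfEquivOfLe hQS).symm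
    inv := fun g hg a ha => mem_subgroupOf.2 (h.inv g ((hX g).1 hg) a (mem_subgroupOf.1 ha))
    moved := by
      obtain ⟨a, ha, hne⟩ := h.moved
      exact ⟨⟨a, hQS ha⟩, mem_subgroupOf.2 ha, fun e => hne (congrArg Subtype.val e)⟩
    commutator_eq := map_injective S.subtype_injective (by
      rw [map_commutator, hmap, MonoidHom.map_zpowers]
      exact h.commutator_eq)
    frattini_fixed := fun a ha => Subtype.ext (h.frattini_fixed _ (hfr a ha))
    center_fixed' := fun _ a ha hac => Subtype.ext (h.center_fixed' hna a (mem_subgroupOf.1 ha)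
      fun b hb => congrArg Subtype.val (hac ⟨b, hQS hb⟩ (mem_subgroupOf.2 hb)))
    ymem := (hX _).2 h.ymem
    ycen := fun g hg => Subtype.ext (h.ycen g ((hX g).1 hg))
    cop := by rw [← Subgroup.orderOf_coe]; exact h.cop }
  have htop : eigenOf τ (innerCenter Q') (fun a => ψ a) = ⊤ := eq_top_iff.2 fun v _ => mem_eigenOf.2 fun a ha =>
    Subtype.ext (mem_eigenOf.1 (hUψ v.2) _ ((hmemC a).1 ha))
  have hc' : IsComponent τ Q' (fun a => ψ a) := {
    ne := by
      obtain ⟨a, ha, b, hb, hne⟩ := hc.ne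
      exact ⟨⟨a, hQS ha⟩, mem_subgroupOf.2 ha, ⟨b, hQS hb⟩, mem_subgroupOf.2 hb, hne⟩
    occurs := by
      rw [htop]
      haveI : Nontrivial U := Submodule.nontrivial_iff_ne_bot.2 hU
      exact bot_ne_top.symm }
  have hrad : radical h' hc' = (radical h hc).subgroupOf S := by
    ext a
    show (a ∈ Q' ∧ _) ↔ ((a : H) ∈ Q ∧ _)
    refine and_congr mem_subgroupOf ⟨fun hd d hd' => hd ⟨d, hQS hd'⟩ (mem_subgroupOf.2 hd'),
      fun hd d hd' => hd d (mem_subgroupOf.1 hd')⟩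
  have hprod : ∀ (l : List F) (v : U), (((l.map fun a => τ zS - a • (1 : Module.End F U)).prod v : U) : V) =
      (l.map fun a => ρ z - a • (1 : Module.End F V)).prod v := by
    intro l
    induction l with
    | nil => intro v; simp
    | cons a l ih =>
      intro v
      simp only [List.map_cons, List.prod_cons, Module.End.mul_apply, LinearMap.sub_apply, LinearMap.smul_apply,
        Module.End.one_apply, Submodule.coe_sub, Submodule.coe_smul]
      rw [← ih v]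
      rfl
  obtain ⟨m, hm, hidx, hdvd, hle⟩ := component_bound h' (by
      obtain ⟨a, ha, b, hb, hne⟩ := hna
      exact ⟨⟨a, hQS ha⟩, mem_subgroupOf.2 ha, ⟨b, hQS hb⟩, mem_subgroupOf.2 hb,
        fun e => hne (congrArg Subtype.val e)⟩)
    hc' hqF hpq (z := zS) ((hX _).2 hz) (Subtype.ext hzy) (Subtype.ext hzP)
    (fun a ha => hfix a ((hmemC a).1 ha))
    (fun v _ => Subtype.ext (by
      rw [AddSubmonoidClass.coe_finsetSum, Submodule.coe_zero, ← hN v v.2]
      rfl))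
    L (fun v _ => Subtype.ext ((hprod L v).trans (hL v v.2)))
  refine ⟨m, hm, ?_, hdvd, hle⟩
  rw [← hidx, hrad, relIndex_subgroupOf hQS]

omit hq [Finite H] in
/-- The least two-power step stabilizing a character, and the separation below it. -/
theorem exists_stable_step {A : Subgroup H} {x : H} (hxA : ∀ g ∈ zpowers x, ∀ a ∈ A, g * a * g⁻¹ ∈ A)
    {n : ℕ} (hord : x ^ 2 ^ (n + 1) = 1) {ψ : H → F} (hfix : ∀ a ∈ A, ψ (x ^ 2 ^ n * a * (x ^ 2 ^ n)⁻¹) = ψ a) :
    ∃ k ≤ n, (∀ a ∈ A, ψ (x ^ 2 ^ k * a * (x ^ 2 ^ k)⁻¹) = ψ a) ∧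
      ∀ t < 2 ^ k, t ≠ 0 → ∃ a ∈ A, ψ (x ^ t * a * (x ^ t)⁻¹) ≠ ψ a := by
  classical
  let P := fun j => ∀ a ∈ A, ψ (x ^ 2 ^ j * a * (x ^ 2 ^ j)⁻¹) = ψ a
  have hex : ∃ j, P j := ⟨n, hfix⟩
  let S : Subgroup H :=
    { carrier := {g | g ∈ zpowers x ∧ ∀ c ∈ A, ψ (g * c * g⁻¹) = ψ c}
      one_mem' := ⟨one_mem _, fun c _ => by simp⟩
      mul_mem' := fun {u w} hu hw => ⟨mul_mem hu.1 hw.1, fun c hc' => by
        rw [show u * w * c * (u * w)⁻¹ = u * (w * c * w⁻¹) * u⁻¹ by group, hu.2 _ (hxA w hw.1 c hc'),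
          hw.2 c hc']⟩
      inv_mem' := fun {u} hu => ⟨inv_mem hu.1, fun c hc' => by
        have e := hu.2 _ (hxA u⁻¹ (inv_mem hu.1) c hc')
        rw [show u * (u⁻¹ * c * u⁻¹⁻¹) * u⁻¹ = c by group] at e
        exact e.symm⟩ }
  refine ⟨Nat.find hex, Nat.find_min' hex hfix, Nat.find_spec hex, fun t ht ht0 => ?_⟩
  by_contra hcon
  push Not at hcon
  have hS : x ^ t ∈ S := ⟨pow_mem (mem_zpowers x) t, hcon⟩
  obtain ⟨i, -, hi⟩ := (Nat.dvd_prime_pow Nat.prime_two).1 (Nat.gcd_dvd_right t (2 ^ (n + 1)))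
  have h5 : x ^ 2 ^ i ∈ S := by
    have hx1 : x ^ ((2 ^ (n + 1) : ℕ) : ℤ) = 1 := by rw [zpow_natCast, hord]
    rw [← zpow_natCast x (2 ^ i), ← hi, Nat.gcd_eq_gcd_ab, zpow_add, zpow_mul, zpow_mul, hx1, one_zpow,
      mul_one, zpow_natCast]
    exact S.zpow_mem hS _
  have hlt : i < Nat.find hex := (Nat.pow_lt_pow_iff_right Nat.one_lt_two).1
    (lt_of_le_of_lt (hi ▸ Nat.le_of_dvd (Nat.pos_of_ne_zero ht0) (Nat.gcd_dvd_left _ _)) ht)
  exact Nat.find_min hex hlt h5.2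

/-- An element commuting with an exceptional component, modulo scalars, commutes with the operator. -/
theorem conj_eq_of_commutes [IsAlgClosed F] [FiniteDimensional F V] [CharP F 2] (h : MinimalMoved Q X y q)
    (hna : ∃ a ∈ Q, ∃ b ∈ Q, a * b ≠ b * a) {ψ : H → F} (hc : IsComponent ρ Q ψ) {W : Submodule F V}
    (hWψ : W ≤ eigenOf ρ (innerCenter Q) ψ) (hQW : ∀ a ∈ Q, ∀ v ∈ W, ρ a v ∈ W) (hqF : (q : F) ≠ 0)
    (hq2 : q ≠ 2) {z : H} (hz : z ∈ X) {f : ℕ} (hzy : z ^ 2 ^ f = y) (hzP : z ^ 2 ^ (f + 1) = 1)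
    (hzW : ∀ v ∈ W, ρ z v ∈ W) (hfix : ∀ a ∈ innerCenter Q, ψ (z * a * z⁻¹) = ψ a)
    (hN : ∀ v ∈ W, ∑ i ∈ Finset.range (2 ^ (f + 1)), ρ (z ^ i) v = 0) (hqP : q + 1 = 2 ^ (f + 1))
    (hidx : (radical h hc).relIndex Q = q ^ 2) {c : H} (hcW : ∀ v ∈ W, ρ c v ∈ W)
    (hcQ : ∀ a ∈ Q, c * a = a * c) : ∀ v ∈ W, ρ (z * c * z⁻¹) v = ρ c v := by
  classical
  have : Fact (Nat.Prime 2) := ⟨Nat.prime_two⟩
  set P := 2 ^ (f + 1) with hP
  have hzWi : ∀ v ∈ W, ρ z⁻¹ v ∈ W := fun v hv => by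
    have hpow : ∀ i : ℕ, ρ (z ^ i) v ∈ W := by
      intro i
      induction i with
      | zero => simpa using hv
      | succ i ih => rw [pow_succ', ρ_mul_apply]; exact hzW _ ih
    obtain ⟨i, hi⟩ : ∃ i : ℕ, z ^ i = z⁻¹ := mem_powers_iff_mem_zpowers.2 (inv_mem (mem_zpowers z))
    rw [← hi]; exact hpow i
  set T : Module.End F W := (ρ z).restrict hzW with hT
  set T' : Module.End F W := (ρ z⁻¹).restrict hzWi with hT'
  have hTT' : T * T' = 1 := LinearMap.ext fun v => Subtype.ext (rho_cancel' ρ z v)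
  have hT'T : T' * T = 1 := LinearMap.ext fun v => Subtype.ext (rho_cancel ρ z v)
  have hTpow : ∀ (i : ℕ) (v : W), ((T ^ i) v : V) = ρ (z ^ i) v := by
    intro i
    induction i with
    | zero => intro v; simp
    | succ i ih =>
      intro v
      rw [pow_succ', Module.End.mul_apply, pow_succ', ρ_mul_apply, ← ih v]
      rfl
  have hTP : T ^ P = 1 := LinearMap.ext fun v => Subtype.ext (by rw [hTpow, hzP]; simp)
  let τQ : Q → Module.End F W := fun a => (ρ (a : H)).restrict (hQW a a.2)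
  let Ad : Module.End F (Module.End F W) :=
    { toFun := fun φ => T * φ * T'
      map_add' := fun φ φ' => by rw [mul_add, add_mul]
      map_smul' := fun s φ => by rw [mul_smul_comm, smul_mul_assoc]; rfl }
  have hAd : ∀ φ, Ad φ = T * φ * T' := fun _ => rfl
  have hAdpow : ∀ (i : ℕ) φ, (Ad ^ i) φ = T ^ i * φ * T' ^ i := by
    intro i
    induction i with
    | zero => intro φ; simp
    | succ i ih =>
      intro φ
      rw [pow_succ', Module.End.mul_apply, ih, hAd]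
      conv_rhs => rw [pow_succ', pow_succ]
      simp only [mul_assoc]
  have hT'P : T' ^ P = 1 := by
    have h1 : T' ^ P * T ^ P = 1 := by
      rw [← (show Commute T' T from hT'T.trans hTT'.symm).mul_pow, hT'T, one_pow]
    rwa [hTP, mul_one] at h1
  have hAdP : (Ad - 1) ^ P = 0 := by
    rw [hP, pow_sub_one_eq F (p := 2) Ad (f + 1), ← hP, show Ad ^ P = 1 from LinearMap.ext fun φ => by
      rw [hAdpow, hTP, hT'P, one_mul, mul_one]; rfl, sub_self]
  -- the commutant of `Q`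
  have hstep : ∀ φ : Module.End F W, (∀ a : Q, φ * τQ a = τQ a * φ) →
      ∀ a : Q, (Ad - 1) φ * τQ a = τQ a * (Ad - 1) φ := by
    intro φ hφ a
    have hb : z⁻¹ * a * z ∈ Q := by simpa using h.inv z⁻¹ (inv_mem hz) a a.2
    set b : Q := ⟨z⁻¹ * a * z, hb⟩ with hbdef
    have h1 : τQ a * T = T * τQ b := LinearMap.ext fun v => Subtype.ext (by
      show ρ (a : H) (ρ z (v : V)) = ρ z (ρ (z⁻¹ * a * z) (v : V))
      rw [← ρ_mul_apply, ← ρ_mul_apply]
      congr 2
      group)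
    have h2 : T' * τQ a = τQ b * T' := LinearMap.ext fun v => Subtype.ext (by
      show ρ z⁻¹ (ρ (a : H) (v : V)) = ρ (z⁻¹ * a * z) (ρ z⁻¹ (v : V))
      rw [← ρ_mul_apply, ← ρ_mul_apply]
      congr 2
      group)
    rw [LinearMap.sub_apply, Module.End.one_apply, sub_mul, mul_sub, hφ, hAd,
      mul_assoc _ T' (τQ a), h2, mul_assoc, ← mul_assoc φ, hφ, ← mul_assoc, ← mul_assoc, ← h1]
    simp only [mul_assoc]
  let D : ℕ → Module.End F W := fun i => ((Ad - 1) ^ i) ((ρ c).restrict hcW)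
  have hD0 : D 0 = (ρ c).restrict hcW := rfl
  have hDs : ∀ i, D (i + 1) = (Ad - 1) (D i) := fun i => by
    show ((Ad - 1) ^ (i + 1)) _ = _
    rw [pow_succ', Module.End.mul_apply]
  have hDcomm : ∀ i (a : Q), D i * τQ a = τQ a * D i := by
    intro i
    induction i with
    | zero =>
      intro a
      rw [hD0]
      refine LinearMap.ext fun v => Subtype.ext ?_
      show ρ c (ρ (a : H) (v : V)) = ρ (a : H) (ρ c (v : V))
      rw [← ρ_mul_apply, ← ρ_mul_apply, hcQ a a.2]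
    | succ i ih => intro a; rw [hDs]; exact hstep _ ih a
  suffices hD1 : D 1 = 0 by
    intro v hv
    have h1 := hD1
    rw [hDs, hD0, LinearMap.sub_apply, Module.End.one_apply, sub_eq_zero, hAd] at h1
    have h2 := congrArg (fun φ : Module.End F W => ((φ ⟨v, hv⟩ : W) : V)) h1
    have h3 : ρ z (ρ c (ρ z⁻¹ v)) = ρ c v := h2
    rwa [← ρ_mul_apply, ← ρ_mul_apply] at h3
  by_contra hne
  have hex : ∃ i, D (i + 1) = 0 := ⟨P - 1, by
    show ((Ad - 1) ^ (P - 1 + 1)) _ = 0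
    rw [Nat.sub_add_cancel (hP ▸ Nat.one_le_two_pow), hAdP]; rfl⟩
  set i := Nat.find hex with hi
  have hi0 : i ≠ 0 := fun e => hne (by have := Nat.find_spec hex; rwa [← hi, e] at this)
  obtain ⟨j, hj⟩ : ∃ j, i = j + 1 := ⟨i - 1, by omega⟩
  set φ := D j with hφ
  set g := D i with hg
  have hg0 : g ≠ 0 := fun e => Nat.find_min hex (show j < Nat.find hex by omega) (by rw [← hj]; exact e)
  have hgfix : T * g = g * T := by
    have h1 : Ad g = g := sub_eq_zero.1 ((hDs i).symm.trans (Nat.find_spec hex))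
    calc T * g = T * g * (T' * T) := by rw [hT'T, mul_one]
      _ = g * T := by rw [← mul_assoc, ← hAd, h1]
  have hφT : T * φ = (φ + g) * T := by
    have h1 : Ad φ = φ + g := by
      rw [show g = (Ad - 1) φ by rw [hg, hφ, hj, hDs], LinearMap.sub_apply, Module.End.one_apply,
        add_sub_cancel]
    calc T * φ = T * φ * (T' * T) := by rw [hT'T, mul_one]
      _ = (φ + g) * T := by rw [← mul_assoc, ← hAd, h1]
  set L := T - 1 with hL
  have hLg : L * g = g * L := by rw [hL, sub_mul, mul_sub, hgfix, one_mul, mul_one]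
  have hLφ : L * φ = (φ + g) * L + g := by
    rw [hL, sub_mul, one_mul, hφT, mul_sub, mul_one]
    abel
  have hLk : ∀ k : ℕ, L ^ (k + 1) * φ = (φ + (k + 1) • g) * L ^ (k + 1) + (k + 1) • (g * L ^ k) := by
    intro k
    induction k with
    | zero => simpa using hLφ
    | succ k ih =>
      rw [pow_succ' L (k + 1), mul_assoc, ih, mul_add, mul_smul_comm, ← mul_assoc L g, hLg, mul_assoc g L,
        ← pow_succ', ← mul_assoc, mul_add, mul_smul_comm, hLφ, hLg]
      simp only [add_mul, smul_mul_assoc, mul_assoc, ← pow_succ']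
      module
  have hLP : L ^ (P - 1) = 0 := by
    rw [hP, hL, geom_eq_sub_pow F]
    refine LinearMap.ext fun v => Subtype.ext ?_
    rw [LinearMap.sum_apply, AddSubmonoidClass.coe_finsetSum, LinearMap.zero_apply, Submodule.coe_zero, ← hN v v.2]
    exact Finset.sum_congr rfl fun i _ => hTpow i v
  have hP2 : P = P - 2 + 1 + 1 := by
    have : 2 ≤ P := by rw [hP, pow_succ]; have := Nat.one_le_two_pow (n := f); omega
    omega
  have hgL : g * L ^ (P - 2) = 0 := by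
    have h1 := hLk (P - 2)
    rw [show P - 2 + 1 = P - 1 by omega, hLP, zero_mul, mul_zero, zero_add] at h1
    have hodd : ((P - 1 : ℕ) : F) = 1 := by
      rw [Nat.cast_sub (by omega), hP, Nat.cast_pow, show ((2 : ℕ) : F) = 0 from CharP.cast_eq_zero F 2,
        zero_pow (Nat.succ_ne_zero f), zero_sub, Nat.cast_one, CharTwo.neg_eq]
    rw [← Nat.cast_smul_eq_nsmul F, hodd, one_smul] at h1
    exact h1.symm
  -- the range of `g`
  let U : Submodule F V := (LinearMap.range g).map W.subtype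
  have hU : U ≠ ⊥ := fun e => hg0 (LinearMap.range_eq_bot.1
    (Submodule.map_injective_of_injective W.injective_subtype (e.trans (Submodule.map_bot _).symm)))
  have hQU : ∀ a ∈ Q, ∀ v ∈ U, ρ a v ∈ U := by
    rintro a ha _ ⟨_, ⟨w, rfl⟩, rfl⟩
    exact ⟨g (τQ ⟨a, ha⟩ w), LinearMap.mem_range_self _ _,
      congrArg (fun u : W => (u : V)) (LinearMap.congr_fun (hDcomm i ⟨a, ha⟩) w)⟩
  have hzU : ∀ v ∈ U, ρ z v ∈ U := by
    rintro _ ⟨_, ⟨w, rfl⟩, rfl⟩
    exact ⟨g (T w), LinearMap.mem_range_self _ _, congrArg (fun u : W => (u : V)) (LinearMap.congr_fun hgfix w).symm⟩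
  have hUW : U ≤ W := Submodule.map_subtype_le _ _
  obtain ⟨m, hm, hidx', -, hle⟩ := component_bound_sub h hna hc hU (hUW.trans hWψ) hQU hqF (p := 2) hq2 hz hzy hzP
    hzU hfix (fun v hv => hN v (hUW hv)) (List.replicate (P - 2) 1) (by
      rintro _ ⟨_, ⟨w, rfl⟩, rfl⟩
      rw [List.map_replicate, List.prod_replicate, one_smul]
      have hLv : ∀ (k : ℕ) (u : W), (((L ^ k) u : W) : V) = ((ρ z - 1) ^ k) (u : V) := by
        intro k
        induction k with
        | zero => intro u; simp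
        | succ k ih =>
          intro u
          rw [pow_succ', Module.End.mul_apply, pow_succ', Module.End.mul_apply, ← ih u]
          rfl
      show ((ρ z - 1) ^ (P - 2)) ((g w : W) : V) = 0
      rw [← hLv, ← Module.End.mul_apply, (show Commute L g from hLg).pow_left (P - 2) |>.eq, hgL]
      simp)
  rw [hidx] at hidx'
  have hm1 : m = 1 := by
    have := Nat.pow_right_injective hq.out.two_le hidx'
    omega
  subst hm1
  rw [List.length_replicate, mul_one, ← hP] at hle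
  obtain ⟨B, hB⟩ : ∃ B, P = B + 2 := ⟨P - 2, by omega⟩
  rw [hB] at hle hqP
  rw [Nat.add_sub_cancel, show B + 2 - 1 = B + 1 by omega] at hle
  obtain rfl : q = B + 1 := by omega
  ring_nf at hle
  nlinarith

/-- A square root of the involution is of rank at most two on each component, and fixes its character. -/
theorem sqrt_rank [IsAlgClosed F] [FiniteDimensional F V] [CharP F 2] (hρ : Function.Injective ρ)
    {r : ℕ} [hr : Fact r.Prime] (hr2 : r ≠ 2) {R : Subgroup H} (hR : IsPGroup r R) {x : H}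
    (hxR : ∀ a ∈ R, x * a * x⁻¹ ∈ R) {n : ℕ} (hord : x ^ 2 ^ (n + 2) = 1)
    (hN : ∑ i ∈ Finset.range (2 ^ (n + 2)), ρ x ^ i = 0)
    (hcomm : ∀ a ∈ R, ∀ b ∈ R, ⁅a, b⁆ ∈ innerCenter R) (hpow : ∀ a ∈ R, a ^ r ∈ innerCenter R)
    {ψ : H → F} (hψ : eigenOf ρ (innerCenter R) ψ ≠ ⊥)
    (hex : ∃ a ∈ R, ∃ b ∈ R, ψ ⁅⁅a, x ^ 2 ^ (n + 1)⁆, b⁆ ≠ 1) :
    (∀ a ∈ innerCenter R, ψ (x ^ 2 ^ n * a * (x ^ 2 ^ n)⁻¹) = ψ a) ∧
      ∃ m1 ∈ R, ∃ m2 ∈ R, ∀ a ∈ R, ∃ i k : ℕ,
        ∀ b ∈ R, ψ ⁅⁅a, x ^ 2 ^ n⁆, b⁆ = ψ ⁅m1, b⁆ ^ i * ψ ⁅m2, b⁆ ^ k := by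
  classical
  have : Fact (Nat.Prime 2) := ⟨Nat.prime_two⟩
  have hrF : (r : F) ≠ 0 := by
    rw [Ne, CharP.cast_eq_zero_iff F 2]
    exact fun hd => hr2 ((Nat.prime_dvd_prime_iff_eq Nat.prime_two hr.out).1 hd).symm
  set y := x ^ 2 ^ (n + 1) with hy
  obtain ⟨a0, ha0, b0, hb0, hne0⟩ := hex
  set Z := innerCenter R with hZ
  have hZR : Z ≤ R := fun a ha => (mem_innerCenter.1 ha).1
  have hZc : ∀ a ∈ Z, ∀ b ∈ R, a * b = b * a := fun a ha => (mem_innerCenter.1 ha).2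
  have hnorm : zpowers x ≤ normalizer (R : Set H) := zpowers_le.2 (mem_normalizer_of_conj_mem hxR)
  have hconjR : ∀ g ∈ zpowers x, ∀ a ∈ R, g * a * g⁻¹ ∈ R := fun g hg a ha =>
    (mem_normalizer_iff.1 (hnorm hg) a).1 ha
  have hconjZ : ∀ g ∈ zpowers x, ∀ a ∈ Z, g * a * g⁻¹ ∈ Z := fun g hg a ha => by
    obtain ⟨h1, h2⟩ := mem_innerCenter.1 ha
    refine mem_innerCenter.2 ⟨hconjR g hg a h1, fun b hb => ?_⟩
    have e := h2 _ (hconjR g⁻¹ (inv_mem hg) b hb)
    rw [inv_inv] at e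
    calc g * a * g⁻¹ * b = g * (a * (g⁻¹ * b * g)) * g⁻¹ := by group
      _ = b * (g * a * g⁻¹) := by rw [e]; group
  have hxcomm : ∀ g ∈ zpowers x, g * y = y * g := fun g hg => by
    obtain ⟨l, hl'⟩ := mem_zpowers_iff.1 hg
    rw [← hl', hy]
    exact (((Commute.refl x).zpow_left l).pow_right _).eq
  have hyx : y ∈ zpowers x := pow_mem (mem_zpowers x) _
  have hy2 : y * y = 1 := by rw [hy, ← pow_add, ← two_mul, ← pow_succ', hord]
  have hcop : (orderOf y).Coprime r :=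
    Nat.Coprime.coprime_dvd_left (orderOf_dvd_of_pow_eq_one (n := 2) (by rw [pow_two, hy2]))
      ((Nat.coprime_primes Nat.prime_two hr.out).2 (Ne.symm hr2))
  have hyZ : ∀ a ∈ Z, y * a * y⁻¹ = a :=
    abelian_fixed hρ hr2 hrF (hR.to_le hZR) (fun a ha b hb => hZc a ha b (hZR hb))
      (hconjZ x (mem_zpowers x)) hord hN
  have hl : ∀ a ∈ R, ∀ b ∈ R, ∀ c ∈ R, ⁅a * b, c⁆ = ⁅a, c⁆ * ⁅b, c⁆ := fun a ha b hb c hc => by
    rw [show ⁅a * b, c⁆ = a * ⁅b, c⁆ * a⁻¹ * ⁅a, c⁆ by simp only [commutatorElement_def]; group,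
      ← hZc _ (hcomm b hb c hc) a ha, mul_inv_cancel_right]
    exact hZc _ (hcomm b hb c hc) _ (hZR (hcomm a ha c hc))
  have hrgt : ∀ a ∈ R, ∀ b ∈ R, ∀ c ∈ R, ⁅c, a * b⁆ = ⁅c, a⁆ * ⁅c, b⁆ := fun a ha b hb c hc => by
    rw [← commutatorElement_inv, hl a ha b hb c hc, mul_inv_rev, commutatorElement_inv, commutatorElement_inv]
    exact hZc _ (hcomm c hc b hb) _ (hZR (hcomm c hc a ha))
  set M := ⁅R, zpowers y⁆ with hM
  set C := R ⊓ centralizer (zpowers y : Set H) with hC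
  have hyle : zpowers y ≤ normalizer (R : Set H) := (zpowers_le.2 hyx).trans hnorm
  have hMR : M ≤ R := Coprime.commutator_le_of_le_normalizer hyle
  have hcopR : (Nat.card (zpowers y)).Coprime (Nat.card R) := coprime_card_zpowers hR hcop
  have hsol : Group.IsSolvable (zpowers y) ∨ Group.IsSolvable R := Or.inl (isSolvable_zpowers y)
  have hdec : ∀ b ∈ R, ∃ m ∈ M, ∃ c ∈ C, b = m * c := fun b hb =>
    Coprime.le_commutator_sup_centralizer hyle hcopR hsol hb
  have hCy : ∀ c ∈ C, y * c * y⁻¹ = c := fun c hc => by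
    rw [mem_centralizer_iff.1 (mem_inf.1 hc).2 y (mem_zpowers y), mul_inv_cancel_right]
  have hCconj : ∀ g ∈ zpowers x, ∀ c ∈ C, g * c * g⁻¹ ∈ C := fun g hg c hc => by
    refine mem_inf.2 ⟨hconjR g hg c (mem_inf.1 hc).1, mem_centralizer_iff.2 fun b hb => ?_⟩
    obtain ⟨i, rfl⟩ := mem_zpowers_iff.1 hb
    have h1 : Commute (y ^ i) c := mem_centralizer_iff.1 (mem_inf.1 hc).2 _ (zpow_mem (mem_zpowers y) i)
    have h2 : Commute (y ^ i) g := ((show Commute g y from hxcomm g hg).zpow_right i).symm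
    exact ((h2.mul_right h1).mul_right h2.inv_right).eq
  have huR : ∀ a ∈ R, ⁅a, y⁆ ∈ R := fun a ha => hMR (Subgroup.commutator_mem_commutator ha (mem_zpowers y))
  have hMC : ∀ m ∈ M, ∀ c ∈ C, m * c = c * m := by
    intro m hm c hc
    suffices hle : M ≤ centralizer ({c} : Set H) by exact mem_centralizer_singleton_iff.1 (hle hm)
    rw [hM, commutator_le]
    intro a ha k hk
    obtain ⟨i, rfl⟩ := mem_powers_iff_mem_zpowers.2 hk
    have hpow' : y ^ i = 1 ∨ y ^ i = y := by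
      rcases Nat.even_or_odd' i with ⟨k, rfl | rfl⟩
      · exact Or.inl (by rw [pow_mul, pow_two, hy2, one_pow])
      · exact Or.inr (by rw [pow_succ, pow_mul, pow_two, hy2, one_pow, one_mul])
    beta_reduce
    rcases hpow' with e | e <;> rw [e]
    · rw [commutatorElement_one_right]; exact one_mem _
    have hcy : y⁻¹ * c * y = c := by
      nth_rewrite 1 [← hCy c hc]
      group
    rw [mem_centralizer_singleton_iff]
    refine commutatorElement_eq_one_iff_mul_comm.1 ?_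
    have hcR := (mem_inf.1 hc).1
    have h1 : y * a⁻¹ * y⁻¹ ∈ R := hconjR y hyx _ (inv_mem ha)
    rw [show ⁅a, y⁆ = a * (y * a⁻¹ * y⁻¹) by rw [commutatorElement_def]; group, hl a ha _ h1 c hcR,
      show ⁅y * a⁻¹ * y⁻¹, c⁆ = y * ⁅a⁻¹, y⁻¹ * c * y⁆ * y⁻¹ by simp [commutatorElement_def, mul_assoc],
      hcy, hyZ _ (hcomm _ (inv_mem ha) c hcR), ← hl a ha _ (inv_mem ha) c hcR, mul_inv_cancel,
      commutatorElement_one_left]
  have hZM : innerCenter M ≤ Z := fun a ha => by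
    obtain ⟨h1, h2⟩ := mem_innerCenter.1 ha
    refine mem_innerCenter.2 ⟨hMR h1, fun b hb => ?_⟩
    obtain ⟨m, hm, c, hc, rfl⟩ := hdec b hb
    exact (Commute.mul_right (h2 m hm) (hMC a h1 c hc) :)
  have hMg : ∀ g ∈ zpowers x, ∀ a ∈ M, g * a * g⁻¹ ∈ M := fun g hg a ha =>
    conj_mem_commutator (hconjR g hg) (fun b hb => by
      obtain ⟨k, hk⟩ := mem_zpowers_iff.1 hb
      exact mem_zpowers_iff.2 ⟨k, by rw [← hk, ← conj_zpow, mul_inv_eq_iff_eq_mul.2 (hxcomm g hg)]⟩) ha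
  have hu0M : ⁅a0, y⁆ ∈ M := Subgroup.commutator_mem_commutator ha0 (mem_zpowers y)
  obtain ⟨h1, hh1, c1, hc1, rfl⟩ := hdec b0 hb0
  set g := ⁅a0, y⁆ with hg
  have hω1 : ψ ⁅g, h1⁆ ≠ 1 := by
    rwa [hrgt h1 (hMR hh1) c1 (mem_inf.1 hc1).1 g (hMR hu0M),
      commutatorElement_eq_one_iff_mul_comm.2 (hMC g hu0M c1 hc1), mul_one] at hne0
  have hmoved : ∃ a ∈ M, y * a * y⁻¹ ≠ a := by
    by_contra hcon
    push Not at hcon
    have h0 : ⁅M, zpowers y⁆ = ⊥ := by
      rw [commutator_eq_bot_iff_le_centralizer]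
      intro a ha
      refine mem_centralizer_iff.2 fun b hb => ?_
      obtain ⟨k, hk⟩ := mem_zpowers_iff.1 hb
      rw [← hk]
      exact ((show Commute y a from mul_inv_eq_iff_eq_mul.1 (hcon a ha)).zpow_left k).eq
    have := Coprime.commutator_eq_bot_of_commutator_commutator_eq_bot hyle hcopR hsol h0
    rw [hM, this, mem_bot] at hu0M
    exact hω1 (by rw [hu0M, commutatorElement_one_left, eigen_one hψ])
  have hMin : MinimalMoved M (zpowers x) y r := {
    isP := hR.to_le hMR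
    inv := hMg
    moved := hmoved
    commutator_eq := Coprime.commutator_commutator_eq hyle hcopR hsol
    frattini_fixed := fun a ha => by
      obtain ⟨b, hb, rfl⟩ := ha
      refine hyZ _ ?_
      have hle : frattini M ≤ Z.subgroupOf M := by
        refine PGroup.frattini_le_of_commutator_le_of_pow_mem (p := r) ?_ fun c => ?_
        · rw [_root_.commutator_def, commutator_le]
          intro c _ d _
          exact hcomm _ (hMR c.2) _ (hMR d.2)
        · rw [mem_subgroupOf, SubmonoidClass.coe_pow]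
          exact hpow _ (hMR c.2)
      exact mem_subgroupOf.1 (hle hb)
    center_fixed' := fun _ a ha hac => hyZ a (hZM (mem_innerCenter.2 ⟨ha, hac⟩))
    ymem := hyx
    ycen := hxcomm
    cop := hcop }
  have hWM : eigenOf ρ Z ψ ≤ eigenOf ρ (innerCenter M) ψ := fun v hv =>
    mem_eigenOf.2 fun a ha => mem_eigenOf.1 hv a (hZM ha)
  have hocc : eigenOf ρ (innerCenter M) ψ ≠ ⊥ := fun eb => hψ (eq_bot_iff.2 fun v hv => eb.le (hWM hv))
  have hc : IsComponent ρ M ψ := ⟨⟨g, hu0M, h1, hh1, hω1⟩, hocc⟩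
  have hna : ∃ a ∈ M, ∃ b ∈ M, a * b ≠ b * a := ⟨g, hu0M, h1, hh1, fun e => hω1 (by
    rw [commutatorElement_eq_one_iff_mul_comm.2 e, eigen_one hψ])⟩
  obtain ⟨k, hk, hfix, hsep⟩ := exists_stable_step (A := Z) hconjZ (n := n + 1) hord (ψ := ψ)
    (fun a ha => by rw [← hy, hyZ a ha])
  set z := x ^ 2 ^ k with hz
  set W := eigenOf ρ Z ψ with hW
  have hzx : z ∈ zpowers x := pow_mem (mem_zpowers x) _
  have hzy : z ^ 2 ^ (n + 1 - k) = y := by rw [hz, hy, ← pow_mul, ← pow_add, Nat.add_sub_cancel' hk]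
  have hzP : z ^ 2 ^ (n + 1 - k + 1) = 1 := by
    rw [hz, ← pow_mul, ← pow_add, show k + (n + 1 - k + 1) = n + 2 by omega, hord]
  have hzW : ∀ v ∈ W, ρ z v ∈ W := fun v hv => mem_eigenOf.2 fun a ha => by
    have h1 := hconjZ z⁻¹ (inv_mem hzx) a ha
    rw [inv_inv] at h1
    rw [← ρ_mul_apply, show a * z = z * (z⁻¹ * a * z) by group, ρ_mul_apply, mem_eigenOf.1 hv _ h1, map_smul]
    congr 1
    rw [← hfix _ h1]
    congr 1
    group
  have hRW : ∀ c ∈ R, ∀ v ∈ W, ρ c v ∈ W := fun c hc' v hv => mem_eigenOf.2 fun d hd => by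
    rw [← ρ_mul_apply, hZc d hd c hc', ρ_mul_apply, mem_eigenOf.1 hv d hd, map_smul]
  have hNW : ∀ v ∈ W, ∑ i ∈ Finset.range (2 ^ (n + 1 - k + 1)), ρ (z ^ i) v = 0 := fun v hv =>
    orbit_norm_zero (A := Z) (natCard_cast_ne_zero hrF (hR.to_le hZR))
      (fun i c hc' => ⟨hconjZ _ (pow_mem (mem_zpowers x) i) c hc',
        by simpa using hconjZ _ (inv_mem (pow_mem (mem_zpowers x) i)) c hc'⟩)
      (Nat.two_pow_pos k) hfix hsep (by rw [← pow_add, show k + (n + 1 - k + 1) = n + 2 by omega, hN]) hv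
  set P := 2 ^ (n + 1 - k + 1) with hP
  obtain ⟨m, hm0, hidx, ⟨-, hdvd⟩, hle⟩ := component_bound_sub hMin hna hc hψ hWM
    (fun a ha => hRW a (hMR ha)) hrF (p := 2) hr2 hzx hzy hzP hzW (fun a ha => hfix a (hZM ha)) hNW
    (List.replicate (P - 1) 1) (fun v hv => by
      rw [List.map_replicate, List.prod_replicate, one_smul, hP, geom_eq_sub_pow F]
      simpa [LinearMap.sum_apply, map_pow] using hNW v hv)
  rw [List.length_replicate] at hle
  obtain ⟨rfl, hrP⟩ := exception_eq hr.out hr2 hm0 hdvd hle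
  rw [mul_one] at hidx
  have hkn : k ≤ n := by
    by_contra hlt
    rw [show n + 1 - k + 1 = 1 by omega, pow_one] at hrP
    have := hr.out.two_le
    omega
  have hzn : x ^ 2 ^ n = z ^ 2 ^ (n - k) := by rw [hz, ← pow_mul, ← pow_add, Nat.add_sub_cancel' hkn]
  set zn := x ^ 2 ^ n with hzndef
  have hznx : zn ∈ zpowers x := pow_mem (mem_zpowers x) _
  have hznfix : ∀ i : ℕ, ∀ a ∈ Z, ψ (z ^ i * a * (z ^ i)⁻¹) = ψ a := by
    intro i
    induction i with
    | zero => intro a _; simp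
    | succ i ih =>
      intro a ha
      rw [show z ^ (i + 1) * a * (z ^ (i + 1))⁻¹ = z ^ i * (z * a * z⁻¹) * (z ^ i)⁻¹ by rw [pow_succ]; group,
        ih _ (hconjZ z hzx a ha), hfix a ha]
  refine ⟨fun a ha => by rw [hzn]; exact hznfix _ a ha, ?_⟩
  -- the centralizer of `M` commutes with `zn` on the component
  have hCfix : ∀ i : ℕ, ∀ c ∈ C, ∀ v ∈ W, ρ (z ^ i * c * (z ^ i)⁻¹) v = ρ c v := by
    intro i
    induction i with
    | zero => intro c _ v _; simp
    | succ i ih =>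
      intro c hc' v hv
      rw [show z ^ (i + 1) * c * (z ^ (i + 1))⁻¹ = z ^ i * (z * c * z⁻¹) * (z ^ i)⁻¹ by rw [pow_succ]; group,
        ih _ (hCconj z hzx c hc') v hv]
      exact conj_eq_of_commutes hMin hna hc hWM (fun a ha => hRW a (hMR ha)) hrF hr2 hzx hzy hzP hzW
        (fun a ha => hfix a (hZM ha)) hNW hrP hidx (hRW c (mem_inf.1 hc').1)
        (fun a ha => (hMC a ha c hc').symm) v hv
  -- the pairing
  let p : H → H → F := fun a b => ψ ⁅a, b⁆
  have pl : ∀ a ∈ R, ∀ b ∈ R, ∀ c ∈ R, p (a * b) c = p a c * p b c := fun a ha b hb c hc' => by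
    show ψ _ = _
    rw [hl a ha b hb c hc', eigen_mul hψ (hcomm a ha c hc') (hcomm b hb c hc')]
  have pone : ∀ a, p 1 a = 1 := fun a => by show ψ _ = 1; rw [commutatorElement_one_left, eigen_one hψ]
  have ppow : ∀ a ∈ R, ∀ c ∈ R, ∀ i : ℕ, p (a ^ i) c = p a c ^ i := fun a ha c hc' i => by
    induction i with
    | zero => rw [pow_zero, pone, pow_zero]
    | succ i ih => rw [pow_succ, pl _ (pow_mem ha i) a ha c hc', ih, pow_succ]
  have pinv : ∀ a ∈ R, ∀ c ∈ R, p a⁻¹ c = (p a c)⁻¹ := fun a ha c hc' => by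
    refine eq_inv_of_mul_eq_one_left ?_
    rw [← pl _ (inv_mem ha) a ha c hc', inv_mul_cancel, pone]
  have pord : ∀ a ∈ R, ∀ c ∈ R, p a c ^ r = 1 := fun a ha c hc' => by
    rw [← ppow a ha c hc']
    show ψ _ = 1
    rw [commutatorElement_eq_one_iff_mul_comm.2 (hZc _ (hpow a ha) c hc'), eigen_one hψ]
  have pself : ∀ a, p a a = 1 := fun a => by show ψ _ = 1; rw [commutatorElement_self, eigen_one hψ]
  have pskew : ∀ a ∈ R, ∀ c ∈ R, p a c = (p c a)⁻¹ := fun a ha c hc' => by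
    show ψ _ = _
    rw [← commutatorElement_inv, eigen_inv hψ (hcomm c hc' a ha)]
  set ω := p g h1 with hω
  have hgR : g ∈ R := hMR hu0M
  have hhR : h1 ∈ R := hMR hh1
  have hprim : IsPrimitiveRoot ω r := by
    have e := IsPrimitiveRoot.orderOf ω
    rwa [orderOf_eq_prime (pord g hgR h1 hhR) hω1] at e
  have hprim' : IsPrimitiveRoot (p h1 g) r := by rw [pskew h1 hhR g hgR]; exact hprim.inv
  let K : Subgroup H :=
    { carrier := {a | a ∈ M ∧ p a g = 1 ∧ p a h1 = 1}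
      one_mem' := ⟨one_mem M, pone _, pone _⟩
      mul_mem' := fun {a b} ha hb => ⟨mul_mem ha.1 hb.1,
        by rw [pl a (hMR ha.1) b (hMR hb.1) g hgR, ha.2.1, hb.2.1, one_mul],
        by rw [pl a (hMR ha.1) b (hMR hb.1) h1 hhR, ha.2.2, hb.2.2, one_mul]⟩
      inv_mem' := fun {a} ha => ⟨inv_mem ha.1, by rw [pinv a (hMR ha.1) g hgR, ha.2.1, inv_one],
        by rw [pinv a (hMR ha.1) h1 hhR, ha.2.2, inv_one]⟩ }
  have hradK : radical hMin hc ≤ K := fun a ha => ⟨ha.1, ha.2 g hu0M, ha.2 h1 hh1⟩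
  have hKrad : K ≤ radical hMin hc := by
    rw [← relIndex_eq_one]
    have hKM : K ≤ M := fun a ha => ha.1
    have hmul := relIndex_mul_relIndex (radical hMin hc) K M hradK hKM
    rw [hidx] at hmul
    have hge : r ^ 2 ≤ K.relIndex M := by
      let f : Fin r × Fin r → M ⧸ K.subgroupOf M := fun ik =>
        QuotientGroup.mk ⟨g ^ (ik.1 : ℕ) * h1 ^ (ik.2 : ℕ), mul_mem (pow_mem hu0M _) (pow_mem hh1 _)⟩
      have hf : Function.Injective f := by
        rintro ⟨i, k⟩ ⟨i', k'⟩ e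
        obtain ⟨hm, hmg, hmh⟩ := mem_subgroupOf.1 (QuotientGroup.eq.1 e)
        simp only [Subgroup.coe_mul, InvMemClass.coe_inv] at hmg hmh
        have hev : ∀ i k : ℕ, ∀ c ∈ R, p (g ^ i * h1 ^ k) c = p g c ^ i * p h1 c ^ k := fun i k c hc' => by
          rw [pl _ (pow_mem hgR i) _ (pow_mem hhR k) c hc', ppow g hgR c hc', ppow h1 hhR c hc']
        have hR' : ∀ i k : ℕ, g ^ i * h1 ^ k ∈ R := fun i k => mul_mem (pow_mem hgR i) (pow_mem hhR k)
        rw [pl _ (inv_mem (hR' i k)) _ (hR' i' k') g hgR, pinv _ (hR' i k) g hgR, hev i k g hgR,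
          hev i' k' g hgR, pself, one_pow, one_mul, one_pow, one_mul, inv_mul_eq_one₀
            (pow_ne_zero _ (hprim'.ne_zero hr.out.ne_zero))] at hmg
        rw [pl _ (inv_mem (hR' i k)) _ (hR' i' k') h1 hhR, pinv _ (hR' i k) h1 hhR, hev i k h1 hhR,
          hev i' k' h1 hhR, pself, one_pow, mul_one, one_pow, mul_one, inv_mul_eq_one₀
            (pow_ne_zero _ (hprim.ne_zero hr.out.ne_zero))] at hmh
        exact Prod.ext (Fin.ext (hprim.pow_inj i.2 i'.2 hmh)) (Fin.ext (hprim'.pow_inj k.2 k'.2 hmg))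
      have h3 := Nat.card_le_card_of_injective f hf
      rw [Nat.card_prod, Nat.card_fin, ← pow_two, ← index_eq_card] at h3
      exact h3
    have hpos : 0 < r ^ 2 := pow_pos hr.out.pos 2
    have h4 : (radical hMin hc).relIndex K ≠ 0 := fun e => by rw [e, zero_mul] at hmul; omega
    nlinarith [Nat.one_le_iff_ne_zero.2 h4]
  refine ⟨g, hgR, h1, hhR, fun a ha => ?_⟩
  obtain ⟨ma, hma, ca, hca, rfl⟩ := hdec a ha
  set u := ⁅ma, zn⁆ with hu
  have huM : u ∈ M := by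
    rw [hu, show ⁅ma, zn⁆ = ma * (zn * ma⁻¹ * zn⁻¹) by rw [commutatorElement_def]; group]
    exact mul_mem hma (hMg zn hznx _ (inv_mem hma))
  have huR' : u ∈ R := hMR huM
  set v' := ⁅ca, zn⁆ with hv'
  have hvR : v' ∈ R := by
    rw [hv', show ⁅ca, zn⁆ = ca * (zn * ca⁻¹ * zn⁻¹) by rw [commutatorElement_def]; group]
    exact mul_mem (mem_inf.1 hca).1 (hconjR zn hznx _ (inv_mem (mem_inf.1 hca).1))
  have hvtriv : ∀ b ∈ R, p v' b = 1 := by
    intro b hb
    have hvid : ∀ w ∈ W, ρ v' w = w := fun w hw => by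
      rw [hv', show ⁅ca, zn⁆ = ca * (zn * ca⁻¹ * zn⁻¹) by rw [commutatorElement_def]; group, ρ_mul_apply, hzn,
        hCfix _ _ (inv_mem hca) w hw, rho_cancel']
    have hvinv : ∀ w ∈ W, ρ v'⁻¹ w = w := fun w hw =>
      (congrArg (ρ v'⁻¹) (hvid w hw)).symm.trans (rho_cancel ρ v' w)
    obtain ⟨w, hw, hw0⟩ := Submodule.exists_mem_ne_zero_of_ne_bot hψ
    refine smul_left_injective F hw0 (show p v' b • w = (1 : F) • w from ?_)
    show ψ _ • w = _
    rw [one_smul, ← mem_eigenOf.1 hw _ (hcomm v' hvR b hb), commutatorElement_def, ρ_mul_apply, ρ_mul_apply,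
      ρ_mul_apply, hvinv _ (hRW _ (inv_mem hb) w hw), rho_cancel', hvid w hw]
  obtain ⟨i, -, hi⟩ := hprim.eq_pow_of_pow_eq_one (pord u huR' h1 hhR)
  obtain ⟨j, -, hj⟩ := hprim'.eq_pow_of_pow_eq_one (pord u huR' g hgR)
  refine ⟨i, j, fun b hb => ?_⟩
  show p ⁅ma * ca, zn⁆ b = p g b ^ i * p h1 b ^ j
  set m := g ^ i * h1 ^ j with hm
  have hmM : m ∈ M := mul_mem (pow_mem hu0M _) (pow_mem hh1 _)
  have hmR : m ∈ R := hMR hmM
  have hev : ∀ c ∈ R, p m c = p g c ^ i * p h1 c ^ j := fun c hc' => by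
    rw [hm, pl _ (pow_mem hgR i) _ (pow_mem hhR j) c hc', ppow g hgR c hc', ppow h1 hhR c hc']
  have hK : m⁻¹ * u ∈ radical hMin hc := hKrad ⟨mul_mem (inv_mem hmM) huM, by
    rw [pl _ (inv_mem hmR) _ huR' g hgR, pinv _ hmR g hgR, hev g hgR, pself, one_pow, one_mul, hj,
      inv_mul_cancel₀ (eigen_ne_zero hψ (hcomm u huR' g hgR))], by
    rw [pl _ (inv_mem hmR) _ huR' h1 hhR, pinv _ hmR h1 hhR, hev h1 hhR, pself, one_pow, mul_one, hi,
      inv_mul_cancel₀ (eigen_ne_zero hψ (hcomm u huR' h1 hhR))]⟩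
  obtain ⟨mb, hmb, cb, hcb, rfl⟩ := hdec b hb
  have hmu : m⁻¹ * u ∈ R := mul_mem (inv_mem hmR) huR'
  have h8 : p (m⁻¹ * u) (mb * cb) = 1 := by
    show ψ _ = 1
    rw [hrgt mb (hMR hmb) cb (mem_inf.1 hcb).1 _ hmu,
      commutatorElement_eq_one_iff_mul_comm.2 (hMC _ hK.1 cb hcb), mul_one]
    exact hK.2 mb hmb
  rw [pl _ (inv_mem hmR) _ huR' _ hb, pinv _ hmR _ hb, inv_mul_eq_one₀
    (eigen_ne_zero hψ (hcomm m hmR _ hb))] at h8
  refine (Eq.trans ?_ h8.symm).trans (hev _ hb)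
  show p ⁅ma * ca, zn⁆ (mb * cb) = p u (mb * cb)
  rw [show ⁅ma * ca, zn⁆ = ma * v' * ma⁻¹ * u by
    rw [hv', hu]; simp [commutatorElement_def, mul_assoc],
    pl _ (mul_mem (mul_mem (hMR hma) hvR) (inv_mem (hMR hma))) _ huR' _ hb,
    pl _ (mul_mem (hMR hma) hvR) _ (inv_mem (hMR hma)) _ hb, pl _ (hMR hma) _ hvR _ hb, pinv _ (hMR hma) _ hb,
    hvtriv _ hb, mul_one, mul_inv_cancel₀ (eigen_ne_zero hψ (hcomm ma (hMR hma) _ hb)), one_mul]

end Cfsg.Lib.Local.GrossLength
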