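import Cfsg.Agent.Lib.Local.HallHigmanTheoremB
import Cfsg.Agent.Lib.Local.TopModule

/-!
The module of the `p`-layer of a `p`-soluble group, moved Sylow subgroups of the layer below, and lifts of a
`q`-group with an operator along an epimorphism.
-/

set_option autoImplicit false

namespace Cfsg.Lib.Local.GrossLength

open Subgroup
open scoped commutatorElement

universe u

/-- The Frattini quotient of `O_p` as a faithful module of `K ⧸ O_p`; the norm of `g` vanishes on it when
every `a * g` has order dividing `N`. -/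
theorem exists_layer_rep {K : Type u} [Group K] [Finite K] {p : ℕ} [hp : Fact p.Prime]
    (hK : Cfsg.IsPSolvable p K) (hO : Cfsg.pPrimeCore p K = ⊥) :
    ∃ (V : Type u) (_ : AddCommGroup V) (_ : Module (ZMod p) V) (_ : FiniteDimensional (ZMod p) V)
      (ρ : K ⧸ Cfsg.pCore p K →* Module.End (ZMod p) V), Function.Injective ρ ∧
      ∀ (g : K) (N : ℕ), (∀ a ∈ Cfsg.pCore p K, (a * g) ^ N = 1) →
        ∑ i ∈ Finset.range N, ρ (QuotientGroup.mk g) ^ i = 0 := by
  classical
  set O := Cfsg.pCore p K with hOdef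
  have hOp : IsPGroup p O := Core.pCore_isPGroup p K
  letI : CommGroup (O ⧸ frattini O) := { (inferInstance : Group (O ⧸ frattini O)) with
    mul_comm := fun a b => by
      obtain ⟨a, rfl⟩ := QuotientGroup.mk'_surjective _ a
      obtain ⟨b, rfl⟩ := QuotientGroup.mk'_surjective _ b
      rw [← commutatorElement_eq_one_iff_mul_comm, ← map_commutatorElement]
      exact (QuotientGroup.eq_one_iff _).2 (PGroup.commutator_le_frattini hOp
        (Subgroup.commutator_mem_commutator (mem_top a) (mem_top b))) }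
  let ρ0 : K →* MulAut (O ⧸ frattini O) :=
    { toFun := fun k => QuotientGroup.congr (frattini O) (frattini O) (MulAut.conjNormal k)
        (characteristic_iff_map_eq.1 frattini_characteristic _)
      map_one' := MulEquiv.ext fun z => by
        obtain ⟨a, rfl⟩ := QuotientGroup.mk'_surjective _ z
        show QuotientGroup.mk' _ (MulAut.conjNormal (1 : K) a) = _
        rw [map_one]; rfl
      map_mul' := fun k l => MulEquiv.ext fun z => by
        obtain ⟨a, rfl⟩ := QuotientGroup.mk'_surjective _ z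
        show QuotientGroup.mk' _ (MulAut.conjNormal (k * l) a) =
          QuotientGroup.mk' _ (MulAut.conjNormal k (MulAut.conjNormal l a))
        rw [map_mul]; rfl }
  have hρ0 : ∀ k a, ρ0 k (QuotientGroup.mk' _ a) = QuotientGroup.mk' (frattini O) (MulAut.conjNormal k a) :=
    fun _ _ => rfl
  have hOker : O ≤ ρ0.ker := by
    intro k hk
    rw [MonoidHom.mem_ker]
    refine MulEquiv.ext fun z => ?_
    obtain ⟨a, rfl⟩ := QuotientGroup.mk'_surjective _ z
    rw [hρ0, show MulAut.conjNormal k a = (⟨k, hk⟩ : O) * a * (⟨k, hk⟩ : O)⁻¹ from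
      Subtype.ext (by rw [MulAut.conjNormal_apply]; rfl), map_mul, map_mul, map_inv,
      mul_comm (QuotientGroup.mk' (frattini O) ⟨k, hk⟩), mul_inv_cancel_right, MulAut.one_apply]
  have hkerO : ρ0.ker ≤ O := by
    refine Core.le_pCore' ρ0.normal_ker ?_
    rintro ⟨k, hk⟩
    obtain ⟨a, b, hb, hab'⟩ := Nat.exists_eq_pow_mul_and_not_dvd (orderOf_pos k).ne' p hp.out.ne_one
    refine ⟨a, Subtype.ext ?_⟩
    show k ^ p ^ a = 1
    set u := k ^ p ^ a with hu
    have huord : orderOf u ∣ b := orderOf_dvd_of_pow_eq_one (by rw [hu, ← pow_mul, ← hab', pow_orderOf_eq_one])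
    have hcop : (Nat.card (zpowers u)).Coprime (Nat.card O) := by
      rw [Nat.card_zpowers]
      obtain ⟨e, he⟩ := IsPGroup.iff_card.1 hOp
      rw [he]
      exact ((hp.out.coprime_iff_not_dvd.2 hb).symm.pow_right e).coprime_dvd_left huord
    have hcomm : ⁅O, zpowers u⁆ ≤ (frattini O).map O.subtype := by
      rw [commutator_le]
      intro a' ha' z hz
      have hzker : z ∈ ρ0.ker := zpowers_le.2 (pow_mem hk _) hz
      have h1 : ρ0 z (QuotientGroup.mk' _ ⟨a', ha'⟩) = QuotientGroup.mk' (frattini O) ⟨a', ha'⟩ := by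
        rw [MonoidHom.mem_ker.1 hzker]; rfl
      rw [hρ0] at h1
      have h2 := QuotientGroup.eq.1 h1
      refine ⟨(⟨a', ha'⟩ : O) * (MulAut.conjNormal z ⟨a', ha'⟩)⁻¹, ?_, ?_⟩
      · have h3 := (inferInstance : (frattini O).Normal).conj_mem _ h2 (⟨a', ha'⟩ : O)
        have h4 : (⟨a', ha'⟩ : O) * ((MulAut.conjNormal z ⟨a', ha'⟩)⁻¹ * ⟨a', ha'⟩) * (⟨a', ha'⟩ : O)⁻¹ =
            (⟨a', ha'⟩ : O) * (MulAut.conjNormal z ⟨a', ha'⟩)⁻¹ := by group
        rwa [h4] at h3
      · show a' * ((MulAut.conjNormal z (⟨a', ha'⟩ : O) : O) : K)⁻¹ = a' * z * a'⁻¹ * z⁻¹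
        rw [MulAut.conjNormal_apply]
        group
    have hcent := Coprime.le_centralizer_of_commutator_le_frattini
      (fun z _ => by rw [normalizer_eq_top_iff.2 inferInstance]; exact mem_top z) hcop
      (Or.inr (have := hOp.isNilpotent; IsNilpotent.to_isSolvable)) hcomm
    have huO := Core.centralizer_pCore_le_of_isPSolvable hK hO (hcent (mem_zpowers u))
    obtain ⟨e, he⟩ := IsPGroup.iff_orderOf.1 hOp ⟨u, huO⟩
    rw [Subgroup.orderOf_mk] at he
    rw [← orderOf_eq_one_iff, he]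
    rcases Nat.eq_zero_or_pos e with rfl | he0
    · rw [pow_zero]
    · exact absurd ((dvd_pow_self p he0.ne').trans (he ▸ huord)) hb
  let ρ : K ⧸ O →* MulAut (O ⧸ frattini O) := QuotientGroup.lift O ρ0 hOker
  have hρ : Function.Injective ρ := by
    rw [← MonoidHom.ker_eq_bot_iff, eq_bot_iff]
    intro z hz
    obtain ⟨k, rfl⟩ := QuotientGroup.mk'_surjective O z
    exact mem_bot.2 ((QuotientGroup.eq_one_iff k).2 (hkerO hz))
  have hV : ∀ v : O ⧸ frattini O, v ^ p = 1 := by
    intro v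
    obtain ⟨a, rfl⟩ := QuotientGroup.mk'_surjective _ v
    rw [← map_pow]
    exact (QuotientGroup.eq_one_iff _).2 (PGroup.pow_mem_frattini hOp a)
  obtain ⟨V, _, _, _, R, e, he⟩ := exists_zmod_rep hV ρ
  refine ⟨V, _, _, inferInstance, R, fun k l hkl => hρ (MulEquiv.ext fun w =>
    e.injective (Multiplicative.toAdd.injective ((he k w).symm.trans ((LinearMap.congr_fun hkl _).trans (he l w))))),
    fun g N hg => LinearMap.ext fun v => ?_⟩
  obtain ⟨w, hw⟩ := e.surjective (Multiplicative.ofAdd v)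
  obtain ⟨a, rfl⟩ := QuotientGroup.mk'_surjective _ w
  obtain rfl : v = (e (QuotientGroup.mk' (frattini O) a)).toAdd := by rw [hw]; rfl
  have hkey : ∀ m : ℕ, ∃ w : O, ((a : K) * g) ^ m = w * g ^ m ∧
      QuotientGroup.mk' (frattini O) w =
        ∏ i ∈ Finset.range m, ρ ((QuotientGroup.mk g : K ⧸ O) ^ i) (QuotientGroup.mk' (frattini O) a) := by
    intro m
    induction m with
    | zero => exact ⟨1, by simp, by simp⟩
    | succ m ih =>
      obtain ⟨w, hw1, hw2⟩ := ih
      refine ⟨w * MulAut.conjNormal (g ^ m) a, ?_, ?_⟩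
      · rw [pow_succ, hw1, Subgroup.coe_mul, MulAut.conjNormal_apply, pow_succ]
        group
      · rw [map_mul, hw2, Finset.prod_range_succ, ← QuotientGroup.mk_pow]
        rfl
  obtain ⟨w, hw1, hw2⟩ := hkey N
  have h0 : g ^ N = 1 := by simpa using hg 1 (one_mem _)
  rw [hg _ a.2, h0, mul_one] at hw1
  rw [show w = 1 from Subtype.ext hw1.symm, map_one] at hw2
  rw [LinearMap.sum_apply, LinearMap.zero_apply]
  calc ∑ i ∈ Finset.range N, (R (QuotientGroup.mk g) ^ i) (e (QuotientGroup.mk' (frattini O) a)).toAdd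
      = ∑ i ∈ Finset.range N, (e (ρ ((QuotientGroup.mk g : K ⧸ O) ^ i) (QuotientGroup.mk' (frattini O) a))).toAdd :=
        Finset.sum_congr rfl fun i _ => by rw [← map_pow, he]
    _ = (e (∏ i ∈ Finset.range N, ρ ((QuotientGroup.mk g : K ⧸ O) ^ i) (QuotientGroup.mk' (frattini O) a))).toAdd := by
        rw [map_prod, toAdd_prod]
    _ = 0 := by rw [← hw2, map_one, toAdd_one]

/-- In a `p`-soluble group without normal `p`-subgroup an element of order `p` with a root `x` moves some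
`x`-invariant `q`-group. -/
theorem exists_moved {K : Type u} [Group K] [Finite K] {p : ℕ} [hp : Fact p.Prime] (hK : Cfsg.IsPSolvable p K)
    (hO : Cfsg.pCore p K = ⊥) {x : K} {n : ℕ} (hord : orderOf x = p ^ (n + 1)) :
    ∃ q : ℕ, q.Prime ∧ q ≠ p ∧ ∃ Q : Subgroup K, MinimalMoved Q (zpowers x) (x ^ p ^ n) q := by
  classical
  set N := Cfsg.pPrimeCore p K with hN
  set y := x ^ p ^ n with hy
  have hCN := centralizer_pPrimeCore_le hK hO
  have hyord : orderOf y = p := by
    rw [hy, orderOf_pow_of_dvd (pow_pos hp.out.pos n).ne' (hord ▸ pow_dvd_pow p n.le_succ), hord,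
      Nat.pow_div n.le_succ hp.out.pos]
    simp
  have hyN : y ∉ N := fun h => by
    have h1 := Subgroup.orderOf_dvd_natCard N h
    rw [hyord] at h1
    exact hp.out.coprime_iff_not_dvd.1 (Core.pPrimeCore_coprime p K).symm h1
  by_contra hcon
  refine hyN (hCN (mem_centralizer_iff.2 fun z hz => ?_))
  suffices hNC : N ≤ centralizer ({y} : Set K) from mem_centralizer_singleton_iff.1 (hNC hz)
  rw [← subgroupOf_eq_top, ← index_eq_one]
  by_contra hidx
  obtain ⟨q, hq, hqd⟩ := Nat.exists_prime_and_dvd hidx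
  have : Fact q.Prime := ⟨hq⟩
  have hqN : q ∣ Nat.card N := hqd.trans (index_dvd_card _)
  have hqp : q ≠ p := by
    rintro rfl
    exact hq.coprime_iff_not_dvd.1 (Core.pPrimeCore_coprime _ K).symm hqN
  let A := zpowers x
  have hA : IsPGroup p A := IsPGroup.of_card (n := n + 1) (by rw [Nat.card_zpowers, hord])
  letI : MulDistribMulAction A N := MulDistribMulAction.compHom N ((MulAut.conjNormal (H := N)).comp A.subtype)
  obtain ⟨S0⟩ : Nonempty (Sylow q N) := inferInstance
  have hnd : ¬ p ∣ Nat.card (Sylow q N) := fun hd =>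
    hp.out.coprime_iff_not_dvd.1 (Core.pPrimeCore_coprime p K).symm
      (hd.trans ((Sylow.card_dvd_index S0).trans (index_dvd_card _)))
  obtain ⟨S, hS⟩ := hA.nonempty_fixed_point_of_prime_not_dvd_card (Sylow q N) hnd
  set Q := (S : Subgroup N).map N.subtype with hQdef
  have hQx : ∀ g ∈ zpowers x, ∀ a ∈ Q, g * a * g⁻¹ ∈ Q := by
    rintro g hg _ ⟨a, ha, rfl⟩
    have h := congrArg (fun T : Sylow q N => (T : Subgroup N)) (hS ⟨g, hg⟩)
    simp only [Sylow.pointwise_smul_def, Subgroup.pointwise_smul_def] at h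
    exact ⟨_, h.le ⟨a, ha, rfl⟩, MulAut.conjNormal_apply _ _⟩
  refine S.not_dvd_index (hqd.trans (index_dvd_of_le fun a ha => ?_))
  rw [mem_subgroupOf, mem_centralizer_singleton_iff]
  by_contra h1
  have hne : ∃ b ∈ Q, y * b * y⁻¹ ≠ b := ⟨a, mem_map_of_mem _ ha, fun e => h1 (mul_inv_eq_iff_eq_mul.1 e).symm⟩
  have hcop : (orderOf y).Coprime q := by rw [hyord]; exact (Nat.coprime_primes hp.out hq).2 (Ne.symm hqp)
  obtain ⟨Q0, -, hQ0⟩ := exists_minimalMoved (S.isPGroup'.map N.subtype) hQx hne (pow_mem (mem_zpowers x) _)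
    (fun g hg => by
      obtain ⟨l, hl⟩ := mem_zpowers_iff.1 hg
      rw [← hl]
      exact (((Commute.refl x).zpow_left l).pow_right _).eq) hcop
  exact hcon ⟨q, hq, hqp, Q0, hQ0⟩

/-- A `q`-group with a normalizing `p`-element lifts along an epimorphism. -/
theorem exists_lift {G K : Type*} [Group G] [Finite G] [Group K] (f : G →* K) (hf : Function.Surjective f)
    {p q : ℕ} [hp : Fact p.Prime] [hq : Fact q.Prime] {Q : Subgroup K} (hQ : IsPGroup q Q) {x : K}
    (hxQ : ∀ a ∈ Q, x * a * x⁻¹ ∈ Q) (hx : IsPGroup p (zpowers x)) :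
    ∃ (D : Subgroup G) (x' : G), IsPGroup q D ∧ IsPGroup p (zpowers x') ∧
      (∀ d ∈ D, x' * d * x'⁻¹ ∈ D) ∧ D.map f = Q ∧ f x' = x := by
  classical
  have : Finite K := Finite.of_surjective f hf
  set M := (normalizer (Q : Set K)).comap f with hM
  set U := Q.comap f with hU
  have hUM : U ≤ M := comap_mono le_normalizer
  haveI : (U.subgroupOf M).Normal := ⟨fun a ha g => by
    simp only [mem_subgroupOf, hU, mem_comap, Subgroup.coe_mul, InvMemClass.coe_inv, map_mul, map_inv] at ha ⊢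
    exact (mem_normalizer_iff.1 g.2 _).1 ha⟩
  obtain ⟨S⟩ : Nonempty (Sylow q (U.subgroupOf M)) := inferInstance
  set D0 : Subgroup M := (S : Subgroup (U.subgroupOf M)).map (U.subgroupOf M).subtype with hD0
  have hsup : normalizer (D0 : Set M) ⊔ U.subgroupOf M = ⊤ := S.normalizer_sup_eq_top
  let gU : U.subgroupOf M →* Q :=
    ((f.comp M.subtype).comp (U.subgroupOf M).subtype).codRestrict Q fun z => z.2
  have hgU : Function.Surjective gU := by
    rintro ⟨a, ha⟩
    obtain ⟨g, rfl⟩ := hf a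
    exact ⟨⟨⟨g, hUM ha⟩, mem_subgroupOf.2 ha⟩, rfl⟩
  have hStop : (S.mapSurjective hgU : Subgroup Q) = ⊤ := by
    rw [eq_top_iff]
    exact ((S.mapSurjective hgU).is_maximal' (hQ.to_subgroup ⊤) le_top).le
  set D := D0.map M.subtype with hD
  have hfD : D.map f = Q := by
    refine le_antisymm ?_ fun a ha => ?_
    · rintro _ ⟨_, ⟨_, ⟨s, hs, rfl⟩, rfl⟩, rfl⟩
      exact s.2
    · obtain ⟨s, hs, hsa⟩ := hStop.ge (mem_top (⟨a, ha⟩ : Q))
      exact ⟨_, ⟨_, ⟨s, hs, rfl⟩, rfl⟩, congrArg Subtype.val hsa⟩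
  set NN := normalizer (D0 : Set M) with hNN
  let g : NN →* normalizer (Q : Set K) :=
    ((f.comp M.subtype).comp NN.subtype).codRestrict _ fun z => z.1.2
  have hg : Function.Surjective g := by
    rintro ⟨a, ha⟩
    obtain ⟨b, rfl⟩ := hf a
    have hb : (⟨b, ha⟩ : M) ∈ NN ⊔ U.subgroupOf M := hsup ▸ mem_top _
    rw [Subgroup.mem_sup_of_normal_right] at hb
    obtain ⟨n, hn, u, hu, hnu⟩ := hb
    obtain ⟨d, hd, hdu⟩ := hfD.ge (show f (u : G) ∈ Q from hu)
    obtain ⟨d', hd', rfl⟩ := hd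
    refine ⟨⟨n * d', mul_mem hn (le_normalizer hd')⟩, Subtype.ext ?_⟩
    show f ((n : G) * d') = f b
    rw [map_mul, show f (d' : G) = f u from hdu, ← map_mul]
    exact congrArg (fun z : M => f (z : G)) hnu
  have hxN : x ∈ normalizer (Q : Set K) := mem_normalizer_of_conj_mem hxQ
  obtain ⟨P, hP⟩ := (show IsPGroup p (zpowers (⟨x, hxN⟩ : normalizer (Q : Set K))) by
    obtain ⟨e, he⟩ := IsPGroup.iff_orderOf.1 hx ⟨x, mem_zpowers x⟩
    rw [Subgroup.orderOf_mk] at he
    exact IsPGroup.of_card (n := e) (by rw [Nat.card_zpowers, Subgroup.orderOf_mk, he])).exists_le_sylow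
  obtain ⟨T, hT⟩ := Sylow.mapSurjective_surjective hg p P
  have hxP : (⟨x, hxN⟩ : normalizer (Q : Set K)) ∈ (T.mapSurjective hg : Subgroup _) := hT ▸ hP (mem_zpowers _)
  obtain ⟨t, ht, htx⟩ := hxP
  refine ⟨D, ((t : M) : G), (S.isPGroup'.map _).map _, ?_, ?_, hfD, congrArg Subtype.val htx⟩
  · obtain ⟨e, he⟩ := IsPGroup.iff_orderOf.1 T.isPGroup' ⟨t, ht⟩
    rw [Subgroup.orderOf_mk, ← Subgroup.orderOf_coe, ← Subgroup.orderOf_coe] at he
    exact IsPGroup.of_card (n := e) (by rw [Nat.card_zpowers, he])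
  · rintro _ ⟨d, hd, rfl⟩
    exact ⟨(t : M) * d * (t : M)⁻¹, (mem_normalizer_iff.1 t.2 d).1 hd, rfl⟩

end Cfsg.Lib.Local.GrossLength
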