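import Cfsg.Agent.Lib.Local.GrossLengthTwoLayer
import Cfsg.Agent.Lib.Local.GrossLengthComponent
import Cfsg.Agent.Lib.Local.GrossLengthLayer
import Cfsg.Agent.Lib.Core.Layer

/-!
Gross's theorem on the `2`-length: two further levels of the upper `2`-series halve the exponent.
-/

set_option autoImplicit false

namespace Cfsg.Lib.Local.GrossLength

open Subgroup Module
open scoped commutatorElement TensorProduct
open Cfsg.Lib.Local.GrossTwo

universe u

/-- A `2`-subgroup centralizing every `O_r` of a soluble group without normal `2`-subgroup is trivial. -/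
theorem eq_bot_of_centralizes_cores {K : Type u} [Group K] [Finite K] [Group.IsSolvable K]
    (hO2 : Cfsg.pCore 2 K = ⊥) {T : Subgroup K} (hT : IsPGroup 2 T)
    (hc : ∀ r : ℕ, r.Prime → T ≤ centralizer (Cfsg.pCore r K : Set K)) : T = ⊥ := by
  classical
  have : Fact (Nat.Prime 2) := ⟨Nat.prime_two⟩
  have hle : T ≤ Cfsg.fittingSubgroup K := by
    refine le_trans ?_ Core.centralizer_fitting_le_of_isSolvable
    rw [le_centralizer_iff, Core.fittingSubgroup_eq_iSup_pCore]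
    exact iSup_le fun l => le_centralizer_iff.1 (hc l l.2)
  set F := Cfsg.fittingSubgroup K with hF
  have hFn : F.Normal := Core.fittingSubgroup_normal' K
  have := Core.fittingSubgroup_isNilpotent K
  obtain ⟨P, hP⟩ := (hT.of_equiv (subgroupOfEquivOfLe hle).symm).exists_le_sylow
  have hPn : (P : Subgroup F).Normal :=
    Sylow.normal_of_normalizerCondition Group.normalizerCondition_of_isNilpotent P
  have : (P : Subgroup F).Characteristic := Sylow.characteristic_of_normal P hPn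
  have h1 : (P : Subgroup F).map F.subtype ≤ Cfsg.pCore 2 K := by
    have : ((P : Subgroup F).map F.subtype).Normal := ConjAct.normal_of_characteristic_of_normal
    exact Core.le_pCore (P.isPGroup'.map _)
  rw [eq_bot_iff]
  intro t ht
  exact hO2 ▸ h1 ⟨⟨t, hle ht⟩, hP (mem_subgroupOf.2 ht), rfl⟩

/-- The configuration behind Gross's bound: in the quotient two levels higher the exponent halves. -/
theorem no_config {K : Type u} [Group K] [Finite K] [Group.IsSolvable K] (hO2 : Cfsg.pCore 2 K = ⊥)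
    {V : Type u} [AddCommGroup V] [Module (ZMod 2) V] [FiniteDimensional (ZMod 2) V]
    {ρ : K →* Module.End (ZMod 2) V} (hρ : Function.Injective ρ) (n : ℕ)
    (hexp : ∀ (P : Sylow 2 K), ∀ x ∈ (P : Subgroup K), x ^ 2 ^ (n + 2) = 1)
    (hnorm : ∀ g : K, IsPGroup 2 (zpowers g) → ∑ i ∈ Finset.range (2 ^ (n + 2)), ρ g ^ i = 0) :
    ∀ (P : Sylow 2 ((K ⧸ Cfsg.pPrimeCore 2 K) ⧸ Cfsg.pCore 2 (K ⧸ Cfsg.pPrimeCore 2 K))),
      ∀ x ∈ (P : Subgroup ((K ⧸ Cfsg.pPrimeCore 2 K) ⧸ Cfsg.pCore 2 (K ⧸ Cfsg.pPrimeCore 2 K))),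
        x ^ 2 ^ (n + 1) = 1 := by
  classical
  have : Fact (Nat.Prime 2) := ⟨Nat.prime_two⟩
  set N := Cfsg.pPrimeCore 2 K with hNdef
  set O := Cfsg.pCore 2 (K ⧸ N) with hOdef
  intro P x3 hx3
  by_contra hne
  have hK : Cfsg.IsPSolvable 2 K := Core.isPSolvable_of_isSolvable
  have hK2 := Core.isPSolvable_quotient hK N
  have hK3 := Core.isPSolvable_quotient hK2 O
  let f1 := QuotientGroup.mk' N
  let f2 := QuotientGroup.mk' O
  have hexp2 := pow_eq_one_of_surjective f1 (QuotientGroup.mk'_surjective N) hexp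
  have hexp3 := pow_eq_one_of_surjective f2 (QuotientGroup.mk'_surjective O) hexp2
  have hord3 : orderOf x3 = 2 ^ (n + 2) := orderOf_eq_prime_pow hne (hexp3 P x3 hx3)
  -- the module of the middle layer
  obtain ⟨W, _, _, _, ρW, hρW, hnormW⟩ := exists_layer_rep hK2 Core.pPrimeCore_quotient_eq_bot
  have hNW : ∑ i ∈ Finset.range (2 ^ (n + 2)), ρW x3 ^ i = 0 := by
    obtain ⟨S, hS⟩ := Sylow.mapSurjective_surjective (QuotientGroup.mk'_surjective O) 2 P
    have hxS : x3 ∈ (S.mapSurjective (QuotientGroup.mk'_surjective O) : Subgroup _) := hS ▸ hx3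
    obtain ⟨s, hs, rfl⟩ := hxS
    exact hnormW s _ fun a ha => hexp2 S _ (mul_mem (Core.pCore_le_sylow S ha) hs)
  obtain ⟨q, hq, hq2, Q3, hQ3⟩ := exists_moved hK3 Core.pCore_quotient_pCore_eq_bot (n := n + 1) hord3
  have : Fact q.Prime := ⟨hq⟩
  have hqF : (q : ZMod 2) ≠ 0 := by
    rw [Ne, CharP.cast_eq_zero_iff (ZMod 2) 2]
    exact fun hd => hq2 ((Nat.prime_dvd_prime_iff_eq Nat.prime_two hq).1 hd).symm
  obtain ⟨u3, hu3, d3, hd3, hud3⟩ := nonabelian_of_norm hρW hQ3 hqF (p := 2) hq2 (mem_zpowers x3)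
    (n := n + 1) rfl (by rw [← hord3, pow_orderOf_eq_one]) hNW
  -- the lift
  let f : K →* (K ⧸ N) ⧸ O := f2.comp f1
  have hf : Function.Surjective f := (QuotientGroup.mk'_surjective O).comp (QuotientGroup.mk'_surjective N)
  set U := O.comap f1 with hUdef
  haveI : U.Normal := (inferInstance : O.Normal).comap f1
  obtain ⟨S⟩ : Nonempty (Sylow 2 U) := inferInstance
  set SK := (S : Subgroup U).map U.subtype with hSKdef
  have hSK2 : IsPGroup 2 SK := S.isPGroup'.map _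
  set H := normalizer (SK : Set K) with hH
  have hsup : H ⊔ U = ⊤ := S.normalizer_sup_eq_top
  have hfH : Function.Surjective (f.comp H.subtype) := by
    intro a
    obtain ⟨b, rfl⟩ := hf a
    have hb : b ∈ H ⊔ U := hsup ▸ mem_top b
    rw [Subgroup.mem_sup_of_normal_right] at hb
    obtain ⟨h, hh, u, hu, rfl⟩ := hb
    refine ⟨⟨h, hh⟩, ?_⟩
    show f h = f (h * u)
    rw [map_mul, show f u = 1 from (QuotientGroup.eq_one_iff _).2 hu, mul_one]
  obtain ⟨D0', x', hD0', hx'2, hxD0', hfD0', hfx'⟩ := exists_lift (f.comp H.subtype) hfH hQ3.isP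
    (hQ3.inv x3 (mem_zpowers x3)) (p := 2)
    (IsPGroup.of_card (n := n + 2) (by rw [Nat.card_zpowers, hord3]))
  set x : K := (x' : K) with hxdef
  set D0 := D0'.map H.subtype with hD0def
  have hD0H : D0 ≤ H := map_subtype_le D0'
  have hD0p : IsPGroup q D0 := hD0'.map _
  have hxD0 : ∀ d ∈ D0, x * d * x⁻¹ ∈ D0 := by
    rintro _ ⟨d, hd, rfl⟩
    exact ⟨_, hxD0' d hd, rfl⟩
  have hfD0 : D0.map f = Q3 := by rw [hD0def, Subgroup.map_map, hfD0']
  have hfx : f x = x3 := hfx'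
  have hx2 : IsPGroup 2 (zpowers x) := by
    have := hx'2.map H.subtype
    rwa [MonoidHom.map_zpowers] at this
  have hxord : x ^ 2 ^ (n + 2) = 1 := by
    obtain ⟨T, hT⟩ := hx2.exists_le_sylow
    exact hexp T x (hT (mem_zpowers x))
  set y := x ^ 2 ^ (n + 1) with hy
  have hy2 : y * y = 1 := by rw [hy, ← pow_add, ← two_mul, ← pow_succ', hxord]
  have hxy : x * y = y * x := ((Commute.refl x).pow_right _).eq
  have hfy : f y = x3 ^ 2 ^ (n + 1) := by rw [hy, map_pow, hfx]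
  have hyn : zpowers y ≤ normalizer (D0 : Set K) :=
    (zpowers_le.2 (pow_mem (mem_zpowers x) _)).trans (zpowers_le.2 (mem_normalizer_of_conj_mem hxD0))
  set D := ⁅D0, zpowers y⁆ with hDdef
  have hDD0 : D ≤ D0 := Coprime.commutator_le_of_le_normalizer hyn
  have hcopy : (orderOf y).Coprime q := Nat.Coprime.coprime_dvd_left
    (orderOf_dvd_of_pow_eq_one (n := 2) (by rw [pow_two, hy2]))
    ((Nat.coprime_primes Nat.prime_two hq).2 (Ne.symm hq2))
  have hDy : ⁅D, zpowers y⁆ = D :=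
    Coprime.commutator_commutator_eq hyn (coprime_card_zpowers hD0p hcopy) (Or.inl (isSolvable_zpowers y))
  have hDp : IsPGroup q D := hD0p.to_le hDD0
  have hxD : ∀ d ∈ D, x * d * x⁻¹ ∈ D := fun d hd => conj_mem_commutator hxD0 (fun b hb => by
    obtain ⟨k, hk⟩ := mem_zpowers_iff.1 hb
    exact mem_zpowers_iff.2 ⟨k, by rw [← hk, ← conj_zpow, mul_inv_eq_iff_eq_mul.2 hxy]⟩) hd
  have hfD : D.map f = Q3 := by
    rw [hDdef, map_commutator, hfD0, MonoidHom.map_zpowers, hfy, hQ3.commutator_eq]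
  set E := ⁅D, D⁆ with hEdef
  have hED : E ≤ D := commutator_le.2 fun a ha b hb => mul_mem (mul_mem (mul_mem ha hb) (inv_mem ha)) (inv_mem hb)
  have hxE : ∀ d ∈ E, x * d * x⁻¹ ∈ E := fun d hd => conj_mem_commutator hxD hxD hd
  have hDE : ∀ g ∈ D, ∀ d ∈ E, g * d * g⁻¹ ∈ E := fun g hg d hd =>
    conj_mem_commutator (fun a ha => mul_mem (mul_mem hg ha) (inv_mem hg))
      (fun a ha => mul_mem (mul_mem hg ha) (inv_mem hg)) hd
  have hDS : ∀ g ∈ D, ∀ s ∈ SK, g * s * g⁻¹ ∈ SK := fun g hg s hs =>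
    (mem_normalizer_iff.1 (hD0H (hDD0 hg)) s).1 hs
  have hxS : ∀ s ∈ SK, x * s * x⁻¹ ∈ SK := fun s hs => (mem_normalizer_iff.1 x'.2 s).1 hs
  have hESK : ¬ E ≤ centralizer (SK : Set K) := by
    intro hle
    obtain ⟨u', hu', rfl⟩ := hfD.ge hu3
    obtain ⟨d', hd', rfl⟩ := hfD.ge hd3
    refine hud3 (commutatorElement_eq_one_iff_mul_comm.1 ?_)
    rw [← map_commutatorElement]
    set e := ⁅u', d'⁆
    let gU : U →* O := (f1.comp U.subtype).codRestrict O fun z => z.2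
    have hgU : Function.Surjective gU := by
      rintro ⟨a, ha⟩
      obtain ⟨k, rfl⟩ := QuotientGroup.mk'_surjective N a
      exact ⟨⟨k, ha⟩, rfl⟩
    have hStop : (S.mapSurjective hgU : Subgroup O) = ⊤ := by
      rw [eq_top_iff]
      exact ((S.mapSurjective hgU).is_maximal' ((Core.pCore_isPGroup 2 (K ⧸ N)).to_subgroup ⊤) le_top).le
    have hcent : f1 e ∈ centralizer (O : Set (K ⧸ N)) := by
      refine mem_centralizer_iff.2 fun a ha => ?_
      obtain ⟨s, hs, hsa⟩ := hStop.ge (mem_top (⟨a, ha⟩ : O))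
      rw [← show f1 (s : K) = a from congrArg Subtype.val hsa, ← map_mul, ← map_mul]
      exact congrArg f1
        (mem_centralizer_iff.1 (hle (Subgroup.commutator_mem_commutator hu' hd')) _ (mem_map_of_mem U.subtype hs))
    exact (QuotientGroup.eq_one_iff _).2
      (Core.centralizer_pCore_le_of_isPSolvable hK2 Core.pPrimeCore_quotient_eq_bot hcent)
  set S2 := ⁅SK, E⁆ with hS2def
  have hEn : E ≤ normalizer (SK : Set K) := fun d hd => hD0H (hDD0 (hED hd))
  have hS2SK : S2 ≤ SK := Coprime.commutator_le_of_le_normalizer hEn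
  have hS2p : IsPGroup 2 S2 := hSK2.to_le hS2SK
  have hcopES : (Nat.card E).Coprime (Nat.card SK) := by
    obtain ⟨i, hi⟩ := IsPGroup.iff_card.1 (hDp.to_le hED)
    obtain ⟨k, hk⟩ := IsPGroup.iff_card.1 hSK2
    rw [hi, hk]
    exact ((Nat.coprime_primes hq Nat.prime_two).2 hq2).pow i k
  have hsolES : Group.IsSolvable E ∨ Group.IsSolvable SK :=
    Or.inr (have := hSK2.isNilpotent; IsNilpotent.to_isSolvable)
  have hS2E : ⁅S2, E⁆ = S2 := Coprime.commutator_commutator_eq hEn hcopES hsolES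
  have hS2ne : S2 ≠ ⊥ := fun e => hESK (commutator_eq_bot_iff_le_centralizer.1 (by rw [commutator_comm]; exact e))
  have hxS2 : ∀ s ∈ S2, x * s * x⁻¹ ∈ S2 := fun s hs => conj_mem_commutator hxS hxE hs
  have hDS2 : ∀ g ∈ D, ∀ s ∈ S2, g * s * g⁻¹ ∈ S2 := fun g hg s hs => conj_mem_commutator (hDS g hg) (hDE g hg) hs
  -- the odd core seeing the action
  obtain ⟨r, hr, hrS2⟩ : ∃ r : ℕ, r.Prime ∧ ¬ S2 ≤ centralizer (Cfsg.pCore r K : Set K) := by
    by_contra hcon
    push Not at hcon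
    exact hS2ne (eq_bot_of_centralizes_cores hO2 hS2p hcon)
  have : Fact r.Prime := ⟨hr⟩
  have hr2 : r ≠ 2 := by
    rintro rfl
    refine hrS2 fun s _ => mem_centralizer_iff.2 fun u hu => ?_
    rw [hO2, SetLike.mem_coe, mem_bot] at hu
    rw [hu, one_mul, mul_one]
  obtain ⟨R0, ⟨hR0O, hSR0, hDR0, hxR0, hR0c⟩, hmin'⟩ := Set.Finite.exists_minimal
    (s := {R : Subgroup K | R ≤ Cfsg.pCore r K ∧ (∀ g ∈ S2, ∀ a ∈ R, g * a * g⁻¹ ∈ R) ∧
      (∀ g ∈ D, ∀ a ∈ R, g * a * g⁻¹ ∈ R) ∧ (∀ a ∈ R, x * a * x⁻¹ ∈ R) ∧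
      ¬ S2 ≤ centralizer (R : Set K)}) (Set.toFinite _)
    ⟨Cfsg.pCore r K, le_rfl, fun g _ a ha => (inferInstance : (Cfsg.pCore r K).Normal).conj_mem a ha g,
      fun g _ a ha => (inferInstance : (Cfsg.pCore r K).Normal).conj_mem a ha g,
      fun a ha => (inferInstance : (Cfsg.pCore r K).Normal).conj_mem a ha x, hrS2⟩
  have hmin : ∀ R : Subgroup K, R ≤ R0 → R ≠ R0 → (∀ g ∈ S2, ∀ a ∈ R, g * a * g⁻¹ ∈ R) →
      (∀ g ∈ D, ∀ a ∈ R, g * a * g⁻¹ ∈ R) → (∀ a ∈ R, x * a * x⁻¹ ∈ R) →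
      S2 ≤ centralizer (R : Set K) := fun R hR hne h1 h2 h3 => by
    by_contra hc
    exact hne (le_antisymm hR (hmin' ⟨hR.trans hR0O, h1, h2, h3, hc⟩ hR))
  have hR0r : IsPGroup r R0 := (Core.pCore_isPGroup r K).to_le hR0O
  have hS2n : S2 ≤ normalizer (R0 : Set K) := fun g hg => mem_normalizer_of_conj_mem (hSR0 g hg)
  have hcopS : (Nat.card S2).Coprime (Nat.card R0) := by
    obtain ⟨i, hi⟩ := IsPGroup.iff_card.1 hS2p
    obtain ⟨k, hk⟩ := IsPGroup.iff_card.1 hR0r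
    rw [hi, hk]
    exact ((Nat.coprime_primes Nat.prime_two hr).2 (Ne.symm hr2)).pow i k
  have hsolR : Group.IsSolvable S2 ∨ Group.IsSolvable R0 :=
    Or.inr (have := hR0r.isNilpotent; IsNilpotent.to_isSolvable)
  have hRS : ⁅R0, S2⁆ = R0 := by
    by_contra hne
    have h := hmin _ (Coprime.commutator_le_of_le_normalizer hS2n) hne
      (fun g hg u hu => conj_mem_commutator (hSR0 g hg) (fun a ha => mul_mem (mul_mem hg ha) (inv_mem hg)) hu)
      (fun g hg u hu => conj_mem_commutator (hDR0 g hg) (hDS2 g hg) hu)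
      (fun u hu => conj_mem_commutator hxR0 hxS2 hu)
    refine hR0c ?_
    have h0 := Coprime.commutator_eq_bot_of_commutator_commutator_eq_bot hS2n hcopS hsolR
      (by rw [commutator_comm]; exact commutator_eq_bot_iff_le_centralizer.2 h)
    rw [commutator_comm] at h0
    exact commutator_eq_bot_iff_le_centralizer.1 h0
  have hR0ne : R0 ≠ ⊥ := fun e => hR0c (fun d _ => mem_centralizer_iff.2 fun u hu => by
    rw [e, SetLike.mem_coe, mem_bot] at hu
    rw [hu, one_mul, mul_one])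
  set Φ0 := (frattini R0).map R0.subtype with hΦ0
  have hΦS : S2 ≤ centralizer (Φ0 : Set K) := by
    refine hmin Φ0 (map_subtype_le _) (fun e => ?_)
      (fun g hg c hc => conj_mem_frattini_map (mem_normalizer_of_conj_mem (hSR0 g hg)) hc)
      (fun g hg c hc => conj_mem_frattini_map (mem_normalizer_of_conj_mem (hDR0 g hg)) hc)
      (fun c hc => conj_mem_frattini_map (mem_normalizer_of_conj_mem hxR0) hc)
    have hnt : Nontrivial R0 := (nontrivial_iff_ne_bot R0).2 hR0ne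
    refine PGroup.frattini_ne_top (G := R0) (eq_top_iff.2 fun b _ => ?_)
    obtain ⟨c, hc, hcb⟩ := e.ge b.2
    rwa [← show c = b from Subtype.ext hcb]
  have hΦmem : ∀ a ∈ R0, ∀ b ∈ R0, ⁅a, b⁆ ∈ Φ0 := fun a ha b hb =>
    ⟨⁅(⟨a, ha⟩ : R0), ⟨b, hb⟩⁆,
      PGroup.commutator_le_frattini hR0r (Subgroup.commutator_mem_commutator (mem_top _) (mem_top _)), rfl⟩
  set Z := innerCenter R0 with hZdef
  have hΦZ : Φ0 ≤ Z := by
    have hsub : ⁅Φ0, R0⁆ ≤ Φ0 := commutator_le.2 fun c hc b hb => hΦmem c (map_subtype_le _ hc) b hb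
    have h1 : ⁅⁅R0, S2⁆, Φ0⁆ = ⊥ := by
      refine commutator_commutator_eq_bot_of_rotate ?_ ?_
      · rw [commutator_eq_bot_iff_le_centralizer.2 hΦS, commutator_bot_left]
      · rw [commutator_comm, ← le_bot_iff]
        exact (commutator_mono le_rfl hsub).trans (commutator_eq_bot_iff_le_centralizer.2 hΦS).le
    rw [hRS, commutator_eq_bot_iff_le_centralizer] at h1
    exact fun c hc => mem_innerCenter.2 ⟨map_subtype_le _ hc, fun b hb => mem_centralizer_iff.1 (h1 hb) c hc⟩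
  have hcomm : ∀ a ∈ R0, ∀ b ∈ R0, ⁅a, b⁆ ∈ Z := fun a ha b hb => hΦZ (hΦmem a ha b hb)
  have hpow : ∀ a ∈ R0, a ^ r ∈ Z := fun a ha =>
    hΦZ ⟨(⟨a, ha⟩ : R0) ^ r, PGroup.pow_mem_frattini hR0r _, rfl⟩
  have hZR : Z ≤ R0 := fun a ha => (mem_innerCenter.1 ha).1
  have hZc : ∀ a ∈ Z, ∀ b ∈ R0, a * b = b * a := fun a ha => (mem_innerCenter.1 ha).2
  have hNZ : ∀ g ∈ normalizer (R0 : Set K), ∀ a ∈ Z, g * a * g⁻¹ ∈ Z := by
    intro g hg a ha
    obtain ⟨h1, h2⟩ := mem_innerCenter.1 ha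
    refine mem_innerCenter.2 ⟨(mem_normalizer_iff.1 hg a).1 h1, fun b hb => ?_⟩
    have e := h2 _ (show g⁻¹ * b * g ∈ R0 by simpa using (mem_normalizer_iff.1 (inv_mem hg) b).1 hb)
    calc g * a * g⁻¹ * b = g * (a * (g⁻¹ * b * g)) * g⁻¹ := by group
      _ = b * (g * a * g⁻¹) := by rw [e]; group
  have hxNR : x ∈ normalizer (R0 : Set K) := mem_normalizer_of_conj_mem hxR0
  have hDNR : D ≤ normalizer (R0 : Set K) := fun g hg => mem_normalizer_of_conj_mem (hDR0 g hg)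
  have hyNR : y ∈ normalizer (R0 : Set K) := pow_mem hxNR _
  -- the module of the bottom layer over an algebraically closed field
  let F := AlgebraicClosure (ZMod 2)
  haveI : CharP F 2 := charP_of_injective_algebraMap (algebraMap (ZMod 2) F).injective 2
  let ρF := closureRep ρ
  have hρF : Function.Injective ρF := closureRep_injective hρ
  have hN : ∑ i ∈ Finset.range (2 ^ (n + 2)), ρF x ^ i = 0 := closureRep_sum_pow (hnorm x hx2)
  have hrF : (r : F) ≠ 0 := by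
    rw [Ne, CharP.cast_eq_zero_iff F 2]
    exact fun hd => hr2 ((Nat.prime_dvd_prime_iff_eq Nat.prime_two hr).1 hd).symm
  have hZab : ∀ a ∈ Z, ∀ a' ∈ Z, a * a' = a' * a := fun a ha a' ha' => hZc a ha a' (hZR ha')
  have hyZ : ∀ a ∈ Z, y * a * y⁻¹ = a :=
    abelian_fixed hρF hr2 hrF (hR0r.to_le hZR) hZab (fun a ha => hNZ x hxNR a ha) (n := n + 1) hxord hN
  have hDZ : D ≤ centralizer (Z : Set K) := by
    conv_lhs => rw [← hDy]
    rw [commutator_le]
    intro d hd k hk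
    refine mem_centralizer_iff.2 fun a ha => ?_
    have hcy : ∀ c ∈ Z, k * c * k⁻¹ = c := fun c hc => by
      obtain ⟨i, hi⟩ := mem_zpowers_iff.1 hk
      rw [← hi, ((show Commute y c from mul_inv_eq_iff_eq_mul.1 (hyZ c hc)).zpow_left i).eq, mul_inv_cancel_right]
    have h1 := hNZ d⁻¹ (inv_mem (hDNR hd)) a ha
    rw [inv_inv] at h1
    have h2 : k⁻¹ * a * k = a := by
      nth_rewrite 1 [← hcy a ha]
      group
    have h3 : d⁻¹ * a * d = k * (d⁻¹ * a * d) * k⁻¹ := (hcy _ h1).symm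
    rw [commutatorElement_def]
    calc a * (d * k * d⁻¹ * k⁻¹) = d * (d⁻¹ * a * d) * k * d⁻¹ * k⁻¹ := by group
      _ = d * (k * (d⁻¹ * a * d) * k⁻¹) * k * d⁻¹ * k⁻¹ := by rw [← h3]
      _ = d * k * d⁻¹ * (a * k⁻¹) := by group
      _ = d * k * d⁻¹ * k⁻¹ * a := by
          nth_rewrite 1 [← h2]
          group
  have hSZ : S2 ≤ centralizer (Z : Set K) := by
    conv_lhs => rw [← hS2E]
    rw [commutator_le]
    intro s hs d hd
    refine mem_centralizer_iff.2 fun a ha => ?_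
    have hd' : ∀ c ∈ Z, d * c * d⁻¹ = c := fun c hc => by
      rw [← mem_centralizer_iff.1 (hDZ (hED hd)) c hc, mul_inv_cancel_right]
    have h1 := hNZ s⁻¹ (inv_mem (hS2n hs)) a ha
    rw [inv_inv] at h1
    have h2 : d⁻¹ * a * d = a := by
      nth_rewrite 1 [← hd' a ha]
      group
    have h3 : s⁻¹ * a * s = d * (s⁻¹ * a * s) * d⁻¹ := (hd' _ h1).symm
    rw [commutatorElement_def]
    calc a * (s * d * s⁻¹ * d⁻¹) = s * (s⁻¹ * a * s) * d * s⁻¹ * d⁻¹ := by group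
      _ = s * (d * (s⁻¹ * a * s) * d⁻¹) * d * s⁻¹ * d⁻¹ := by rw [← h3]
      _ = s * d * s⁻¹ * (a * d⁻¹) := by group
      _ = s * d * s⁻¹ * d⁻¹ * a := by
          nth_rewrite 1 [← h2]
          group
  obtain ⟨a1, ha1, s1, hs1, b1, hb1, hz0⟩ : ∃ a ∈ R0, ∃ s ∈ S2, ∃ b ∈ R0, ⁅⁅a, s⁆, b⁆ ≠ 1 := by
    by_contra hall
    push Not at hall
    have hle : R0 ≤ Z := by
      conv_lhs => rw [← hRS]
      rw [commutator_le]
      intro a ha s hs
      have has : ⁅a, s⁆ ∈ R0 := Coprime.commutator_le_of_le_normalizer hS2n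
        (Subgroup.commutator_mem_commutator ha hs)
      exact mem_innerCenter.2 ⟨has, fun b hb => commutatorElement_eq_one_iff_mul_comm.1 (hall a ha s hs b hb)⟩
    exact hR0c fun s hs => mem_centralizer_iff.2 fun a ha => mem_centralizer_iff.1 (hSZ hs) a (hle ha)
  set g1 := ⁅a1, s1⁆ with hg1
  have hg1R : g1 ∈ R0 := Coprime.commutator_le_of_le_normalizer hS2n (Subgroup.commutator_mem_commutator ha1 hs1)
  set z0 := ⁅g1, b1⁆ with hz0def
  have hz0Z : z0 ∈ Z := hcomm _ hg1R _ hb1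
  have hZord : ∀ a ∈ Z, ((orderOf a : ℕ) : F) ≠ 0 := fun a ha => by
    obtain ⟨i, hi⟩ := IsPGroup.iff_orderOf.1 (hR0r.to_le hZR) ⟨a, ha⟩
    rw [Subgroup.orderOf_mk] at hi
    rw [hi, Nat.cast_pow]
    exact pow_ne_zero _ hrF
  obtain ⟨ψ, v, hvU, hv, hv0⟩ := exists_eigen_not_mem (ρ := ρF) Z hZab hZord ⊥ (LinearMap.range (ρF z0 - 1))
    (fun b hb v hv => by
      obtain ⟨w, rfl⟩ := hv
      refine ⟨ρF b w, ?_⟩
      rw [LinearMap.sub_apply, LinearMap.sub_apply, Module.End.one_apply, Module.End.one_apply, map_sub,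
        ← ρ_mul_apply, hZab z0 hz0Z b hb, ρ_mul_apply])
    (fun hle => hz0 (hρF (by rw [map_one]; exact sub_eq_zero.1 (LinearMap.range_eq_bot.1 (le_bot_iff.1 hle)))))
  rw [Submodule.mem_bot] at hv0
  have hψ : eigenOf ρF Z ψ ≠ ⊥ := fun eb => hv0 ((Submodule.eq_bot_iff _).1 eb v hv)
  have hψz0 : ψ z0 ≠ 1 := fun e => by
    obtain ⟨w, hw⟩ := hvU
    have hpw : ∀ t : ℕ, ρF (z0 ^ t) v = v := by
      intro t
      induction t with
      | zero => simp
      | succ t ih => rw [pow_succ, ρ_mul_apply, mem_eigenOf.1 hv z0 hz0Z, e, one_smul, ih]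
    have h2 : ∑ t ∈ Finset.range (orderOf z0), ρF (z0 ^ t) v = 0 := by
      rw [← hw]
      simp only [LinearMap.sub_apply, Module.End.one_apply, map_sub, ← ρ_mul_apply, ← pow_succ]
      rw [Finset.sum_range_sub (fun t => ρF (z0 ^ t) w), pow_orderOf_eq_one, pow_zero, sub_self]
    rw [Finset.sum_congr rfl fun t _ => hpw t, Finset.sum_const, Finset.card_range,
      ← Nat.cast_smul_eq_nsmul F] at h2
    exact hv0 ((smul_eq_zero.1 h2).resolve_left (hZord z0 hz0Z))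
  -- the pairing and its radical
  let p : K → K → F := fun a b => ψ ⁅a, b⁆
  have hcl : ∀ a ∈ R0, ∀ b ∈ R0, ∀ c ∈ R0, ⁅a * b, c⁆ = ⁅a, c⁆ * ⁅b, c⁆ := fun a ha b hb c hc => by
    rw [show ⁅a * b, c⁆ = a * ⁅b, c⁆ * a⁻¹ * ⁅a, c⁆ by simp only [commutatorElement_def]; group,
      ← hZc _ (hcomm b hb c hc) a ha, mul_inv_cancel_right]
    exact hZc _ (hcomm b hb c hc) _ (hZR (hcomm a ha c hc))
  have pl : ∀ a ∈ R0, ∀ b ∈ R0, ∀ c ∈ R0, p (a * b) c = p a c * p b c := fun a ha b hb c hc => by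
    show ψ _ = _
    rw [hcl a ha b hb c hc, eigen_mul hψ (hcomm a ha c hc) (hcomm b hb c hc)]
  have pone : ∀ c, p 1 c = 1 := fun c => by show ψ _ = 1; rw [commutatorElement_one_left, eigen_one hψ]
  have pinv : ∀ a ∈ R0, ∀ c ∈ R0, p a⁻¹ c = (p a c)⁻¹ := fun a ha c hc => by
    refine eq_inv_of_mul_eq_one_left ?_
    rw [← pl _ (inv_mem ha) a ha c hc, inv_mul_cancel, pone]
  have ppow : ∀ a ∈ R0, ∀ c ∈ R0, ∀ i : ℕ, p (a ^ i) c = p a c ^ i := fun a ha c hc i => by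
    induction i with
    | zero => rw [pow_zero, pone, pow_zero]
    | succ i ih => rw [pow_succ, pl _ (pow_mem ha i) a ha c hc, ih, pow_succ]
  let Rad : Subgroup K :=
    { carrier := {a | a ∈ R0 ∧ ∀ b ∈ R0, p a b = 1}
      one_mem' := ⟨one_mem _, fun b _ => pone b⟩
      mul_mem' := fun {a a'} ha ha' => ⟨mul_mem ha.1 ha'.1, fun b hb => by
        rw [pl a ha.1 a' ha'.1 b hb, ha.2 b hb, ha'.2 b hb, one_mul]⟩
      inv_mem' := fun {a} ha => ⟨inv_mem ha.1, fun b hb => by rw [pinv a ha.1 b hb, ha.2 b hb, inv_one]⟩ }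
  have hZRad : Z ≤ Rad := fun a ha => ⟨hZR ha, fun b hb => by
    show ψ _ = 1
    rw [commutatorElement_eq_one_iff_mul_comm.2 (hZc a ha b hb), eigen_one hψ]⟩
  let R' := Rad.subgroupOf R0
  haveI hRn : R'.Normal := ⟨fun a ha g => by
    rw [mem_subgroupOf] at ha ⊢
    have h1 : (g : K) * a * (g : K)⁻¹ = ⁅(g : K), (a : K)⁆ * a := by rw [commutatorElement_def]; group
    rw [Subgroup.coe_mul, Subgroup.coe_mul, InvMemClass.coe_inv, h1]
    exact mul_mem (hZRad (hcomm g g.2 a a.2)) ha⟩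
  letI : CommGroup (R0 ⧸ R') := { (inferInstance : Group (R0 ⧸ R')) with
    mul_comm := by
      rintro ⟨a⟩ ⟨b⟩
      refine (QuotientGroup.eq (a := a * b) (b := b * a)).2 (mem_subgroupOf.2 ?_)
      rw [show (((a * b)⁻¹ * (b * a) : R0) : K) = ⁅(b : K)⁻¹, (a : K)⁻¹⁆ by
        simp [commutatorElement_def, mul_assoc]]
      exact hZRad (hcomm _ (inv_mem b.2) _ (inv_mem a.2)) }
  let L1 : Subgroup K :=
    { carrier := {g | (g ∈ normalizer (R0 : Set K)) ∧ ∀ a ∈ Z, ψ (g * a * g⁻¹) = ψ a}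
      one_mem' := ⟨one_mem _, fun a _ => by simp⟩
      mul_mem' := fun {g g'} hg hg' => ⟨mul_mem hg.1 hg'.1, fun a ha => by
        rw [show g * g' * a * (g * g')⁻¹ = g * (g' * a * g'⁻¹) * g⁻¹ by group,
          hg.2 _ (hNZ g' hg'.1 a ha), hg'.2 a ha]⟩
      inv_mem' := fun {g} hg => ⟨inv_mem hg.1, fun a ha => by
        rw [← hg.2 _ (hNZ g⁻¹ (inv_mem hg.1) a ha)]
        congr 1
        group⟩ }
  have hpG : ∀ g ∈ L1, ∀ a ∈ R0, ∀ b ∈ R0, p (g * a * g⁻¹) (g * b * g⁻¹) = p a b := fun g hg a ha b hb => by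
    show ψ ⁅_, _⁆ = ψ _
    rw [show ⁅g * a * g⁻¹, g * b * g⁻¹⁆ = g * ⁅a, b⁆ * g⁻¹ by simp [commutatorElement_def, mul_assoc]]
    exact hg.2 _ (hcomm a ha b hb)
  have hL1R : ∀ g ∈ L1, ∀ a ∈ Rad, g * a * g⁻¹ ∈ Rad := fun g hg a ha =>
    ⟨(mem_normalizer_iff.1 hg.1 a).1 ha.1, fun b hb => by
      have hb' : g⁻¹ * b * g ∈ R0 := by simpa using (mem_normalizer_iff.1 (inv_mem hg.1) b).1 hb
      rw [show b = g * (g⁻¹ * b * g) * g⁻¹ by group, hpG g hg a ha.1 _ hb']
      exact ha.2 _ hb'⟩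
  let incl : L1 →* normalizer (R0 : Set K) := (L1.subtype).codRestrict _ fun g => g.2.1
  let π : L1 →* MulAut (R0 ⧸ R') :=
    { toFun := fun g => QuotientGroup.congr R' R' (autOf R0 (incl g)) (by
        refine eq_of_le_of_card_ge ?_ (card_map_of_injective (autOf R0 (incl g)).injective).ge
        rintro _ ⟨a, ha, rfl⟩
        exact mem_subgroupOf.2 (hL1R g g.2 _ (mem_subgroupOf.1 ha)))
      map_one' := MulEquiv.ext fun w => by
        obtain ⟨a, rfl⟩ := QuotientGroup.mk'_surjective _ w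
        show QuotientGroup.mk' R' (autOf R0 (incl 1) a) = _
        rw [map_one, map_one]; rfl
      map_mul' := fun g g' => MulEquiv.ext fun w => by
        obtain ⟨a, rfl⟩ := QuotientGroup.mk'_surjective _ w
        show QuotientGroup.mk' R' (autOf R0 (incl (g * g')) a) =
          QuotientGroup.mk' R' (autOf R0 (incl g) (autOf R0 (incl g') a))
        rw [map_mul, map_mul]; rfl }
  have hπ : ∀ (g : L1) (a : R0), π g (QuotientGroup.mk' R' a) = QuotientGroup.mk' R' (autOf R0 (incl g) a) :=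
    fun _ _ => rfl
  have hDL : D ≤ L1 := fun d hd => ⟨hDNR hd, fun a ha => by
    rw [← mem_centralizer_iff.1 (hDZ hd) a ha, mul_inv_cancel_right]⟩
  have hSL : S2 ≤ L1 := fun s hs => ⟨hS2n hs, fun a ha => by
    rw [← mem_centralizer_iff.1 (hSZ hs) a ha, mul_inv_cancel_right]⟩
  have hyL : y ∈ L1 := ⟨hyNR, fun a ha => by rw [hyZ a ha]⟩
  set Dg := (D.subgroupOf L1).map π with hDg
  set Sg := (S2.subgroupOf L1).map π with hSg
  -- the conclusion once the derived group is seen to centralize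
  have hfinal : ⁅Dg, Dg⁆ ≤ centralizer (Sg : Set (MulAut (R0 ⧸ R'))) → False := by
    intro hle
    have hEk : ∀ e (he : e ∈ E), π ⟨e, hDL (hED he)⟩ ∈ ⁅Dg, Dg⁆ := by
      intro e he
      have hsub : E ≤ ((⁅Dg, Dg⁆).comap π).map L1.subtype := by
        rw [hEdef, commutator_le]
        intro d hd d' hd'
        refine ⟨⁅(⟨d, hDL hd⟩ : L1), ⟨d', hDL hd'⟩⁆, ?_, rfl⟩
        rw [SetLike.mem_coe, mem_comap, map_commutatorElement]
        exact Subgroup.commutator_mem_commutator (mem_map_of_mem π (mem_subgroupOf.2 hd))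
          (mem_map_of_mem π (mem_subgroupOf.2 hd'))
      obtain ⟨g, hg, hge⟩ := hsub he
      rw [show (⟨e, hDL (hED he)⟩ : L1) = g from Subtype.ext hge.symm]
      exact hg
    have hker : S2 ≤ (π.ker).map L1.subtype := by
      conv_lhs => rw [← hS2E]
      rw [commutator_le]
      intro s hs e he
      refine ⟨⁅(⟨s, hSL hs⟩ : L1), ⟨e, hDL (hED he)⟩⁆, ?_, rfl⟩
      rw [SetLike.mem_coe, MonoidHom.mem_ker, map_commutatorElement, commutatorElement_eq_one_iff_mul_comm]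
      exact mem_centralizer_iff.1 (hle (hEk e he)) _ (mem_map_of_mem π (mem_subgroupOf.2 hs))
    obtain ⟨g, hg, hgs⟩ := hker hs1
    have h2 := congrArg (fun φ : MulAut (R0 ⧸ R') => φ (QuotientGroup.mk' R' ⟨a1, ha1⟩))
      (MonoidHom.mem_ker.1 hg)
    have h3 : a1⁻¹ * ((g : K) * a1 * (g : K)⁻¹) ∈ Rad :=
      mem_subgroupOf.1 (QuotientGroup.eq.1 (show QuotientGroup.mk' R' (⟨a1, ha1⟩ : R0) =
        QuotientGroup.mk' R' (autOf R0 (incl g) ⟨a1, ha1⟩) from h2.symm))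
    rw [show (g : K) = s1 from hgs] at h3
    have hsR : s1 * a1 * s1⁻¹ ∈ R0 := hSR0 _ hs1 _ ha1
    have h5 := h3.2 b1 hb1
    rw [pl _ (inv_mem ha1) _ hsR b1 hb1, pinv a1 ha1 b1 hb1] at h5
    refine hψz0 ?_
    show p g1 b1 = 1
    rw [hg1, show ⁅a1, s1⁆ = a1 * (s1 * a1 * s1⁻¹)⁻¹ by rw [commutatorElement_def]; group,
      pl a1 ha1 _ (inv_mem hsR) b1 hb1, pinv _ hsR b1 hb1]
    have h6 := congrArg (·⁻¹) h5
    rwa [mul_inv, inv_inv, inv_one] at h6
  have hDgy : ⁅Dg, zpowers (π ⟨y, hyL⟩)⁆ = Dg := by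
    have h1 : ⁅D.subgroupOf L1, zpowers (⟨y, hyL⟩ : L1)⁆ = D.subgroupOf L1 := map_injective L1.subtype_injective (by
      rw [map_commutator, MonoidHom.map_zpowers, subgroupOf_map_subtype, inf_eq_left.2 hDL]
      exact hDy)
    rw [hDg, ← MonoidHom.map_zpowers, ← map_commutator, h1]
  by_cases hπy : π ⟨y, hyL⟩ = 1
  · refine hfinal ?_
    rw [show Dg = ⊥ by rw [← hDgy, hπy, zpowers_one_eq_bot, commutator_bot_right], commutator_bot_left]
    exact bot_le
  obtain ⟨hzfix, m1, hm1, m2, hm2, hrank⟩ := sqrt_rank hρF hr2 hR0r hxR0 hxord hN hcomm hpow hψ (by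
    by_contra hall
    push Not at hall
    refine hπy (MulEquiv.ext fun i => ?_)
    obtain ⟨a, rfl⟩ := QuotientGroup.mk'_surjective _ i
    rw [hπ, MulAut.one_apply]
    refine QuotientGroup.eq.2 (mem_subgroupOf.2 ⟨((autOf R0 (incl ⟨y, hyL⟩) a)⁻¹ * a).2, fun b hb => ?_⟩)
    show p ((y * (a : K) * y⁻¹)⁻¹ * a) b = 1
    have hya : y * (a : K) * y⁻¹ ∈ R0 := (mem_normalizer_iff.1 hyNR _).1 a.2
    rw [pl _ (inv_mem hya) _ a.2 b hb, mul_comm, ← pl _ a.2 _ (inv_mem hya) b hb,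
      show (a : K) * (y * (a : K) * y⁻¹)⁻¹ = ⁅(a : K), y⁆ by rw [commutatorElement_def]; group]
    exact hall a a.2 b hb)
  set z := x ^ 2 ^ n with hz
  have hzNR : z ∈ normalizer (R0 : Set K) := pow_mem hxNR _
  have hzL : z ∈ L1 := ⟨hzNR, hzfix⟩
  let zg : L1 := ⟨z, hzL⟩
  have hzy : zg ^ 2 = ⟨y, hyL⟩ := Subtype.ext (by
    show z ^ 2 = y
    rw [hz, hy, ← pow_mul, ← pow_succ])
  have hzzpow : ∀ {T : Subgroup K}, (∀ t ∈ T, x * t * x⁻¹ ∈ T) → ∀ t ∈ T, z * t * z⁻¹ ∈ T := fun hT t ht =>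
    (mem_normalizer_iff.1 (pow_mem (mem_normalizer_of_conj_mem hT) _) t).1 ht
  obtain ⟨VW, _, _, _, RW, e, he⟩ := exists_zmod_rep (p := r) (W := R0 ⧸ R') (fun w => by
    obtain ⟨a, rfl⟩ := QuotientGroup.mk'_surjective _ w
    rw [← map_pow]
    refine (QuotientGroup.eq_one_iff _).2 (mem_subgroupOf.2 (hZRad ?_))
    rw [SubmonoidClass.coe_pow]
    exact hpow a a.2) (MonoidHom.id _)
  have hRW : Function.Injective RW := fun k l hkl => MulEquiv.ext fun w =>
    e.injective (Multiplicative.toAdd.injective ((he k w).symm.trans ((LinearMap.congr_fun hkl _).trans (he l w))))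
  let Kr := AlgebraicClosure (ZMod r)
  haveI : CharP Kr r := charP_of_injective_algebraMap (algebraMap (ZMod r) Kr).injective r
  have h2K : (2 : Kr) ≠ 0 := by
    have : ((2 : ℕ) : Kr) ≠ 0 := by
      rw [Ne, CharP.cast_eq_zero_iff Kr r]
      exact fun hd => hr2 ((Nat.prime_dvd_prime_iff_eq hr Nat.prime_two).1 hd)
    exact_mod_cast this
  have hrankK : finrank Kr (LinearMap.range (closureRep RW (π zg) - 1)) ≤ 2 := by
    let M1 : Kr ⊗[ZMod r] VW := (1 : Kr) ⊗ₜ (e (QuotientGroup.mk' R' ⟨m1, hm1⟩)).toAdd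
    let M2 : Kr ⊗[ZMod r] VW := (1 : Kr) ⊗ₜ (e (QuotientGroup.mk' R' ⟨m2, hm2⟩)).toAdd
    have hle : LinearMap.range (closureRep RW (π zg) - 1) ≤
        Submodule.span Kr ({M1, M2} : Finset (Kr ⊗[ZMod r] VW)) := by
      rintro _ ⟨s, rfl⟩
      induction s using TensorProduct.induction_on with
      | zero => rw [map_zero]; exact zero_mem _
      | add s s' hs hs' => rw [map_add]; exact add_mem hs hs'
      | tmul c0 w =>
        rw [show c0 ⊗ₜ[ZMod r] w = c0 • ((1 : Kr) ⊗ₜ[ZMod r] w) by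
          rw [TensorProduct.smul_tmul', smul_eq_mul, mul_one], map_smul]
        refine Submodule.smul_mem _ _ ?_
        obtain ⟨w, rfl⟩ : ∃ w', (e w').toAdd = w := ⟨e.symm (Multiplicative.ofAdd w), by simp⟩
        obtain ⟨a, rfl⟩ := QuotientGroup.mk'_surjective _ w
        obtain ⟨i, k, hik⟩ := hrank a a.2
        have hcR : ⁅(a : K), z⁆ ∈ R0 := by
          rw [show ⁅(a : K), z⁆ = (a : K) * (z * (a : K)⁻¹ * z⁻¹) by rw [commutatorElement_def]; group]
          exact mul_mem a.2 ((mem_normalizer_iff.1 hzNR _).1 (inv_mem a.2))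
        have hcls : QuotientGroup.mk' R' (⟨⁅(a : K), z⁆, hcR⟩ : R0) =
            QuotientGroup.mk' R' ⟨m1, hm1⟩ ^ i * QuotientGroup.mk' R' ⟨m2, hm2⟩ ^ k := by
          rw [← map_pow, ← map_pow, ← map_mul]
          refine QuotientGroup.eq.2 (mem_subgroupOf.2 ⟨((⟨⁅(a : K), z⁆, hcR⟩ : R0)⁻¹ * _).2, fun b hb => ?_⟩)
          show p (⁅(a : K), z⁆⁻¹ * (m1 ^ i * m2 ^ k)) b = 1
          rw [pl _ (inv_mem hcR) _ (mul_mem (pow_mem hm1 i) (pow_mem hm2 k)) b hb, pinv _ hcR b hb,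
            pl _ (pow_mem hm1 i) _ (pow_mem hm2 k) b hb, ppow m1 hm1 b hb, ppow m2 hm2 b hb]
          rw [← hik b hb]
          exact inv_mul_cancel₀ (eigen_ne_zero hψ (hcomm _ hcR _ hb))
        have hza : π zg (QuotientGroup.mk' R' a) = (QuotientGroup.mk' R' ⟨m1, hm1⟩ ^ i *
            QuotientGroup.mk' R' ⟨m2, hm2⟩ ^ k)⁻¹ * QuotientGroup.mk' R' a := by
          rw [← hcls, ← map_inv, ← map_mul, hπ]
          congr 1
          refine Subtype.ext ?_
          show z * (a : K) * z⁻¹ = ⁅(a : K), z⁆⁻¹ * a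
          rw [commutatorElement_def]
          group
        rw [LinearMap.sub_apply, Module.End.one_apply,
          show closureRep RW (π zg) ((1 : Kr) ⊗ₜ (e (QuotientGroup.mk' R' a)).toAdd) =
            (1 : Kr) ⊗ₜ RW (π zg) (e (QuotientGroup.mk' R' a)).toAdd from LinearMap.baseChange_tmul ..,
          he, MonoidHom.id_apply, hza]
        simp only [map_mul e, map_inv e, map_pow e, toAdd_mul, toAdd_inv, toAdd_pow, TensorProduct.tmul_add,
          TensorProduct.tmul_neg, TensorProduct.tmul_smul, add_sub_cancel_right]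
        exact neg_mem (add_mem
          (Submodule.smul_of_tower_mem _ i (Submodule.subset_span (by simp [M1])))
          (Submodule.smul_of_tower_mem _ k (Submodule.subset_span (by simp [M2]))))
    exact (Submodule.finrank_mono hle).trans ((finrank_span_finset_le_card _).trans Finset.card_le_two)
  refine hfinal (derived_centralizes_twoGroup (ρ := closureRep RW) (closureRep_injective hRW) h2K (q := q) hq2
    ((hS2p.of_equiv (subgroupOfEquivOfLe hSL).symm).map π) ((hDp.of_equiv (subgroupOfEquivOfLe hDL).symm).map π)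
    (z := π zg) ?_ ?_ ?_ ?_ ?_ hrankK)
  · rintro _ ⟨d, hd, rfl⟩ _ ⟨s, hs, rfl⟩
    exact ⟨d * s * d⁻¹, mem_subgroupOf.2 (hDS2 _ (mem_subgroupOf.1 hd) _ (mem_subgroupOf.1 hs)), by simp⟩
  · rintro _ ⟨s, hs, rfl⟩
    exact ⟨zg * s * zg⁻¹, mem_subgroupOf.2 (hzzpow hxS2 _ (mem_subgroupOf.1 hs)), by simp⟩
  · rintro _ ⟨d, hd, rfl⟩
    exact ⟨zg * d * zg⁻¹, mem_subgroupOf.2 (hzzpow hxD _ (mem_subgroupOf.1 hd)), by simp⟩
  · rw [← map_pow, show zg ^ 4 = 1 from Subtype.ext (by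
      show z ^ 4 = 1
      rw [hz, ← pow_mul, show 2 ^ n * 4 = 2 ^ (n + 2) by ring, hxord]), map_one]
  · rw [← map_pow, hzy]
    exact hDgy

/-- Two levels of the upper `2`-series halve the exponent. -/
theorem pow_eq_one_two_levels {G : Type u} [Group G] [Finite G] [Group.IsSolvable G]
    (hO : Cfsg.pPrimeCore 2 G = ⊥) (n : ℕ)
    (hexp : ∀ (P : Sylow 2 G), ∀ x ∈ (P : Subgroup G), x ^ 2 ^ (n + 2) = 1) :
    ∀ (P : Sylow 2 (((G ⧸ Cfsg.pCore 2 G) ⧸ Cfsg.pPrimeCore 2 (G ⧸ Cfsg.pCore 2 G)) ⧸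
        Cfsg.pCore 2 ((G ⧸ Cfsg.pCore 2 G) ⧸ Cfsg.pPrimeCore 2 (G ⧸ Cfsg.pCore 2 G)))),
      ∀ x ∈ (P : Subgroup (((G ⧸ Cfsg.pCore 2 G) ⧸ Cfsg.pPrimeCore 2 (G ⧸ Cfsg.pCore 2 G)) ⧸
        Cfsg.pCore 2 ((G ⧸ Cfsg.pCore 2 G) ⧸ Cfsg.pPrimeCore 2 (G ⧸ Cfsg.pCore 2 G)))),
        x ^ 2 ^ (n + 1) = 1 := by
  have : Fact (Nat.Prime 2) := ⟨Nat.prime_two⟩
  set O := Cfsg.pCore 2 G with hOdef
  let f := QuotientGroup.mk' O
  have hf : Function.Surjective f := QuotientGroup.mk'_surjective O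
  have : Group.IsSolvable (G ⧸ O) := Group.isSolvable_of_surjective hf
  obtain ⟨V, _, _, _, ρ, hρ, hnorm⟩ := exists_layer_rep (Core.isPSolvable_of_isSolvable (G := G)) hO
  refine no_config Core.pCore_quotient_pCore_eq_bot hρ n (pow_eq_one_of_surjective f hf hexp) fun g hg => ?_
  obtain ⟨P, hP⟩ := hg.exists_le_sylow
  obtain ⟨S, hS⟩ := Sylow.mapSurjective_surjective hf 2 P
  have hgS : g ∈ (S.mapSurjective hf : Subgroup (G ⧸ O)) := hS ▸ hP (mem_zpowers g)
  obtain ⟨s, hs, rfl⟩ := hgS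
  exact hnorm s _ fun a ha => hexp S _ (mul_mem (Core.pCore_le_sylow S ha) hs)

/-- A soluble group whose Sylow `2`-subgroups have exponent at most two has `2`-length at most one. -/
theorem pChain_one {G : Type u} [Group G] [Finite G] [Group.IsSolvable G]
    (hexp : ∀ (P : Sylow 2 G), ∀ x ∈ (P : Subgroup G), x ^ 2 = 1) : PChain 2 1 G := by
  have : Fact (Nat.Prime 2) := ⟨Nat.prime_two⟩
  refine PChain.reduce (k := 0) (pChain_of_coprime ?_ 0)
  set G1 := G ⧸ Cfsg.pPrimeCore 2 G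
  have hsol1 : Group.IsSolvable G1 := Group.isSolvable_of_surjective (QuotientGroup.mk'_surjective _)
  have hexp1 := pow_eq_one_of_surjective _ (QuotientGroup.mk'_surjective (Cfsg.pPrimeCore 2 G)) hexp
  refine (Nat.prime_two.coprime_iff_not_dvd.2 fun hd => ?_).symm
  rw [← index_eq_card] at hd
  obtain ⟨P⟩ : Nonempty (Sylow 2 G1) := inferInstance
  refine P.not_dvd_index (hd.trans (index_dvd_of_le fun x hx => ?_))
  refine Core.centralizer_pCore_le_of_isPSolvable Core.isPSolvable_of_isSolvable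
    Core.pPrimeCore_quotient_eq_bot (mem_centralizer_iff.2 fun a ha => ?_)
  have haP := Core.pCore_le_sylow P ha
  have h1 : ∀ u ∈ (P : Subgroup G1), u⁻¹ = u := fun u hu =>
    inv_eq_of_mul_eq_one_right (by rw [← pow_two, hexp1 P u hu])
  rw [← h1 _ (mul_mem haP hx), mul_inv_rev, h1 _ hx, h1 _ haP]

/-- **Gross**: the `2`-length is at most `2 e - 1` when the exponent of a Sylow `2`-subgroup divides `2 ^ e`. -/
theorem pChain_of_exponent_two : ∀ (n : ℕ) (G : Type u) [Group G] [Finite G] [Group.IsSolvable G],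
    (∀ (P : Sylow 2 G), ∀ x ∈ (P : Subgroup G), x ^ 2 ^ (n + 1) = 1) → PChain 2 (2 * n + 1) G := by
  have : Fact (Nat.Prime 2) := ⟨Nat.prime_two⟩
  intro n
  induction n with
  | zero => intro G _ _ _ hexp; exact pChain_one (by simpa using hexp)
  | succ n ih =>
    intro G _ _ _ hexp
    set G1 := G ⧸ Cfsg.pPrimeCore 2 G
    have : Group.IsSolvable G1 := Group.isSolvable_of_surjective (QuotientGroup.mk'_surjective _)
    rw [show 2 * (n + 1) + 1 = (2 * n + 1) + 1 + 1 by ring]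
    refine PChain.reduce ?_
    set K := G1 ⧸ Cfsg.pCore 2 G1
    have : Group.IsSolvable K := Group.isSolvable_of_surjective (QuotientGroup.mk'_surjective _)
    refine PChain.reduce ?_
    set K2 := K ⧸ Cfsg.pPrimeCore 2 K
    have : Group.IsSolvable K2 := Group.isSolvable_of_surjective (QuotientGroup.mk'_surjective _)
    have : Group.IsSolvable (K2 ⧸ Cfsg.pCore 2 K2) :=
      Group.isSolvable_of_surjective (QuotientGroup.mk'_surjective _)
    exact ih _ (pow_eq_one_two_levels Core.pPrimeCore_quotient_eq_bot n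
      (pow_eq_one_of_surjective _ (QuotientGroup.mk'_surjective _) hexp))

end Cfsg.Lib.Local.GrossLength
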