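import Cfsg.Agent.Lib.Local.GrossTwoLinear
import Cfsg.Agent.Lib.Local.TopModule
import Cfsg.Agent.Lib.Local.PrimeOrderOperator
import Cfsg.Agent.Lib.PGroup.Basic
import Mathlib.LinearAlgebra.Matrix.GeneralLinearGroup.Card
import Mathlib.LinearAlgebra.Matrix.ToLin

/-!
A `2`-group under a fourth root `z` of unity of rank at most two: the derived group of an odd `q`-group
generated by commutators with `z ^ 2` centralizes it.
-/

set_option autoImplicit false

namespace Cfsg.Lib.Local.GrossLength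

open Subgroup Module
open scoped commutatorElement
open Cfsg.Lib.Local.GrossTwo

universe u

/-- The group of automorphisms of an elementary abelian `2`-group of rank at most five has order dividing
`|GL_5(2)|`. -/
theorem natCard_mulAut_dvd {X : Type u} [CommGroup X] [Finite X] (hX : ∀ v : X, v ^ 2 = 1)
    (hcard : Nat.card X ≤ 36) : Nat.card (MulAut X) ∣ 9999360 := by
  classical
  have : Fact (Nat.Prime 2) := ⟨Nat.prime_two⟩
  obtain ⟨V, _, _, _, R, e, he⟩ := exists_zmod_rep hX (MonoidHom.id (MulAut X))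
  have hR : Function.Injective R := fun k l hkl => MulEquiv.ext fun w =>
    e.injective (Multiplicative.toAdd.injective ((he k w).symm.trans ((LinearMap.congr_fun hkl _).trans (he l w))))
  let b := Module.finBasis (ZMod 2) V
  set d := finrank (ZMod 2) V with hd
  have hd5 : d ≤ 5 := by
    have h1 : Nat.card X = 2 ^ d := by
      rw [Nat.card_congr (e.toEquiv.trans Multiplicative.toAdd), Module.natCard_eq_pow_finrank (K := ZMod 2),
        Nat.card_zmod]
    by_contra hlt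
    have := Nat.pow_le_pow_right (n := 2) (by norm_num) (show 6 ≤ d by omega)
    omega
  let Φ : MulAut X →* GL (Fin d) (ZMod 2) :=
    ((Units.map ((LinearMap.toMatrixAlgEquiv b).toMonoidHom))).comp R.toHomUnits
  have hΦ : Function.Injective Φ := fun k l hkl => hR
    ((LinearMap.toMatrixAlgEquiv b).injective (congrArg Units.val hkl))
  refine (Subgroup.card_dvd_of_injective Φ hΦ).trans ?_
  rw [Matrix.card_GL_field, ZMod.card]
  interval_cases d <;> simp [Fin.prod_univ_succ] <;> norm_num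

/-- A `q`-group of automorphisms of an elementary abelian `2`-group of rank at most five is commutative. -/
theorem commute_of_small {X : Type u} [CommGroup X] [Finite X] (hX : ∀ v : X, v ^ 2 = 1)
    (hcard : Nat.card X ≤ 36) {q : ℕ} [hq : Fact q.Prime] (hq2 : q ≠ 2) {P : Subgroup (MulAut X)}
    (hP : IsPGroup q P) : ∀ a ∈ P, ∀ b ∈ P, a * b = b * a := by
  obtain ⟨i, hi⟩ := IsPGroup.iff_card.1 hP
  have hdvd : q ^ i ∣ 9999360 := hi ▸ (card_subgroup_dvd_card P).trans (natCard_mulAut_dvd hX hcard)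
  have hi2 : i ≤ 2 := by
    by_contra hlt
    have h3 : q ^ 3 ∣ 9765 * 1024 := (pow_dvd_pow q (by omega : 3 ≤ i)).trans hdvd
    have h4 : q ^ 3 ∣ 9765 := (Nat.Coprime.pow 3 10 ((Nat.coprime_primes hq.out Nat.prime_two).2 hq2)
      ).dvd_of_dvd_mul_right h3
    have h5 : q < 22 := by
      by_contra h
      have h6 := Nat.le_of_dvd (by norm_num) h4
      have := Nat.pow_le_pow_left (le_of_not_gt h) 3
      omega
    have := hq.out.two_le
    interval_cases q <;> revert h4 <;> decide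
  intro a ha b hb
  have key : ∀ u w : P, u * w = w * u := by
    interval_cases i
    · intro u w
      have := (Nat.card_eq_one_iff_unique.1 (hi.trans (pow_zero q))).1
      exact Subsingleton.elim _ _
    · have := isCyclic_of_prime_card (hi.trans (pow_one q))
      exact fun u w => IsMulCommutative.is_comm.comm u w
    · exact IsPGroup.commutative_of_card_eq_prime_sq hi
  exact congrArg Subtype.val (key ⟨a, ha⟩ ⟨b, hb⟩)

variable {H : Type u} [Group H] [Finite H] {F : Type*} [Field F] {V : Type*} [AddCommGroup V] [Module F V]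
  {ρ : H →* Module.End F V}

/-- A fourth root of unity of rank at most two has its square fixing every character of an invariant abelian
subgroup. -/
theorem square_fixes_character [FiniteDimensional F V] {A : Subgroup H} (hA : (Nat.card A : F) ≠ 0) {z : H}
    (hzA : ∀ a ∈ A, z * a * z⁻¹ ∈ A) (hz4 : z ^ 4 = 1) (hrank : finrank F (LinearMap.range (ρ z - 1)) ≤ 2)
    {χ : H → F} (hχ : eigenOf ρ A χ ≠ ⊥) : ∀ a ∈ A, χ (z ^ 2 * a * (z ^ 2)⁻¹) = χ a := by
  classical
  by_contra hcon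
  push Not at hcon
  obtain ⟨a0, ha0, hne⟩ := hcon
  have hpowA : ∀ (i : ℕ), ∀ a ∈ A, z ^ i * a * (z ^ i)⁻¹ ∈ A := by
    intro i
    induction i with
    | zero => intro a ha; simpa using ha
    | succ i ih =>
      intro a ha
      rw [show z ^ (i + 1) * a * (z ^ (i + 1))⁻¹ = z * (z ^ i * a * (z ^ i)⁻¹) * z⁻¹ by rw [pow_succ']; group]
      exact hzA _ (ih a ha)
  have hper : ∀ i : ℕ, z ^ (i + 4) = z ^ i := fun i => by rw [pow_add, hz4, mul_one]
  have hinv : ∀ i ≤ 4, (z ^ i)⁻¹ = z ^ (4 - i) := fun i hi =>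
    inv_eq_of_mul_eq_one_right (by rw [← pow_add, Nat.add_sub_cancel' hi, hz4])
  have hinvA : ∀ i ≤ 4, ∀ a ∈ A, (z ^ i)⁻¹ * a * z ^ i ∈ A := fun i hi a ha => by
    have h1 := hpowA (4 - i) a ha
    rw [← hinv i hi, inv_inv] at h1
    exact h1
  obtain ⟨v, hv, hv0⟩ := Submodule.exists_mem_ne_zero_of_ne_bot hχ
  let χi : ℕ → H → F := fun i a => χ ((z ^ i)⁻¹ * a * z ^ i)
  let w : ℕ → V := fun i => ρ (z ^ i) v
  have hw : ∀ i ≤ 4, w i ∈ eigenOf ρ A (χi i) := fun i hi => mem_eigenOf.2 fun a ha => by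
    show ρ a (ρ (z ^ i) v) = χ _ • ρ (z ^ i) v
    rw [← ρ_mul_apply, show a * z ^ i = z ^ i * ((z ^ i)⁻¹ * a * z ^ i) by group, ρ_mul_apply,
      mem_eigenOf.1 hv _ (hinvA i hi a ha), map_smul]
  -- the four characters are distinct
  have hdist : ∀ d ∈ ({1, 2, 3} : Finset ℕ), ∃ a ∈ A, χ (z ^ d * a * (z ^ d)⁻¹) ≠ χ a := by
    intro d hd
    by_contra hall
    push Not at hall
    refine hne ?_
    simp only [Finset.mem_insert, Finset.mem_singleton] at hd
    rcases hd with rfl | rfl | rfl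
    · rw [show z ^ 2 * a0 * (z ^ 2)⁻¹ = z ^ 1 * (z ^ 1 * a0 * (z ^ 1)⁻¹) * (z ^ 1)⁻¹ by group,
        hall _ (hpowA 1 a0 ha0), hall a0 ha0]
    · exact hall a0 ha0
    · rw [show z ^ 2 = z ^ 3 * z ^ 3 by rw [← pow_add, show 3 + 3 = 2 + 4 from rfl, hper],
        show z ^ 3 * z ^ 3 * a0 * (z ^ 3 * z ^ 3)⁻¹ = z ^ 3 * (z ^ 3 * a0 * (z ^ 3)⁻¹) * (z ^ 3)⁻¹ by group,
        hall _ (hpowA 3 a0 ha0), hall a0 ha0]
  have hsep : ∀ i < 4, ∀ k < 4, i < k → ∃ a ∈ A, χi i a ≠ χi k a := by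
    intro i hi k hk hik
    obtain ⟨a, ha, hd⟩ := hdist (k - i) (by
      simp only [Finset.mem_insert, Finset.mem_singleton]; omega)
    refine ⟨z ^ k * a * (z ^ k)⁻¹, hpowA k a ha, ?_⟩
    show χ _ ≠ χ _
    rw [show (z ^ k)⁻¹ * (z ^ k * a * (z ^ k)⁻¹) * z ^ k = a by group]
    nth_rewrite 1 [← Nat.add_sub_cancel' hik.le]
    nth_rewrite 2 [← Nat.add_sub_cancel' hik.le]
    rw [pow_add, show (z ^ i)⁻¹ * (z ^ i * z ^ (k - i) * a * (z ^ i * z ^ (k - i))⁻¹) * z ^ i =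
      z ^ (k - i) * a * (z ^ (k - i))⁻¹ by group]
    exact hd
  -- three independent vectors in the range
  let u : Fin 3 → V := fun i => (ρ z - 1) (w i)
  have hu : ∀ i : Fin 3, u i = w ((i : ℕ) + 1) - w i := fun i => by
    show ρ z (ρ (z ^ (i : ℕ)) v) - ρ (z ^ (i : ℕ)) v = _
    rw [← ρ_mul_apply, ← pow_succ']
  have hli : LinearIndependent F u := by
    rw [Fintype.linearIndependent_iff]
    intro g hg
    let c : ℕ → F := fun i => if i = 0 then -g 0 else if i = 1 then g 0 - g 1 else if i = 2 then g 1 - g 2 else g 2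
    have hsum : ∑ i ∈ Finset.range 4, c i • w i = 0 := by
      rw [← hg]
      simp only [Fin.sum_univ_three, hu, Finset.sum_range_succ, Finset.sum_range_zero, zero_add, c]
      simp only [Fin.val_zero, Fin.val_one, Fin.val_two, OfNat.ofNat_ne_zero, if_false, one_ne_zero, if_true,
        OfNat.ofNat_ne_one, if_neg (show ¬ (3 : ℕ) = 2 by norm_num)]
      module
    have hterm : ∀ k < 4, c k • w k = 0 := fun k hk =>
      eigen_sum_eq_zero hA (Finset.range 4) χi (fun i => c i • w i)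
        (fun i hi => Submodule.smul_mem _ _ (hw i (Finset.mem_range.1 hi).le)) (Finset.mem_range.2 hk)
        (fun i hi hik => by
          rcases lt_or_gt_of_ne hik with h | h
          · exact hsep i (Finset.mem_range.1 hi) k hk h
          · obtain ⟨a, ha, e⟩ := hsep k hk i (Finset.mem_range.1 hi) h
            exact ⟨a, ha, e.symm⟩) hsum
    have hc : ∀ k < 4, c k = 0 := fun k hk =>
      (smul_eq_zero.1 (hterm k hk)).resolve_right (ρ_ne_zero ρ _ hv0)
    have h0 := hc 0 (by norm_num); have h3 := hc 3 (by norm_num); have h1 := hc 1 (by norm_num)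
    simp only [c, if_true, OfNat.ofNat_ne_zero, if_false, one_ne_zero, OfNat.ofNat_ne_one,
      if_neg (show ¬ (3 : ℕ) = 2 by norm_num), neg_eq_zero] at h0 h1 h3
    intro i
    fin_cases i
    · exact h0
    · simpa [h0] using h1
    · exact h3
  have h1 : Submodule.span F (Set.range u) ≤ LinearMap.range (ρ z - 1) :=
    Submodule.span_le.2 fun _ ⟨i, hi⟩ => hi ▸ LinearMap.mem_range_self _ _
  have h2 := Submodule.finrank_mono h1
  rw [finrank_span_eq_card hli, Fintype.card_fin] at h2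
  omega

/-- The square of a fourth root of unity of rank at most two centralizes invariant abelian subgroups of
order prime to the characteristic. -/
theorem square_centralizes [IsAlgClosed F] [FiniteDimensional F V] (hρ : Function.Injective ρ)
    {A : Subgroup H} (hA : (Nat.card A : F) ≠ 0) (hab : ∀ a ∈ A, ∀ b ∈ A, a * b = b * a) {z : H}
    (hzA : ∀ a ∈ A, z * a * z⁻¹ ∈ A) (hz4 : z ^ 4 = 1) (hrank : finrank F (LinearMap.range (ρ z - 1)) ≤ 2) :
    ∀ a ∈ A, z ^ 2 * a * (z ^ 2)⁻¹ = a := by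
  intro a ha
  have hord : ∀ b ∈ A, ((orderOf b : ℕ) : F) ≠ 0 := fun b hb e => hA (by
    obtain ⟨k, hk⟩ := A.orderOf_dvd_natCard hb
    rw [hk, Nat.cast_mul, e, zero_mul])
  set w0 := (z ^ 2 * a * (z ^ 2)⁻¹) * a⁻¹ with hw0
  have hya : z ^ 2 * a * (z ^ 2)⁻¹ ∈ A := by
    rw [show z ^ 2 * a * (z ^ 2)⁻¹ = z * (z * a * z⁻¹) * z⁻¹ by simp [pow_two, mul_assoc]]
    exact hzA _ (hzA a ha)
  have hw0A : w0 ∈ A := mul_mem hya (inv_mem ha)
  by_contra hne
  have hw1 : w0 ≠ 1 := fun e => hne (mul_inv_eq_one.1 e)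
  obtain ⟨χ, v, hvU, hv, hv0⟩ := exists_eigen_not_mem (ρ := ρ) A hab hord ⊥ (LinearMap.range (ρ w0 - 1))
    (fun b hb v hv => by
      obtain ⟨w, rfl⟩ := hv
      refine ⟨ρ b w, ?_⟩
      rw [LinearMap.sub_apply, LinearMap.sub_apply, Module.End.one_apply, Module.End.one_apply, map_sub,
        ← ρ_mul_apply, hab w0 hw0A b hb, ρ_mul_apply])
    (fun hle => hw1 (hρ (by rw [map_one]; exact sub_eq_zero.1 (LinearMap.range_eq_bot.1 (le_bot_iff.1 hle)))))
  rw [Submodule.mem_bot] at hv0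
  have hχ : eigenOf ρ A χ ≠ ⊥ := fun eb => hv0 ((Submodule.eq_bot_iff _).1 eb v hv)
  have h1 : χ w0 = 1 := by
    rw [hw0, eigen_mul hχ hya (inv_mem ha), square_fixes_character hA hzA hz4 hrank hχ a ha,
      ← eigen_mul hχ ha (inv_mem ha), mul_inv_cancel, eigen_one hχ]
  obtain ⟨w, hw⟩ := hvU
  have hpow : ∀ t : ℕ, ρ (w0 ^ t) v = v := by
    intro t
    induction t with
    | zero => simp
    | succ t ih => rw [pow_succ, ρ_mul_apply, mem_eigenOf.1 hv w0 hw0A, h1, one_smul, ih]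
  have h2 : ∑ t ∈ Finset.range (orderOf w0), ρ (w0 ^ t) v = 0 := by
    rw [← hw]
    simp only [LinearMap.sub_apply, Module.End.one_apply, map_sub, ← ρ_mul_apply, ← pow_succ]
    rw [Finset.sum_range_sub (fun t => ρ (w0 ^ t) w), pow_orderOf_eq_one, pow_zero, sub_self]
  rw [Finset.sum_congr rfl fun t _ => hpow t, Finset.sum_const, Finset.card_range,
    ← Nat.cast_smul_eq_nsmul F] at h2
  exact hv0 ((smul_eq_zero.1 h2).resolve_left (hord w0 hw0A))

/-- An odd `q`-group generated by commutators with the square of a fourth root of unity of rank at most two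
has derived group centralizing every invariant `2`-group. -/
theorem derived_centralizes_twoGroup [IsAlgClosed F] [FiniteDimensional F V] (hρ : Function.Injective ρ)
    (h2F : (2 : F) ≠ 0) {q : ℕ} [hq : Fact q.Prime] (hq2 : q ≠ 2) {S D : Subgroup H} (hS : IsPGroup 2 S)
    (hD : IsPGroup q D) {z : H} (hDS : ∀ d ∈ D, ∀ s ∈ S, d * s * d⁻¹ ∈ S)
    (hzS : ∀ s ∈ S, z * s * z⁻¹ ∈ S) (hzD : ∀ d ∈ D, z * d * z⁻¹ ∈ D) (hz4 : z ^ 4 = 1)
    (hDy : ⁅D, zpowers (z ^ 2)⁆ = D) (hrank : finrank F (LinearMap.range (ρ z - 1)) ≤ 2) :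
    ⁅D, D⁆ ≤ centralizer (S : Set H) := by
  classical
  have : Fact (Nat.Prime 2) := ⟨Nat.prime_two⟩
  by_contra hcon
  obtain ⟨S0, ⟨hS0S, hDS0, hzS0, hES0⟩, hmin'⟩ := Set.Finite.exists_minimal
    (s := {R : Subgroup H | R ≤ S ∧ (∀ d ∈ D, ∀ a ∈ R, d * a * d⁻¹ ∈ R) ∧ (∀ a ∈ R, z * a * z⁻¹ ∈ R) ∧
      ¬ ⁅D, D⁆ ≤ centralizer (R : Set H)}) (Set.toFinite _) ⟨S, le_rfl, hDS, hzS, hcon⟩
  set E := ⁅D, D⁆ with hE
  have hmin : ∀ R : Subgroup H, R ≤ S0 → R ≠ S0 → (∀ d ∈ D, ∀ a ∈ R, d * a * d⁻¹ ∈ R) →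
      (∀ a ∈ R, z * a * z⁻¹ ∈ R) → E ≤ centralizer (R : Set H) := fun R hR hne h1 h2 => by
    by_contra hc
    exact hne (le_antisymm hR (hmin' ⟨hR.trans hS0S, h1, h2, hc⟩ hR))
  have hS02 : IsPGroup 2 S0 := hS.to_le hS0S
  have hED : E ≤ D := commutator_le.2 fun a ha b hb => mul_mem (mul_mem (mul_mem ha hb) (inv_mem ha)) (inv_mem hb)
  have hEn : E ≤ normalizer (S0 : Set H) := fun g hg => mem_normalizer_of_conj_mem (hDS0 g (hED hg))
  have hcopE : (Nat.card E).Coprime (Nat.card S0) := by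
    obtain ⟨i, hi⟩ := IsPGroup.iff_card.1 (hD.to_le hED)
    obtain ⟨k, hk⟩ := IsPGroup.iff_card.1 hS02
    rw [hi, hk]
    exact ((Nat.coprime_primes hq.out Nat.prime_two).2 hq2).pow i k
  have hsolE : Group.IsSolvable E ∨ Group.IsSolvable S0 :=
    Or.inr (have := hS02.isNilpotent; IsNilpotent.to_isSolvable)
  have hcent_bot : ∀ R : Subgroup H, E ≤ centralizer (R : Set H) → ⁅E, R⁆ = ⊥ :=
    fun R h => commutator_eq_bot_iff_le_centralizer.2 h
  have hzE : ∀ g ∈ E, z * g * z⁻¹ ∈ E := fun g hg => conj_mem_commutator hzD hzD hg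
  have hSE : ⁅S0, E⁆ = S0 := by
    by_contra hne
    have h := hmin _ (Coprime.commutator_le_of_le_normalizer hEn) hne
      (fun d hd u hu => conj_mem_commutator (hDS0 d hd)
        (fun g hg => conj_mem_commutator (fun a ha => mul_mem (mul_mem hd ha) (inv_mem hd))
          (fun a ha => mul_mem (mul_mem hd ha) (inv_mem hd)) hg) hu)
      (fun u hu => conj_mem_commutator hzS0 hzE hu)
    refine hES0 ?_
    have h0 := Coprime.commutator_eq_bot_of_commutator_commutator_eq_bot hEn hcopE hsolE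
      (by rw [commutator_comm]; exact hcent_bot _ h)
    rw [commutator_comm] at h0
    exact commutator_eq_bot_iff_le_centralizer.1 h0
  have hS0ne : S0 ≠ ⊥ := fun e => hES0 (fun d _ => mem_centralizer_iff.2 fun u hu => by
    rw [e, SetLike.mem_coe, mem_bot] at hu
    rw [hu, one_mul, mul_one])
  set Φ0 := (frattini S0).map S0.subtype with hΦ0
  have hΦE : E ≤ centralizer (Φ0 : Set H) := by
    refine hmin Φ0 (map_subtype_le _) (fun e => ?_)
      (fun d hd c hc => conj_mem_frattini_map (mem_normalizer_of_conj_mem (hDS0 d hd)) hc)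
      (fun c hc => conj_mem_frattini_map (mem_normalizer_of_conj_mem hzS0) hc)
    have hnt : Nontrivial S0 := (nontrivial_iff_ne_bot S0).2 hS0ne
    refine PGroup.frattini_ne_top (G := S0) (eq_top_iff.2 fun b _ => ?_)
    obtain ⟨c, hc, hcb⟩ := e.ge b.2
    rwa [← show c = b from Subtype.ext hcb]
  have hΦmem : ∀ a ∈ S0, ∀ b ∈ S0, ⁅a, b⁆ ∈ Φ0 := fun a ha b hb =>
    ⟨⁅(⟨a, ha⟩ : S0), ⟨b, hb⟩⁆,
      PGroup.commutator_le_frattini hS02 (Subgroup.commutator_mem_commutator (mem_top _) (mem_top _)), rfl⟩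
  have hΦsq : ∀ a ∈ S0, a ^ 2 ∈ Φ0 := fun a ha =>
    ⟨(⟨a, ha⟩ : S0) ^ 2, PGroup.pow_mem_frattini hS02 _, rfl⟩
  set A := innerCenter S0 with hA
  have hΦA : Φ0 ≤ A := by
    have hsub : ⁅Φ0, S0⁆ ≤ Φ0 := commutator_le.2 fun c hc b hb => hΦmem c (map_subtype_le _ hc) b hb
    have h1 : ⁅⁅S0, E⁆, Φ0⁆ = ⊥ := by
      refine commutator_commutator_eq_bot_of_rotate ?_ ?_
      · rw [hcent_bot _ hΦE, commutator_bot_left]
      · rw [commutator_comm, ← le_bot_iff]
        exact (commutator_mono le_rfl hsub).trans (hcent_bot _ hΦE).le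
    rw [hSE, commutator_eq_bot_iff_le_centralizer] at h1
    exact fun c hc => mem_innerCenter.2 ⟨map_subtype_le _ hc, fun b hb => mem_centralizer_iff.1 (h1 hb) c hc⟩
  have hAS0 : A ≤ S0 := fun a ha => (mem_innerCenter.1 ha).1
  have hcomA : ∀ a ∈ A, ∀ b ∈ S0, a * b = b * a := fun a ha => (mem_innerCenter.1 ha).2
  have hcomm : ∀ a ∈ S0, ∀ b ∈ S0, ⁅a, b⁆ ∈ A := fun a ha b hb => hΦA (hΦmem a ha b hb)
  have hAab : ∀ a ∈ A, ∀ b ∈ A, a * b = b * a := fun a ha b hb => hcomA a ha b (hAS0 hb)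
  have hAcard : (Nat.card A : F) ≠ 0 :=
    natCard_cast_ne_zero (q := 2) (by exact_mod_cast h2F) (hS02.to_le hAS0)
  have hAord : ∀ b ∈ A, ((orderOf b : ℕ) : F) ≠ 0 := fun b hb e => hAcard (by
    obtain ⟨k, hk⟩ := A.orderOf_dvd_natCard hb
    rw [hk, Nat.cast_mul, e, zero_mul])
  have hNA : ∀ g : H, (∀ a ∈ S0, g * a * g⁻¹ ∈ S0) → ∀ a ∈ A, g * a * g⁻¹ ∈ A := by
    intro g hg a ha
    refine mem_innerCenter.2 ⟨hg a (hAS0 ha), fun b hb => ?_⟩
    have hn := mem_normalizer_of_conj_mem hg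
    have e := hcomA a ha _ (show g⁻¹ * b * g ∈ S0 by simpa using (mem_normalizer_iff.1 (inv_mem hn) b).1 hb)
    calc g * a * g⁻¹ * b = g * (a * (g⁻¹ * b * g)) * g⁻¹ := by group
      _ = b * (g * a * g⁻¹) := by rw [e]; group
  set y := z ^ 2 with hy
  have hyA : ∀ a ∈ A, y * a * y⁻¹ = a :=
    square_centralizes hρ hAcard hAab (hNA z hzS0) hz4 hrank
  have hy2 : y * y = 1 := by rw [hy, ← pow_add, hz4]
  have hDA : ∀ d ∈ D, ∀ a ∈ A, d * a * d⁻¹ = a := by
    suffices hle : D ≤ centralizer (A : Set H) from fun d hd a ha => by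
      rw [← mem_centralizer_iff.1 (hle hd) a ha, mul_inv_cancel_right]
    rw [← hDy, commutator_le]
    intro d hd k hk
    have hkA : ∀ a ∈ A, k * a * k⁻¹ = a := fun a ha => by
      obtain ⟨i, hi⟩ := mem_zpowers_iff.1 hk
      rw [← hi, ((show Commute y a from mul_inv_eq_iff_eq_mul.1 (hyA a ha)).zpow_left i).eq, mul_inv_cancel_right]
    refine mem_centralizer_iff.2 fun a ha => ?_
    have h1 := hNA d⁻¹ (fun b hb => hDS0 _ (inv_mem hd) b hb) a ha
    rw [inv_inv] at h1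
    have h2 : k⁻¹ * a * k = a := by
      nth_rewrite 1 [← hkA a ha]
      group
    have h3 : d⁻¹ * a * d = k * (d⁻¹ * a * d) * k⁻¹ := (hkA _ h1).symm
    rw [commutatorElement_def]
    calc a * (d * k * d⁻¹ * k⁻¹) = d * (d⁻¹ * a * d) * k * d⁻¹ * k⁻¹ := by group
      _ = d * (k * (d⁻¹ * a * d) * k⁻¹) * k * d⁻¹ * k⁻¹ := by rw [← h3]
      _ = d * k * d⁻¹ * (a * k⁻¹) := by group
      _ = d * k * d⁻¹ * k⁻¹ * a := by
          nth_rewrite 1 [← h2]
          group
  -- a character seeing the action of `E`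
  obtain ⟨a1, ha1, e1, he1, b1, hb1, hz0⟩ : ∃ a ∈ S0, ∃ e ∈ E, ∃ b ∈ S0, ⁅⁅a, e⁆, b⁆ ≠ 1 := by
    by_contra hall
    push Not at hall
    have hle : S0 ≤ A := by
      conv_lhs => rw [← hSE]
      rw [commutator_le]
      intro a ha e he
      have haE : ⁅a, e⁆ ∈ S0 := Coprime.commutator_le_of_le_normalizer hEn
        (Subgroup.commutator_mem_commutator ha he)
      exact mem_innerCenter.2 ⟨haE, fun b hb => commutatorElement_eq_one_iff_mul_comm.1 (hall a ha e he b hb)⟩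
    refine hES0 fun e he => mem_centralizer_iff.2 fun a ha => ?_
    exact (mul_inv_eq_iff_eq_mul.1 (hDA e (hED he) a (hle ha))).symm
  set g1 := ⁅a1, e1⁆ with hg1
  have hg1S : g1 ∈ S0 := Coprime.commutator_le_of_le_normalizer hEn (Subgroup.commutator_mem_commutator ha1 he1)
  set z0 := ⁅g1, b1⁆ with hz0def
  have hz0A : z0 ∈ A := hcomm _ hg1S _ hb1
  obtain ⟨χ, v, hvU, hv, hv0⟩ := exists_eigen_not_mem (ρ := ρ) A hAab hAord ⊥ (LinearMap.range (ρ z0 - 1))
    (fun b hb v hv => by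
      obtain ⟨w, rfl⟩ := hv
      refine ⟨ρ b w, ?_⟩
      rw [LinearMap.sub_apply, LinearMap.sub_apply, Module.End.one_apply, Module.End.one_apply, map_sub,
        ← ρ_mul_apply, hAab z0 hz0A b hb, ρ_mul_apply])
    (fun hle => hz0 (hρ (by rw [map_one]; exact sub_eq_zero.1 (LinearMap.range_eq_bot.1 (le_bot_iff.1 hle)))))
  rw [Submodule.mem_bot] at hv0
  have hχ : eigenOf ρ A χ ≠ ⊥ := fun eb => hv0 ((Submodule.eq_bot_iff _).1 eb v hv)
  have hχz0 : χ z0 ≠ 1 := fun e => by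
    obtain ⟨w, hw⟩ := hvU
    have hpow : ∀ t : ℕ, ρ (z0 ^ t) v = v := by
      intro t
      induction t with
      | zero => simp
      | succ t ih => rw [pow_succ, ρ_mul_apply, mem_eigenOf.1 hv z0 hz0A, e, one_smul, ih]
    have h2 : ∑ t ∈ Finset.range (orderOf z0), ρ (z0 ^ t) v = 0 := by
      rw [← hw]
      simp only [LinearMap.sub_apply, Module.End.one_apply, map_sub, ← ρ_mul_apply, ← pow_succ]
      rw [Finset.sum_range_sub (fun t => ρ (z0 ^ t) w), pow_orderOf_eq_one, pow_zero, sub_self]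
    rw [Finset.sum_congr rfl fun t _ => hpow t, Finset.sum_const, Finset.card_range,
      ← Nat.cast_smul_eq_nsmul F] at h2
    exact hv0 ((smul_eq_zero.1 h2).resolve_left (hAord z0 hz0A))
  -- the pairing
  let p : H → H → F := fun a b => χ ⁅a, b⁆
  have hcl : ∀ a ∈ S0, ∀ b ∈ S0, ∀ c ∈ S0, ⁅a * b, c⁆ = ⁅a, c⁆ * ⁅b, c⁆ := fun a ha b hb c hc => by
    rw [show ⁅a * b, c⁆ = a * ⁅b, c⁆ * a⁻¹ * ⁅a, c⁆ by simp only [commutatorElement_def]; group,
      ← hcomA _ (hcomm b hb c hc) a ha, mul_inv_cancel_right]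
    exact hcomA _ (hcomm b hb c hc) _ (hAS0 (hcomm a ha c hc))
  have hsq : ∀ a ∈ S0, ∀ b ∈ S0, ⁅a, b⁆ * ⁅a, b⁆ = 1 := fun a ha b hb => by
    rw [← hcl a ha a ha b hb, ← pow_two, commutatorElement_eq_one_iff_mul_comm]
    exact hcomA _ (hΦA (hΦsq a ha)) b hb
  have pl : ∀ a ∈ S0, ∀ b ∈ S0, ∀ c ∈ S0, p (a * b) c = p a c * p b c := fun a ha b hb c hc => by
    show χ _ = _
    rw [hcl a ha b hb c hc, eigen_mul hχ (hcomm a ha c hc) (hcomm b hb c hc)]
  have psq : ∀ a ∈ S0, ∀ b ∈ S0, p a b * p a b = 1 := fun a ha b hb => by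
    show χ _ * χ _ = 1
    rw [← eigen_mul hχ (hcomm a ha b hb) (hcomm a ha b hb), hsq a ha b hb, eigen_one hχ]
  have psymm : ∀ a ∈ S0, ∀ b ∈ S0, p a b = p b a := fun a ha b hb => by
    show χ _ = χ _
    rw [← commutatorElement_inv b a, inv_eq_of_mul_eq_one_right (hsq b hb a ha)]
  have pr : ∀ a ∈ S0, ∀ b ∈ S0, ∀ c ∈ S0, p c (a * b) = p c a * p c b := fun a ha b hb c hc => by
    rw [psymm c hc _ (mul_mem ha hb), pl a ha b hb c hc, psymm c hc a ha, psymm c hc b hb]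
  have pone : ∀ c, p 1 c = 1 := fun c => by show χ _ = 1; rw [commutatorElement_one_left, eigen_one hχ]
  have pinv : ∀ a ∈ S0, ∀ c ∈ S0, p a⁻¹ c = p a c := fun a ha c hc => by
    have h1 : p a⁻¹ c * p a c = 1 := by rw [← pl _ (inv_mem ha) a ha c hc, inv_mul_cancel, pone]
    calc p a⁻¹ c = p a⁻¹ c * (p a c * p a c) := by rw [psq a ha c hc, mul_one]
      _ = p a c := by rw [← mul_assoc, h1, one_mul]
  let R : Subgroup H :=
    { carrier := {a | a ∈ S0 ∧ ∀ b ∈ S0, p a b = 1}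
      one_mem' := ⟨one_mem _, fun b _ => pone b⟩
      mul_mem' := fun {a a'} ha ha' => ⟨mul_mem ha.1 ha'.1, fun b hb => by
        rw [pl a ha.1 a' ha'.1 b hb, ha.2 b hb, ha'.2 b hb, one_mul]⟩
      inv_mem' := fun {a} ha => ⟨inv_mem ha.1, fun b hb => by rw [pinv a ha.1 b hb, ha.2 b hb]⟩ }
  have hAR : A ≤ R := fun a ha => ⟨hAS0 ha, fun b hb => by
    show χ _ = 1
    rw [commutatorElement_eq_one_iff_mul_comm.2 (hcomA a ha b hb), eigen_one hχ]⟩
  let R' := R.subgroupOf S0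
  haveI hRn : R'.Normal := ⟨fun a ha g => by
    rw [mem_subgroupOf] at ha ⊢
    have h1 : (g : H) * a * (g : H)⁻¹ = ⁅(g : H), (a : H)⁆ * a := by rw [commutatorElement_def]; group
    rw [Subgroup.coe_mul, Subgroup.coe_mul, InvMemClass.coe_inv, h1]
    exact mul_mem (hAR (hcomm g g.2 a a.2)) ha⟩
  letI : CommGroup (S0 ⧸ R') := { (inferInstance : Group (S0 ⧸ R')) with
    mul_comm := by
      rintro ⟨a⟩ ⟨b⟩
      refine (QuotientGroup.eq (a := a * b) (b := b * a)).2 (mem_subgroupOf.2 ?_)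
      rw [show (((a * b)⁻¹ * (b * a) : S0) : H) = ⁅(b : H)⁻¹, (a : H)⁻¹⁆ by
        simp [commutatorElement_def, mul_assoc]]
      exact hAR (hcomm _ (inv_mem b.2) _ (inv_mem a.2)) }
  have hX2 : ∀ i : S0 ⧸ R', i ^ 2 = 1 := fun i => by
    obtain ⟨a, rfl⟩ := QuotientGroup.mk'_surjective _ i
    rw [← map_pow]
    refine (QuotientGroup.eq_one_iff _).2 (mem_subgroupOf.2 (hAR (hΦA ?_)))
    rw [SubmonoidClass.coe_pow]
    exact hΦsq a a.2
  -- the group of operators fixing the character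
  let G0 : Subgroup H :=
    { carrier := {g | (g ∈ normalizer (S0 : Set H)) ∧ ∀ a ∈ A, χ (g * a * g⁻¹) = χ a}
      one_mem' := ⟨one_mem _, fun a _ => by simp⟩
      mul_mem' := fun {g g'} hg hg' => ⟨mul_mem hg.1 hg'.1, fun a ha => by
        rw [show g * g' * a * (g * g')⁻¹ = g * (g' * a * g'⁻¹) * g⁻¹ by group,
          hg.2 _ (hNA g' (fun b hb => (mem_normalizer_iff.1 hg'.1 b).1 hb) a ha), hg'.2 a ha]⟩
      inv_mem' := fun {g} hg => ⟨inv_mem hg.1, fun a ha => by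
        rw [← hg.2 _ (hNA g⁻¹ (fun b hb => (mem_normalizer_iff.1 (inv_mem hg.1) b).1 hb) a ha)]
        congr 1
        group⟩ }
  have hpG : ∀ g ∈ G0, ∀ a ∈ S0, ∀ b ∈ S0, p (g * a * g⁻¹) (g * b * g⁻¹) = p a b := fun g hg a ha b hb => by
    show χ ⁅_, _⁆ = χ _
    rw [show ⁅g * a * g⁻¹, g * b * g⁻¹⁆ = g * ⁅a, b⁆ * g⁻¹ by simp [commutatorElement_def, mul_assoc]]
    exact hg.2 _ (hcomm a ha b hb)
  have hG0R : ∀ g ∈ G0, ∀ a ∈ R, g * a * g⁻¹ ∈ R := fun g hg a ha =>
    ⟨(mem_normalizer_iff.1 hg.1 a).1 ha.1, fun b hb => by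
      have hb' : g⁻¹ * b * g ∈ S0 := by simpa using (mem_normalizer_iff.1 (inv_mem hg.1) b).1 hb
      rw [show b = g * (g⁻¹ * b * g) * g⁻¹ by group, hpG g hg a ha.1 _ hb']
      exact ha.2 _ hb'⟩
  let incl : G0 →* normalizer (S0 : Set H) :=
    (G0.subtype).codRestrict _ fun g => g.2.1
  let π : G0 →* MulAut (S0 ⧸ R') :=
    { toFun := fun g => QuotientGroup.congr R' R' (autOf S0 (incl g)) (by
        refine eq_of_le_of_card_ge ?_ (card_map_of_injective (autOf S0 (incl g)).injective).ge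
        rintro _ ⟨a, ha, rfl⟩
        exact mem_subgroupOf.2 (hG0R g g.2 _ (mem_subgroupOf.1 ha)))
      map_one' := MulEquiv.ext fun w => by
        obtain ⟨a, rfl⟩ := QuotientGroup.mk'_surjective _ w
        show QuotientGroup.mk' R' (autOf S0 (incl 1) a) = _
        rw [map_one, map_one]; rfl
      map_mul' := fun g g' => MulEquiv.ext fun w => by
        obtain ⟨a, rfl⟩ := QuotientGroup.mk'_surjective _ w
        show QuotientGroup.mk' R' (autOf S0 (incl (g * g')) a) =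
          QuotientGroup.mk' R' (autOf S0 (incl g) (autOf S0 (incl g') a))
        rw [map_mul, map_mul]; rfl }
  have hDG : D ≤ G0 := fun d hd =>
    ⟨mem_normalizer_of_conj_mem (hDS0 d hd), fun a ha => by rw [hDA d hd a ha]⟩
  have hyS0 : ∀ a ∈ S0, y * a * y⁻¹ ∈ S0 := fun a ha => by
    rw [show y * a * y⁻¹ = z * (z * a * z⁻¹) * z⁻¹ by simp [hy, pow_two, mul_assoc]]
    exact hzS0 _ (hzS0 a ha)
  have hyG : y ∈ G0 := ⟨mem_normalizer_of_conj_mem hyS0, fun a ha => by rw [hyA a ha]⟩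
  set P := (D.subgroupOf G0).map π with hPdef
  -- the action of `E` is not trivial
  have hEne : ¬ ∀ g ∈ P, ∀ g' ∈ P, g * g' = g' * g := fun hall => hχz0 (by
    have h1 : π ⟨e1, hDG (hED he1)⟩ = 1 := by
      have hle : E ≤ (π.ker).map G0.subtype := by
        rw [hE, commutator_le]
        intro d hd d' hd'
        refine ⟨⁅(⟨d, hDG hd⟩ : G0), ⟨d', hDG hd'⟩⁆, ?_, rfl⟩
        rw [SetLike.mem_coe, MonoidHom.mem_ker, map_commutatorElement, commutatorElement_eq_one_iff_mul_comm]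
        exact hall _ (mem_map_of_mem π (mem_subgroupOf.2 hd)) _ (mem_map_of_mem π (mem_subgroupOf.2 hd'))
      obtain ⟨g, hg, hge⟩ := hle he1
      rw [show (⟨e1, hDG (hED he1)⟩ : G0) = g from Subtype.ext hge.symm]
      exact hg
    have h2 := congrArg (fun f : MulAut (S0 ⧸ R') => f (QuotientGroup.mk' R' ⟨a1, ha1⟩)) h1
    have h3 : (((⟨a1, ha1⟩ : S0)⁻¹ * autOf S0 (incl ⟨e1, hDG (hED he1)⟩) ⟨a1, ha1⟩ : S0) : H) ∈ R :=
      mem_subgroupOf.1 (QuotientGroup.eq.1 (show QuotientGroup.mk' R' (⟨a1, ha1⟩ : S0) =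
        QuotientGroup.mk' R' (autOf S0 (incl ⟨e1, hDG (hED he1)⟩) ⟨a1, ha1⟩) from h2.symm))
    have h4 : a1⁻¹ * (e1 * a1 * e1⁻¹) ∈ R := h3
    have heS : e1 * a1 * e1⁻¹ ∈ S0 := hDS0 _ (hED he1) _ ha1
    have h5 := h4.2 b1 hb1
    rw [pl _ (inv_mem ha1) _ heS b1 hb1, pinv a1 ha1 b1 hb1] at h5
    show p g1 b1 = 1
    rw [hg1, show ⁅a1, e1⁆ = a1 * (e1 * a1 * e1⁻¹)⁻¹ by rw [commutatorElement_def]; group,
      pl a1 ha1 _ (inv_mem heS) b1 hb1, pinv _ heS b1 hb1]
    exact h5)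
  set Eχ := eigenOf ρ A χ with hEχ
  have hS0E : ∀ a ∈ S0, ∀ w ∈ Eχ, ρ a w ∈ Eχ := fun a ha w hw => mem_eigenOf.2 fun c hc => by
    rw [← ρ_mul_apply, hcomA c hc a ha, ρ_mul_apply, mem_eigenOf.1 hw c hc, map_smul]
  by_cases hdim : finrank F Eχ ≤ 6
  · -- few operators
    have := Fintype.ofFinite (S0 ⧸ R')
    let τ : S0 → Module.End F Eχ := fun a => (ρ (a : H)).restrict (hS0E a a.2)
    let χX : (S0 ⧸ R') → (S0 →* F) := fun i =>
      { toFun := fun a => p a (Quotient.out i : S0)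
        map_one' := pone _
        map_mul' := fun a b => pl a a.2 b b.2 _ (Quotient.out i : S0).2 }
    have hχinj : Function.Injective χX := by
      intro i k hik
      rw [← QuotientGroup.out_eq' i, ← QuotientGroup.out_eq' k]
      refine QuotientGroup.eq.2 (mem_subgroupOf.2 ⟨mul_mem (inv_mem (Quotient.out i : S0).2) (Quotient.out k : S0).2,
        fun b hb => ?_⟩)
      have h1 : p b (Quotient.out i : S0) = p b (Quotient.out k : S0) :=
        DFunLike.congr_fun hik (⟨b, hb⟩ : S0)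
      rw [Subgroup.coe_mul, InvMemClass.coe_inv, pl _ (inv_mem (Quotient.out i : S0).2) _ (Quotient.out k : S0).2 b hb,
        pinv _ (Quotient.out i : S0).2 b hb, psymm _ (Quotient.out i : S0).2 b hb,
        psymm _ (Quotient.out k : S0).2 b hb, h1, psq b hb _ (Quotient.out k : S0).2]
    have hli : LinearIndependent F fun i : S0 ⧸ R' => τ (Quotient.out i) := by
      rw [Fintype.linearIndependent_iff]
      intro l hl i0
      obtain ⟨v', hv', hv'0⟩ := Submodule.exists_mem_ne_zero_of_ne_bot hχ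
      have h0 : ∀ a : S0, ∑ i, l i • χX i a • τ (Quotient.out i) (⟨v', hv'⟩ : Eχ) = 0 := by
        intro a
        have h1 := congrArg (fun f : Module.End F Eχ => τ a (f (τ a⁻¹ ⟨v', hv'⟩))) hl
        simp only [LinearMap.sum_apply, LinearMap.smul_apply, LinearMap.zero_apply, map_zero, map_sum, map_smul] at h1
        rw [← h1]
        refine Finset.sum_congr rfl fun i _ => congrArg _ (Subtype.ext ?_)
        show χX i a • ρ (Quotient.out i : S0) v' = ρ a (ρ (Quotient.out i : S0) (ρ ((a⁻¹ : S0) : H) v'))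
        set b := ((Quotient.out i : S0) : H) with hb
        have hbS : b ∈ S0 := (Quotient.out i : S0).2
        rw [← ρ_mul_apply, ← ρ_mul_apply, InvMemClass.coe_inv,
          show (a : H) * b * (a : H)⁻¹ = ⁅(a : H), b⁆ * b by rw [commutatorElement_def]; group, ρ_mul_apply,
          mem_eigenOf.1 (hS0E b hbS v' hv') _ (hcomm a a.2 b hbS)]
        rfl
      obtain ⟨φ, hφ⟩ : ∃ φ : Eχ →ₗ[F] F, φ (τ (Quotient.out i0) ⟨v', hv'⟩) ≠ 0 := by
        by_contra hall
        push Not at hall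
        have h1 := (Module.forall_dual_apply_eq_zero_iff F _).1 hall
        exact ρ_ne_zero ρ _ hv'0 (congrArg Subtype.val h1)
      have h1 : ∑ i, (l i * φ (τ (Quotient.out i) ⟨v', hv'⟩)) • (χX i : S0 → F) = 0 := by
        funext a
        rw [Finset.sum_apply, Pi.zero_apply, ← map_zero φ, ← h0 a, map_sum]
        refine Finset.sum_congr rfl fun i _ => ?_
        rw [map_smul, map_smul, Pi.smul_apply, smul_eq_mul, smul_eq_mul, smul_eq_mul]
        ring
      exact (mul_eq_zero.1 (Fintype.linearIndependent_iff.1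
        ((linearIndependent_monoidHom S0 F).comp χX hχinj) _ h1 i0)).resolve_right hφ
    have hcard : Nat.card (S0 ⧸ R') ≤ 36 := by
      rw [Nat.card_eq_fintype_card]
      refine hli.fintype_card_le_finrank.trans ?_
      rw [Module.finrank_linearMap]
      exact Nat.mul_le_mul hdim hdim
    exact hEne (commute_of_small hX2 hcard hq2 ((hD.of_equiv (subgroupOfEquivOfLe hDG).symm).map π))
  push Not at hdim
  set L := ρ z - 1 with hL
  set M := LinearMap.range L with hM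
  -- `z` fixes the character
  have hzfix : ∀ a ∈ A, χ (z * a * z⁻¹) = χ a := by
    by_contra hall
    push Not at hall
    obtain ⟨a, ha, hane⟩ := hall
    have hinj : Function.Injective ((L.comp Eχ.subtype).codRestrict M fun w => LinearMap.mem_range_self L _) := by
      refine injective_of_forall_eq_zero _ fun w hw => Subtype.ext ?_
      have hzw : ρ z (w : V) = w := sub_eq_zero.1 (congrArg Subtype.val hw)
      by_contra hw0
      refine hane (smul_left_injective F hw0 ?_)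
      show χ (z * a * z⁻¹) • (w : V) = χ a • (w : V)
      rw [← mem_eigenOf.1 w.2 a ha, ← mem_eigenOf.1 w.2 _ (hNA z hzS0 a ha), ρ_mul_apply, ρ_mul_apply,
        show ρ z⁻¹ (w : V) = w by nth_rewrite 1 [← hzw]; exact rho_cancel ρ z _, mem_eigenOf.1 w.2 a ha,
        map_smul, hzw]
    have := LinearMap.finrank_le_finrank_of_injective hinj
    omega
  have hzG : z ∈ G0 := ⟨mem_normalizer_of_conj_mem hzS0, hzfix⟩
  -- common fixed vectors
  have hiso : ∀ a ∈ S0, ∀ b ∈ S0, p ⁅a, z⁆ ⁅b, z⁆ = 1 := by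
    intro a ha b hb
    have hmem : ∀ w : Eχ, ρ a⁻¹ (w : V) ∈ Eχ ∧ ρ b⁻¹ (w : V) ∈ Eχ := fun w =>
      ⟨hS0E _ (inv_mem ha) w w.2, hS0E _ (inv_mem hb) w w.2⟩
    let g : Eχ →ₗ[F] M × M × M :=
      (((L.comp Eχ.subtype).codRestrict M fun w => LinearMap.mem_range_self L _)).prod
        ((((L.comp ((ρ a⁻¹).comp Eχ.subtype)).codRestrict M fun w => LinearMap.mem_range_self L _)).prod
          (((L.comp ((ρ b⁻¹).comp Eχ.subtype)).codRestrict M fun w => LinearMap.mem_range_self L _)))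
    obtain ⟨w, hw, hw0⟩ : ∃ w : Eχ, g w = 0 ∧ w ≠ 0 := by
      by_contra hall
      push Not at hall
      have h5 := LinearMap.finrank_le_finrank_of_injective (f := g) (injective_of_forall_eq_zero g hall)
      rw [Module.finrank_prod, Module.finrank_prod] at h5
      omega
    have hzw : ρ z (w : V) = w := sub_eq_zero.1 (congrArg (fun t => ((t.1 : M) : V)) hw)
    have hzaw : ρ z (ρ a⁻¹ (w : V)) = ρ a⁻¹ w := sub_eq_zero.1 (congrArg (fun t => ((t.2.1 : M) : V)) hw)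
    have hzbw : ρ z (ρ b⁻¹ (w : V)) = ρ b⁻¹ w := sub_eq_zero.1 (congrArg (fun t => ((t.2.2 : M) : V)) hw)
    have hzinv : ρ z⁻¹ (w : V) = w := by nth_rewrite 1 [← hzw]; exact rho_cancel ρ z _
    have hfix : ∀ c : H, ρ z (ρ c⁻¹ (w : V)) = ρ c⁻¹ w → ρ ⁅c, z⁆ (w : V) = w := fun c hc => by
      rw [commutatorElement_def, ρ_mul_apply, ρ_mul_apply, ρ_mul_apply, hzinv, hc, rho_cancel']
    have ha' := hfix a hzaw
    have hb' := hfix b hzbw
    have hinv : ∀ {c : H}, ρ c (w : V) = w → ρ c⁻¹ (w : V) = w := fun {c} hc =>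
      (congrArg (ρ c⁻¹) hc).symm.trans (rho_cancel ρ c w)
    have hin : ∀ c ∈ S0, ⁅c, z⁆ ∈ S0 := fun c hc => by
      rw [show ⁅c, z⁆ = c * (z * c⁻¹ * z⁻¹) by rw [commutatorElement_def]; group]
      exact mul_mem hc (hzS0 _ (inv_mem hc))
    refine smul_left_injective F (fun e => hw0 (Subtype.ext e)) (?_ : χ _ • (w : V) = (1 : F) • (w : V))
    rw [one_smul, ← mem_eigenOf.1 w.2 _ (hcomm _ (hin a ha) _ (hin b hb)), commutatorElement_def, ρ_mul_apply,
      ρ_mul_apply, ρ_mul_apply, hinv hb', hinv ha', hb', ha']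
  -- `z` is symmetric, so `y` is trivial modulo the radical
  have hsym : ∀ a ∈ S0, ∀ b ∈ S0, p (z * a * z⁻¹) b = p a (z * b * z⁻¹) := fun a ha b hb => by
    have hza := hzS0 a ha
    have hzb := hzS0 b hb
    have h1 := hiso a ha b hb
    rw [show ⁅a, z⁆ = a * (z * a * z⁻¹)⁻¹ by rw [commutatorElement_def]; group,
      show ⁅b, z⁆ = b * (z * b * z⁻¹)⁻¹ by rw [commutatorElement_def]; group,
      pl a ha _ (inv_mem hza) _ (mul_mem hb (inv_mem hzb)), pinv _ hza _ (mul_mem hb (inv_mem hzb)),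
      pr b hb _ (inv_mem hzb) a ha, pr b hb _ (inv_mem hzb) _ hza, psymm a ha _ (inv_mem hzb),
      psymm _ hza _ (inv_mem hzb), pinv _ hzb a ha, pinv _ hzb _ hza, psymm _ hzb a ha, psymm _ hzb _ hza,
      hpG z hzG a ha b hb] at h1
    have h2 : p (z * a * z⁻¹) b * p a (z * b * z⁻¹) = 1 := by
      linear_combination h1 - (p (z * a * z⁻¹) b * p a (z * b * z⁻¹)) * psq a ha b hb
    calc p (z * a * z⁻¹) b = p (z * a * z⁻¹) b * (p a (z * b * z⁻¹) * p a (z * b * z⁻¹)) := by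
          rw [psq a ha _ hzb, mul_one]
      _ = _ := by rw [← mul_assoc, h2, one_mul]
  have hyR : π ⟨y, hyG⟩ = 1 := MulEquiv.ext fun i => by
    obtain ⟨a, rfl⟩ := QuotientGroup.mk'_surjective _ i
    refine (QuotientGroup.eq.2 (mem_subgroupOf.2 ⟨(((autOf S0 (incl ⟨y, hyG⟩) a))⁻¹ * a).2, fun b hb => ?_⟩))
    show p ((y * (a : H) * y⁻¹)⁻¹ * a) b = 1
    have hya := hyS0 a a.2
    rw [pl _ (inv_mem hya) _ a.2 b hb, pinv _ hya b hb,
      show y * (a : H) * y⁻¹ = z * (z * a * z⁻¹) * z⁻¹ by simp [hy, pow_two, mul_assoc],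
      hsym _ (hzS0 a a.2) b hb, hpG z hzG a a.2 b hb, psq a a.2 b hb]
  refine hEne fun g hg g' hg' => ?_
  suffices hP1 : ∀ g ∈ P, g = 1 by rw [hP1 g hg, hP1 g' hg']
  rintro _ ⟨d, hd, rfl⟩
  have hle : D ≤ (π.ker).map G0.subtype := by
    conv_lhs => rw [← hDy]
    rw [commutator_le]
    intro d hd k hk
    obtain ⟨i, rfl⟩ := mem_zpowers_iff.1 hk
    refine ⟨⁅(⟨d, hDG hd⟩ : G0), (⟨y, hyG⟩ : G0) ^ i⁆, ?_, rfl⟩
    rw [SetLike.mem_coe, MonoidHom.mem_ker, map_commutatorElement, map_zpow, hyR, one_zpow,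
      commutatorElement_one_right]
  obtain ⟨d', hd', hdd⟩ := hle (mem_subgroupOf.1 hd)
  rw [show d = d' from Subtype.ext hdd.symm]
  exact hd'

end Cfsg.Lib.Local.GrossLength
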