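import Cfsg.Agent.Lib.Local.GrossTwoLinear

/-!
An exceptional `q`-group moved by an involutory power of an operator of two-power order cannot preserve an
alternating form on which the involution has rank at most two, unless its commutators act trivially.
-/

set_option autoImplicit false

namespace Cfsg.Lib.Local.GrossTwo

open Subgroup Module
open scoped commutatorElement

/-- The arithmetic exception for the prime two. -/
theorem exception_eq {q m e : ℕ} (hq : q.Prime) (hq2 : q ≠ 2) (hm : 0 < m)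
    (hdvd : 2 ^ e ∣ q ^ m + 1 ∨ 2 ^ e ∣ q ^ m - 1)
    (hle : q ^ (2 * m) * 2 ^ e ≤ (2 ^ e - 1) * (2 ^ e - 1 + q ^ (2 * m))) : m = 1 ∧ q + 1 = 2 ^ e := by
  have hA3 : 3 ≤ q ^ m := le_trans (by have := hq.two_le; omega) (Nat.le_self_pow hm.ne' q)
  have hq2m : q ^ (2 * m) = q ^ m * q ^ m := by rw [← pow_add, two_mul]
  obtain ⟨B, hB⟩ : ∃ B, 2 ^ e = B + 1 := ⟨2 ^ e - 1, by have := Nat.one_le_two_pow (n := e); omega⟩
  rw [hB, Nat.add_sub_cancel, hq2m] at hle
  have hAB : q ^ m ≤ B := by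
    refine Nat.mul_self_le_mul_self_iff.1 ?_
    nlinarith
  have hP : q ^ m + 1 = 2 ^ e := by
    rcases hdvd with h | h
    · have := Nat.le_of_dvd (by omega) h
      omega
    · have := Nat.le_of_dvd (by omega) h
      omega
  suffices hm1 : m = 1 by subst hm1; exact ⟨rfl, by simpa using hP⟩
  obtain ⟨k, hk⟩ := hq.odd_of_ne_two hq2
  rcases Nat.even_or_odd' m with ⟨i, rfl | rfl⟩
  · exfalso
    have h4 : 4 ∣ 2 ^ e := by
      refine (pow_dvd_pow 2 (m := 2) (n := e) ?_)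
      by_contra he
      have : 2 ^ e ≤ 2 ^ 1 := Nat.pow_le_pow_right (by norm_num) (by omega)
      omega
    have h1 : q ^ (2 * i) ≡ 1 [MOD 4] := by
      rw [pow_mul]
      have : q ^ 2 ≡ 1 [MOD 4] := by
        have e1 : q ^ 2 = 4 * (k * k + k) + 1 := by rw [hk]; ring
        rw [e1]
        exact (Nat.modEq_iff_dvd' (by omega)).2 (by simp) |>.symm
      simpa using this.pow i
    rw [← hP] at h4
    have h2 : q ^ (2 * i) + 1 ≡ 1 + 1 [MOD 4] := h1.add_right 1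
    have h3 : 2 ≡ 0 [MOD 4] := h2.symm.trans (Nat.modEq_zero_iff_dvd.2 h4)
    exact absurd h3 (by decide)
  · have hdv : q + 1 ∣ 2 ^ e := hP ▸ by
      simpa using Odd.nat_add_dvd_pow_add_pow q 1 ⟨i, rfl⟩
    obtain ⟨f, hf, hqf⟩ := (Nat.dvd_prime_pow Nat.prime_two).1 hdv
    rcases Nat.eq_or_lt_of_le hf with h | h
    · have h5 : q ^ (2 * i + 1) = q ^ 1 := by
        have : q + 1 = q ^ (2 * i + 1) + 1 := by rw [hP, hqf, h]
        rw [pow_one]; omega
      exact Nat.pow_right_injective hq.two_le h5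
    · exfalso
      obtain ⟨g, hg⟩ : ∃ g, f = g + 1 := ⟨f - 1, by
        have : f ≠ 0 := fun e => by rw [e, pow_zero] at hqf; have := hq.two_le; omega
        omega⟩
      obtain ⟨Q', hQ'⟩ : ∃ Q', 2 ^ g = Q' + 1 := ⟨2 ^ g - 1, by have := Nat.one_le_two_pow (n := g); omega⟩
      rw [hg, pow_succ, hQ'] at hqf
      have hqv : q = 2 * Q' + 1 := by omega
      have h4dv : 2 ^ (f + 1) ∣ q ^ (2 * i + 1) + 1 := hP ▸ pow_dvd_pow 2 h
      have hsq : q ^ 2 ≡ 1 [MOD 2 ^ (f + 1)] := by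
        refine ((Nat.modEq_iff_dvd' (by rw [hqv]; nlinarith)).2 ⟨Q', ?_⟩).symm
        rw [hg, hqv, show 2 ^ (g + 1 + 1) = 2 ^ g * 2 * 2 by ring, hQ']
        have : (2 * Q' + 1) ^ 2 = (Q' + 1) * 2 * 2 * Q' + 1 := by ring
        omega
      have h1 : q ^ (2 * i + 1) + 1 ≡ q + 1 [MOD 2 ^ (f + 1)] := by
        refine Nat.ModEq.add_right 1 ?_
        rw [show q ^ (2 * i + 1) = (q ^ 2) ^ i * q by ring]
        simpa using (hsq.pow i).mul_right q
      have h2 := Nat.le_of_dvd (by omega) (Nat.modEq_zero_iff_dvd.1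
        (h1.symm.trans (Nat.modEq_zero_iff_dvd.2 h4dv)))
      rw [hg, pow_succ, pow_succ, hQ'] at h2
      omega

variable {H : Type*} [Group H] [Finite H] {F : Type*} [Field F] {V : Type*} [AddCommGroup V] [Module F V]
  {ρ : H →* Module.End F V} {Q X : Subgroup H} {y : H} {q : ℕ} [hq : Fact q.Prime]

open Polynomial in
/-- The critical configuration for the prime two: `q + 1` is the orbit complement and the radical has index
`q ^ 2`. -/
theorem critical_two [IsAlgClosed F] [FiniteDimensional F V] (hρ : Function.Injective ρ)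
    (h : MinimalMoved Q X y q) (hq2 : q ≠ 2) (hqF : (q : F) ≠ 0) {x : H} (hx : x ∈ X)
    {n : ℕ} (hy : x ^ 2 ^ n = y) (hord : x ^ 2 ^ (n + 1) = 1)
    (hN : ∑ i ∈ Finset.range (2 ^ (n + 1)), ρ x ^ i = 0) {ψ : H → F} (hc : IsComponent ρ Q ψ) :
    ∃ j ≤ n, (∀ a ∈ innerCenter Q, ψ (x ^ 2 ^ j * a * (x ^ 2 ^ j)⁻¹) = ψ a) ∧
      (∀ t < 2 ^ j, t ≠ 0 → ∃ a ∈ innerCenter Q, ψ (x ^ t * a * (x ^ t)⁻¹) ≠ ψ a) ∧
      q + 1 = 2 ^ (n + 1 - j) ∧ (radical h hc).relIndex Q = q ^ 2 := by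
  classical
  have hL : ∀ j ≤ n, ∃ L : List F, L.length = 2 ^ (n + 1 - j) - 1 ∧ (∑ t ∈ Finset.range (2 ^ j), ρ x ^ t) *
      (L.map fun a => ρ (x ^ 2 ^ j) - a • (1 : Module.End F V)).prod = 0 := by
    intro j hj
    by_cases h2F : (2 : F) = 0
    · have : CharP F 2 := CharTwo.of_one_ne_zero_of_two_eq_zero one_ne_zero h2F
      have : Fact (Nat.Prime 2) := ⟨Nat.prime_two⟩
      refine ⟨List.replicate (2 ^ (n + 1 - j) - 1) 1, List.length_replicate, ?_⟩
      rw [List.map_replicate, List.prod_replicate, one_smul, geom_eq_sub_pow F (p := 2) (ρ (x ^ 2 ^ j)) (n + 1 - j),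
        map_pow, geom_mul, ← pow_add, show j + (n + 1 - j) = n + 1 by omega, hN]
    set P := 2 ^ (n + 1 - j) with hP
    have hPpos : 0 < P := Nat.two_pow_pos _
    have : NeZero (P : F) := ⟨by rw [hP, Nat.cast_pow]; exact pow_ne_zero _ (by exact_mod_cast h2F)⟩
    obtain ⟨ζ, hζ⟩ := HasEnoughRootsOfUnity.exists_primitiveRoot F P
    set s := (nthRootsFinset P (1 : F)).erase 1 with hs
    have h1mem : (1 : F) ∈ nthRootsFinset P (1 : F) := (mem_nthRootsFinset hPpos 1).2 (one_pow _)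
    refine ⟨s.toList, by rw [Finset.length_toList, hs, Finset.card_erase_of_mem h1mem, hζ.card_nthRootsFinset], ?_⟩
    have hpoly : (s.toList.map fun a => (Polynomial.X : F[X]) - C a).prod =
        ∑ i ∈ Finset.range P, (Polynomial.X : F[X]) ^ i := by
      rw [Finset.prod_map_toList]
      refine mul_right_cancel₀ (b := (Polynomial.X : F[X]) - C 1) (X_sub_C_ne_zero 1) ?_
      rw [mul_comm, hs, Finset.mul_prod_erase _ (fun a => (Polynomial.X : F[X]) - C a) h1mem,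
        ← X_pow_sub_one_eq_prod hPpos hζ, C_1, geom_sum_mul]
    have h2 := congrArg (aeval (ρ (x ^ 2 ^ j))) hpoly
    rw [map_list_prod, List.map_map, map_sum] at h2
    simp only [Function.comp_def, map_sub, aeval_X, aeval_C, map_pow, Algebra.algebraMap_eq_smul_one] at h2
    rw [map_pow, h2, geom_mul, hP, ← pow_add, show j + (n + 1 - j) = n + 1 by omega, hN]
  have : Fact (Nat.Prime 2) := ⟨Nat.prime_two⟩
  obtain ⟨j, hj, hfix, hsep, m, hm, hidx, ⟨-, hdvd⟩, hle⟩ := critical_bound hρ h hqF hq2 hx hy hord hN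
    (fun j => 2 ^ (n + 1 - j) - 1) hL ψ hc
  obtain ⟨rfl, hP⟩ := exception_eq hq.out hq2 hm hdvd hle
  exact ⟨j, hj, hfix, hsep, hP, hidx⟩

/-- An exceptional moved group preserving a form on which `y - 1` has rank at most two has commutators
acting trivially on the form. -/
theorem form_trivial [IsAlgClosed F] [FiniteDimensional F V] (hρ : Function.Injective ρ)
    (h : MinimalMoved Q X y q) (hq2 : q ≠ 2) (hqF : (q : F) ≠ 0) (h2F : (2 : F) ≠ 0) {x : H} (hx : x ∈ X)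
    {n : ℕ} (hy : x ^ 2 ^ (n + 1) = y) (hord : x ^ 2 ^ (n + 2) = 1)
    (hN : ∑ i ∈ Finset.range (2 ^ (n + 2)), ρ x ^ i = 0) (β : V →ₗ[F] V →ₗ[F] F) (halt : ∀ v, β v v = 0)
    (hQβ : ∀ g ∈ Q, ∀ v w, β (ρ g v) (ρ g w) = β v w) (hyβ : ∀ v w, β (ρ y v) (ρ y w) = β v w)
    (hzβ : (∃ v w, β (ρ y v - v) w ≠ 0) → ∀ v w, β (ρ (x ^ 2 ^ n) v) (ρ (x ^ 2 ^ n) w) = β v w)
    (hrank : ∃ m1 m2 : V, ∀ v, ∃ a b : F, ∀ w, β (ρ y v - v) w = a * β m1 w + b * β m2 w) :
    ∀ a ∈ Q, ∀ b ∈ Q, ∀ v w, β (ρ ⁅a, b⁆ v) w = β v w := by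
  classical
  have : Fact (Nat.Prime 2) := ⟨Nat.prime_two⟩
  set N : Submodule F V := LinearMap.ker β with hNdef
  have hmemN : ∀ v, v ∈ N ↔ ∀ w, β v w = 0 := fun v => by
    rw [hNdef, LinearMap.mem_ker]
    exact ⟨fun e w => by rw [e]; rfl, fun e => LinearMap.ext e⟩
  have hskew : ∀ v w, β v w = - β w v := fun v w => by
    have e := halt (v + w)
    simp only [map_add, LinearMap.add_apply, halt, zero_add, add_zero] at e
    linear_combination e
  let G0 : Subgroup H :=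
    { carrier := {g | ∀ v w, β (ρ g v) (ρ g w) = β v w}
      one_mem' := fun v w => by simp
      mul_mem' := fun {g g'} hg hg' v w => by rw [ρ_mul_apply, ρ_mul_apply, hg, hg']
      inv_mem' := fun {g} hg v w => by rw [← hg, rho_cancel', rho_cancel'] }
  have hQG : Q ≤ G0 := hQβ
  have hyG : y ∈ G0 := hyβ
  have hGN : ∀ g : G0, N ≤ N.comap (ρ (g : H)) := fun g v hv => by
    rw [Submodule.mem_comap, hmemN]
    intro w
    have e := g.2 v (ρ (g : H)⁻¹ w)
    rw [rho_cancel'] at e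
    rw [e, (hmemN v).1 hv]
  let ρ' : G0 →* Module.End F (V ⧸ N) :=
    { toFun := fun g => N.mapQ N (ρ (g : H)) (hGN g)
      map_one' := LinearMap.ext fun u => by
        obtain ⟨v, rfl⟩ := N.mkQ_surjective u
        simp
      map_mul' := fun g g' => LinearMap.ext fun u => by
        obtain ⟨v, rfl⟩ := N.mkQ_surjective u
        simp }
  have hρ' : ∀ (g : G0) (v : V), ρ' g (N.mkQ v) = N.mkQ (ρ (g : H) v) := fun g v => rfl
  by_contra hcon
  push Not at hcon
  obtain ⟨a0, ha0, b0, hb0, v0, w0, hne0⟩ := hcon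
  -- the centre
  set A := innerCenter Q with hA
  have hcomA : ∀ a ∈ A, ∀ b ∈ Q, a * b = b * a := fun a ha => (mem_innerCenter.1 ha).2
  have hna : ∃ a ∈ Q, ∃ b ∈ Q, a * b ≠ b * a := ⟨a0, ha0, b0, hb0, fun e => hne0 (by
    rw [commutatorElement_eq_one_iff_mul_comm.2 e, map_one, Module.End.one_apply])⟩
  -- a commutator of `y` pairing nontrivially
  let K : Subgroup H :=
    { carrier := {g | g ∈ Q ∧ ∀ d ∈ Q, ∀ v, ρ ⁅g, d⁆ v - v ∈ N}
      one_mem' := ⟨one_mem Q, fun d _ v => by simp⟩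
      mul_mem' := fun {g g'} hg hg' => ⟨mul_mem hg.1 hg'.1, fun d hd v => by
        rw [h.commutator_mul_left hg.1 hg'.1 hd, ρ_mul_apply,
          show ρ ⁅g, d⁆ (ρ ⁅g', d⁆ v) - v = ρ ⁅g, d⁆ (ρ ⁅g', d⁆ v - v) + (ρ ⁅g, d⁆ v - v) by
            rw [map_sub]; abel]
        exact add_mem (hGN ⟨_, hQG (map_subtype_le _ (h.commutator_mem_frattini hg.1 hd))⟩ (hg'.2 d hd v))
          (hg.2 d hd v)⟩
      inv_mem' := fun {g} hg => ⟨inv_mem hg.1, fun d hd v => by
        have e : ⁅g⁻¹, d⁆ = ⁅g, d⁆⁻¹ := eq_inv_of_mul_eq_one_left (by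
          rw [← h.commutator_mul_left (inv_mem hg.1) hg.1 hd, inv_mul_cancel, commutatorElement_one_left])
        have h1 := hg.2 d hd (ρ ⁅g, d⁆⁻¹ v)
        rw [rho_cancel'] at h1
        rw [e, ← neg_sub]
        exact neg_mem h1⟩ }
  obtain ⟨c, hcQ, d, hdQ, v1, hv1⟩ : ∃ c ∈ Q, ∃ d ∈ Q, ∃ v, ρ ⁅⁅c, y⁆, d⁆ v - v ∉ N := by
    by_contra hall
    push Not at hall
    have hle : ⁅Q, zpowers y⁆ ≤ K := by
      rw [commutator_le]
      intro g hg k hk
      obtain ⟨i, rfl⟩ := mem_powers_iff_mem_zpowers.2 hk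
      have hy2 : y * y = 1 := by rw [← hy, ← pow_add, ← two_mul, ← pow_succ', hord]
      have hyQ : ∀ u ∈ Q, y * u * y⁻¹ ∈ Q := h.inv y h.ymem
      have hmem : ⁅g, y⁆ ∈ Q := by
        rw [show ⁅g, y⁆ = g * (y * g⁻¹ * y⁻¹) by rw [commutatorElement_def]; group]
        exact mul_mem hg (hyQ _ (inv_mem hg))
      have hpow : y ^ i = 1 ∨ y ^ i = y := by
        rcases Nat.even_or_odd' i with ⟨k, rfl | rfl⟩
        · exact Or.inl (by rw [pow_mul, pow_two, hy2, one_pow])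
        · exact Or.inr (by rw [pow_succ, pow_mul, pow_two, hy2, one_pow, one_mul])
      show ⁅g, y ^ i⁆ ∈ K
      rcases hpow with e | e <;> rw [e]
      · rw [commutatorElement_one_right]; exact one_mem K
      · exact ⟨hmem, fun d hd v => hall g hg d hd v⟩
    have := (hle (h.commutator_eq.ge ha0)).2 b0 hb0 v0
    have e := (hmemN _).1 this w0
    rw [map_sub, LinearMap.sub_apply, sub_eq_zero] at e
    exact hne0 e
  set u := ⁅c, y⁆ with hu
  set e := ⁅u, d⁆ with he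
  have huQ : u ∈ Q := by
    rw [hu, show ⁅c, y⁆ = c * (y * c⁻¹ * y⁻¹) by rw [commutatorElement_def]; group]
    exact mul_mem hcQ (h.inv y h.ymem _ (inv_mem hcQ))
  have heA : e ∈ A := h.commutator_mem_center huQ hdQ
  have hyA : ∀ a ∈ A, y * a = a * y := fun a ha => mul_inv_eq_iff_eq_mul.1 (h.center_fixed hna a ha)
  have hAab : ∀ a ∈ A, ∀ b ∈ A, a * b = b * a := fun a ha b hb => hcomA a ha b (mem_innerCenter.1 hb).1
  -- a component outside `N`
  set U : Submodule F V := LinearMap.range (ρ e - 1) with hU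
  obtain ⟨χ, v, hvU, hv, hvN⟩ := exists_eigen_not_mem (ρ := ρ) A hAab (fun a ha => by
      obtain ⟨i, hi⟩ := IsPGroup.iff_orderOf.1 h.center_isPGroup ⟨a, ha⟩
      rw [Subgroup.orderOf_mk] at hi
      rw [hi, Nat.cast_pow]
      exact pow_ne_zero _ hqF) N U
    (fun a ha v hv => by
      obtain ⟨w, rfl⟩ := hv
      refine ⟨ρ a w, ?_⟩
      rw [LinearMap.sub_apply, LinearMap.sub_apply, Module.End.one_apply, Module.End.one_apply, map_sub,
        ← ρ_mul_apply, hAab e heA a ha, ρ_mul_apply])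
    (fun hle => hv1 (hle ⟨v1, by rw [LinearMap.sub_apply, Module.End.one_apply]⟩))
  have hv0 : v ≠ 0 := fun e0 => hvN (e0 ▸ zero_mem N)
  have hocc : eigenOf ρ A χ ≠ ⊥ := fun eb => hv0 ((Submodule.eq_bot_iff _).1 eb v hv)
  set ω := χ e with hω
  have heq : e ^ q = 1 := h.commutator_pow_eq_one huQ hdQ
  have hpowv : ∀ i : ℕ, ρ (e ^ i) v = ω ^ i • v := by
    intro i
    induction i with
    | zero => simp
    | succ i ih => rw [pow_succ', ρ_mul_apply, ih, map_smul, mem_eigenOf.1 hv e heA, smul_smul, ← pow_succ]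
  have hωq : ω ^ q = 1 := smul_left_injective F hv0 (show ω ^ q • v = (1 : F) • v by
    rw [← hpowv, heq, map_one, one_smul, Module.End.one_apply])
  have hω1 : ω ≠ 1 := by
    intro e1
    obtain ⟨w, hw⟩ := hvU
    have h1 : ∑ i ∈ Finset.range q, ρ (e ^ i) v = 0 := by
      rw [← hw]
      simp only [LinearMap.sub_apply, Module.End.one_apply, map_sub, ← ρ_mul_apply, ← pow_succ]
      rw [Finset.sum_range_sub (fun i => ρ (e ^ i) w), heq, pow_zero, sub_self]
    rw [Finset.sum_congr rfl fun i _ => hpowv i, e1] at h1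
    simp only [one_pow, one_smul, Finset.sum_const, Finset.card_range, ← Nat.cast_smul_eq_nsmul F] at h1
    exact hv0 ((smul_eq_zero.1 h1).resolve_left hqF)
  have hprim : IsPrimitiveRoot ω q := by
    have h1 := IsPrimitiveRoot.orderOf ω
    rwa [orderOf_eq_prime hωq hω1] at h1
  have hq3 : 3 ≤ q := by have := hq.out.two_le; omega
  have hωinv : ω ≠ ω⁻¹ := fun e1 => by
    have h2 : ω ^ 2 = 1 := by
      rw [pow_two]; nth_rewrite 2 [e1]; exact mul_inv_cancel₀ (hprim.ne_zero hq.out.ne_zero)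
    have := Nat.le_of_dvd (by norm_num) ((hprim.pow_eq_one_iff_dvd 2).1 h2)
    omega
  have hcomp : IsComponent ρ Q χ := ⟨⟨u, huQ, d, hdQ, hω1⟩, hocc⟩
  -- the partner
  obtain ⟨w1, hw1⟩ : ∃ w, β v w ≠ 0 := by
    by_contra hall
    push Not at hall
    exact hvN ((hmemN v).2 hall)
  set w' := ∑ t ∈ Finset.range q, ω ^ t • ρ (e ^ t) w1 with hw'
  have hw'e : ρ e w' = ω⁻¹ • w' := by
    have hω0 := hprim.ne_zero hq.out.ne_zero
    rw [← inv_smul_smul₀ hω0 (ρ e w')]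
    congr 1
    simp only [hw', map_sum, map_smul, Finset.smul_sum, smul_smul, ← ρ_mul_apply, ← pow_succ']
    rw [← sub_eq_zero, ← Finset.sum_sub_distrib,
      Finset.sum_range_sub (fun i => ω ^ i • ρ (e ^ i) w1), heq, hωq, pow_zero, pow_zero, sub_self]
  have hvw' : β v w' ≠ 0 := by
    have hterm : ∀ t : ℕ, ω ^ t * β v (ρ (e ^ t) w1) = β v w1 := fun t => by
      have h1 := hQG (mem_innerCenter.1 (pow_mem heA t)).1 v w1
      rwa [hpowv, map_smul, LinearMap.smul_apply, smul_eq_mul] at h1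
    simp only [hw', map_sum, map_smul, smul_eq_mul, hterm, Finset.sum_const, Finset.card_range, nsmul_eq_mul]
    exact mul_ne_zero hqF hw1
  -- the two images
  let cg : G0 := ⟨c, hQG hcQ⟩
  let dg : G0 := ⟨d, hQG hdQ⟩
  let yg : G0 := ⟨y, hyG⟩
  let eg : G0 := ⟨e, hQG (mem_innerCenter.1 heA).1⟩
  set E := (eigenOf ρ A χ).map N.mkQ with hE
  set E' := (LinearMap.ker (ρ e - ω⁻¹ • (1 : Module.End F V))).map N.mkQ with hE'
  have hcomm_inv : ∀ g : H, (∀ a ∈ A, g * a = a * g) → ∀ w ∈ eigenOf ρ A χ, ρ g w ∈ eigenOf ρ A χ := by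
    intro g hg w hw
    refine mem_eigenOf.2 fun a ha => ?_
    rw [← ρ_mul_apply, ← hg a ha, ρ_mul_apply, mem_eigenOf.1 hw a ha, map_smul]
  have hcomm_e : ∀ g : H, g * e = e * g → ∀ w ∈ LinearMap.ker (ρ e - ω⁻¹ • (1 : Module.End F V)),
      ρ g w ∈ LinearMap.ker (ρ e - ω⁻¹ • (1 : Module.End F V)) := by
    intro g hg w hw
    simp only [LinearMap.mem_ker, LinearMap.sub_apply, LinearMap.smul_apply, Module.End.one_apply,
      sub_eq_zero] at hw ⊢
    rw [← ρ_mul_apply, ← hg, ρ_mul_apply, hw, map_smul]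
  have hEinv : ∀ g : G0, (∀ a ∈ A, (g : H) * a = a * g) → ∀ w ∈ E, ρ' g w ∈ E := by
    rintro g hg _ ⟨w, hw, rfl⟩
    exact ⟨_, hcomm_inv g hg w hw, (hρ' g w).symm⟩
  have hE'inv : ∀ g : G0, (g : H) * e = e * g → ∀ w ∈ E', ρ' g w ∈ E' := by
    rintro g hg _ ⟨w, hw, rfl⟩
    exact ⟨_, hcomm_e g hg w hw, (hρ' g w).symm⟩
  have hQA : ∀ g ∈ Q, ∀ a ∈ A, g * a = a * g := fun g hg a ha => (hcomA a ha g hg).symm
  have hEe : ∀ w ∈ E, ρ' eg w = ω • w := by
    rintro _ ⟨w, hw, rfl⟩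
    rw [hρ', mem_eigenOf.1 hw e heA, map_smul]
  have hE'e : ∀ w ∈ E', ρ' eg w = ω⁻¹ • w := by
    rintro _ ⟨w, hw, rfl⟩
    rw [hρ', ← map_smul]
    congr 1
    simpa [sub_eq_zero] using hw
  have hrel : ∀ w, ρ' ⟨u, hQG huQ⟩ (ρ' dg w) = ρ' eg (ρ' dg (ρ' ⟨u, hQG huQ⟩ w)) := fun w => by
    rw [← Module.End.mul_apply, ← map_mul, ← Module.End.mul_apply, ← map_mul, ← Module.End.mul_apply,
      ← map_mul]
    congr 2
    refine Subtype.ext ?_
    show u * d = e * d * u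
    rw [he, commutatorElement_def]; group
  have huE : ∀ w ∈ E, ρ' ⟨u, hQG huQ⟩ w ∈ E := hEinv _ (hQA u huQ)
  have huE' : ∀ w ∈ E', ρ' ⟨u, hQG huQ⟩ w ∈ E' := hE'inv _ (hQA u huQ e heA)
  have hucg : (⟨u, hQG huQ⟩ : G0) = cg * yg * cg⁻¹ * yg⁻¹ := Subtype.ext (commutatorElement_def c y)
  have hEne : E ≠ ⊥ := fun eb => hvN (by
    have h1 : N.mkQ v ∈ E := Submodule.mem_map_of_mem hv
    rw [eb, Submodule.mem_bot] at h1
    exact (Submodule.Quotient.mk_eq_zero N).1 h1)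
  have hE'ne : E' ≠ ⊥ := fun eb => hvw' (by
    have h1 : N.mkQ w' ∈ E' := Submodule.mem_map_of_mem (by simp [hw'e])
    rw [eb, Submodule.mem_bot] at h1
    rw [hskew, (hmemN w').1 ((Submodule.Quotient.mk_eq_zero N).1 h1) v, neg_zero])
  have hbd := sub_one_rank_bound (ρ := ρ') (y := yg) (c := cg) (d := dg) hucg hprim E hEne
    (hEinv yg hyA) (hEinv yg⁻¹ fun a ha => (Commute.inv_left (hyA a ha)).eq)
    (hEinv cg (hQA c hcQ)) (hEinv cg⁻¹ (hQA _ (inv_mem hcQ))) (hEinv dg (hQA d hdQ)) fun w hw => by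
      rw [hrel, hEe _ (hEinv dg (hQA d hdQ) _ (huE w hw))]
  have hbd' := sub_one_rank_bound (ρ := ρ') (y := yg) (c := cg) (d := dg) hucg hprim.inv E' hE'ne
    (hE'inv yg (hyA e heA)) (hE'inv yg⁻¹ (Commute.inv_left (hyA e heA)).eq)
    (hE'inv cg (hQA c hcQ e heA)) (hE'inv cg⁻¹ (hQA _ (inv_mem hcQ) e heA))
    (hE'inv dg (hQA d hdQ e heA)) fun w hw => by
      rw [hrel, hE'e _ (hE'inv dg (hQA d hdQ e heA) _ (huE' w hw))]
  set T := ρ' yg - 1 with hT
  have hsum2 : finrank F (E.map T) + finrank F (E'.map T) ≤ 2 := by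
    obtain ⟨m1, m2, hm⟩ := hrank
    have hTE : ∀ w ∈ E, T w ∈ E := fun w hw => sub_mem (hEinv yg hyA w hw) hw
    have hTE' : ∀ w ∈ E', T w ∈ E' := fun w hw => sub_mem (hE'inv yg (hyA e heA) w hw) hw
    have hdisj : E.map T ⊓ E'.map T = ⊥ := by
      refine (Submodule.eq_bot_iff _).2 ?_
      rintro w ⟨⟨a, ha, rfl⟩, ⟨b, hb, hab⟩⟩
      have h1 := hEe _ (hTE a ha)
      have h2 := hE'e _ (hTE' b hb)
      rw [hab, h1, ← sub_eq_zero, ← sub_smul] at h2
      exact (smul_eq_zero.1 h2).resolve_left (sub_ne_zero.2 hωinv)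
    have hle : E.map T ⊔ E'.map T ≤ Submodule.span F ({N.mkQ m1, N.mkQ m2} : Finset (V ⧸ N)) := by
      refine sup_le (LinearMap.map_le_range.trans ?_) (LinearMap.map_le_range.trans ?_) <;>
      · rintro _ ⟨w, rfl⟩
        obtain ⟨w, rfl⟩ := N.mkQ_surjective w
        obtain ⟨a, b, hab⟩ := hm w
        have h1 : ρ y w - w - (a • m1 + b • m2) ∈ N := (hmemN _).2 fun z => by
          simp only [map_sub, map_add, map_smul, LinearMap.sub_apply, LinearMap.add_apply,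
            LinearMap.smul_apply, smul_eq_mul]
          rw [← LinearMap.sub_apply, ← map_sub, hab z, sub_self]
        have h2 : T (N.mkQ w) = a • N.mkQ m1 + b • N.mkQ m2 := by
          rw [hT, LinearMap.sub_apply, Module.End.one_apply, hρ', ← map_sub, ← map_smul, ← map_smul,
            ← map_add]
          exact (Submodule.Quotient.eq N).2 h1
        rw [h2]
        exact add_mem (Submodule.smul_mem _ _ (Submodule.subset_span (by simp)))
          (Submodule.smul_mem _ _ (Submodule.subset_span (by simp)))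
    have h3 := Submodule.finrank_sup_add_finrank_inf_eq (E.map T) (E'.map T)
    rw [hdisj, finrank_bot, add_zero] at h3
    rw [← h3]
    exact (Submodule.finrank_mono hle).trans ((finrank_span_finset_le_card _).trans Finset.card_le_two)
  have hqe : q = 3 := by
    obtain ⟨k, hk⟩ := hq.out.odd_of_ne_two hq2
    have := hbd.1
    have := hbd'.1
    omega
  have ha1 : finrank F (E.map T) = 1 := by have := hbd.1; have := hbd'.1; omega
  -- the square root of `y`
  subst hqe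
  obtain ⟨j, hj, hfix, hsep, hP, -⟩ := critical_two hρ h hq2 hqF hx hy hord hN hcomp
  obtain rfl : j = n := by
    have h4 : (2 : ℕ) ^ 2 = 2 ^ (n + 1 + 1 - j) := by rw [← hP]; norm_num
    have := Nat.pow_right_injective le_rfl h4
    omega
  set z := x ^ 2 ^ j with hz
  have hzy : z * z = y := by rw [hz, ← pow_add, ← two_mul, ← pow_succ', hy]
  have hzX : z ∈ X := pow_mem hx _
  have hzG : z ∈ G0 := hzβ (by
    by_contra hall
    push Not at hall
    have : E.map T = ⊥ := (Submodule.eq_bot_iff _).2 (by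
      rintro _ ⟨w, -, rfl⟩
      obtain ⟨w, rfl⟩ := N.mkQ_surjective w
      rw [hT, LinearMap.sub_apply, Module.End.one_apply, hρ', ← map_sub]
      exact (Submodule.Quotient.mk_eq_zero N).2 ((hmemN _).2 (hall w)))
    rw [this, finrank_bot] at ha1
    exact zero_ne_one ha1)
  let zg : G0 := ⟨z, hzG⟩
  have hconjA : ∀ k : ℕ, ∀ a ∈ A, x ^ k * a * (x ^ k)⁻¹ ∈ A ∧ (x ^ k)⁻¹ * a * x ^ k ∈ A := fun k a ha =>
    ⟨h.conj_mem_center (pow_mem hx k) ha, by simpa using h.conj_mem_center (inv_mem (pow_mem hx k)) ha⟩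
  have hzW : ∀ w ∈ eigenOf ρ A χ, ρ z w ∈ eigenOf ρ A χ := fun w hw => mem_eigenOf.2 fun a ha => by
    have h1 := (hconjA (2 ^ j) a ha).2
    rw [← hz] at h1
    rw [← ρ_mul_apply, show a * z = z * (z⁻¹ * a * z) by group, ρ_mul_apply, mem_eigenOf.1 hw _ h1, map_smul]
    congr 1
    rw [← hfix _ h1]
    congr 1
    rw [hz]; group
  have hzE : ∀ w ∈ E, ρ' zg w ∈ E := by
    rintro _ ⟨w, hw, rfl⟩
    exact ⟨_, hzW w hw, (hρ' zg w).symm⟩
  have hnofix : ∀ w ∈ E, ρ' zg w = w → w = 0 := by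
    rintro _ ⟨w, hw, rfl⟩ hfixw
    have hsum := orbit_norm_zero (A := A) (natCard_cast_ne_zero hqF h.center_isPGroup) hconjA
      (Nat.two_pow_pos j) hfix hsep (b := 4) (by
        rw [show 2 ^ j * 4 = 2 ^ (j + 2) by ring, hN]) hw
    have hpw : ∀ i : ℕ, ρ' (zg ^ i) (N.mkQ w) = N.mkQ w := by
      intro i
      induction i with
      | zero => simp
      | succ i ih => rw [pow_succ, map_mul, Module.End.mul_apply, hfixw, ih]
    have h4 := congrArg N.mkQ hsum
    rw [map_sum, map_zero, Finset.sum_congr rfl fun i _ => show N.mkQ (ρ ((x ^ 2 ^ j) ^ i) w) = N.mkQ w from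
      (hρ' (zg ^ i) w).symm.trans (hpw i), Finset.sum_const, Finset.card_range,
      ← Nat.cast_smul_eq_nsmul F] at h4
    refine (smul_eq_zero.1 h4).resolve_left ?_
    rw [show ((4 : ℕ) : F) = 2 * 2 by norm_num]
    exact mul_ne_zero h2F h2F
  have hzneg : ∀ w ∈ E, ρ' yg w = w → ρ' zg w = -w := fun w hw hyw => by
    refine eq_neg_of_add_eq_zero_left (hnofix _ (add_mem (hzE w hw) hw) ?_)
    rw [map_add, ← Module.End.mul_apply, ← map_mul, show zg * zg = yg from Subtype.ext hzy, hyw, add_comm]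
  -- every element of `Q` has a vector fixed by the two commutators
  have hkey : ∀ c ∈ Q, χ ⁅⁅c, z⁆, ⁅c, y⁆⁆ = 1 := by
    intro c hcQ
    let cg : G0 := ⟨c, hQG hcQ⟩
    obtain ⟨w, hwE, hw0, hyw, hycw⟩ : ∃ w ∈ E, w ≠ 0 ∧ T w = 0 ∧ T (ρ' cg⁻¹ w) = 0 := by
      by_contra hall
      push Not at hall
      let g : E →ₗ[F] (E.map T) × (E.map T) :=
        ((T.comp E.subtype).codRestrict (E.map T) fun w => Submodule.mem_map_of_mem (f := T) w.2).prod
          ((T.comp ((ρ' cg⁻¹).comp E.subtype)).codRestrict (E.map T) fun w =>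
            Submodule.mem_map_of_mem (hEinv cg⁻¹ (hQA _ (inv_mem hcQ)) w w.2))
      have hg : Function.Injective g := injective_of_forall_eq_zero g fun w hw => by
        by_contra hw0
        exact hall w w.2 (fun e0 => hw0 (Subtype.ext e0)) (congrArg (fun p => (p.1 : V ⧸ N)) hw)
          (congrArg (fun p => (p.2 : V ⧸ N)) hw)
      have h5 := LinearMap.finrank_le_finrank_of_injective hg
      rw [Module.finrank_prod, ha1] at h5
      have := hbd.2
      omega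
    rw [hT, LinearMap.sub_apply, Module.End.one_apply, sub_eq_zero] at hyw hycw
    have hz1 := hzneg w hwE hyw
    have hz2 := hzneg _ (hEinv cg⁻¹ (hQA _ (inv_mem hcQ)) w hwE) hycw
    have hyinv : ∀ {g : G0} {w : V ⧸ N}, ρ' g w = w → ρ' g⁻¹ w = w := fun {g w} hw =>
      (congrArg (ρ' g⁻¹) hw).symm.trans (rho_cancel ρ' g w)
    have hzinv : ρ' zg⁻¹ w = -w := by
      have h6 := congrArg (ρ' zg⁻¹) hz1
      rw [rho_cancel, map_neg] at h6
      exact neg_eq_iff_eq_neg.1 h6.symm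
    have huy : ρ' ⁅cg, yg⁆ w = w := by
      rw [commutatorElement_def, map_mul, map_mul, map_mul, Module.End.mul_apply, Module.End.mul_apply,
        Module.End.mul_apply, hyinv hyw, hycw, rho_cancel']
    have huz : ρ' ⁅cg, zg⁆ w = w := by
      rw [commutatorElement_def, map_mul, map_mul, map_mul, Module.End.mul_apply, Module.End.mul_apply,
        Module.End.mul_apply, hzinv, map_neg, map_neg, map_neg, hz2, map_neg, neg_neg, rho_cancel']
    have hall : ρ' ⁅⁅cg, zg⁆, ⁅cg, yg⁆⁆ w = w := by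
      rw [commutatorElement_def, map_mul, map_mul, map_mul, Module.End.mul_apply, Module.End.mul_apply,
        Module.End.mul_apply, hyinv huy, hyinv huz, huy, huz]
    obtain ⟨w, hw, rfl⟩ := hwE
    have hin : ∀ g ∈ X, ⁅c, g⁆ ∈ Q := fun g hg => by
      rw [show ⁅c, g⁆ = c * (g * c⁻¹ * g⁻¹) by rw [commutatorElement_def]; group]
      exact mul_mem hcQ (h.inv g hg _ (inv_mem hcQ))
    rw [hρ', show ((⁅⁅cg, zg⁆, ⁅cg, yg⁆⁆ : G0) : H) = ⁅⁅c, z⁆, ⁅c, y⁆⁆ from rfl,
      mem_eigenOf.1 hw _ (h.commutator_mem_center (hin z hzX) (hin y h.ymem)), map_smul] at hall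
    exact smul_left_injective F hw0 (hall.trans (one_smul F _).symm)
  -- the pairing
  let p : H → H → F := fun a b => χ ⁅a, b⁆
  have hmem2 : ∀ {a b : H}, a ∈ Q → b ∈ Q → ⁅a, b⁆ ∈ A := fun ha hb => h.commutator_mem_center ha hb
  have pl : ∀ a ∈ Q, ∀ b ∈ Q, ∀ g ∈ Q, p (a * b) g = p a g * p b g := fun a ha b hb g hg => by
    show χ _ = _
    rw [h.commutator_mul_left ha hb hg, eigen_mul hocc (hmem2 ha hg) (hmem2 hb hg)]
  have ps : ∀ a ∈ Q, ∀ b ∈ Q, p a b = (p b a)⁻¹ := fun a ha b hb => by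
    show χ _ = _
    rw [← commutatorElement_inv, eigen_inv hocc (hmem2 hb ha)]
  have pr : ∀ a ∈ Q, ∀ b ∈ Q, ∀ g ∈ Q, p g (a * b) = p g a * p g b := fun a ha b hb g hg => by
    rw [ps g hg _ (mul_mem ha hb), pl a ha b hb g hg, mul_inv, ← ps g hg a ha, ← ps g hg b hb]
  have pinv : ∀ a ∈ Q, ∀ g ∈ Q, p a⁻¹ g = (p a g)⁻¹ := fun a ha g hg => by
    refine eq_inv_of_mul_eq_one_left ?_
    rw [← pl _ (inv_mem ha) a ha g hg, inv_mul_cancel]
    show χ _ = 1
    rw [commutatorElement_one_left, eigen_one hocc]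
  have pq : ∀ a ∈ Q, ∀ b ∈ Q, p a b ^ 2 = 1 → p a b = 1 := fun a ha b hb h2 => by
    have h3 : p a b ^ 3 = 1 := by
      have hp := h.commutator_pow_eq_one ha hb
      show χ ⁅a, b⁆ ^ 3 = 1
      rw [pow_succ, pow_succ, pow_one, ← eigen_mul hocc (hmem2 ha hb) (hmem2 ha hb),
        ← eigen_mul hocc (mul_mem (hmem2 ha hb) (hmem2 ha hb)) (hmem2 ha hb), ← pow_two, ← pow_succ, hp,
        eigen_one hocc]
    rwa [pow_succ, h2, one_mul] at h3
  have hycA : ∀ c ∈ Q, c * (y * c * y⁻¹) ∈ A := fun c hc => by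
    have hyc := h.inv y h.ymem c hc
    refine h.center_of_fixed_mod hna (mul_mem hc hyc) ?_
    have hy2 : y * y = 1 := by rw [← hy, ← pow_add, ← two_mul, ← pow_succ', hord]
    have e1 : y * (c * (y * c * y⁻¹)) * y⁻¹ = (y * c * y⁻¹) * c := by
      calc y * (c * (y * c * y⁻¹)) * y⁻¹ = (y * c * y⁻¹) * ((y * y) * c * (y * y)⁻¹) := by group
        _ = _ := by rw [hy2, one_mul, inv_one, mul_one]
    rw [e1, show (c * (y * c * y⁻¹))⁻¹ * ((y * c * y⁻¹) * c) = ⁅(y * c * y⁻¹)⁻¹, c⁻¹⁆ by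
      rw [commutatorElement_def]; group]
    exact hmem2 (inv_mem hyc) (inv_mem hc)
  have py : ∀ c ∈ Q, ∀ g ∈ Q, p (y * c * y⁻¹) g = (p c g)⁻¹ := fun c hc g hg => by
    refine eq_inv_of_mul_eq_one_right ?_
    rw [← pl c hc _ (h.inv y h.ymem c hc) g hg]
    show χ _ = 1
    rw [commutatorElement_eq_one_iff_mul_comm.2 (hcomA _ (hycA c hc) g hg), eigen_one hocc]
  have hzc : ∀ c ∈ Q, p (z * c * z⁻¹) c = 1 := fun c hc => by
    have hzQ := h.inv z hzX c hc
    have hyQ := h.inv y h.ymem c hc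
    have huy' : ⁅c, y⁆ = c * (y * c * y⁻¹)⁻¹ := by rw [commutatorElement_def]; group
    have huz' : ⁅c, z⁆ = c * (z * c * z⁻¹)⁻¹ := by rw [commutatorElement_def]; group
    set a := c * (z * c * z⁻¹)⁻¹ with ha
    have haQ : a ∈ Q := mul_mem hc (inv_mem hzQ)
    have h1 : p a (c * (y * c * y⁻¹)⁻¹) = 1 := by
      have := hkey c hc
      rwa [huy', huz'] at this
    rw [ps a haQ _ (mul_mem hc (inv_mem hyQ)), inv_eq_one, pl c hc _ (inv_mem hyQ) a haQ, pinv _ hyQ a haQ,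
      py c hc a haQ, inv_inv, ← pow_two] at h1
    have h2 : p a c = 1 := by rw [ps a haQ c hc, pq c hc a haQ h1, inv_one]
    have hcc : p c c = 1 := by show χ _ = 1; rw [commutatorElement_self, eigen_one hocc]
    rw [ha, pl c hc _ (inv_mem hzQ) c hc, hcc, one_mul, pinv _ hzQ c hc, inv_eq_one] at h2
    exact h2
  have hsym : ∀ a ∈ Q, ∀ b ∈ Q, p (z * a * z⁻¹) b = p a (z * b * z⁻¹) := fun a ha b hb => by
    have hza := h.inv z hzX a ha
    have hzb := h.inv z hzX b hb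
    have h1 := hzc (a * b) (mul_mem ha hb)
    rw [show z * (a * b) * z⁻¹ = (z * a * z⁻¹) * (z * b * z⁻¹) by group, pl _ hza _ hzb _ (mul_mem ha hb),
      pr a ha b hb _ hza, pr a ha b hb _ hzb, hzc a ha, hzc b hb, one_mul, mul_one] at h1
    rw [ps a ha _ hzb]
    exact eq_inv_of_mul_eq_one_left h1
  refine hω1 (pq u huQ d hdQ ?_)
  have hzu := h.inv z hzX u huQ
  have hzd := h.inv z hzX d hdQ
  have h1 : p (y * u * y⁻¹) d = p u d := by
    have h2 := hsym (z * u * z⁻¹) hzu d hdQ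
    rw [show z * (z * u * z⁻¹) * z⁻¹ = y * u * y⁻¹ by rw [← hzy]; group] at h2
    rw [h2]
    show χ _ = χ _
    rw [show ⁅z * u * z⁻¹, z * d * z⁻¹⁆ = z * ⁅u, d⁆ * z⁻¹ by simp [commutatorElement_def, mul_assoc]]
    exact hfix _ heA
  rw [py u huQ d hdQ] at h1
  have hne : p u d ≠ 0 := eigen_ne_zero hocc heA
  rw [pow_two]
  nth_rewrite 1 [← h1]
  exact inv_mul_cancel₀ hne

end Cfsg.Lib.Local.GrossTwo
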