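import Cfsg.Agent.Lib.Local.GrossTwoRadical
import Cfsg.Agent.Lib.Local.TopModule
import Cfsg.Agent.Lib.Local.PrimeOrderOperator
import Mathlib.LinearAlgebra.BilinearForm.TensorProduct

/-!
Two exceptional layers under an operator of two-power order cannot be stacked: the involution would have rank
at most two on a symplectic module on which the upper layer needs more.
-/

set_option autoImplicit false

namespace Cfsg.Lib.Local.GrossTwo

open Subgroup Module
open scoped commutatorElement TensorProduct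

universe u

/-- Two bilinear maps on an extension of scalars agree when they agree on the original module. -/
theorem bilin_ext {F : Type*} [Field F] {K : Type*} [Field K] [Algebra F K] {W : Type*} [AddCommGroup W]
    [Module F W] (β γ : (K ⊗[F] W) →ₗ[K] (K ⊗[F] W) →ₗ[K] K)
    (h : ∀ u v : W, β ((1 : K) ⊗ₜ[F] u) ((1 : K) ⊗ₜ[F] v) = γ ((1 : K) ⊗ₜ[F] u) ((1 : K) ⊗ₜ[F] v)) :
    β = γ := by
  refine LinearMap.ext fun a => LinearMap.ext fun b => ?_
  induction a using TensorProduct.induction_on with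
  | zero => simp
  | add a a' ha ha' => rw [map_add, map_add, LinearMap.add_apply, LinearMap.add_apply, ha, ha']
  | tmul c u =>
    induction b using TensorProduct.induction_on with
    | zero => simp
    | add b b' hb hb' => rw [map_add, map_add, hb, hb']
    | tmul d v =>
      rw [show c ⊗ₜ[F] u = c • ((1 : K) ⊗ₜ[F] u) by rw [TensorProduct.smul_tmul', smul_eq_mul, mul_one],
        show d ⊗ₜ[F] v = d • ((1 : K) ⊗ₜ[F] v) by rw [TensorProduct.smul_tmul', smul_eq_mul, mul_one]]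
      simp only [map_smul, LinearMap.smul_apply, h]

/-- A two-layer configuration with both layers moved by the involution does not exist. -/
theorem two_layers {H : Type u} [Group H] [Finite H] {F : Type*} [Field F] [IsAlgClosed F] {V : Type*}
    [AddCommGroup V] [Module F V] [FiniteDimensional F V] {ρ : H →* Module.End F V}
    (hρ : Function.Injective ρ) {q r : ℕ} [hq : Fact q.Prime] [hr : Fact r.Prime] (hq2 : q ≠ 2) (hr2 : r ≠ 2)
    (hqr : q ≠ r) (hrF : (r : F) ≠ 0) (h2F : (2 : F) ≠ 0) {R D : Subgroup H} (hR : IsPGroup r R)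
    (hD : IsPGroup q D) (hDR : ∀ d ∈ D, ∀ a ∈ R, d * a * d⁻¹ ∈ R) {x : H}
    (hxR : ∀ a ∈ R, x * a * x⁻¹ ∈ R) (hxD : ∀ d ∈ D, x * d * x⁻¹ ∈ D) {n : ℕ}
    (hord : x ^ 2 ^ (n + 2) = 1) (hN : ∑ i ∈ Finset.range (2 ^ (n + 2)), ρ x ^ i = 0)
    (hcomm : ∀ a ∈ R, ∀ b ∈ R, ⁅a, b⁆ ∈ innerCenter R) (hpow : ∀ a ∈ R, a ^ r ∈ innerCenter R)
    (hDc : ∀ d ∈ D, ∀ a ∈ R, ∀ b ∈ R, d * ⁅a, b⁆ * d⁻¹ = ⁅a, b⁆)
    (hfpf : ∀ a ∈ R, a⁻¹ * (x * a * x⁻¹) ∈ innerCenter R → a ∈ innerCenter R)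
    (hmov : ∃ d ∈ D, ∃ a ∈ R,
      a⁻¹ * (⁅d, x ^ 2 ^ (n + 1)⁆ * a * ⁅d, x ^ 2 ^ (n + 1)⁆⁻¹) ∉ innerCenter R) : False := by
  classical
  set y := x ^ 2 ^ (n + 1) with hy
  set Z := innerCenter R with hZdef
  have hZR : Z ≤ R := fun a ha => (mem_innerCenter.1 ha).1
  have hZc : ∀ a ∈ Z, ∀ b ∈ R, a * b = b * a := fun a ha => (mem_innerCenter.1 ha).2
  set NR := normalizer (R : Set H) with hNR
  have hxN : x ∈ NR := mem_normalizer_of_conj_mem hxR
  have hDN : D ≤ NR := fun d hd => mem_normalizer_of_conj_mem (hDR d hd)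
  have hNZ : ∀ g ∈ NR, ∀ a ∈ Z, g * a * g⁻¹ ∈ Z := by
    intro g hg a ha
    obtain ⟨h1, h2⟩ := mem_innerCenter.1 ha
    refine mem_innerCenter.2 ⟨(mem_normalizer_iff.1 hg a).1 h1, fun b hb => ?_⟩
    have e := h2 _ (show g⁻¹ * b * g ∈ R by simpa using (mem_normalizer_iff.1 (inv_mem hg) b).1 hb)
    calc g * a * g⁻¹ * b = g * (a * (g⁻¹ * b * g)) * g⁻¹ := by group
      _ = b * (g * a * g⁻¹) := by rw [e]; group
  -- the central quotient as a module
  let Z' := Z.subgroupOf R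
  haveI hZn : Z'.Normal := ⟨fun a ha g => by
    rw [mem_subgroupOf] at ha ⊢
    rw [Subgroup.coe_mul, Subgroup.coe_mul, InvMemClass.coe_inv, ← hZc _ ha g g.2, mul_inv_cancel_right]
    exact ha⟩
  letI : CommGroup (R ⧸ Z') := { (inferInstance : Group (R ⧸ Z')) with
    mul_comm := by
      rintro ⟨a⟩ ⟨b⟩
      refine (QuotientGroup.eq (a := a * b) (b := b * a)).2 (mem_subgroupOf.2 ?_)
      rw [show (((a * b)⁻¹ * (b * a) : R) : H) = ⁅(b : H)⁻¹, (a : H)⁻¹⁆ by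
        simp [commutatorElement_def, mul_assoc]]
      exact hcomm _ (inv_mem b.2) _ (inv_mem a.2) }
  let π : NR →* MulAut (R ⧸ Z') :=
    { toFun := fun g => QuotientGroup.congr Z' Z' (autOf R g) (by
        refine eq_of_le_of_card_ge ?_ (card_map_of_injective (autOf R g).injective).ge
        rintro _ ⟨a, ha, rfl⟩
        exact mem_subgroupOf.2 (hNZ g g.2 _ (mem_subgroupOf.1 ha)))
      map_one' := MulEquiv.ext fun w => by
        obtain ⟨a, rfl⟩ := QuotientGroup.mk'_surjective _ w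
        show QuotientGroup.mk' Z' (autOf R 1 a) = _
        rw [map_one]; rfl
      map_mul' := fun g g' => MulEquiv.ext fun w => by
        obtain ⟨a, rfl⟩ := QuotientGroup.mk'_surjective _ w
        show QuotientGroup.mk' Z' (autOf R (g * g') a) = QuotientGroup.mk' Z' (autOf R g (autOf R g' a))
        rw [map_mul]; rfl }
  have hπ : ∀ (g : NR) (a : R), π g (QuotientGroup.mk' Z' a) = QuotientGroup.mk' Z' (autOf R g a) :=
    fun _ _ => rfl
  obtain ⟨VW, _, _, _, RW, e, he⟩ := exists_zmod_rep (p := r) (W := R ⧸ Z') (fun w => by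
    obtain ⟨a, rfl⟩ := QuotientGroup.mk'_surjective _ w
    rw [← map_pow]
    refine (QuotientGroup.eq_one_iff _).2 (mem_subgroupOf.2 ?_)
    rw [SubmonoidClass.coe_pow]
    exact hpow a a.2) (MonoidHom.id _)
  have hRW : Function.Injective RW := fun k l hkl => MulEquiv.ext fun w =>
    e.injective (Multiplicative.toAdd.injective ((he k w).symm.trans ((LinearMap.congr_fun hkl _).trans (he l w))))
  let xg : NR := ⟨x, hxN⟩
  let yg : NR := xg ^ 2 ^ (n + 1)
  have hyg : (yg : H) = y := rfl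
  set x2 := π xg with hx2
  set Q := (D.subgroupOf NR).map π with hQdef
  have hQ : IsPGroup q Q := (hD.of_equiv (subgroupOfEquivOfLe hDN).symm).map π
  have hxQ : ∀ a ∈ Q, x2 * a * x2⁻¹ ∈ Q := by
    rintro _ ⟨g, hg, rfl⟩
    refine ⟨xg * g * xg⁻¹, ?_, by rw [map_mul, map_mul, map_inv]⟩
    exact mem_subgroupOf.2 (hxD _ (mem_subgroupOf.1 hg))
  have hord2 : x2 ^ 2 ^ (n + 2) = 1 := by
    rw [hx2, ← map_pow, show xg ^ 2 ^ (n + 2) = 1 from Subtype.ext hord, map_one]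
  set y2 := x2 ^ 2 ^ (n + 1) with hy2
  have hy2π : y2 = π yg := by rw [hy2, hx2, ← map_pow]
  have hnormX : ∀ g ∈ zpowers x2, ∀ a ∈ Q, g * a * g⁻¹ ∈ Q := fun g hg a ha =>
    (mem_normalizer_iff.1 (zpowers_le.2 (mem_normalizer_of_conj_mem hxQ) hg) a).1 ha
  have hmoved : ∃ a ∈ Q, y2 * a * y2⁻¹ ≠ a := by
    obtain ⟨d, hd, a, ha, hne⟩ := hmov
    refine ⟨π ⟨d, hDN hd⟩, mem_map_of_mem π (mem_subgroupOf.2 hd), fun e1 => hne ?_⟩
    set dg : NR := ⟨d, hDN hd⟩
    have h1 : π ⁅dg, yg⁆ = 1 := by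
      rw [map_commutatorElement, commutatorElement_eq_one_iff_mul_comm, ← hy2π]
      exact (mul_inv_eq_iff_eq_mul.1 e1).symm
    have h2 := hπ ⁅dg, yg⁆ ⟨a, ha⟩
    rw [h1, MulAut.one_apply] at h2
    exact mem_subgroupOf.1 (QuotientGroup.eq.1 h2)
  have hcop2 : (orderOf y2).Coprime q :=
    Nat.Coprime.coprime_dvd_left (orderOf_dvd_of_pow_eq_one (n := 2) (by rw [hy2, ← pow_mul, ← pow_succ, hord2]))
      ((Nat.coprime_primes Nat.prime_two hq.out).2 (Ne.symm hq2))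
  obtain ⟨Q0, hQ0Q, hmin⟩ := exists_minimalMoved hQ hnormX hmoved (pow_mem (mem_zpowers x2) _)
    (fun g hg => by
      obtain ⟨k, rfl⟩ := mem_zpowers_iff.1 hg
      exact (((Commute.refl x2).zpow_left k).pow_right _).eq) hcop2
  have hsumW : ∑ i ∈ Finset.range (2 ^ (n + 2)), RW x2 ^ i = 0 := by
    refine LinearMap.ext fun v => ?_
    rw [LinearMap.sum_apply, LinearMap.zero_apply]
    set S0 := ∑ i ∈ Finset.range (2 ^ (n + 2)), (RW x2 ^ i) v with hS0
    have hfix : RW x2 S0 = S0 := by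
      rw [hS0, map_sum, ← sub_eq_zero, ← Finset.sum_sub_distrib]
      calc ∑ i ∈ Finset.range (2 ^ (n + 2)), (RW x2 ((RW x2 ^ i) v) - (RW x2 ^ i) v)
          = ∑ i ∈ Finset.range (2 ^ (n + 2)), ((RW x2 ^ (i + 1)) v - (RW x2 ^ i) v) := by
            simp only [pow_succ', Module.End.mul_apply]
        _ = (RW x2 ^ 2 ^ (n + 2)) v - (RW x2 ^ 0) v := Finset.sum_range_sub (fun i => (RW x2 ^ i) v) _
        _ = 0 := by rw [← map_pow, hord2, map_one, pow_zero]; exact sub_self _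
    obtain ⟨w, hw⟩ := e.surjective (Multiplicative.ofAdd S0)
    obtain ⟨a, rfl⟩ := QuotientGroup.mk'_surjective _ w
    have hS0' : S0 = (e (QuotientGroup.mk' _ a)).toAdd := by rw [hw]; rfl
    rw [hS0', he] at hfix
    have h1 : x2 (QuotientGroup.mk' Z' a) = QuotientGroup.mk' Z' a :=
      e.injective (Multiplicative.toAdd.injective hfix)
    rw [hx2, hπ] at h1
    have h2 : (a : H) ∈ Z := hfpf a a.2 (mem_subgroupOf.1 (QuotientGroup.eq.1 h1.symm))
    rw [hS0', show QuotientGroup.mk' Z' a = 1 from (QuotientGroup.eq_one_iff a).2 (mem_subgroupOf.2 h2), map_one]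
    rfl
  let K := AlgebraicClosure (ZMod r)
  haveI : CharP K r := charP_of_injective_algebraMap (algebraMap (ZMod r) K).injective r
  have hcastK : ∀ l : ℕ, l.Prime → l ≠ r → (l : K) ≠ 0 := fun l hl hlr => by
    rw [Ne, CharP.cast_eq_zero_iff K r]
    exact fun hd => hlr ((Nat.prime_dvd_prime_iff_eq hr.out hl).1 hd).symm
  have hqK : (q : K) ≠ 0 := hcastK q hq.out hqr
  have h2K : (2 : K) ≠ 0 := by exact_mod_cast hcastK 2 Nat.prime_two (Ne.symm hr2)
  have hqZ : (q : ZMod r) ≠ 0 := by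
    rw [Ne, CharP.cast_eq_zero_iff (ZMod r) r]
    exact fun hd => hqr ((Nat.prime_dvd_prime_iff_eq hr.out hq.out).1 hd).symm
  obtain ⟨a1, ha1, b1, hb1, hab1⟩ := nonabelian_of_norm hRW hmin hqZ hq2 (mem_zpowers x2) hy2.symm hord2 hsumW
  -- an element moved by a commutator of `Q0`
  set e1 := ⁅a1, b1⁆ with he1
  obtain ⟨w0, hw0⟩ : ∃ w, e1 w ≠ w := by
    by_contra hcon
    push Not at hcon
    exact hab1 (commutatorElement_eq_one_iff_mul_comm.1 (MulEquiv.ext hcon))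
  obtain ⟨g0, rfl⟩ := QuotientGroup.mk'_surjective _ w0
  obtain ⟨g1, hg1⟩ := QuotientGroup.mk'_surjective _ (e1 (QuotientGroup.mk' Z' g0))
  set gd : R := g0⁻¹ * g1 with hgd
  have hgdZ : (gd : H) ∉ Z := fun hz => hw0 (by
    rw [← hg1]; exact (QuotientGroup.eq.2 (mem_subgroupOf.2 hz)).symm)
  obtain ⟨b, hb, hgb⟩ : ∃ b ∈ R, ⁅(gd : H), b⁆ ≠ 1 := by
    by_contra hcon
    push Not at hcon
    exact hgdZ (mem_innerCenter.2 ⟨gd.2, fun b hb => commutatorElement_eq_one_iff_mul_comm.1 (hcon b hb)⟩)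
  set z0 := ⁅(gd : H), b⁆ with hz0
  have hz0Z : z0 ∈ Z := hcomm _ gd.2 b hb
  have hbl : ∀ a ∈ R, ∀ a' ∈ R, ∀ c ∈ R, ⁅a * a', c⁆ = ⁅a, c⁆ * ⁅a', c⁆ := fun a ha a' ha' c hc => by
    rw [show ⁅a * a', c⁆ = a * ⁅a', c⁆ * a⁻¹ * ⁅a, c⁆ by simp only [commutatorElement_def]; group,
      ← hZc _ (hcomm a' ha' c hc) a ha, mul_inv_cancel_right]
    exact hZc _ (hcomm a' ha' c hc) _ (hZR (hcomm a ha c hc))
  have hZab : ∀ a ∈ Z, ∀ a' ∈ Z, a * a' = a' * a := fun a ha a' ha' => hZc a ha a' (hZR ha')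
  have hZord : ∀ a ∈ Z, ((orderOf a : ℕ) : F) ≠ 0 := fun a ha => by
    obtain ⟨i, hi⟩ := IsPGroup.iff_orderOf.1 (hR.to_le hZR) ⟨a, ha⟩
    rw [Subgroup.orderOf_mk] at hi
    rw [hi, Nat.cast_pow]
    exact pow_ne_zero _ hrF
  have hpowc : ∀ a ∈ R, ∀ c ∈ R, ∀ i : ℕ, ⁅a ^ i, c⁆ = ⁅a, c⁆ ^ i := fun a ha c hc i => by
    induction i with
    | zero => simp
    | succ i ih => rw [pow_succ, hbl _ (pow_mem ha i) a ha c hc, ih, pow_succ]
  have hzr : ∀ a ∈ R, ∀ c ∈ R, ⁅a, c⁆ ^ r = 1 := fun a ha c hc => by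
    rw [← hpowc a ha c hc, commutatorElement_eq_one_iff_mul_comm]
    exact hZc _ (hpow a ha) c hc
  obtain ⟨ψ, v, hvU, hv, hv0⟩ := exists_eigen_not_mem (ρ := ρ) Z hZab hZord ⊥ (LinearMap.range (ρ z0 - 1))
    (fun a ha v hv => by
      obtain ⟨w, rfl⟩ := hv
      refine ⟨ρ a w, ?_⟩
      rw [LinearMap.sub_apply, LinearMap.sub_apply, Module.End.one_apply, Module.End.one_apply, map_sub,
        ← ρ_mul_apply, hZab z0 hz0Z a ha, ρ_mul_apply])
    (fun hle => hgb (hρ (by rw [map_one]; exact sub_eq_zero.1 (LinearMap.range_eq_bot.1 (le_bot_iff.1 hle)))))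
  rw [Submodule.mem_bot] at hv0
  have hψ : eigenOf ρ Z ψ ≠ ⊥ := fun eb => hv0 ((Submodule.eq_bot_iff _).1 eb v hv)
  set ω := ψ z0 with hω
  have hpr : ∀ a ∈ R, ∀ c ∈ R, ψ ⁅a, c⁆ ^ r = 1 := fun a ha c hc => by
    have h1 : ∀ i : ℕ, ψ (⁅a, c⁆ ^ i) = ψ ⁅a, c⁆ ^ i := fun i => by
      induction i with
      | zero => rw [pow_zero, pow_zero, eigen_one hψ]
      | succ i ih => rw [pow_succ, pow_succ, eigen_mul hψ (pow_mem (hcomm a ha c hc) i) (hcomm a ha c hc), ih]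
    rw [← h1, hzr a ha c hc, eigen_one hψ]
  have hω1 : ω ≠ 1 := by
    intro eω
    have hfix : ∀ i : ℕ, ρ (z0 ^ i) v = v := fun i => by
      induction i with
      | zero => simp
      | succ i ih => rw [pow_succ, ρ_mul_apply, mem_eigenOf.1 hv z0 hz0Z, ← hω, eω, one_smul, ih]
    obtain ⟨w, hw⟩ := hvU
    have h1 : ∑ i ∈ Finset.range r, ρ (z0 ^ i) v = 0 := by
      rw [← hw]
      simp only [LinearMap.sub_apply, Module.End.one_apply, map_sub, ← ρ_mul_apply, ← pow_succ]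
      rw [Finset.sum_range_sub (fun i => ρ (z0 ^ i) w), hzr _ gd.2 b hb, pow_zero, sub_self]
    rw [Finset.sum_congr rfl fun i _ => hfix i, Finset.sum_const, Finset.card_range,
      ← Nat.cast_smul_eq_nsmul F] at h1
    exact hv0 ((smul_eq_zero.1 h1).resolve_left hrF)
  have hprim : IsPrimitiveRoot ω r := by
    have h1 := IsPrimitiveRoot.orderOf ω
    rwa [orderOf_eq_prime (hpr _ gd.2 b hb) hω1] at h1
  obtain ⟨m1, hm1, m2, hm2, hzψ, hrank⟩ := radical_rank hρ hr2 hrF hR hxR hord hN hcomm hpow hψ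
  -- the logarithm of the pairing
  have hlog : ∀ a c : R, ∃ i : ZMod r, ω ^ i.val = ψ ⁅(a : H), (c : H)⁆ := fun a c => by
    obtain ⟨i, hi, hi'⟩ := hprim.eq_pow_of_pow_eq_one (hpr a a.2 c c.2)
    exact ⟨i, by rw [ZMod.val_natCast_of_lt hi, hi']⟩
  choose L hL using hlog
  have hval : ∀ u w : ZMod r, ω ^ u.val = ω ^ w.val → u = w := fun u w e0 =>
    ZMod.val_injective r (hprim.pow_inj (ZMod.val_lt u) (ZMod.val_lt w) e0)
  have hadd : ∀ u w : ZMod r, ω ^ (u + w).val = ω ^ u.val * ω ^ w.val := fun u w => by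
    rw [ZMod.val_add, ← pow_eq_pow_mod _ hprim.pow_eq_one, pow_add]
  have Lmul : ∀ a a' c : R, L (a * a') c = L a c + L a' c := fun a a' c => hval _ _ (by
    rw [hadd, hL, hL, hL, Subgroup.coe_mul, hbl _ a.2 _ a'.2 _ c.2,
      eigen_mul hψ (hcomm _ a.2 _ c.2) (hcomm _ a'.2 _ c.2)])
  have Lskew : ∀ a c : R, L a c = - L c a := fun a c => eq_neg_of_add_eq_zero_left (hval _ _ (by
    rw [hadd, hL, hL, ZMod.val_zero, pow_zero, ← eigen_mul hψ (hcomm _ a.2 _ c.2) (hcomm _ c.2 _ a.2),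
      ← commutatorElement_inv (a : H), mul_inv_cancel, eigen_one hψ]))
  have Lcoset : ∀ a a' c : R, (QuotientGroup.mk a : R ⧸ Z') = QuotientGroup.mk a' → L a c = L a' c := by
    intro a a' c e0
    have hz : ((a⁻¹ * a' : R) : H) ∈ Z := mem_subgroupOf.1 (QuotientGroup.eq.1 e0)
    have h0 : L (a⁻¹ * a') c = 0 := hval _ _ (by
      rw [hL, commutatorElement_eq_one_iff_mul_comm.2 (hZc _ hz c c.2), eigen_one hψ, ZMod.val_zero, pow_zero])
    conv_rhs => rw [show a' = a * (a⁻¹ * a') by group, Lmul, h0, add_zero]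
  let B : R ⧸ Z' → R ⧸ Z' → ZMod r := fun u w => L u.out w.out
  have hB : ∀ a c : R, B (QuotientGroup.mk' Z' a) (QuotientGroup.mk' Z' c) = L a c := fun a c => by
    show L _ _ = _
    rw [Lcoset (QuotientGroup.mk' Z' a).out a _ (QuotientGroup.out_eq' _), Lskew,
      Lcoset (QuotientGroup.mk' Z' c).out c _ (QuotientGroup.out_eq' _), ← Lskew]
  have Badd : ∀ u u' w, B (u * u') w = B u w + B u' w := fun u u' w => by
    obtain ⟨a, rfl⟩ := QuotientGroup.mk'_surjective _ u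
    obtain ⟨a', rfl⟩ := QuotientGroup.mk'_surjective _ u'
    obtain ⟨c, rfl⟩ := QuotientGroup.mk'_surjective _ w
    rw [← map_mul, hB, hB, hB, Lmul]
  have Bskew : ∀ u w, B u w = - B w u := fun u w => by
    obtain ⟨a, rfl⟩ := QuotientGroup.mk'_surjective _ u
    obtain ⟨c, rfl⟩ := QuotientGroup.mk'_surjective _ w
    rw [hB, hB, Lskew]
  let ι : VW → R ⧸ Z' := fun u => e.symm (Multiplicative.ofAdd u)
  have hι : ∀ w, ι (e w).toAdd = w := fun w => e.symm_apply_apply w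
  have hιadd : ∀ u u', ι (u + u') = ι u * ι u' := fun u u' => map_mul e.symm _ _
  let BV : LinearMap.BilinForm (ZMod r) VW :=
    (AddMonoidHom.mk' (fun u : VW => (AddMonoidHom.mk' (fun w : VW => B (ι u) (ι w)) fun w w' => by
        rw [hιadd, Bskew, Badd, neg_add, ← Bskew, ← Bskew]).toZModLinearMap r) fun u u' =>
      LinearMap.ext fun w => by
        show B (ι (u + u')) (ι w) = B (ι u) (ι w) + B (ι u') (ι w)
        rw [hιadd, Badd]).toZModLinearMap r
  have hBV : ∀ u w : VW, BV u w = B (ι u) (ι w) := fun _ _ => rfl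
  let β : (K ⊗[ZMod r] VW) →ₗ[K] (K ⊗[ZMod r] VW) →ₗ[K] K := LinearMap.BilinForm.baseChange K BV
  have hβ : ∀ u w : VW, β ((1 : K) ⊗ₜ u) ((1 : K) ⊗ₜ w) = algebraMap (ZMod r) K (B (ι u) (ι w)) := fun u w => by
    show LinearMap.BilinForm.baseChange K BV _ _ = _
    rw [LinearMap.BilinForm.baseChange_tmul, mul_one, hBV, Algebra.algebraMap_eq_smul_one]
  let ρK := closureRep RW
  have hρK : ∀ (g : MulAut (R ⧸ Z')) (u : VW), ρK g ((1 : K) ⊗ₜ u) = (1 : K) ⊗ₜ RW g u := fun g u =>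
    LinearMap.baseChange_tmul ..
  have hpres : ∀ g : MulAut (R ⧸ Z'), (∀ u w, B (g u) (g w) = B u w) →
      ∀ s t, β (ρK g s) (ρK g t) = β s t := fun g hg => by
    have h1 : β.compl₁₂ (ρK g) (ρK g) = β := bilin_ext _ _ fun u w => by
      obtain ⟨u, rfl⟩ : ∃ u', (e u').toAdd = u := ⟨ι u, by simp [ι]⟩
      obtain ⟨w, rfl⟩ : ∃ w', (e w').toAdd = w := ⟨ι w, by simp [ι]⟩
      rw [LinearMap.compl₁₂_apply, hρK, hρK, hβ, hβ, he, he]
      simp only [MonoidHom.id_apply, hι, hg]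
    exact fun s t => LinearMap.congr_fun (LinearMap.congr_fun h1 s) t
  have hpresπ : ∀ g : NR, (∀ a c : R, ψ ((g : H) * ⁅(a : H), (c : H)⁆ * (g : H)⁻¹) = ψ ⁅(a : H), (c : H)⁆) →
      ∀ u w, B (π g u) (π g w) = B u w := by
    intro g hg u w
    obtain ⟨a, rfl⟩ := QuotientGroup.mk'_surjective _ u
    obtain ⟨c, rfl⟩ := QuotientGroup.mk'_surjective _ w
    rw [hπ, hπ, hB, hB]
    refine hval _ _ ?_
    rw [hL, hL, ← hg a c]
    congr 1
    show ⁅(g : H) * a * (g : H)⁻¹, (g : H) * c * (g : H)⁻¹⁆ = _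
    simp [commutatorElement_def, mul_assoc]
  have hyZ : ∀ a ∈ Z, y * a * y⁻¹ = a :=
    abelian_fixed hρ hr2 hrF (hR.to_le hZR) hZab (fun a ha => hNZ x hxN a ha) hord hN
  have hQ0β : ∀ g ∈ Q0, ∀ s t, β (ρK g s) (ρK g t) = β s t := fun g hg => by
    obtain ⟨d, hd, rfl⟩ := hQ0Q hg
    exact hpres _ (hpresπ d fun a c => by rw [hDc _ (mem_subgroupOf.1 hd) a a.2 c c.2])
  have hyβ : ∀ s t, β (ρK y2 s) (ρK y2 t) = β s t := hpres _ (by
    rw [hy2π]
    exact hpresπ yg fun a c => by rw [hyg, hyZ _ (hcomm a a.2 c c.2)])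
  -- the rank condition
  have hyaR : ∀ a : R, ⁅(a : H), y⁆ ∈ R := fun a => by
    rw [show ⁅(a : H), y⁆ = (a : H) * (y * (a : H)⁻¹ * y⁻¹) by rw [commutatorElement_def]; group]
    exact mul_mem a.2 ((mem_normalizer_iff.1 (pow_mem hxN _) _).1 (inv_mem a.2))
  have hTval : ∀ a c : R, β (ρK y2 ((1 : K) ⊗ₜ (e (QuotientGroup.mk' Z' a)).toAdd) -
      (1 : K) ⊗ₜ (e (QuotientGroup.mk' Z' a)).toAdd) ((1 : K) ⊗ₜ (e (QuotientGroup.mk' Z' c)).toAdd) =
        - algebraMap (ZMod r) K (L (⟨⁅(a : H), y⁆, hyaR a⟩ : R) c) := by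
    intro a c
    rw [map_sub, LinearMap.sub_apply, hρK, hβ, hβ, he, hι, hι, hι, MonoidHom.id_apply, hy2π, hπ, hB, hB,
      ← map_sub, ← map_neg]
    congr 1
    rw [sub_eq_iff_eq_add, ← sub_eq_neg_add, eq_sub_iff_add_eq, add_comm, ← Lmul]
    congr 1
    refine Subtype.ext ?_
    show ⁅(a : H), y⁆ * (y * a * y⁻¹) = a
    rw [commutatorElement_def]
    group
  let M1 : K ⊗[ZMod r] VW := (1 : K) ⊗ₜ (e (QuotientGroup.mk' Z' ⟨m1, hm1⟩)).toAdd
  let M2 : K ⊗[ZMod r] VW := (1 : K) ⊗ₜ (e (QuotientGroup.mk' Z' ⟨m2, hm2⟩)).toAdd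
  have hrankβ : ∃ s1 s2 : K ⊗[ZMod r] VW, ∀ s, ∃ i k : K, ∀ t,
      β (ρK y2 s - s) t = i * β s1 t + k * β s2 t := by
    refine ⟨M1, M2, fun s => ?_⟩
    suffices hs : s ∈ Submodule.comap (β.comp (ρK y2 - 1)) (Submodule.span K {β M1, β M2}) by
      obtain ⟨i, k, hik⟩ := Submodule.mem_span_pair.1 hs
      refine ⟨i, k, fun t => ?_⟩
      have := LinearMap.congr_fun hik t
      simpa using this.symm
    induction s using TensorProduct.induction_on with
    | zero => exact zero_mem _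
    | add s s' hs hs' => exact add_mem hs hs'
    | tmul c0 u =>
      rw [show c0 ⊗ₜ[ZMod r] u = c0 • ((1 : K) ⊗ₜ[ZMod r] u) by
        rw [TensorProduct.smul_tmul', smul_eq_mul, mul_one]]
      refine Submodule.smul_mem _ c0 (Submodule.mem_span_pair.2 ?_)
      obtain ⟨u, rfl⟩ : ∃ u', (e u').toAdd = u := ⟨ι u, by simp [ι]⟩
      obtain ⟨a, rfl⟩ := QuotientGroup.mk'_surjective _ u
      obtain ⟨i, k, hik⟩ := hrank a a.2
      refine ⟨-(i : K), -(k : K), LinearMap.ext fun t => ?_⟩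
      induction t using TensorProduct.induction_on with
      | zero => simp
      | add t t' ht ht' => rw [map_add, map_add, ht, ht']
      | tmul c1 w =>
        rw [show c1 ⊗ₜ[ZMod r] w = c1 • ((1 : K) ⊗ₜ[ZMod r] w) by
          rw [TensorProduct.smul_tmul', smul_eq_mul, mul_one], map_smul, map_smul]
        congr 1
        obtain ⟨w, rfl⟩ : ∃ w', (e w').toAdd = w := ⟨ι w, by simp [ι]⟩
        obtain ⟨c, rfl⟩ := QuotientGroup.mk'_surjective _ w
        simp only [LinearMap.add_apply, LinearMap.smul_apply, LinearMap.comp_apply, LinearMap.sub_apply,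
          Module.End.one_apply, smul_eq_mul]
        rw [hTval, hβ, hβ, hι, hι, hι, hB, hB, ← map_natCast (algebraMap (ZMod r) K),
          ← map_natCast (algebraMap (ZMod r) K), ← map_neg, ← map_neg, ← map_neg, ← map_mul, ← map_mul, ← map_add]
        congr 1
        rw [neg_mul, neg_mul, ← neg_add, neg_inj]
        refine (hval _ _ ?_).symm
        rw [hL, hadd]
        have hnat : ∀ (i : ℕ) (u : ZMod r), ω ^ ((i : ZMod r) * u).val = (ω ^ u.val) ^ i := fun i u => by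
          rw [ZMod.val_mul, ← pow_eq_pow_mod _ hprim.pow_eq_one, ← pow_mul, mul_comm u.val,
            pow_mul, pow_mul]
          congr 1
          rw [ZMod.val_natCast, ← pow_eq_pow_mod _ hprim.pow_eq_one]
        rw [hnat, hnat, hL, hL]
        exact hik c c.2
  have hzβ : (∃ s t, β (ρK y2 s - s) t ≠ 0) →
      ∀ s t, β (ρK (x2 ^ 2 ^ n) s) (ρK (x2 ^ 2 ^ n) t) = β s t := by
    rintro ⟨s, t, hst⟩
    have hex : ∃ a ∈ R, ∃ c ∈ R, ψ ⁅⁅a, y⁆, c⁆ ≠ 1 := by
      by_contra hcon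
      push Not at hcon
      have h0 : β.comp (ρK y2 - 1) = 0 := bilin_ext _ _ fun u w => by
        obtain ⟨u, rfl⟩ : ∃ u', (e u').toAdd = u := ⟨ι u, by simp [ι]⟩
        obtain ⟨w, rfl⟩ : ∃ w', (e w').toAdd = w := ⟨ι w, by simp [ι]⟩
        obtain ⟨a, rfl⟩ := QuotientGroup.mk'_surjective _ u
        obtain ⟨c, rfl⟩ := QuotientGroup.mk'_surjective _ w
        simp only [LinearMap.comp_apply, LinearMap.sub_apply, Module.End.one_apply, LinearMap.zero_apply]
        rw [hTval, neg_eq_zero, hval (L (⟨⁅(a : H), y⁆, hyaR a⟩ : R) c) 0 (by rw [hL, ZMod.val_zero, pow_zero]; exact hcon a a.2 c c.2), map_zero]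
      exact hst (LinearMap.congr_fun (LinearMap.congr_fun h0 s) t)
    refine hpres _ ?_
    rw [hx2, ← map_pow]
    exact hpresπ _ fun a c => by
      rw [SubmonoidClass.coe_pow]
      exact hzψ hex _ (hcomm a a.2 c c.2)
  have hfinal := form_trivial (ρ := ρK) (closureRep_injective hRW) hmin hq2 hqK h2K (mem_zpowers x2) (n := n)
    hy2.symm hord2 (closureRep_sum_pow hsumW) β (fun s => ?_) hQ0β hyβ hzβ hrankβ a1 ha1 b1 hb1
  · have h1 := hfinal ((1 : K) ⊗ₜ (e (QuotientGroup.mk' Z' g0)).toAdd)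
      ((1 : K) ⊗ₜ (e (QuotientGroup.mk' Z' (⟨b, hb⟩ : R))).toAdd)
    rw [hρK, hβ, hβ, he, hι, hι, hι, MonoidHom.id_apply, ← hg1, hB, hB] at h1
    have h2 : L gd ⟨b, hb⟩ = 0 := by
      have h3 := (algebraMap (ZMod r) K).injective h1
      rwa [show g1 = g0 * gd by rw [hgd]; group, Lmul, add_eq_left] at h3
    refine hω1 ?_
    rw [hω, hz0]
    exact (hL gd ⟨b, hb⟩).symm.trans (by rw [h2, ZMod.val_zero, pow_zero])
  · have h1 : β + β.flip = 0 := bilin_ext _ _ fun u w => by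
      simp only [LinearMap.add_apply, LinearMap.flip_apply, LinearMap.zero_apply]
      rw [hβ, hβ, Bskew (ι w), map_neg, add_neg_cancel]
    have h2 := LinearMap.congr_fun (LinearMap.congr_fun h1 s) s
    simp only [LinearMap.add_apply, LinearMap.flip_apply, LinearMap.zero_apply, ← two_mul] at h2
    exact (mul_eq_zero.1 h2).resolve_left h2K

end Cfsg.Lib.Local.GrossTwo
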