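import Cfsg.Agent.Lib.Local.HallHigmanTheoremB
import Mathlib.RingTheory.RootsOfUnity.AlgebraicallyClosed
import Mathlib.RingTheory.RootsOfUnity.EnoughRootsOfUnity
import Mathlib.RingTheory.Polynomial.Cyclotomic.Basic

/-!
Linear algebra for Gross's two-power theorem: eigenvectors outside an invariant subspace, the rank bound for
a commutator of an involutory operator, and the vanishing of norms on an orbit of components.
-/

set_option autoImplicit false

namespace Cfsg.Lib.Local.GrossTwo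

open Subgroup Module
open scoped commutatorElement

variable {H : Type*} [Group H] [Finite H] {F : Type*} [Field F] {V : Type*} [AddCommGroup V] [Module F V]
  {ρ : H →* Module.End F V}

theorem rho_cancel (ρ : H →* Module.End F V) (a : H) (v : V) : ρ a⁻¹ (ρ a v) = v := by
  rw [← ρ_mul_apply, inv_mul_cancel, map_one, Module.End.one_apply]

theorem rho_cancel' (ρ : H →* Module.End F V) (a : H) (v : V) : ρ a (ρ a⁻¹ v) = v := by
  rw [← ρ_mul_apply, mul_inv_cancel, map_one, Module.End.one_apply]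

/-- An invariant subspace not inside `N` has a common eigenvector of an abelian group outside `N`. -/
theorem exists_eigen_not_mem [IsAlgClosed F] [FiniteDimensional F V] (A : Subgroup H)
    (hab : ∀ a ∈ A, ∀ b ∈ A, a * b = b * a) (hA : ∀ a ∈ A, ((orderOf a : ℕ) : F) ≠ 0) (N : Submodule F V)
    (U : Submodule F V) (hU : ∀ a ∈ A, ∀ v ∈ U, ρ a v ∈ U) (hUN : ¬ U ≤ N) :
    ∃ ψ : H → F, ∃ v ∈ U, v ∈ eigenOf ρ A ψ ∧ v ∉ N := by
  classical
  obtain ⟨U', ⟨hU'U, hU'inv, hU'N⟩, hmin⟩ := wellFounded_lt.has_min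
    {U' : Submodule F V | U' ≤ U ∧ (∀ a ∈ A, ∀ v ∈ U', ρ a v ∈ U') ∧ ¬ U' ≤ N} ⟨U, le_rfl, hU, hUN⟩
  have hscal : ∀ a : A, ∃ c : F, ∀ v ∈ U', ρ (a : H) v = c • v := by
    intro a
    set n := orderOf (a : H) with hn
    have hn0 : (n : F) ≠ 0 := hA _ a.2
    have : NeZero (n : F) := ⟨hn0⟩
    obtain ⟨ω, hω⟩ := HasEnoughRootsOfUnity.exists_primitiveRoot F n
    have hnpos : 0 < n := orderOf_pos _
    by_contra hcon
    push Not at hcon
    obtain ⟨v0, hv0, hv0N⟩ := SetLike.not_le_iff_exists.1 hU'N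
    have hpow : ∀ i : ℕ, ∀ v ∈ U', ρ ((a : H) ^ i) v ∈ U' := fun i v hv => hU'inv _ (pow_mem a.2 i) v hv
    -- the components of `v0`
    let P : ℕ → V := fun k => ∑ t ∈ Finset.range n, (ω ^ (k * t)) • ρ ((a : H) ^ t) v0
    have hPmem : ∀ k, P k ∈ U' := fun k => Submodule.sum_mem _ fun t _ => U'.smul_mem _ (hpow t v0 hv0)
    have hPeig : ∀ k, ρ (a : H) (P k) = (ω ^ k)⁻¹ • P k := by
      intro k
      have hω0 : ω ^ k ≠ 0 := pow_ne_zero _ (hω.ne_zero hnpos.ne')
      rw [← inv_smul_smul₀ hω0 (ρ (a : H) (P k))]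
      congr 1
      show ω ^ k • ρ (a : H) (P k) = P k
      simp only [P, map_sum, map_smul, Finset.smul_sum, smul_smul, ← ρ_mul_apply, ← pow_succ', ← pow_add]
      let g : ℕ → V := fun t => ω ^ (k * t) • ρ ((a : H) ^ t) v0
      have h1 : ∀ t, ω ^ (k + k * t) • ρ ((a : H) ^ (t + 1)) v0 = g (t + 1) := fun t => by
        show _ = ω ^ (k * (t + 1)) • _
        rw [Nat.mul_succ, add_comm (k * t) k]
      simp only [h1]
      rw [← sub_eq_zero]
      show ∑ t ∈ Finset.range n, g (t + 1) - ∑ t ∈ Finset.range n, g t = 0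
      rw [← Finset.sum_sub_distrib, Finset.sum_range_sub g]
      simp only [g, mul_zero, pow_zero, one_smul]
      rw [hn, pow_orderOf_eq_one, map_one, Module.End.one_apply, ← hn, mul_comm k n, pow_mul, hω.pow_eq_one,
        one_pow, one_smul, sub_self]
    have hPN : ∀ k, P k ∈ N := by
      intro k
      by_contra hk
      obtain ⟨w, hw, hwne⟩ := hcon ((ω ^ k)⁻¹)
      refine hwne ?_
      set U'' : Submodule F V := U' ⊓ LinearMap.ker (ρ (a : H) - (ω ^ k)⁻¹ • (1 : Module.End F V)) with hU''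
      have hmem : ∀ u, u ∈ U'' ↔ u ∈ U' ∧ ρ (a : H) u = (ω ^ k)⁻¹ • u := fun u => by
        simp [hU'', sub_eq_zero]
      have heq : U'' = U' := by
        refine eq_of_le_of_not_lt inf_le_left (hmin _ ⟨inf_le_left.trans hU'U, fun b hb u hu => ?_,
          fun hle => hk (hle ((hmem _).2 ⟨hPmem k, hPeig k⟩))⟩)
        rw [hmem] at hu ⊢
        refine ⟨hU'inv b hb u hu.1, ?_⟩
        rw [← ρ_mul_apply, hab _ a.2 b hb, ρ_mul_apply, hu.2, map_smul]
      exact ((hmem w).1 (heq.ge hw)).2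
    have hsum : ∑ k ∈ Finset.range n, P k = (n : F) • v0 := by
      simp only [P]
      rw [Finset.sum_comm, Finset.sum_eq_single 0]
      · simp [Finset.sum_const, Nat.cast_smul_eq_nsmul]
      · intro t ht ht0
        rw [← Finset.sum_smul]
        have h1 : ω ^ t ≠ 1 := hω.pow_ne_one_of_pos_of_lt ht0 (Finset.mem_range.1 ht)
        have h2 : ∑ k ∈ Finset.range n, ω ^ (k * t) = 0 := by
          simp only [mul_comm _ t, pow_mul]
          refine (mul_eq_zero.1 ?_).resolve_right (sub_ne_zero.2 h1)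
          rw [geom_sum_mul, ← pow_mul, mul_comm, pow_mul, hω.pow_eq_one, one_pow, sub_self]
        rw [h2, zero_smul]
      · intro h0
        exact absurd (Finset.mem_range.2 hnpos) h0
    refine hv0N ?_
    have h3 : (n : F) • v0 ∈ N := hsum ▸ Submodule.sum_mem _ fun k _ => hPN k
    simpa [inv_smul_smul₀ hn0] using N.smul_mem (n : F)⁻¹ h3
  choose c hc using hscal
  obtain ⟨v0, hv0, hv0N⟩ := SetLike.not_le_iff_exists.1 hU'N
  refine ⟨fun a => if ha : a ∈ A then c ⟨a, ha⟩ else 0, v0, hU'U hv0, mem_eigenOf.2 fun a ha => ?_, hv0N⟩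
  simp only [dif_pos ha]
  exact hc ⟨a, ha⟩ v0 hv0

/-- A commutator of `y` with eigenvalues permuted by a scalar commutation bounds the rank of `y - 1`. -/
theorem sub_one_rank_bound [IsAlgClosed F] [FiniteDimensional F V] {y c d u : H} (hu : u = c * y * c⁻¹ * y⁻¹)
    {ω : F} {q : ℕ} (hω : IsPrimitiveRoot ω q) (E : Submodule F V) (hE : E ≠ ⊥)
    (hEy : ∀ v ∈ E, ρ y v ∈ E) (hEy' : ∀ v ∈ E, ρ y⁻¹ v ∈ E) (hEc : ∀ v ∈ E, ρ c v ∈ E)
    (hEc' : ∀ v ∈ E, ρ c⁻¹ v ∈ E) (hEd : ∀ v ∈ E, ρ d v ∈ E)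
    (hud : ∀ v ∈ E, ρ u (ρ d v) = ω • ρ d (ρ u v)) :
    q - 1 ≤ 2 * finrank F (E.map (ρ y - 1)) ∧ q ≤ finrank F E := by
  classical
  have hEu : ∀ v ∈ E, ρ u v ∈ E := fun v hv => by
    rw [hu, ρ_mul_apply, ρ_mul_apply, ρ_mul_apply]
    exact hEc _ (hEy _ (hEc' _ (hEy' v hv)))
  haveI : Nontrivial E := Submodule.nontrivial_iff_ne_bot.2 hE
  obtain ⟨l, hl⟩ := Module.End.exists_eigenvalue ((ρ u).restrict hEu)
  obtain ⟨⟨v, hvE⟩, hev, hv0⟩ := hl.exists_hasEigenvector
  have huv : ρ u v = l • v := congrArg Subtype.val (Module.End.mem_eigenspace_iff.1 hev)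
  have hv0' : v ≠ 0 := fun e => hv0 (Subtype.ext e)
  have hl0 : l ≠ 0 := fun e => ρ_ne_zero ρ u hv0' (by rw [huv, e, zero_smul])
  -- the translates by powers of `d`
  let f : ℕ → V := fun k => ρ (d ^ k) v
  have hf : ∀ k, f k ∈ E ∧ ρ u (f k) = (l * ω ^ k) • f k := by
    intro k
    induction k with
    | zero => simpa [f] using ⟨hvE, huv⟩
    | succ k ih =>
      have e : f (k + 1) = ρ d (f k) := by simp only [f, pow_succ', ρ_mul_apply]
      rw [e]
      refine ⟨hEd _ ih.1, ?_⟩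
      rw [hud _ ih.1, ih.2, map_smul, smul_smul]
      congr 1
      ring
  have hinj : Function.Injective (fun k : Fin q => l * ω ^ (k : ℕ)) := fun a b hab =>
    Fin.ext (hω.pow_inj a.2 b.2 (mul_left_cancel₀ hl0 hab))
  have hli : LinearIndependent F (fun k : Fin q => f k) :=
    Module.End.eigenvectors_linearIndependent' (ρ u) _ hinj _ fun k =>
      ⟨Module.End.mem_eigenspace_iff.2 (hf k).2, ρ_ne_zero ρ _ hv0'⟩
  refine ⟨?_, ?_⟩
  · let s : Finset (Fin q) := Finset.univ.filter fun k => l * ω ^ (k : ℕ) ≠ 1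
    have hs : q - 1 ≤ s.card := by
      have h1 : (Finset.univ.filter fun k : Fin q => ¬ l * ω ^ (k : ℕ) ≠ 1).card ≤ 1 := by
        refine Finset.card_le_one.2 fun a ha b hb => hinj ?_
        simp only [Finset.mem_filter, not_not] at ha hb
        exact ha.2.trans hb.2.symm
      have h2 := Finset.card_filter_add_card_filter_not (s := (Finset.univ : Finset (Fin q)))
        (fun k : Fin q => l * ω ^ (k : ℕ) ≠ 1)
      rw [Finset.card_univ, Fintype.card_fin] at h2
      show q - 1 ≤ (Finset.univ.filter _).card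
      omega
    set M := E.map (ρ y - 1) with hM
    have hsub : ∀ w ∈ E, ρ u w - w ∈ M.map (ρ c) ⊔ M := by
      intro w hw
      set a := ρ y⁻¹ w with ha
      have e : ρ u w - w = ρ c ((ρ y - 1) (ρ c⁻¹ a)) + -((ρ y - 1) a) := by
        rw [LinearMap.sub_apply, LinearMap.sub_apply, Module.End.one_apply, Module.End.one_apply, map_sub,
          rho_cancel', show ρ u w = ρ c (ρ y (ρ c⁻¹ a)) by rw [hu, ρ_mul_apply, ρ_mul_apply, ρ_mul_apply],
          show ρ y a = w from rho_cancel' ρ y w]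
        abel
      rw [e]
      exact Submodule.add_mem_sup ⟨_, ⟨_, hEc' _ (hEy' w hw), rfl⟩, rfl⟩
        (neg_mem ⟨_, hEy' w hw, rfl⟩)
    have hmem : Submodule.span F (Set.range fun k : s => f (k : Fin q)) ≤ M.map (ρ c) ⊔ M := by
      rw [Submodule.span_le]
      rintro _ ⟨⟨k, hk⟩, rfl⟩
      have hk' : l * ω ^ (k : ℕ) - 1 ≠ 0 := sub_ne_zero.2 (Finset.mem_filter.1 hk).2
      have h1 := hsub _ (hf k).1
      rw [(hf k).2] at h1
      have h2 := Submodule.smul_mem _ (l * ω ^ (k : ℕ) - 1)⁻¹ h1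
      rw [show (l * ω ^ (k : ℕ)) • f k - f k = (l * ω ^ (k : ℕ) - 1) • f k by rw [sub_smul, one_smul],
        inv_smul_smul₀ hk'] at h2
      exact h2
    have h3 := finrank_span_eq_card (hli.comp ((↑) : s → Fin q) Subtype.val_injective)
    rw [Fintype.card_coe] at h3
    calc q - 1 ≤ s.card := hs
      _ = _ := h3.symm
      _ ≤ finrank F ↥(M.map (ρ c) ⊔ M) := Submodule.finrank_mono hmem
      _ ≤ finrank F ↥(M.map (ρ c)) + finrank F M :=
        (Nat.le_add_right _ _).trans (Submodule.finrank_sup_add_finrank_inf_eq _ _).le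
      _ ≤ finrank F M + finrank F M := Nat.add_le_add_right (Submodule.finrank_map_le _ _) _
      _ = 2 * finrank F M := (two_mul _).symm
  · have h3 := finrank_span_eq_card hli
    rw [Fintype.card_fin] at h3
    rw [← h3]
    exact Submodule.finrank_mono (Submodule.span_le.2 fun _ ⟨k, hk⟩ => hk ▸ (hf k).1)

/-- The norm of the stabiliser of a component vanishes on that component. -/
theorem orbit_norm_zero {A : Subgroup H} (hA : (Nat.card A : F) ≠ 0) {x : H}
    (hxA : ∀ k : ℕ, ∀ a ∈ A, x ^ k * a * (x ^ k)⁻¹ ∈ A ∧ (x ^ k)⁻¹ * a * x ^ k ∈ A) {ψ : H → F} {a b : ℕ}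
    (ha0 : 0 < a) (hfix : ∀ c ∈ A, ψ (x ^ a * c * (x ^ a)⁻¹) = ψ c)
    (hsep : ∀ t < a, t ≠ 0 → ∃ c ∈ A, ψ (x ^ t * c * (x ^ t)⁻¹) ≠ ψ c)
    (hN : ∑ i ∈ Finset.range (a * b), ρ x ^ i = 0) {v : V} (hv : v ∈ eigenOf ρ A ψ) :
    ∑ i ∈ Finset.range b, ρ ((x ^ a) ^ i) v = 0 := by
  classical
  set z := x ^ a with hz
  have hstep : ∀ w ∈ eigenOf ρ A ψ, ρ z w ∈ eigenOf ρ A ψ := by
    intro w hw
    refine mem_eigenOf.2 fun c hc => ?_
    have h1 := (hxA a c hc).2
    rw [← ρ_mul_apply, show c * z = z * (z⁻¹ * c * z) by group, ρ_mul_apply, mem_eigenOf.1 hw _ h1, map_smul]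
    congr 1
    rw [← hfix _ h1]
    congr 1
    rw [hz]; group
  have hpow : ∀ i : ℕ, ρ (z ^ i) v ∈ eigenOf ρ A ψ := by
    intro i
    induction i with
    | zero => simpa using hv
    | succ i ih => rw [pow_succ', ρ_mul_apply]; exact hstep _ ih
  set w := ∑ i ∈ Finset.range b, ρ (z ^ i) v with hw
  have hwW : w ∈ eigenOf ρ A ψ := Submodule.sum_mem _ fun i _ => hpow i
  have hsum : ∑ t ∈ Finset.range a, ρ (x ^ t) w = 0 := by
    have h1 := LinearMap.congr_fun ((geom_mul (ρ x) a b).trans hN) v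
    rw [Finset.sum_mul_sum] at h1
    simpa [LinearMap.sum_apply, map_pow, hw, hz] using h1
  have h0 : ρ (x ^ 0) w = 0 := eigen_sum_eq_zero (A := A) hA (Finset.range a)
    (fun t c => ψ ((x ^ t)⁻¹ * c * x ^ t)) (fun t => ρ (x ^ t) w)
    (fun t _ => mem_eigenOf.2 fun c hc => by
      rw [← ρ_mul_apply, show c * x ^ t = x ^ t * ((x ^ t)⁻¹ * c * x ^ t) by group, ρ_mul_apply,
        mem_eigenOf.1 hwW _ (hxA t c hc).2, map_smul])
    (Finset.mem_range.2 ha0) (fun t ht ht0 => ?_) hsum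
  · simpa using h0
  · obtain ⟨c, hc, hne⟩ := hsep t (Finset.mem_range.1 ht) ht0
    refine ⟨x ^ t * c * (x ^ t)⁻¹, (hxA t c hc).1, ?_⟩
    simp only [pow_zero, inv_one, one_mul, mul_one]
    rw [show (x ^ t)⁻¹ * (x ^ t * c * (x ^ t)⁻¹) * x ^ t = c by group]
    exact hne.symm

end Cfsg.Lib.Local.GrossTwo
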