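import Cfsg.Agent.Lib.Solv.WardRank
import Cfsg.Agent.Lib.Core.Layer
import Cfsg.Agent.Lib.Coprime.Action
import Cfsg.Agent.Lib.PGroup.Basic

/-!
A prime layer moved by an operator of prime order outside the Fitting subgroup, and elements of a layer of
`G ⧸ F(G)` centralising all foreign cores.
-/

set_option autoImplicit false

namespace Cfsg.Lib.Local.GrossTwo

open Subgroup
open Cfsg.Lib.Solv.WardRank
open scoped commutatorElement

universe u v

/-- An element lying over `O_q (G ⧸ F(G))` and centralizing every `O_r (G)`, `r ≠ q`, lies in `F(G)`. -/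
theorem mem_fitting_of_centralizes {G : Type u} [Group G] [Finite G] [Group.IsSolvable G]
    [(Cfsg.fittingSubgroup G).Normal] {q : ℕ} [hq : Fact q.Prime] {d : G}
    (hd : QuotientGroup.mk' (Cfsg.fittingSubgroup G) d ∈ Cfsg.pCore q (G ⧸ Cfsg.fittingSubgroup G))
    (hc : ∀ r : ℕ, r.Prime → r ≠ q → d ∈ centralizer (Cfsg.pCore r G : Set G)) :
    d ∈ Cfsg.fittingSubgroup G := by
  set N := Cfsg.fittingSubgroup G with hNdef
  set U := (Cfsg.pCore q (G ⧸ N)).comap (QuotientGroup.mk' N) with hU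
  let C : Subgroup G := U ⊓ ⨅ r : {r : Nat.Primes // (r : ℕ) ≠ q}, centralizer (Cfsg.pCore (r.1 : ℕ) G : Set G)
  have : U.Normal := (inferInstance : (Cfsg.pCore q (G ⧸ N)).Normal).comap _
  have : C.Normal := Subgroup.normal_inf_normal _ _
  have hdC : d ∈ C := mem_inf.2 ⟨hd, mem_iInf.2 fun r => hc r.1 r.1.2 r.2⟩
  refine Lib.Core.le_fittingSubgroup (N := C) ?_ hdC
  -- every element of order prime to `q` is central
  have hcentral : ∀ (r : ℕ), r.Prime → r ≠ q → ∀ c : C, IsPGroup r (zpowers c) → c ∈ center C := by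
    intro r hr hrq c hcr
    have : Fact r.Prime := ⟨hr⟩
    have hcN : (c : G) ∈ N := by
      rw [← QuotientGroup.eq_one_iff]
      obtain ⟨e, he⟩ := IsPGroup.iff_orderOf.1 hcr ⟨c, mem_zpowers c⟩
      rw [Subgroup.orderOf_mk] at he
      have hcO : QuotientGroup.mk' N (c : G) ∈ Cfsg.pCore q (G ⧸ N) := (mem_inf.1 c.2).1
      obtain ⟨e', he'⟩ := IsPGroup.iff_orderOf.1 (Lib.Core.pCore_isPGroup q (G ⧸ N)) ⟨_, hcO⟩
      rw [Subgroup.orderOf_mk] at he'
      rw [← orderOf_eq_one_iff]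
      have h1 : orderOf (QuotientGroup.mk' N (c : G)) ∣ r ^ e :=
        (orderOf_map_dvd _ _).trans (by rw [Subgroup.orderOf_coe, he])
      exact Nat.dvd_one.1 ((((Nat.coprime_primes hr hq.out).2 hrq).pow e e').gcd_eq_one ▸
        Nat.dvd_gcd h1 he'.dvd)
    obtain ⟨Sr⟩ : Nonempty (Sylow r N) := inferInstance
    have := Lib.Core.fittingSubgroup_isNilpotent G
    have hSrn : (Sr : Subgroup N).Normal :=
      Sylow.normal_of_normalizerCondition Group.normalizerCondition_of_isNilpotent Sr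
    have : (Sr : Subgroup N).Characteristic := Sylow.characteristic_of_normal Sr hSrn
    have hle : (Sr : Subgroup N).map N.subtype ≤ Cfsg.pCore r G := by
      have : ((Sr : Subgroup N).map N.subtype).Normal := ConjAct.normal_of_characteristic_of_normal
      exact Lib.Core.le_pCore (Sr.isPGroup'.map _)
    have hcSr : (⟨(c : G), hcN⟩ : N) ∈ (Sr : Subgroup N) := by
      obtain ⟨T, hT⟩ := (show IsPGroup r (zpowers (⟨(c : G), hcN⟩ : N)) by
        obtain ⟨e, he⟩ := IsPGroup.iff_orderOf.1 hcr ⟨c, mem_zpowers c⟩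
        rw [Subgroup.orderOf_mk] at he
        exact IsPGroup.of_card (n := e) (by
          rw [Nat.card_zpowers, Subgroup.orderOf_mk, Subgroup.orderOf_coe, he])).exists_le_sylow
      have hTS : T = Sr := by
        obtain ⟨u, hu⟩ := MulAction.exists_smul_eq N Sr T
        rw [← hu, Sylow.smul_eq_of_normal]
      exact hTS ▸ hT (mem_zpowers _)
    have hcO : (c : G) ∈ Cfsg.pCore r G := hle ⟨_, hcSr, rfl⟩
    rw [mem_center_iff]
    intro c'
    refine Subtype.ext ?_
    exact (mem_centralizer_iff.1 (mem_iInf.1 (mem_inf.1 c'.2).2 ⟨⟨r, hr⟩, hrq⟩) _ hcO).symm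
  have hquot : IsPGroup q (C ⧸ center C) := by
    intro z
    obtain ⟨c, rfl⟩ := QuotientGroup.mk_surjective z
    obtain ⟨e, b, hb, heb⟩ := Nat.exists_eq_pow_mul_and_not_dvd (orderOf_pos c).ne' q hq.out.ne_one
    refine ⟨e, ?_⟩
    rw [← QuotientGroup.mk_pow, QuotientGroup.eq_one_iff]
    set u := c ^ q ^ e with hu
    have hub : u ^ b = 1 := by rw [hu, ← pow_mul, ← heb, pow_orderOf_eq_one]
    have key : ∀ b : ℕ, ¬ q ∣ b → ∀ u : C, u ^ b = 1 → u ∈ center C := by
      intro b
      induction b using Nat.recOnPosPrimePosCoprime with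
      | prime_pow r e hr he =>
        intro hb u hu
        refine hcentral r hr (fun h => hb (h ▸ dvd_pow_self r he.ne')) u ?_
        have : Fact r.Prime := ⟨hr⟩
        obtain ⟨i, -, hi⟩ := (Nat.dvd_prime_pow hr).1 (orderOf_dvd_of_pow_eq_one hu)
        exact IsPGroup.of_card (by rw [Nat.card_zpowers, hi])
      | zero => intro hb; exact absurd (dvd_zero q) hb
      | one => intro _ u hu; rw [pow_one] at hu; rw [hu]; exact one_mem _
      | coprime b1 b2 h1 h2 hcop ih1 ih2 =>
        intro hb u hu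
        have hm1 := ih1 (fun h => hb (h.mul_right _)) (u ^ b2) (by rw [← pow_mul, mul_comm, hu])
        have hm2 := ih2 (fun h => hb (h.mul_left _)) (u ^ b1) (by rw [← pow_mul, hu])
        obtain ⟨x, y, hxy⟩ := (Nat.isCoprime_iff_coprime.2 hcop : IsCoprime (b1 : ℤ) b2)
        have : u = (u ^ b1) ^ x * (u ^ b2) ^ y := by
          rw [← zpow_natCast u b1, ← zpow_natCast u b2, ← zpow_mul, ← zpow_mul, ← zpow_add,
            mul_comm (b1 : ℤ), mul_comm (b2 : ℤ), hxy, zpow_one]
        rw [this]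
        exact mul_mem (zpow_mem hm2 x) (zpow_mem hm1 y)
    exact key b hb u hub
  have := hquot.isNilpotent
  exact Group.of_quotient_center_nilpotent inferInstance

variable {G : Type u} [Group G] [Finite G] {A : Type v} [CommGroup A] [Finite A] {φ : A →* MulAut G}
  {p : ℕ} [hp : Fact p.Prime]

omit [Finite A] in
/-- An operator of order `p` moving `G ⧸ F(G)` moves a `q`-group acting on a foreign core. -/
theorem exists_moved_layer [Group.IsSolvable G] (hA : IsPGroup p A) (hG : ¬ p ∣ Nat.card G) {yA : A}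
    (hyp : yA ^ p = 1) {g0 : G} (hmove : g0⁻¹ * φ yA g0 ∉ Cfsg.fittingSubgroup G) :
    ∃ q r : ℕ, q.Prime ∧ r.Prime ∧ r ≠ q ∧ ∃ S' : Subgroup G, IsPGroup q S' ∧ Inv φ S' ∧
      ∃ s ∈ S', s⁻¹ * φ yA s ∉ centralizer (Cfsg.pCore r G : Set G) := by
  classical
  set N := Cfsg.fittingSubgroup G with hNdef
  have hNn : N.Normal := Lib.Core.fittingSubgroup_normal' G
  have hNinv : Inv φ N := inv_of_map_eq fun b => Lib.Core.map_fittingSubgroup_equiv (φ b)
  have hGm : ¬ p ∣ Nat.card (G ⧸ N) := fun hd => hG (hd.trans (card_quotient_dvd_card N))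
  let ψA := quoAct φ N hNinv
  obtain ⟨x0, hx0⟩ : ∃ x, ψA yA x ≠ x :=
    ⟨QuotientGroup.mk' N g0, fun e => hmove (QuotientGroup.eq.1 e.symm)⟩
  have : Group.IsSolvable (G ⧸ N) := Group.isSolvable_of_surjective (QuotientGroup.mk'_surjective N)
  set F2 := Cfsg.fittingSubgroup (G ⧸ N) with hF2
  have : F2.Normal := Lib.Core.fittingSubgroup_normal' _
  obtain ⟨f, hf, hfne⟩ : ∃ f ∈ F2, ψA yA f ≠ f := by
    by_contra hc
    push Not at hc
    have hδ : x0⁻¹ * ψA yA x0 ∈ centralizer (F2 : Set (G ⧸ N)) := by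
      refine mem_centralizer_iff.2 fun f hf => ?_
      have h1 : ψA yA x0 * f * (ψA yA x0)⁻¹ = x0 * f * x0⁻¹ := by
        conv_rhs => rw [← hc _ ((inferInstance : F2.Normal).conj_mem f hf x0)]
        rw [map_mul, map_mul, map_inv, hc f hf]
      have h2 := congrArg (fun z => x0⁻¹ * z * ψA yA x0) h1
      simp only [mul_assoc, inv_mul_cancel, mul_one, inv_mul_cancel_left] at h2
      rw [← mul_assoc] at h2
      exact h2.symm
    have hδF := Lib.Core.centralizer_fitting_le_of_isSolvable hδ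
    set δ := x0⁻¹ * ψA yA x0 with hδdef
    have hpow : ∀ k : ℕ, ψA (yA ^ k) x0 = x0 * δ ^ k := by
      intro k
      induction k with
      | zero => rw [pow_zero, map_one, MulAut.one_apply, pow_zero, mul_one]
      | succ k ih =>
        rw [pow_succ', map_mul, MulAut.mul_apply, ih, map_mul, map_pow (ψA yA) δ k, hc δ hδF, pow_succ', hδdef,
          ← mul_assoc, mul_inv_cancel_left]
    have h1 := hpow p
    rw [hyp, map_one, MulAut.one_apply, left_eq_mul] at h1
    have h2 : δ = 1 := (powCoprime ((hp.out.coprime_iff_not_dvd.2 hGm).symm)).injective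
      (show δ ^ p = (1 : G ⧸ N) ^ p by rw [h1, one_pow])
    exact hx0 (inv_mul_eq_one.1 h2).symm
  obtain ⟨q, hq, f, hf, hfne⟩ : ∃ q : ℕ, q.Prime ∧ ∃ f ∈ Cfsg.pCore q (G ⧸ N), ψA yA f ≠ f := by
    by_contra hc
    push Not at hc
    refine hfne ?_
    let Fx : Subgroup (G ⧸ N) :=
      { carrier := {z | ψA yA z = z}
        one_mem' := map_one _
        mul_mem' := fun {u w} hu hw => by
          show ψA yA (u * w) = u * w
          rw [map_mul, show ψA yA u = u from hu, show ψA yA w = w from hw]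
        inv_mem' := fun {u} hu => by
          show ψA yA u⁻¹ = u⁻¹
          rw [map_inv, show ψA yA u = u from hu] }
    rw [hF2, Lib.Core.fittingSubgroup_eq_iSup_pCore] at hf
    exact (iSup_le fun r : Nat.Primes => fun z hz => hc r r.2 z hz :
      (⨆ r : Nat.Primes, Cfsg.pCore (r : ℕ) (G ⧸ N)) ≤ Fx) hf
  have : Fact q.Prime := ⟨hq⟩
  set Oq := Cfsg.pCore q (G ⧸ N) with hOq
  set U := Oq.comap (QuotientGroup.mk' N) with hU
  have hUinv : Inv φ U := Inv.comap_mk (inv_of_map_eq fun b => Lib.Core.map_pCore_equiv (ψA b))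
  obtain ⟨S, hSinv⟩ := exists_inv_sylow hA hG q hUinv
  let gU : U →* Oq := ((QuotientGroup.mk' N).comp U.subtype).codRestrict Oq fun z => z.2
  have hgU : Function.Surjective gU := by
    rintro ⟨z, hz⟩
    obtain ⟨k, rfl⟩ := QuotientGroup.mk'_surjective N z
    exact ⟨⟨k, hz⟩, rfl⟩
  have hStop : (S.mapSurjective hgU : Subgroup Oq) = ⊤ := by
    rw [eq_top_iff]
    exact ((S.mapSurjective hgU).is_maximal' ((Lib.Core.pCore_isPGroup q _).to_subgroup ⊤) le_top).le
  obtain ⟨s0, hs0, hs0'⟩ := hStop.ge (mem_top (⟨f, hf⟩ : Oq))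
  have hsS : (s0 : G) ∈ (S : Subgroup U).map U.subtype := mem_map_of_mem _ hs0
  have hsf : QuotientGroup.mk' N (s0 : G) = f := congrArg Subtype.val hs0'
  set d := (s0 : G)⁻¹ * φ yA s0 with hd
  have hdS : d ∈ (S : Subgroup U).map U.subtype := mul_mem (inv_mem hsS) (hSinv yA _ hsS)
  have hdN : d ∉ N := fun h => hfne (by rw [← hsf]; exact (QuotientGroup.eq.2 h).symm)
  obtain ⟨r, hr, hrq, hrd⟩ : ∃ r : ℕ, r.Prime ∧ r ≠ q ∧ d ∉ centralizer (Cfsg.pCore r G : Set G) := by
    by_contra hc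
    push Not at hc
    exact hdN (mem_fitting_of_centralizes (map_subtype_le (S : Subgroup U) hdS) hc)
  exact ⟨q, r, hq, hr, hrq, _, S.isPGroup'.map U.subtype, hSinv, s0, hsS, hrd⟩

/-- A fixed-point-free cyclic `p`-group of operators is fixed-point-free on invariant quotients. -/
theorem quoAct_fpf (hA : IsPGroup p A) (hG : ¬ p ∣ Nat.card G) {a : A} (ha : ∀ b : A, b ∈ zpowers a)
    (hfpf : ∀ g : G, φ a g = g → g = 1) {N : Subgroup G} [N.Normal] (hN : Inv φ N) :
    ∀ x : G ⧸ N, quoAct φ N hN a x = x → x = 1 := by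
  intro x hx
  obtain ⟨g, rfl⟩ := QuotientGroup.mk'_surjective N x
  rw [quoAct_mk] at hx
  obtain ⟨w, hw, hgw⟩ := exists_fixed_in_coset hA hG hN ⊤ (g := g) fun b _ => by
    obtain ⟨k, rfl⟩ := mem_powers_iff_mem_zpowers.2 (ha b)
    induction k with
    | zero => simp
    | succ k ih =>
      beta_reduce
      rw [pow_succ', map_mul, MulAut.mul_apply,
        show g⁻¹ * φ a (φ (a ^ k) g) = (g⁻¹ * φ a g) * φ a (g⁻¹ * φ (a ^ k) g) by
          rw [map_mul, map_inv]; group]
      exact mul_mem (QuotientGroup.eq.1 hx.symm) (hN a _ (ih (mem_top _)))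
  rw [hfpf w (hw a (mem_top a)), mul_one, inv_mem_iff] at hgw
  exact (QuotientGroup.eq_one_iff g).2 hgw

end Cfsg.Lib.Local.GrossTwo
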