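import Cfsg.Agent.Lib.Local.GrossTwoForm
import Cfsg.Agent.Lib.Local.Basic

/-!
An `r`-group of class two moved by an involutory power of an operator of two-power order with vanishing norm:
modulo the radical of each central character the involution has rank at most two.
-/

set_option autoImplicit false

namespace Cfsg.Lib.Local.GrossTwo

open Subgroup Module
open scoped commutatorElement

variable {H : Type*} [Group H] [Finite H] {F : Type*} [Field F] {V : Type*} [AddCommGroup V] [Module F V]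
  {ρ : H →* Module.End F V} {r : ℕ} [hr : Fact r.Prime]

/-- An invariant abelian group of odd prime-power order is fixed by the involution. -/
theorem abelian_fixed (hρ : Function.Injective ρ) (hr2 : r ≠ 2) (hrF : (r : F) ≠ 0) {A : Subgroup H}
    (hA : IsPGroup r A) (hab : ∀ a ∈ A, ∀ b ∈ A, a * b = b * a) {x : H} (hxA : ∀ a ∈ A, x * a * x⁻¹ ∈ A) {n : ℕ}
    (hord : x ^ 2 ^ (n + 1) = 1) (hN : ∑ i ∈ Finset.range (2 ^ (n + 1)), ρ x ^ i = 0) :
    ∀ a ∈ A, x ^ 2 ^ n * a * (x ^ 2 ^ n)⁻¹ = a := by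
  have : Fact (Nat.Prime 2) := ⟨Nat.prime_two⟩
  by_contra hcon
  push Not at hcon
  have hnorm : zpowers x ≤ normalizer (A : Set H) := zpowers_le.2 (mem_normalizer_of_conj_mem hxA)
  have hcop : (orderOf (x ^ 2 ^ n)).Coprime r :=
    Nat.Coprime.coprime_dvd_left (orderOf_dvd_of_pow_eq_one (n := 2) (by rw [← pow_mul, ← pow_succ, hord]))
      ((Nat.coprime_primes Nat.prime_two hr.out).2 (Ne.symm hr2))
  obtain ⟨A0, hA0, h⟩ := exists_minimalMoved hA
    (fun g hg a ha => (mem_normalizer_iff.1 (hnorm hg) a).1 ha) hcon (pow_mem (mem_zpowers x) _)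
    (fun g hg => by
      obtain ⟨k, rfl⟩ := mem_zpowers_iff.1 hg
      exact (((Commute.refl x).zpow_left k).pow_right _).eq) hcop
  obtain ⟨a, ha, b, hb, hne⟩ := nonabelian_of_norm hρ h hrF hr2 (mem_zpowers x) rfl hord hN
  exact hne (hab a (hA0 ha) b (hA0 hb))

/-- Modulo the radical of a central character the involution has rank at most two, and if this rank is not
zero the character is fixed by the square root of the involution. -/
theorem radical_rank [IsAlgClosed F] [FiniteDimensional F V] (hρ : Function.Injective ρ) (hr2 : r ≠ 2)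
    (hrF : (r : F) ≠ 0) {R : Subgroup H} (hR : IsPGroup r R) {x : H}
    (hxR : ∀ a ∈ R, x * a * x⁻¹ ∈ R) {n : ℕ} (hord : x ^ 2 ^ (n + 2) = 1)
    (hN : ∑ i ∈ Finset.range (2 ^ (n + 2)), ρ x ^ i = 0)
    (hcomm : ∀ a ∈ R, ∀ b ∈ R, ⁅a, b⁆ ∈ innerCenter R) (hpow : ∀ a ∈ R, a ^ r ∈ innerCenter R)
    {ψ : H → F} (hψ : eigenOf ρ (innerCenter R) ψ ≠ ⊥) :
    ∃ m1 ∈ R, ∃ m2 ∈ R, ((∃ a ∈ R, ∃ b ∈ R, ψ ⁅⁅a, x ^ 2 ^ (n + 1)⁆, b⁆ ≠ 1) →
        ∀ a ∈ innerCenter R, ψ (x ^ 2 ^ n * a * (x ^ 2 ^ n)⁻¹) = ψ a) ∧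
      ∀ a ∈ R, ∃ i k : ℕ, ∀ b ∈ R, ψ ⁅⁅a, x ^ 2 ^ (n + 1)⁆, b⁆ = ψ ⁅m1, b⁆ ^ i * ψ ⁅m2, b⁆ ^ k := by
  classical
  have : Fact (Nat.Prime 2) := ⟨Nat.prime_two⟩
  set y := x ^ 2 ^ (n + 1) with hy
  by_cases hpair : ∀ a ∈ R, ∀ b ∈ R, ψ ⁅⁅a, y⁆, b⁆ = 1
  · exact ⟨1, one_mem R, 1, one_mem R, fun ⟨a, ha, b, hb, hne⟩ => absurd (hpair a ha b hb) hne,
      fun a ha => ⟨0, 0, fun b hb => by simp [hpair a ha b hb]⟩⟩
  push Not at hpair
  obtain ⟨a0, ha0, b0, hb0, hne0⟩ := hpair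
  set Z := innerCenter R with hZ
  have hZR : Z ≤ R := fun a ha => (mem_innerCenter.1 ha).1
  have hZc : ∀ a ∈ Z, ∀ b ∈ R, a * b = b * a := fun a ha => (mem_innerCenter.1 ha).2
  have hnorm : zpowers x ≤ normalizer (R : Set H) := zpowers_le.2 (mem_normalizer_of_conj_mem hxR)
  have hconjR : ∀ g ∈ zpowers x, ∀ a ∈ R, g * a * g⁻¹ ∈ R := fun g hg a ha =>
    (mem_normalizer_iff.1 (hnorm hg) a).1 ha
  have hconjZ : ∀ g ∈ zpowers x, ∀ a ∈ Z, g * a * g⁻¹ ∈ Z := fun g hg a ha => by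
    obtain ⟨h1, h2⟩ := mem_innerCenter.1 ha
    refine mem_innerCenter.2 ⟨hconjR g hg a h1, fun b hb => ?_⟩
    have e := h2 _ (hconjR g⁻¹ (inv_mem hg) b hb)
    rw [inv_inv] at e
    calc g * a * g⁻¹ * b = g * (a * (g⁻¹ * b * g)) * g⁻¹ := by group
      _ = b * (g * a * g⁻¹) := by rw [e]; group
  have hyx : y ∈ zpowers x := pow_mem (mem_zpowers x) _
  have hy2 : y * y = 1 := by rw [hy, ← pow_add, ← two_mul, ← pow_succ', hord]
  have hyord : orderOf y ∣ 2 := orderOf_dvd_of_pow_eq_one (by rw [pow_two, hy2])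
  have hcop : (orderOf y).Coprime r :=
    Nat.Coprime.coprime_dvd_left hyord ((Nat.coprime_primes Nat.prime_two hr.out).2 (Ne.symm hr2))
  have hyZ : ∀ a ∈ Z, y * a * y⁻¹ = a :=
    abelian_fixed hρ hr2 hrF (hR.to_le hZR) (fun a ha b hb => hZc a ha b (hZR hb))
      (hconjZ x (mem_zpowers x)) hord hN
  -- the pairing
  have hl : ∀ a ∈ R, ∀ b ∈ R, ∀ c ∈ R, ⁅a * b, c⁆ = ⁅a, c⁆ * ⁅b, c⁆ := fun a ha b hb c hc => by
    rw [show ⁅a * b, c⁆ = a * ⁅b, c⁆ * a⁻¹ * ⁅a, c⁆ by simp only [commutatorElement_def]; group,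
      ← hZc _ (hcomm b hb c hc) a ha, mul_inv_cancel_right]
    exact hZc _ (hcomm b hb c hc) _ (hZR (hcomm a ha c hc))
  have hrgt : ∀ a ∈ R, ∀ b ∈ R, ∀ c ∈ R, ⁅c, a * b⁆ = ⁅c, a⁆ * ⁅c, b⁆ := fun a ha b hb c hc => by
    rw [← commutatorElement_inv, hl a ha b hb c hc, mul_inv_rev, commutatorElement_inv, commutatorElement_inv]
    exact hZc _ (hcomm c hc b hb) _ (hZR (hcomm c hc a ha))
  set M := ⁅R, zpowers y⁆ with hM
  set C := R ⊓ centralizer (zpowers y : Set H) with hC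
  have hyle : zpowers y ≤ normalizer (R : Set H) := (zpowers_le.2 hyx).trans hnorm
  have hMR : M ≤ R := Coprime.commutator_le_of_le_normalizer hyle
  have hcopR : (Nat.card (zpowers y)).Coprime (Nat.card R) := coprime_card_zpowers hR hcop
  have hsol : Group.IsSolvable (zpowers y) ∨ Group.IsSolvable R := Or.inl (isSolvable_zpowers y)
  have hdec : ∀ b ∈ R, ∃ m ∈ M, ∃ c ∈ C, b = m * c := fun b hb =>
    Coprime.le_commutator_sup_centralizer hyle hcopR hsol hb
  have hCy : ∀ c ∈ C, y * c * y⁻¹ = c := fun c hc => by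
    rw [mem_centralizer_iff.1 (mem_inf.1 hc).2 y (mem_zpowers y), mul_inv_cancel_right]
  have huR : ∀ a ∈ R, ⁅a, y⁆ ∈ R := fun a ha => hMR (Subgroup.commutator_mem_commutator ha (mem_zpowers y))
  have hMC : ∀ m ∈ M, ∀ c ∈ C, m * c = c * m := by
    intro m hm c hc
    suffices hle : M ≤ centralizer ({c} : Set H) by exact mem_centralizer_singleton_iff.1 (hle hm)
    rw [hM, commutator_le]
    intro a ha k hk
    obtain ⟨i, rfl⟩ := mem_powers_iff_mem_zpowers.2 hk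
    have hpow' : y ^ i = 1 ∨ y ^ i = y := by
      rcases Nat.even_or_odd' i with ⟨k, rfl | rfl⟩
      · exact Or.inl (by rw [pow_mul, pow_two, hy2, one_pow])
      · exact Or.inr (by rw [pow_succ, pow_mul, pow_two, hy2, one_pow, one_mul])
    beta_reduce
    rcases hpow' with e | e <;> rw [e]
    · rw [commutatorElement_one_right]; exact one_mem _
    have hcy : y⁻¹ * c * y = c := by
      nth_rewrite 1 [← hCy c hc]
      group
    rw [mem_centralizer_singleton_iff]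
    refine commutatorElement_eq_one_iff_mul_comm.1 ?_
    have hcR := (mem_inf.1 hc).1
    have h1 : y * a⁻¹ * y⁻¹ ∈ R := hconjR y hyx _ (inv_mem ha)
    rw [show ⁅a, y⁆ = a * (y * a⁻¹ * y⁻¹) by rw [commutatorElement_def]; group, hl a ha _ h1 c hcR,
      show ⁅y * a⁻¹ * y⁻¹, c⁆ = y * ⁅a⁻¹, y⁻¹ * c * y⁆ * y⁻¹ by simp [commutatorElement_def, mul_assoc],
      hcy, hyZ _ (hcomm _ (inv_mem ha) c hcR), ← hl a ha _ (inv_mem ha) c hcR, mul_inv_cancel,
      commutatorElement_one_left]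
  have hZM : innerCenter M ≤ Z := fun a ha => by
    obtain ⟨h1, h2⟩ := mem_innerCenter.1 ha
    refine mem_innerCenter.2 ⟨hMR h1, fun b hb => ?_⟩
    obtain ⟨m, hm, c, hc, rfl⟩ := hdec b hb
    exact (Commute.mul_right (h2 m hm) (hMC a h1 c hc) :)
  have hMg : ∀ g ∈ zpowers x, ∀ a ∈ M, g * a * g⁻¹ ∈ M := fun g hg a ha =>
    conj_mem_commutator (hconjR g hg) (fun b hb => by
      obtain ⟨k, hk⟩ := mem_zpowers_iff.1 hb
      obtain ⟨l, hl'⟩ := mem_zpowers_iff.1 hg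
      have hgy : g * y = y * g := by rw [← hl', hy]; exact (((Commute.refl x).zpow_left l).pow_right _).eq
      exact mem_zpowers_iff.2 ⟨k, by rw [← hk, ← conj_zpow, mul_inv_eq_iff_eq_mul.2 hgy]⟩) ha
  have hu0M : ⁅a0, y⁆ ∈ M := Subgroup.commutator_mem_commutator ha0 (mem_zpowers y)
  obtain ⟨h1, hh1, c1, hc1, rfl⟩ := hdec b0 hb0
  set g := ⁅a0, y⁆ with hg
  have hω1 : ψ ⁅g, h1⁆ ≠ 1 := by
    rwa [hrgt h1 (hMR hh1) c1 (mem_inf.1 hc1).1 g (hMR hu0M),
      commutatorElement_eq_one_iff_mul_comm.2 (hMC g hu0M c1 hc1), mul_one] at hne0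
  have hmoved : ∃ a ∈ M, y * a * y⁻¹ ≠ a := by
    by_contra hcon
    push Not at hcon
    have h0 : ⁅M, zpowers y⁆ = ⊥ := by
      rw [commutator_eq_bot_iff_le_centralizer]
      intro a ha
      refine mem_centralizer_iff.2 fun b hb => ?_
      obtain ⟨k, hk⟩ := mem_zpowers_iff.1 hb
      rw [← hk]
      exact ((show Commute y a from mul_inv_eq_iff_eq_mul.1 (hcon a ha)).zpow_left k).eq
    have := Coprime.commutator_eq_bot_of_commutator_commutator_eq_bot hyle hcopR hsol h0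
    rw [hM, this, mem_bot] at hu0M
    exact hω1 (by rw [hu0M, commutatorElement_one_left, eigen_one hψ])
  have hMin : MinimalMoved M (zpowers x) y r := {
    isP := hR.to_le hMR
    inv := hMg
    moved := hmoved
    commutator_eq := Coprime.commutator_commutator_eq hyle hcopR hsol
    frattini_fixed := fun a ha => by
      have : Finite M := inferInstance
      obtain ⟨b, hb, rfl⟩ := ha
      refine hyZ _ ?_
      have hle : frattini M ≤ Z.subgroupOf M := by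
        refine PGroup.frattini_le_of_commutator_le_of_pow_mem (p := r) ?_ fun c => ?_
        · rw [_root_.commutator_def, commutator_le]
          intro c _ d _
          exact hcomm _ (hMR c.2) _ (hMR d.2)
        · rw [mem_subgroupOf, SubmonoidClass.coe_pow]
          exact hpow _ (hMR c.2)
      exact mem_subgroupOf.1 (hle hb)
    center_fixed' := fun _ a ha hac => hyZ a (hZM (mem_innerCenter.2 ⟨ha, hac⟩))
    ymem := hyx
    ycen := fun g' hg' => by
      obtain ⟨l, hl'⟩ := mem_zpowers_iff.1 hg'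
      rw [← hl', hy]
      exact (((Commute.refl x).zpow_left l).pow_right _).eq
    cop := hcop }
  have hocc : eigenOf ρ (innerCenter M) ψ ≠ ⊥ := fun eb => hψ (eq_bot_iff.2 fun v hv =>
    eb.le (mem_eigenOf.2 fun a ha => mem_eigenOf.1 hv a (hZM ha)))
  have hc : IsComponent ρ M ψ := ⟨⟨g, hu0M, h1, hh1, hω1⟩, hocc⟩
  obtain ⟨j, -, -, -, -, hidx⟩ := critical_two hρ hMin hr2 hrF (mem_zpowers x) (n := n + 1) hy.symm hord hN hc
  -- the pairing as a multiplicative form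
  let p : H → H → F := fun a b => ψ ⁅a, b⁆
  have pl : ∀ a ∈ R, ∀ b ∈ R, ∀ c ∈ R, p (a * b) c = p a c * p b c := fun a ha b hb c hc' => by
    show ψ _ = _
    rw [hl a ha b hb c hc', eigen_mul hψ (hcomm a ha c hc') (hcomm b hb c hc')]
  have prr : ∀ a ∈ R, ∀ b ∈ R, ∀ c ∈ R, p c (a * b) = p c a * p c b := fun a ha b hb c hc' => by
    show ψ _ = _
    rw [hrgt a ha b hb c hc', eigen_mul hψ (hcomm c hc' a ha) (hcomm c hc' b hb)]
  have pone : ∀ a, p 1 a = 1 := fun a => by show ψ _ = 1; rw [commutatorElement_one_left, eigen_one hψ]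
  have ppow : ∀ a ∈ R, ∀ c ∈ R, ∀ i : ℕ, p (a ^ i) c = p a c ^ i := fun a ha c hc' i => by
    induction i with
    | zero => rw [pow_zero, pone, pow_zero]
    | succ i ih => rw [pow_succ, pl _ (pow_mem ha i) a ha c hc', ih, pow_succ]
  have pinv : ∀ a ∈ R, ∀ c ∈ R, p a⁻¹ c = (p a c)⁻¹ := fun a ha c hc' => by
    refine eq_inv_of_mul_eq_one_left ?_
    rw [← pl _ (inv_mem ha) a ha c hc', inv_mul_cancel, pone]
  have pord : ∀ a ∈ R, ∀ c ∈ R, p a c ^ r = 1 := fun a ha c hc' => by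
    rw [← ppow a ha c hc']
    show ψ _ = 1
    rw [commutatorElement_eq_one_iff_mul_comm.2 (hZc _ (hpow a ha) c hc'), eigen_one hψ]
  have pself : ∀ a, p a a = 1 := fun a => by show ψ _ = 1; rw [commutatorElement_self, eigen_one hψ]
  have pskew : ∀ a ∈ R, ∀ c ∈ R, p a c = (p c a)⁻¹ := fun a ha c hc' => by
    show ψ _ = _
    rw [← commutatorElement_inv, eigen_inv hψ (hcomm c hc' a ha)]
  set ω := p g h1 with hω
  have hgR : g ∈ R := hMR hu0M
  have hhR : h1 ∈ R := hMR hh1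
  have hprim : IsPrimitiveRoot ω r := by
    have e := IsPrimitiveRoot.orderOf ω
    rwa [orderOf_eq_prime (pord g hgR h1 hhR) hω1] at e
  have hprim' : IsPrimitiveRoot (p h1 g) r := by rw [pskew h1 hhR g hgR]; exact hprim.inv
  -- the radical is the annihilator of `g` and `h1`
  let K : Subgroup H :=
    { carrier := {a | a ∈ M ∧ p a g = 1 ∧ p a h1 = 1}
      one_mem' := ⟨one_mem M, pone _, pone _⟩
      mul_mem' := fun {a b} ha hb => ⟨mul_mem ha.1 hb.1,
        by rw [pl a (hMR ha.1) b (hMR hb.1) g hgR, ha.2.1, hb.2.1, one_mul],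
        by rw [pl a (hMR ha.1) b (hMR hb.1) h1 hhR, ha.2.2, hb.2.2, one_mul]⟩
      inv_mem' := fun {a} ha => ⟨inv_mem ha.1, by rw [pinv a (hMR ha.1) g hgR, ha.2.1, inv_one],
        by rw [pinv a (hMR ha.1) h1 hhR, ha.2.2, inv_one]⟩ }
  have hradK : radical hMin hc ≤ K := fun a ha => ⟨ha.1, ha.2 g hu0M, ha.2 h1 hh1⟩
  have hKrad : K ≤ radical hMin hc := by
    rw [← relIndex_eq_one]
    have hKM : K ≤ M := fun a ha => ha.1
    have hmul := relIndex_mul_relIndex (radical hMin hc) K M hradK hKM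
    rw [hidx] at hmul
    have hge : r ^ 2 ≤ K.relIndex M := by
      let f : Fin r × Fin r → M ⧸ K.subgroupOf M := fun ik =>
        QuotientGroup.mk ⟨g ^ (ik.1 : ℕ) * h1 ^ (ik.2 : ℕ), mul_mem (pow_mem hu0M _) (pow_mem hh1 _)⟩
      have hf : Function.Injective f := by
        rintro ⟨i, k⟩ ⟨i', k'⟩ e
        obtain ⟨hm, hmg, hmh⟩ := mem_subgroupOf.1 (QuotientGroup.eq.1 e)
        simp only [Subgroup.coe_mul, InvMemClass.coe_inv] at hmg hmh
        have hev : ∀ i k : ℕ, ∀ c ∈ R, p (g ^ i * h1 ^ k) c = p g c ^ i * p h1 c ^ k := fun i k c hc' => by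
          rw [pl _ (pow_mem hgR i) _ (pow_mem hhR k) c hc', ppow g hgR c hc', ppow h1 hhR c hc']
        have hR' : ∀ i k : ℕ, g ^ i * h1 ^ k ∈ R := fun i k => mul_mem (pow_mem hgR i) (pow_mem hhR k)
        rw [pl _ (inv_mem (hR' i k)) _ (hR' i' k') g hgR, pinv _ (hR' i k) g hgR, hev i k g hgR,
          hev i' k' g hgR, pself, one_pow, one_mul, one_pow, one_mul, inv_mul_eq_one₀
            (pow_ne_zero _ (hprim'.ne_zero hr.out.ne_zero))] at hmg
        rw [pl _ (inv_mem (hR' i k)) _ (hR' i' k') h1 hhR, pinv _ (hR' i k) h1 hhR, hev i k h1 hhR,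
          hev i' k' h1 hhR, pself, one_pow, mul_one, one_pow, mul_one, inv_mul_eq_one₀
            (pow_ne_zero _ (hprim.ne_zero hr.out.ne_zero))] at hmh
        exact Prod.ext (Fin.ext (hprim.pow_inj i.2 i'.2 hmh)) (Fin.ext (hprim'.pow_inj k.2 k'.2 hmg))
      have h3 := Nat.card_le_card_of_injective f hf
      rw [Nat.card_prod, Nat.card_fin, ← pow_two, ← index_eq_card] at h3
      exact h3
    have hpos : 0 < r ^ 2 := pow_pos hr.out.pos 2
    have h4 : (radical hMin hc).relIndex K ≠ 0 := fun e => by rw [e, zero_mul] at hmul; omega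
    nlinarith [Nat.one_le_iff_ne_zero.2 h4]
  refine ⟨g, hgR, h1, hhR, fun _ a ha => ?_, fun a ha => ?_⟩
  · by_contra hz
    -- the orbit of the character has full length
    let S : Subgroup H :=
      { carrier := {g' | g' ∈ zpowers x ∧ ∀ c ∈ Z, ψ (g' * c * g'⁻¹) = ψ c}
        one_mem' := ⟨one_mem _, fun c _ => by simp⟩
        mul_mem' := fun {u w} hu hw => ⟨mul_mem hu.1 hw.1, fun c hc' => by
          rw [show u * w * c * (u * w)⁻¹ = u * (w * c * w⁻¹) * u⁻¹ by group, hu.2 _ (hconjZ w hw.1 c hc'),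
            hw.2 c hc']⟩
        inv_mem' := fun {u} hu => ⟨inv_mem hu.1, fun c hc' => by
          have e := hu.2 _ (hconjZ u⁻¹ (inv_mem hu.1) c hc')
          rw [show u * (u⁻¹ * c * u⁻¹⁻¹) * u⁻¹ = c by group] at e
          exact e.symm⟩ }
    have hsep : ∀ t < 2 ^ (n + 1), t ≠ 0 → ∃ c ∈ Z, ψ (x ^ t * c * (x ^ t)⁻¹) ≠ ψ c := by
      intro t ht ht0
      by_contra hcon
      push Not at hcon
      have hS : x ^ t ∈ S := ⟨pow_mem (mem_zpowers x) t, hcon⟩
      obtain ⟨i, -, hi⟩ := (Nat.dvd_prime_pow Nat.prime_two).1 (Nat.gcd_dvd_right t (2 ^ (n + 2)))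
      have h5 : x ^ 2 ^ i ∈ S := by
        have hx1 : x ^ ((2 ^ (n + 2) : ℕ) : ℤ) = 1 := by rw [zpow_natCast, hord]
        rw [← zpow_natCast x (2 ^ i), ← hi, Nat.gcd_eq_gcd_ab, zpow_add, zpow_mul, zpow_mul, hx1, one_zpow,
          mul_one, zpow_natCast]
        exact S.zpow_mem hS _
      have hin : i ≤ n := Nat.lt_succ_iff.1 ((Nat.pow_lt_pow_iff_right Nat.one_lt_two).1
        (lt_of_le_of_lt (hi ▸ Nat.le_of_dvd (Nat.pos_of_ne_zero ht0) (Nat.gcd_dvd_left _ _)) ht))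
      have h6 := S.pow_mem h5 (2 ^ (n - i))
      rw [← pow_mul, ← pow_add, Nat.add_sub_cancel' hin] at h6
      exact hz (h6.2 a ha)
    have hconj2 : ∀ k : ℕ, ∀ c ∈ Z, x ^ k * c * (x ^ k)⁻¹ ∈ Z ∧ (x ^ k)⁻¹ * c * x ^ k ∈ Z := fun k c hc' =>
      ⟨hconjZ _ (pow_mem (mem_zpowers x) k) c hc',
        by simpa using hconjZ _ (inv_mem (pow_mem (mem_zpowers x) k)) c hc'⟩
    have hminus : ∀ v ∈ eigenOf ρ Z ψ, ρ y v = -v := fun v hv => by
      have h7 := orbit_norm_zero (A := Z) (natCard_cast_ne_zero hrF (hR.to_le hZR)) hconj2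
        (Nat.two_pow_pos (n + 1)) (fun c hc' => by rw [← hy, hyZ c hc']) hsep (b := 2)
        (by rw [← pow_succ, hN]) hv
      rw [Finset.sum_range_succ, Finset.sum_range_one, pow_zero, map_one, Module.End.one_apply, pow_one,
        ← hy] at h7
      exact eq_neg_of_add_eq_zero_right h7
    have hRW : ∀ c ∈ R, ∀ v ∈ eigenOf ρ Z ψ, ρ c v ∈ eigenOf ρ Z ψ := fun c hc' v hv =>
      mem_eigenOf.2 fun d hd => by
        rw [← ρ_mul_apply, hZc d hd c hc', ρ_mul_apply, mem_eigenOf.1 hv d hd, map_smul]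
    have hyinv : ∀ v ∈ eigenOf ρ Z ψ, ρ y⁻¹ v = -v := fun v hv => by
      rw [show y⁻¹ = y from inv_eq_of_mul_eq_one_right hy2]; exact hminus v hv
    have hgW : ∀ v ∈ eigenOf ρ Z ψ, ρ g v = v := fun v hv => by
      rw [hg, commutatorElement_def, ρ_mul_apply, ρ_mul_apply, ρ_mul_apply, hyinv v hv, map_neg, map_neg,
        hminus _ (hRW _ (inv_mem ha0) v hv), neg_neg, rho_cancel']
    obtain ⟨v, hv, hv0⟩ := Submodule.exists_mem_ne_zero_of_ne_bot hψ
    refine hω1 (smul_left_injective F hv0 (show ψ ⁅g, h1⁆ • v = (1 : F) • v from ?_))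
    rw [one_smul, ← mem_eigenOf.1 hv _ (hcomm g hgR h1 hhR), commutatorElement_def, ρ_mul_apply, ρ_mul_apply,
      ρ_mul_apply]
    have hginv : ∀ w ∈ eigenOf ρ Z ψ, ρ g⁻¹ w = w := fun w hw =>
      (congrArg (ρ g⁻¹) (hgW w hw)).symm.trans (rho_cancel ρ g w)
    have hv' := hRW _ (inv_mem hhR) v hv
    rw [hginv _ hv', rho_cancel', hgW v hv]
  · set u := ⁅a, y⁆ with hu
    have huM : u ∈ M := Subgroup.commutator_mem_commutator ha (mem_zpowers y)
    have huR' : u ∈ R := hMR huM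
    obtain ⟨i, -, hi⟩ := hprim.eq_pow_of_pow_eq_one (pord u huR' h1 hhR)
    obtain ⟨k, -, hk⟩ := hprim'.eq_pow_of_pow_eq_one (pord u huR' g hgR)
    refine ⟨i, k, fun b hb => ?_⟩
    show p u b = p g b ^ i * p h1 b ^ k
    set m := g ^ i * h1 ^ k with hm
    have hmM : m ∈ M := mul_mem (pow_mem hu0M _) (pow_mem hh1 _)
    have hmR : m ∈ R := hMR hmM
    have hev : ∀ c ∈ R, p m c = p g c ^ i * p h1 c ^ k := fun c hc' => by
      rw [hm, pl _ (pow_mem hgR i) _ (pow_mem hhR k) c hc', ppow g hgR c hc', ppow h1 hhR c hc']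
    have hK : m⁻¹ * u ∈ radical hMin hc := hKrad ⟨mul_mem (inv_mem hmM) huM, by
      rw [pl _ (inv_mem hmR) _ huR' g hgR, pinv _ hmR g hgR, hev g hgR, pself, one_pow, one_mul, hk,
        inv_mul_cancel₀ (eigen_ne_zero hψ (hcomm u huR' g hgR))], by
      rw [pl _ (inv_mem hmR) _ huR' h1 hhR, pinv _ hmR h1 hhR, hev h1 hhR, pself, one_pow, mul_one, hi,
        inv_mul_cancel₀ (eigen_ne_zero hψ (hcomm u huR' h1 hhR))]⟩
    obtain ⟨mb, hmb, cb, hcb, rfl⟩ := hdec b hb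
    have h8 : p (m⁻¹ * u) (mb * cb) = 1 := by
      rw [prr mb (hMR hmb) cb (mem_inf.1 hcb).1 _ (mul_mem (inv_mem hmR) huR')]
      have e1 : p (m⁻¹ * u) mb = 1 := hK.2 mb hmb
      have e2 : p (m⁻¹ * u) cb = 1 := by
        show ψ _ = 1
        rw [commutatorElement_eq_one_iff_mul_comm.2 (hMC _ hK.1 cb hcb), eigen_one hψ]
      rw [e1, e2, one_mul]
    rw [pl _ (inv_mem hmR) _ huR' _ hb, pinv _ hmR _ hb, inv_mul_eq_one₀
      (eigen_ne_zero hψ (hcomm m hmR _ hb))] at h8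
    exact h8.symm.trans (hev _ hb)

end Cfsg.Lib.Local.GrossTwo
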