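import Cfsg.Agent.Lib.Local.PLengthChain
import Cfsg.Agent.Lib.Coprime.Action
import Cfsg.Agent.Lib.PGroup.Basic

/-!
The abelian case of Hall–Higman Theorem B, by averaging over a twisted orbit, and the bound of the
`p`-length by the exponent.
-/

set_option autoImplicit false

namespace Cfsg.Lib.Local

open Subgroup
open scoped commutatorElement

universe u

/-- An element of order `p ^ (n + 1)` moving an abelian `p'`-subgroup has nonzero norm, on any module
without torsion for that subgroup. -/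
theorem exists_norm_ne_one' {V : Type*} [CommGroup V] {H : Type*} [Group H] [Finite H]
    (ρ : H →* MulAut V) (hρ : Function.Injective ρ) {p : ℕ} [hp : Fact p.Prime]
    (Q : Subgroup H) (hV : ∀ (v : V) (d : ℕ), d ∣ Nat.card Q → v ^ d = 1 → v = 1)
    (hab : ∀ a ∈ Q, ∀ b ∈ Q, a * b = b * a) (hQ : (Nat.card Q).Coprime p)
    (x : H) (hxQ : ∀ a ∈ Q, x * a * x⁻¹ ∈ Q) (n : ℕ) (hord : orderOf x = p ^ (n + 1))
    (hne : ∃ a ∈ Q, x ^ p ^ n * a * (x ^ p ^ n)⁻¹ ≠ a) :
    ∃ v : V, ∏ i ∈ Finset.range (p ^ (n + 1)), ρ (x ^ i) v ≠ 1 := by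
  classical
  by_contra hT
  push Not at hT
  set y := x ^ p ^ n with hy
  have hxpow : ∀ i : ℕ, ∀ a ∈ Q, x ^ i * a * (x ^ i)⁻¹ ∈ Q := by
    intro i
    induction i with
    | zero => intro a ha; simpa using ha
    | succ i ih =>
      intro a ha
      rw [show x ^ (i + 1) * a * (x ^ (i + 1))⁻¹ = x * (x ^ i * a * (x ^ i)⁻¹) * x⁻¹ by
        rw [pow_succ']; group]
      exact hxQ _ (ih a ha)
  have hyQ : ∀ a ∈ Q, y * a * y⁻¹ ∈ Q := hxpow _
  letI : CommGroup Q := { (inferInstance : Group Q) with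
    mul_comm := fun a b => Subtype.ext (hab a a.2 b b.2) }
  let δ : Q →* Q := MonoidHom.mk'
    (fun a => a * (⟨y * a * y⁻¹, hyQ a a.2⟩ : Q)⁻¹) fun a b => by
      rw [show (⟨y * ((a * b : Q) : H) * y⁻¹, hyQ _ (a * b).2⟩ : Q) =
        ⟨y * a * y⁻¹, hyQ a a.2⟩ * ⟨y * b * y⁻¹, hyQ b b.2⟩ from Subtype.ext (by
          show y * ((a : H) * b) * y⁻¹ = _ * _; group), mul_inv]
      exact mul_mul_mul_comm _ _ _ _
  set Q0 := δ.range.map Q.subtype with hQ0
  have hQ0Q : Q0 ≤ Q := map_subtype_le _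
  have hyp : y ^ p = 1 := by rw [hy, ← pow_mul, ← pow_succ, ← hord, pow_orderOf_eq_one]
  -- `y` has no fixed points on `Q0`
  have hfpf : ∀ a ∈ Q0, y * a * y⁻¹ = a → a = 1 := by
    rintro _ ⟨_, ⟨b, rfl⟩, rfl⟩ hfix
    set a : H := ((δ b : Q) : H) with ha
    have hab' : a = (b : H) * (y * b * y⁻¹)⁻¹ := rfl
    have hfixj : ∀ j : ℕ, y ^ j * a * (y ^ j)⁻¹ = a := by
      intro j
      induction j with
      | zero => simp
      | succ j ih =>
        rw [show y ^ (j + 1) * a * (y ^ (j + 1))⁻¹ = y * (y ^ j * a * (y ^ j)⁻¹) * y⁻¹ by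
          rw [pow_succ']; group, ih]
        exact hfix
    have hpow : ∀ j : ℕ, a ^ j = (b : H) * (y ^ j * b * (y ^ j)⁻¹)⁻¹ := by
      intro j
      induction j with
      | zero => simp
      | succ j ih =>
        have h1 : a = y ^ j * (b : H) * (y ^ j)⁻¹ * (y ^ (j + 1) * b * (y ^ (j + 1))⁻¹)⁻¹ := by
          conv_lhs => rw [← hfixj j, hab']
          rw [pow_succ]; group
        rw [pow_succ, ih]
        conv_lhs => arg 2; rw [h1]
        group
    have h1 : a ^ p = 1 := by rw [hpow, hyp]; group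
    have h2 : (⟨a, (δ b).2⟩ : Q) ^ p = 1 := Subtype.ext h1
    have h3 : (⟨a, (δ b).2⟩ : Q) = 1 := (powCoprime hQ).injective (show _ ^ p = (1 : Q) ^ p by rw [h2, one_pow])
    exact congrArg Subtype.val h3
  have hxQ0 : ∀ i : ℕ, ∀ a ∈ Q0, x ^ i * a * (x ^ i)⁻¹ ∈ Q0 := by
    rintro i _ ⟨_, ⟨b, rfl⟩, rfl⟩
    refine ⟨_, ⟨⟨x ^ i * b * (x ^ i)⁻¹, hxpow i b b.2⟩, rfl⟩, ?_⟩
    show x ^ i * (b : H) * (x ^ i)⁻¹ * (y * (x ^ i * b * (x ^ i)⁻¹) * y⁻¹)⁻¹ =
      x ^ i * ((b : H) * (y * b * y⁻¹)⁻¹) * (x ^ i)⁻¹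
    have hc : y * x ^ i = x ^ i * y := (Commute.pow_pow_self x _ _).eq
    rw [show y * (x ^ i * (b : H) * (x ^ i)⁻¹) * y⁻¹ = y * x ^ i * b * (y * x ^ i)⁻¹ by group, hc]
    group
  have := Fintype.ofFinite Q0
  -- the twisted maps are bijective
  have hbij : ∀ i : ℕ, 0 < i → i < p ^ (n + 1) → Function.Bijective fun a : Q0 =>
      (⟨(a : H) * (x ^ i * a * (x ^ i)⁻¹)⁻¹, mul_mem a.2 (inv_mem (hxQ0 i a a.2))⟩ : Q0) := by
    intro i hi0 hi
    have hymem : y ∈ zpowers (x ^ i) := by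
      obtain ⟨j, hjle, hj⟩ := (Nat.dvd_prime_pow hp.out).1 (Nat.gcd_dvd_right i (p ^ (n + 1)))
      have hjn : j ≤ n := by
        by_contra hjn
        have h1 : p ^ (n + 1) ≤ i := Nat.le_of_dvd hi0 (by
          rw [show n + 1 = j by omega, ← hj]; exact Nat.gcd_dvd_left _ _)
        omega
      have h1 : x ^ (p ^ j) ∈ zpowers (x ^ i) := by
        refine mem_zpowers_iff.2 ⟨Nat.gcdA i (p ^ (n + 1)), ?_⟩
        have hx1 : x ^ ((p ^ (n + 1) : ℕ) : ℤ) = 1 := by rw [zpow_natCast, ← hord, pow_orderOf_eq_one]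
        rw [← zpow_natCast x (p ^ j), ← hj, Nat.gcd_eq_gcd_ab, zpow_add, zpow_mul, zpow_mul, hx1,
          one_zpow, mul_one, zpow_natCast]
      have h2 := pow_mem h1 (p ^ (n - j))
      rwa [← pow_mul, ← pow_add, Nat.add_sub_cancel' hjn, ← hy] at h2
    refine Finite.injective_iff_bijective.1 fun a b hab' => ?_
    have h : (a : H) * (x ^ i * a * (x ^ i)⁻¹)⁻¹ = b * (x ^ i * b * (x ^ i)⁻¹)⁻¹ := congrArg Subtype.val hab'
    set c : H := (b : H)⁻¹ * a with hc
    have hcQ0 : c ∈ Q0 := mul_mem (inv_mem b.2) a.2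
    have hfix : x ^ i * c * (x ^ i)⁻¹ = c := by
      set A := x ^ i * (a : H) * (x ^ i)⁻¹ with hA
      set B := x ^ i * (b : H) * (x ^ i)⁻¹ with hB
      have hBQ := hQ0Q (hxQ0 i b b.2)
      rw [show x ^ i * c * (x ^ i)⁻¹ = B⁻¹ * A by rw [hc, hA, hB]; group, hc]
      rw [mul_inv_eq_iff_eq_mul] at h
      rw [h, ← mul_assoc (b : H)⁻¹, inv_mul_cancel_left]
    have hcomm : Commute y c := by
      obtain ⟨k, hk⟩ := mem_zpowers_iff.1 hymem
      rw [← hk]
      exact (show Commute (x ^ i) c from mul_inv_eq_iff_eq_mul.1 hfix).zpow_left k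
    have := hfpf c hcQ0 (by rw [hcomm.eq, mul_inv_cancel_right])
    exact Subtype.ext (inv_mul_eq_one.1 this).symm
  let E : V → V := fun w => ∏ a : Q0, ρ (a : H) w
  have key : ∀ v : V, (∀ i : ℕ, E (ρ (x ^ i) v) = 1) → v = 1 := by
    intro v hv
    have h1 : ∏ a : Q0, ∏ i ∈ Finset.range (p ^ (n + 1)),
        ρ ((a : H) * (x ^ i * a * (x ^ i)⁻¹)⁻¹) (ρ (x ^ i) v) = 1 := by
      refine Finset.prod_eq_one fun a _ => ?_
      have h2 := congrArg (ρ (a : H)) (hT (ρ (a : H)⁻¹ v))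
      rw [map_prod, map_one] at h2
      rw [← h2]
      refine Finset.prod_congr rfl fun i _ => ?_
      rw [← MulAut.mul_apply, ← MulAut.mul_apply, ← MulAut.mul_apply, ← map_mul, ← map_mul, ← map_mul]
      congr 2
      group
    rw [Finset.prod_comm, Finset.prod_eq_single 0 (fun i hi hi0 => ?_)
      (fun h => absurd (Finset.mem_range.2 (pow_pos hp.out.pos _)) h)] at h1
    · have h2 : v ^ Fintype.card Q0 = 1 := by
        rw [← h1, ← Finset.card_univ, ← Finset.prod_const]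
        exact Finset.prod_congr rfl fun a _ => by simp
      refine hV v _ ?_ h2
      rw [← Nat.card_eq_fintype_card]; exact card_dvd_of_le hQ0Q
    · rw [Finset.mem_range] at hi
      rw [← hv i]
      exact Fintype.prod_bijective _ (hbij i (Nat.pos_of_ne_zero hi0) hi) _ _ fun a => rfl
  have htriv : ∀ b ∈ Q0, ∀ w : V, ρ b w = w := by
    intro b hb w
    rw [← mul_inv_eq_one]
    refine key _ fun i => ?_
    show ∏ a : Q0, ρ (a : H) (ρ (x ^ i) (ρ b w * w⁻¹)) = 1
    simp only [map_mul, map_inv, Finset.prod_mul_distrib, Finset.prod_inv_distrib]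
    rw [mul_inv_eq_one]
    refine Fintype.prod_equiv (Equiv.mulRight (⟨x ^ i * b * (x ^ i)⁻¹, hxQ0 i b hb⟩ : Q0)) _ _ fun a => ?_
    simp only [Equiv.coe_mulRight, Subgroup.coe_mul, ← MulAut.mul_apply, ← map_mul]
    congr 2
    group
  obtain ⟨a, ha, hane⟩ := hne
  have h1 : ((δ ⟨a, ha⟩ : Q) : H) = 1 := hρ (MulEquiv.ext fun w => by
    rw [map_one, MulAut.one_apply]
    exact htriv _ ⟨_, ⟨⟨a, ha⟩, rfl⟩, rfl⟩ w)
  exact hane (eq_of_mul_inv_eq_one (show a * (y * a * y⁻¹)⁻¹ = 1 from h1)).symm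

/-- An element of order `p ^ (n + 1)` moving an abelian `p'`-subgroup has nonzero norm. -/
theorem exists_norm_ne_one {V : Type*} [CommGroup V] {H : Type*} [Group H] [Finite H]
    (ρ : H →* MulAut V) (hρ : Function.Injective ρ) {p : ℕ} [hp : Fact p.Prime] (hV : ∀ v : V, v ^ p = 1)
    (Q : Subgroup H) (hab : ∀ a ∈ Q, ∀ b ∈ Q, a * b = b * a) (hQ : (Nat.card Q).Coprime p)
    (x : H) (hxQ : ∀ a ∈ Q, x * a * x⁻¹ ∈ Q) (n : ℕ) (hord : orderOf x = p ^ (n + 1))
    (hne : ∃ a ∈ Q, x ^ p ^ n * a * (x ^ p ^ n)⁻¹ ≠ a) :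
    ∃ v : V, ∏ i ∈ Finset.range (p ^ (n + 1)), ρ (x ^ i) v ≠ 1 := by
  refine exists_norm_ne_one' ρ hρ Q (fun v d hd hvd => ?_) hab hQ x hxQ n hord hne
  have h3 := pow_gcd_eq_one.2 ⟨hvd, hV v⟩
  rwa [Nat.Coprime.gcd_eq_one (hQ.coprime_dvd_left hd), pow_one] at h3

theorem pow_eq_one_of_surjective {G : Type*} [Group G] [Finite G] {K : Type*} [Group K] (f : G →* K)
    (hf : Function.Surjective f) {p : ℕ} [Fact p.Prime] {m : ℕ}
    (h : ∀ (P : Sylow p G), ∀ x ∈ (P : Subgroup G), x ^ m = 1) :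
    ∀ (P : Sylow p K), ∀ x ∈ (P : Subgroup K), x ^ m = 1 := by
  intro P x hx
  obtain ⟨S, rfl⟩ := Sylow.mapSurjective_surjective hf p P
  obtain ⟨s, hs, rfl⟩ := hx
  rw [← map_pow, h S s hs, map_one]

theorem isMulCommutative_of_surjective {G : Type*} [Group G] [Finite G] {K : Type*} [Group K] (f : G →* K)
    (hf : Function.Surjective f) {q : ℕ} [Fact q.Prime]
    (h : ∀ Q : Sylow q G, IsMulCommutative (Q : Subgroup G)) :
    ∀ Q : Sylow q K, IsMulCommutative (Q : Subgroup K) := by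
  intro Q
  obtain ⟨S, rfl⟩ := Sylow.mapSurjective_surjective hf q Q
  have := h S
  refine ⟨⟨?_⟩⟩
  rintro ⟨_, a, ha, rfl⟩ ⟨_, b, hb, rfl⟩
  refine Subtype.ext ?_
  show f a * f b = f b * f a
  rw [← map_mul, ← map_mul]
  exact congrArg (fun z => f z) (congrArg Subtype.val (mul_comm' (⟨a, ha⟩ : (S : Subgroup G)) ⟨b, hb⟩))

/-- The exponent drops in `G ⧸ O_p(G)` when the other Sylow subgroups are abelian and `O_{p'}` is trivial. -/
theorem pow_eq_one_quotient_pCore {K : Type u} [Group K] [Finite K] {p : ℕ} [hp : Fact p.Prime]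
    (hK : Cfsg.IsPSolvable p K) (hO : Cfsg.pPrimeCore p K = ⊥)
    (hab : ∀ (q : ℕ) [Fact q.Prime], q ≠ p → ∀ Q : Sylow q K, IsMulCommutative (Q : Subgroup K))
    (n : ℕ) (hexp : ∀ (P : Sylow p K), ∀ x ∈ (P : Subgroup K), x ^ p ^ (n + 1) = 1) :
    ∀ (P : Sylow p (K ⧸ Cfsg.pCore p K)), ∀ x ∈ (P : Subgroup (K ⧸ Cfsg.pCore p K)), x ^ p ^ n = 1 := by
  classical
  set O := Cfsg.pCore p K with hOdef
  have hOp : IsPGroup p O := Core.pCore_isPGroup p K
  let π : K →* K ⧸ O := QuotientGroup.mk' O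
  intro PH x hx
  obtain ⟨P, rfl⟩ := Sylow.mapSurjective_surjective (QuotientGroup.mk'_surjective O) p PH
  obtain ⟨g, hgP, rfl⟩ := hx
  by_contra hne
  set x := π g with hxdef
  have hxord : x ^ p ^ (n + 1) = 1 := by rw [hxdef, ← map_pow, hexp P g hgP, map_one]
  have hord : orderOf x = p ^ (n + 1) := orderOf_eq_prime_pow hne hxord
  -- the module
  letI : CommGroup (O ⧸ frattini O) := { (inferInstance : Group (O ⧸ frattini O)) with
    mul_comm := fun a b => by
      obtain ⟨a, rfl⟩ := QuotientGroup.mk'_surjective _ a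
      obtain ⟨b, rfl⟩ := QuotientGroup.mk'_surjective _ b
      rw [← commutatorElement_eq_one_iff_mul_comm, ← map_commutatorElement]
      exact (QuotientGroup.eq_one_iff _).2 (PGroup.commutator_le_frattini hOp
        (Subgroup.commutator_mem_commutator (mem_top a) (mem_top b))) }
  let ρ0 : K →* MulAut (O ⧸ frattini O) :=
    { toFun := fun k => QuotientGroup.congr (frattini O) (frattini O) (MulAut.conjNormal k)
        (characteristic_iff_map_eq.1 frattini_characteristic _)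
      map_one' := MulEquiv.ext fun z => by
        obtain ⟨a, rfl⟩ := QuotientGroup.mk'_surjective _ z
        show QuotientGroup.mk' _ (MulAut.conjNormal (1 : K) a) = _
        rw [map_one]; rfl
      map_mul' := fun k l => MulEquiv.ext fun z => by
        obtain ⟨a, rfl⟩ := QuotientGroup.mk'_surjective _ z
        show QuotientGroup.mk' _ (MulAut.conjNormal (k * l) a) =
          QuotientGroup.mk' _ (MulAut.conjNormal k (MulAut.conjNormal l a))
        rw [map_mul]; rfl }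
  have hρ0 : ∀ k a, ρ0 k (QuotientGroup.mk' _ a) = QuotientGroup.mk' (frattini O) (MulAut.conjNormal k a) :=
    fun _ _ => rfl
  have hOker : O ≤ ρ0.ker := by
    intro k hk
    rw [MonoidHom.mem_ker]
    refine MulEquiv.ext fun z => ?_
    obtain ⟨a, rfl⟩ := QuotientGroup.mk'_surjective _ z
    rw [hρ0, show MulAut.conjNormal k a = (⟨k, hk⟩ : O) * a * (⟨k, hk⟩ : O)⁻¹ from
      Subtype.ext (by rw [MulAut.conjNormal_apply]; rfl), map_mul, map_mul, map_inv,
      mul_comm (QuotientGroup.mk' (frattini O) ⟨k, hk⟩), mul_inv_cancel_right, MulAut.one_apply]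
  have hkerO : ρ0.ker ≤ O := by
    refine Core.le_pCore' ρ0.normal_ker ?_
    rintro ⟨k, hk⟩
    obtain ⟨a, b, hb, hab'⟩ := Nat.exists_eq_pow_mul_and_not_dvd (orderOf_pos k).ne' p hp.out.ne_one
    refine ⟨a, Subtype.ext ?_⟩
    show k ^ p ^ a = 1
    set u := k ^ p ^ a with hu
    have huord : orderOf u ∣ b := orderOf_dvd_of_pow_eq_one (by rw [hu, ← pow_mul, ← hab', pow_orderOf_eq_one])
    have hcop : (Nat.card (zpowers u)).Coprime (Nat.card O) := by
      rw [Nat.card_zpowers]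
      obtain ⟨e, he⟩ := IsPGroup.iff_card.1 hOp
      rw [he]
      exact ((hp.out.coprime_iff_not_dvd.2 hb).symm.pow_right e).coprime_dvd_left huord
    have hcomm : ⁅O, zpowers u⁆ ≤ (frattini O).map O.subtype := by
      rw [commutator_le]
      intro a' ha' z hz
      have hzker : z ∈ ρ0.ker := zpowers_le.2 (pow_mem hk _) hz
      have h1 : ρ0 z (QuotientGroup.mk' _ ⟨a', ha'⟩) = QuotientGroup.mk' (frattini O) ⟨a', ha'⟩ := by
        rw [MonoidHom.mem_ker.1 hzker]; rfl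
      rw [hρ0] at h1
      have h2 := QuotientGroup.eq.1 h1
      refine ⟨(⟨a', ha'⟩ : O) * (MulAut.conjNormal z ⟨a', ha'⟩)⁻¹, ?_, ?_⟩
      · have h3 := (inferInstance : (frattini O).Normal).conj_mem _ h2 (⟨a', ha'⟩ : O)
        have h4 : (⟨a', ha'⟩ : O) * ((MulAut.conjNormal z ⟨a', ha'⟩)⁻¹ * ⟨a', ha'⟩) * (⟨a', ha'⟩ : O)⁻¹ =
            (⟨a', ha'⟩ : O) * (MulAut.conjNormal z ⟨a', ha'⟩)⁻¹ := by group
        rwa [h4] at h3
      · show a' * ((MulAut.conjNormal z (⟨a', ha'⟩ : O) : O) : K)⁻¹ = a' * z * a'⁻¹ * z⁻¹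
        rw [MulAut.conjNormal_apply]
        group
    have hcent := Coprime.le_centralizer_of_commutator_le_frattini
      (fun z _ => by rw [normalizer_eq_top_iff.2 inferInstance]; exact mem_top z) hcop
      (Or.inr (have := hOp.isNilpotent; IsNilpotent.to_isSolvable)) hcomm
    have huO := Core.centralizer_pCore_le_of_isPSolvable hK hO (hcent (mem_zpowers u))
    obtain ⟨e, he⟩ := IsPGroup.iff_orderOf.1 hOp ⟨u, huO⟩
    rw [Subgroup.orderOf_mk] at he
    rw [← orderOf_eq_one_iff, he]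
    rcases Nat.eq_zero_or_pos e with rfl | he0
    · rw [pow_zero]
    · exact absurd ((dvd_pow_self p he0.ne').trans (he ▸ huord)) hb
  let ρ : K ⧸ O →* MulAut (O ⧸ frattini O) := QuotientGroup.lift O ρ0 hOker
  have hρ : Function.Injective ρ := by
    rw [← MonoidHom.ker_eq_bot_iff, eq_bot_iff]
    intro z hz
    obtain ⟨k, rfl⟩ := QuotientGroup.mk'_surjective O z
    exact mem_bot.2 ((QuotientGroup.eq_one_iff k).2 (hkerO hz))
  have hV : ∀ v : O ⧸ frattini O, v ^ p = 1 := by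
    intro v
    obtain ⟨a, rfl⟩ := QuotientGroup.mk'_surjective _ v
    rw [← map_pow]
    exact (QuotientGroup.eq_one_iff _).2 (PGroup.pow_mem_frattini hOp a)
  -- an invariant Sylow subgroup moved by `x ^ p ^ n`
  set N := Cfsg.pPrimeCore p (K ⧸ O) with hN
  set y := x ^ p ^ n with hy
  have hCN := centralizer_pPrimeCore_le (Core.isPSolvable_quotient hK O) Core.pCore_quotient_pCore_eq_bot
  have hyord : orderOf y = p := by
    rw [hy, orderOf_pow_of_dvd (pow_pos hp.out.pos n).ne' (hord ▸ pow_dvd_pow p n.le_succ), hord,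
      Nat.pow_div n.le_succ hp.out.pos]
    simp
  have hyN : y ∉ N := fun h => by
    have h1 := Subgroup.orderOf_dvd_natCard N h
    rw [hyord] at h1
    exact hp.out.coprime_iff_not_dvd.1 (Core.pPrimeCore_coprime p (K ⧸ O)).symm h1
  obtain ⟨Q, hQN, hQab, hQcop, hxQ, hQne⟩ : ∃ Q : Subgroup (K ⧸ O), Q ≤ N ∧
      (∀ a ∈ Q, ∀ b ∈ Q, a * b = b * a) ∧ (Nat.card Q).Coprime p ∧ (∀ a ∈ Q, x * a * x⁻¹ ∈ Q) ∧
      ∃ a ∈ Q, y * a * y⁻¹ ≠ a := by
    by_contra hcon
    refine hyN (hCN (mem_centralizer_iff.2 fun z hz => ?_))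
    suffices hNC : N ≤ centralizer ({y} : Set (K ⧸ O)) from mem_centralizer_singleton_iff.1 (hNC hz)
    rw [← subgroupOf_eq_top, ← index_eq_one]
    by_contra hidx
    obtain ⟨q, hq, hqd⟩ := Nat.exists_prime_and_dvd hidx
    have : Fact q.Prime := ⟨hq⟩
    have hqN : q ∣ Nat.card N := hqd.trans (index_dvd_card _)
    have hqp : q ≠ p := by
      rintro rfl
      exact hq.coprime_iff_not_dvd.1 (Core.pPrimeCore_coprime _ (K ⧸ O)).symm hqN
    let A := zpowers x
    have hA : IsPGroup p A := IsPGroup.of_card (n := n + 1) (by rw [Nat.card_zpowers, hord])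
    letI : MulDistribMulAction A N := MulDistribMulAction.compHom N
      ((MulAut.conjNormal (H := N)).comp A.subtype)
    obtain ⟨S0⟩ : Nonempty (Sylow q N) := inferInstance
    have hnd : ¬ p ∣ Nat.card (Sylow q N) := fun hd =>
      hp.out.coprime_iff_not_dvd.1 (Core.pPrimeCore_coprime p (K ⧸ O)).symm
        (hd.trans ((Sylow.card_dvd_index S0).trans (index_dvd_card _)))
    obtain ⟨S, hS⟩ := hA.nonempty_fixed_point_of_prime_not_dvd_card (Sylow q N) hnd
    set Q := (S : Subgroup N).map N.subtype with hQdef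
    have hQx : ∀ a ∈ Q, x * a * x⁻¹ ∈ Q := by
      rintro _ ⟨a, ha, rfl⟩
      have h := congrArg (fun T : Sylow q N => (T : Subgroup N)) (hS ⟨x, mem_zpowers x⟩)
      simp only [Sylow.pointwise_smul_def, Subgroup.pointwise_smul_def] at h
      exact ⟨_, h.le ⟨a, ha, rfl⟩, MulAut.conjNormal_apply _ _⟩
    have hQab : ∀ a ∈ Q, ∀ b ∈ Q, a * b = b * a := by
      obtain ⟨R, hR⟩ := (S.isPGroup'.map N.subtype).exists_le_sylow
      have := isMulCommutative_of_surjective π (QuotientGroup.mk'_surjective O) (hab q hqp) R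
      intro a ha b hb
      exact congrArg Subtype.val (mul_comm' (⟨a, hR ha⟩ : (R : Subgroup (K ⧸ O))) ⟨b, hR hb⟩)
    have hQc : (Nat.card Q).Coprime p :=
      (Core.pPrimeCore_coprime p (K ⧸ O)).coprime_dvd_left (card_dvd_of_le (map_subtype_le _))
    refine S.not_dvd_index (hqd.trans (index_dvd_of_le fun a ha => ?_))
    rw [mem_subgroupOf, mem_centralizer_singleton_iff]
    by_contra h1
    exact hcon ⟨Q, map_subtype_le _, hQab, hQc, hQx, a, mem_map_of_mem _ ha,
      fun e => h1 (mul_inv_eq_iff_eq_mul.1 e).symm⟩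
  obtain ⟨v, hv⟩ := exists_norm_ne_one ρ hρ hV Q hQab hQcop x hxQ n hord hQne
  refine hv ?_
  obtain ⟨a, rfl⟩ := QuotientGroup.mk'_surjective _ v
  have hkey : ∀ m : ℕ, ∃ w : O, ((a : K) * g) ^ m = w * g ^ m ∧
      QuotientGroup.mk' (frattini O) w =
        ∏ i ∈ Finset.range m, ρ (x ^ i) (QuotientGroup.mk' (frattini O) a) := by
    intro m
    induction m with
    | zero => exact ⟨1, by simp, by simp⟩
    | succ m ih =>
      obtain ⟨w, hw1, hw2⟩ := ih
      refine ⟨w * MulAut.conjNormal (g ^ m) a, ?_, ?_⟩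
      · rw [pow_succ, hw1, Subgroup.coe_mul, MulAut.conjNormal_apply, pow_succ]
        group
      · rw [map_mul, hw2, Finset.prod_range_succ, hxdef, ← map_pow]
        rfl
  obtain ⟨w, hw1, hw2⟩ := hkey (p ^ (n + 1))
  rw [← hw2]
  rw [hexp P g hgP, hexp P _ (mul_mem (Core.pCore_le_sylow P a.2) hgP), mul_one] at hw1
  rw [show w = 1 from Subtype.ext hw1.symm, map_one]

theorem pChain_of_exponent : ∀ (n : ℕ) (G : Type u) [Group G] [Finite G] {p : ℕ} [Fact p.Prime],
    Cfsg.IsPSolvable p G →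
    (∀ (q : ℕ) [Fact q.Prime], q ≠ p → ∀ Q : Sylow q G, IsMulCommutative (Q : Subgroup G)) →
    (∀ (P : Sylow p G), ∀ x ∈ (P : Subgroup G), x ^ p ^ n = 1) → PChain p n G := by
  intro n
  induction n with
  | zero =>
    intro G _ _ p hp hG _ hexp
    refine pChain_of_coprime (hp.out.coprime_iff_not_dvd.2 fun hd => ?_).symm 0
    obtain ⟨P⟩ : Nonempty (Sylow p G) := inferInstance
    refine P.not_dvd_index ?_
    rw [show (P : Subgroup G) = ⊥ from (Subgroup.eq_bot_iff_forall _).2 fun x hx => by simpa using hexp P x hx,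
      index_bot]
    exact hd
  | succ n ih =>
    intro G _ _ p hp hG hab hexp
    refine PChain.reduce ?_
    let f := QuotientGroup.mk' (Cfsg.pPrimeCore p G)
    have hf := QuotientGroup.mk'_surjective (Cfsg.pPrimeCore p G)
    refine ih _ (Core.isPSolvable_quotient (Core.isPSolvable_quotient hG _) _)
      (fun q _ hq => isMulCommutative_of_surjective _ (QuotientGroup.mk'_surjective _)
        (isMulCommutative_of_surjective f hf (hab q hq))) ?_
    exact pow_eq_one_quotient_pCore (Core.isPSolvable_quotient hG _) Core.pPrimeCore_quotient_eq_bot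
      (fun q _ hq => isMulCommutative_of_surjective f hf (hab q hq)) n
      (pow_eq_one_of_surjective f hf hexp)

end Cfsg.Lib.Local
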