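import Mathlib.GroupTheory.Perm.Basic
import Mathlib.GroupTheory.GroupAction.Quotient
import Mathlib.GroupTheory.OrderOfElement
import Mathlib.SetTheory.Cardinal.Finite
import Mathlib.Tactic.IntervalCases
import Mathlib.Tactic

/-!
Orbit representatives of a semiregular permutation with one fixed point.
-/

set_option autoImplicit false

namespace Cfsg.Lib.Local

open Subgroup

/-- Orbit representatives of a permutation with one fixed point that is semiregular elsewhere. -/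
theorem exists_orbit_reps {M : Type*} [Finite M] (σ : Equiv.Perm M) (i1 : M) {P : ℕ} (hP : 0 < P)
    (hσ : σ ^ P = 1) (h1 : σ i1 = i1) (hfree : ∀ i, i ≠ i1 → ∀ t < P, t ≠ 0 → (σ ^ t) i ≠ i) :
    ∃ T : Finset M, (∀ i, ∃ t : ℕ, ∃ w ∈ T, (σ ^ t) w = i) ∧ (T.card - 1) * P = Nat.card M - 1 ∧ 0 < T.card := by
  classical
  have := Fintype.ofFinite M
  let s : Setoid M := MulAction.orbitRel (zpowers σ) M
  have hrel : ∀ i j : M, s.r i j ↔ ∃ t : ℕ, (σ ^ t) j = i := by
    intro i j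
    rw [show s.r i j ↔ i ∈ MulAction.orbit (zpowers σ) j from Iff.rfl, MulAction.mem_orbit_iff]
    refine ⟨fun ⟨⟨g, hg⟩, e⟩ => ?_, fun ⟨t, e⟩ => ⟨⟨σ ^ t, pow_mem (mem_zpowers σ) t⟩, e⟩⟩
    obtain ⟨t, rfl⟩ := mem_powers_iff_mem_zpowers.2 hg
    exact ⟨t, e⟩
  have hpow1 : ∀ t : ℕ, (σ ^ t) i1 = i1 := by
    intro t
    induction t with
    | zero => simp
    | succ t ih => rw [pow_succ, Equiv.Perm.mul_apply, h1, ih]
  let rep : Quotient s → M := Quotient.out
  let T : Finset M := Finset.univ.image rep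
  have hmem : ∀ i, rep (Quotient.mk s i) ∈ T := fun i => Finset.mem_image.2 ⟨_, Finset.mem_univ _, rfl⟩
  have hsur : ∀ i, ∃ t : ℕ, (σ ^ t) (rep (Quotient.mk s i)) = i := fun i =>
    (hrel _ _).1 (Quotient.exact (Quotient.out_eq (Quotient.mk s i)).symm)
  have hi1 : i1 ∈ T := by
    obtain ⟨t, ht⟩ := hsur i1
    rw [show i1 = rep (Quotient.mk s i1) from (σ ^ t).injective (by rw [ht, hpow1])]
    exact hmem i1
  have huniq : ∀ w ∈ T, ∀ w' ∈ T, (∃ t : ℕ, (σ ^ t) w = w') → w = w' := by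
    intro w hw w' hw' ⟨t, ht⟩
    obtain ⟨c, -, rfl⟩ := Finset.mem_image.1 hw
    obtain ⟨c', -, rfl⟩ := Finset.mem_image.1 hw'
    have h2 : Quotient.mk s (rep c') = Quotient.mk s (rep c) := Quotient.sound ((hrel _ _).2 ⟨t, ht⟩)
    rw [show rep = Quotient.out from rfl, Quotient.out_eq, Quotient.out_eq] at h2
    rw [h2]
  refine ⟨T, fun i => ?_, ?_, Finset.card_pos.2 ⟨i1, hi1⟩⟩
  · obtain ⟨t, ht⟩ := hsur i
    exact ⟨t, _, hmem i, ht⟩
  have hne : ∀ w : (T.erase i1), ∀ t : ℕ, (σ ^ t) (w : M) ≠ i1 := fun w t e =>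
    (Finset.mem_erase.1 w.2).1 ((σ ^ t).injective (e.trans (hpow1 t).symm))
  let f : (T.erase i1) × Fin P → {i : M // i ≠ i1} := fun u => ⟨(σ ^ (u.2 : ℕ)) u.1, hne u.1 u.2⟩
  have hmod : ∀ t : ℕ, σ ^ t = σ ^ (t % P) := fun t => pow_eq_pow_mod t hσ
  have hf : Function.Bijective f := by
    refine ⟨?_, fun ⟨i, hi⟩ => ?_⟩
    · rintro ⟨⟨w, hw⟩, t⟩ ⟨⟨w', hw'⟩, t'⟩ e
      have e' : (σ ^ (t : ℕ)) w = (σ ^ (t' : ℕ)) w' := congrArg Subtype.val e
      have key : (σ ^ ((t : ℕ) + (P - t'))) w = w' := by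
        rw [show (t : ℕ) + (P - t') = (P - t') + t by omega, pow_add, Equiv.Perm.mul_apply, e',
          ← Equiv.Perm.mul_apply, ← pow_add, show P - (t' : ℕ) + t' = P by omega, hσ]
        rfl
      obtain rfl := huniq w (Finset.mem_erase.1 hw).2 w' (Finset.mem_erase.1 hw').2 ⟨_, key⟩
      rw [hmod] at key
      by_cases h0 : ((t : ℕ) + (P - t')) % P = 0
      · refine Prod.ext rfl (Fin.ext ?_)
        show (t : ℕ) = t'
        obtain ⟨e2, he2⟩ := Nat.dvd_of_mod_eq_zero h0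
        have ht := t.2
        have ht' := t'.2
        rcases Nat.lt_or_ge e2 2 with h | h
        · interval_cases e2 <;> omega
        · have := Nat.mul_le_mul_left P h
          omega
      · exact absurd key (hfree w (Finset.mem_erase.1 hw).1 _ (Nat.mod_lt _ hP) h0)
    · obtain ⟨t, ht⟩ := hsur i
      have hw : rep (Quotient.mk s i) ≠ i1 := fun e => hi (by rw [← ht, e, hpow1])
      exact ⟨⟨⟨_, Finset.mem_erase.2 ⟨hw, hmem i⟩⟩, ⟨t % P, Nat.mod_lt _ hP⟩⟩,
        Subtype.ext (show (σ ^ (t % P)) _ = i by rw [← hmod]; exact ht)⟩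
  have hcard := Nat.card_eq_of_bijective f hf
  rw [Nat.card_prod, Nat.card_fin, Nat.card_eq_fintype_card (α := (T.erase i1)), Fintype.card_coe,
    Finset.card_erase_of_mem hi1, Nat.card_eq_fintype_card, Fintype.card_subtype_compl,
    Fintype.card_subtype_eq] at hcard
  rwa [Nat.card_eq_fintype_card]

end Cfsg.Lib.Local
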