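import Cfsg.Agent.Lib.Local.HallHigmanComponent
import Cfsg.Agent.Lib.Local.OrbitReps
import Cfsg.Agent.Lib.Linear.SemiregularIsometry
import Mathlib.GroupTheory.Perm.Basic
import Mathlib.LinearAlgebra.Dimension.Finite
import Mathlib.Algebra.Module.Equiv.Basic
import Mathlib.RingTheory.IntegralDomain

/-!
The inequality `q ^ (2m) P ≤ k (P - 1 + q ^ (2m))` on a component of the critical configuration.
-/

set_option autoImplicit false

namespace Cfsg.Lib.Local

open Subgroup Module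
open scoped commutatorElement

/-- A linear map with trivial kernel is injective, stated for modules given as monoids. -/
theorem injective_of_forall_eq_zero {F A B : Type*} [Field F] [AddCommMonoid A] [Module F A] [AddCommMonoid B]
    [Module F B] (f : A →ₗ[F] B) (h : ∀ a, f a = 0 → a = 0) : Function.Injective f := by
  intro a a' e
  have h1 : f (a + (-1 : F) • a') = 0 := by
    rw [map_add, map_smul, e]
    conv_lhs => arg 1; rw [← one_smul F (f a')]
    rw [← add_smul, add_neg_cancel, zero_smul]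
  have h2 := congrArg (· + a') (h _ h1)
  simp only [zero_add] at h2
  conv_lhs at h2 => arg 2; rw [← one_smul F a']
  rwa [add_assoc, ← add_smul, neg_add_cancel, zero_smul, add_zero] at h2

variable {H : Type*} [Group H] [Finite H] {F : Type*} [Field F] {V : Type*} [AddCommGroup V] [Module F V]
  {Q X : Subgroup H} {y : H} {q : ℕ} [hq : Fact q.Prime] {ρ : H →* Module.End F V} {ψ : H → F}

/-- The radical of the pairing of `Q` given by a component. -/
def radical (h : MinimalMoved Q X y q) (hc : IsComponent ρ Q ψ) : Subgroup H where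
  carrier := {c | c ∈ Q ∧ ∀ d ∈ Q, ψ ⁅c, d⁆ = 1}
  one_mem' := ⟨one_mem Q, fun d _ => by rw [commutatorElement_one_left, eigen_one hc.occurs]⟩
  mul_mem' := fun {a b} ha hb => ⟨mul_mem ha.1 hb.1, fun d hd => by
    rw [h.commutator_mul_left ha.1 hb.1 hd, eigen_mul hc.occurs (h.commutator_mem_center ha.1 hd)
      (h.commutator_mem_center hb.1 hd), ha.2 d hd, hb.2 d hd, one_mul]⟩
  inv_mem' := fun {a} ha => ⟨inv_mem ha.1, fun d hd => by
    have e := eigen_one hc.occurs
    rw [← commutatorElement_one_left d, ← inv_mul_cancel a, h.commutator_mul_left (inv_mem ha.1) ha.1 hd,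
      eigen_mul hc.occurs (h.commutator_mem_center (inv_mem ha.1) hd) (h.commutator_mem_center ha.1 hd),
      ha.2 d hd, mul_one] at e
    exact e⟩

theorem mem_radical {h : MinimalMoved Q X y q} {hc : IsComponent ρ Q ψ} {c : H} :
    c ∈ radical h hc ↔ c ∈ Q ∧ ∀ d ∈ Q, ψ ⁅c, d⁆ = 1 := Iff.rfl

theorem center_le_radical (h : MinimalMoved Q X y q) (hc : IsComponent ρ Q ψ) :
    innerCenter Q ≤ radical h hc := fun c hc' => ⟨(mem_innerCenter.1 hc').1, fun d hd => by
  rw [commutatorElement_eq_one_iff_mul_comm.2 ((mem_innerCenter.1 hc').2 d hd), eigen_one hc.occurs]⟩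

theorem radical_le (h : MinimalMoved Q X y q) (hc : IsComponent ρ Q ψ) : radical h hc ≤ Q := fun _ hc' => hc'.1

theorem radical_conj_mem (h : MinimalMoved Q X y q) (hc : IsComponent ρ Q ψ) {z : H} (hz : z ∈ X)
    (hfix : ∀ a ∈ innerCenter Q, ψ (z * a * z⁻¹) = ψ a) {c : H} (hcR : c ∈ radical h hc) :
    z * c * z⁻¹ ∈ radical h hc := by
  refine ⟨h.inv z hz c hcR.1, fun d hd => ?_⟩
  have hd' := h.inv z⁻¹ (inv_mem hz) d hd
  rw [inv_inv] at hd'
  rw [show ⁅z * c * z⁻¹, d⁆ = z * ⁅c, z⁻¹ * d * z⁆ * z⁻¹ by simp only [commutatorElement_def]; group,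
    hfix _ (h.commutator_mem_center hcR.1 hd')]
  exact hcR.2 _ hd'

/-- The inequality on a component. -/
theorem component_bound [IsAlgClosed F] [FiniteDimensional F V] (h : MinimalMoved Q X y q)
    (hna : ∃ a ∈ Q, ∃ b ∈ Q, a * b ≠ b * a) (hc : IsComponent ρ Q ψ) (hqF : (q : F) ≠ 0)
    {p : ℕ} [hp : Fact p.Prime] (hpq : q ≠ p) {z : H} (hz : z ∈ X) {f : ℕ} (hzy : z ^ p ^ f = y)
    (hzP : z ^ p ^ (f + 1) = 1) (hfix : ∀ a ∈ innerCenter Q, ψ (z * a * z⁻¹) = ψ a)
    (hN : ∀ v ∈ eigenOf ρ (innerCenter Q) ψ, ∑ i ∈ Finset.range (p ^ (f + 1)), ρ (z ^ i) v = 0)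
    (L : List F)
    (hL : ∀ v ∈ eigenOf ρ (innerCenter Q) ψ,
      (L.map fun a => ρ z - a • (1 : Module.End F V)).prod v = 0) :
    ∃ m, 0 < m ∧ (radical h hc).relIndex Q = q ^ (2 * m) ∧
      (p ^ (f + 1) ∣ q ^ (2 * m) - 1 ∧ (p ^ (f + 1) ∣ q ^ m + 1 ∨ p ^ (f + 1) ∣ q ^ m - 1)) ∧
      q ^ (2 * m) * p ^ (f + 1) ≤ L.length * (p ^ (f + 1) - 1 + q ^ (2 * m)) := by
  classical
  set W := eigenOf ρ (innerCenter Q) ψ with hWdef
  set R := radical h hc with hRdef
  set P := p ^ (f + 1) with hPdef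
  have hW : W ≠ ⊥ := hc.occurs
  have hy1 : y ≠ 1 := fun e => by
    obtain ⟨a, _, ha⟩ := h.moved
    exact ha (by rw [e]; simp)
  let S : Subgroup H :=
    { carrier := {g | ∀ v ∈ W, ρ g v ∈ W}
      one_mem' := fun v hv => by rw [map_one]; exact hv
      mul_mem' := fun {g g'} hg hg' v hv => by rw [ρ_mul_apply]; exact hg _ (hg' v hv)
      inv_mem' := fun {g} hg v hv => by
        have hpow : ∀ n : ℕ, ρ (g ^ n) v ∈ W := by
          intro n
          induction n with
          | zero => rw [pow_zero, map_one]; exact hv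
          | succ n ih => rw [pow_succ', ρ_mul_apply]; exact hg _ ih
        obtain ⟨n, hn⟩ : ∃ n : ℕ, g ^ n = g⁻¹ := mem_powers_iff_mem_zpowers.2 (inv_mem (mem_zpowers g))
        rw [← hn]
        exact hpow n }
  have hSmem : ∀ g, g ∈ S ↔ ∀ v ∈ W, ρ g v ∈ W := fun _ => Iff.rfl
  have hQS : Q ≤ S := fun d hd v hv => mem_eigenOf.2 fun a ha => by
    rw [← ρ_mul_apply, (mem_innerCenter.1 ha).2 d hd, ρ_mul_apply, mem_eigenOf.1 hv a ha, map_smul]
  have hzS : z ∈ S := fun v hv => mem_eigenOf.2 fun a ha => by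
    rw [mem_eigenOf.1 (IsComponent.conj_mem_eigen h ψ hz hv) a ha]
    congr 1
    have h1 := h.conj_mem_center (inv_mem hz) ha
    rw [inv_inv] at h1
    rw [← hfix _ h1]
    group
  have hyS : y ∈ S := hzy ▸ pow_mem hzS _
  let τ : S →* Module.End F W :=
    { toFun := fun g => (ρ g).restrict (p := W) (q := W) ((hSmem g).1 g.2)
      map_one' := LinearMap.ext fun v => Subtype.ext (by simp)
      map_mul' := fun g g' => LinearMap.ext fun v => Subtype.ext (by simp) }
  have τ_apply : ∀ (g : S) (v : W), ((τ g v : W) : V) = ρ g v := fun _ _ => rfl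
  have hcommW : ∀ a ∈ Q, ∀ b ∈ Q, ∀ v ∈ W, ρ (a * b) v = ψ ⁅a, b⁆ • ρ (b * a) v := by
    intro a ha b hb v hv
    rw [show a * b = ⁅a, b⁆ * (b * a) by simp only [commutatorElement_def]; group, ρ_mul_apply]
    exact mem_eigenOf.1 (hQS (mul_mem hb ha) v hv) _ (h.commutator_mem_center ha hb)
  have hRz : ∀ a ∈ R, z * a * z⁻¹ ∈ R := fun a ha => radical_conj_mem h hc hz hfix ha
  have hRy : ∀ a ∈ R, y * a * y⁻¹ ∈ R := by
    intro a ha
    have key : ∀ k : ℕ, z ^ k * a * (z ^ k)⁻¹ ∈ R := by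
      intro k
      induction k with
      | zero => simpa using ha
      | succ k ih =>
        rw [show z ^ (k + 1) * a * (z ^ (k + 1))⁻¹ = z * (z ^ k * a * (z ^ k)⁻¹) * z⁻¹ by rw [pow_succ']; group]
        exact hRz _ ih
    rw [← hzy]
    exact key _
  -- `y` fixes the image of the radical
  have hfixR : ∀ a ∈ R, ∀ v ∈ W, ρ (y * a * y⁻¹) v = ρ a v := by
    by_contra hcon
    push Not at hcon
    obtain ⟨a, ha, v, hv, hne⟩ := hcon
    let τ' : S →* MulAut (Multiplicative W) :=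
      { toFun := fun g =>
          { toFun := fun u => Multiplicative.ofAdd (τ g u.toAdd)
            invFun := fun u => Multiplicative.ofAdd (τ g⁻¹ u.toAdd)
            left_inv := fun u => by
              show Multiplicative.ofAdd (τ g⁻¹ (τ g u.toAdd)) = u
              rw [← Module.End.mul_apply, ← map_mul, inv_mul_cancel, map_one]; rfl
            right_inv := fun u => by
              show Multiplicative.ofAdd (τ g (τ g⁻¹ u.toAdd)) = u
              rw [← Module.End.mul_apply, ← map_mul, mul_inv_cancel, map_one]; rfl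
            map_mul' := fun u u' => by
              show Multiplicative.ofAdd (τ g (u.toAdd + u'.toAdd)) = _
              rw [map_add]; rfl }
        map_one' := MulEquiv.ext fun u => by
          show Multiplicative.ofAdd (τ 1 u.toAdd) = u
          rw [map_one]; rfl
        map_mul' := fun g g' => MulEquiv.ext fun u => by
          show Multiplicative.ofAdd (τ (g * g') u.toAdd) = _
          rw [map_mul]; rfl }
    let π := QuotientGroup.mk' τ'.ker
    let ρ' : S ⧸ τ'.ker →* MulAut (Multiplicative W) := QuotientGroup.kerLift τ'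
    have hρ' : ∀ g, ρ' (π g) = τ' g := fun g => rfl
    have hinj : Function.Injective ρ' := QuotientGroup.kerLift_injective τ'
    have hRS : R ≤ S := (radical_le h hc).trans hQS
    let Q' := (R.subgroupOf S).map π
    have hQ'p : IsPGroup q Q' :=
      ((h.isP.to_le (radical_le h hc)).of_equiv (subgroupOfEquivOfLe hRS).symm).map π
    have hV : ∀ (u : Multiplicative W) (d : ℕ), d ∣ Nat.card Q' → u ^ d = 1 → u = 1 := by
      intro u d hd hud
      obtain ⟨e, he⟩ := IsPGroup.iff_card.1 hQ'p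
      obtain ⟨e', -, rfl⟩ := (Nat.dvd_prime_pow hq.out).1 (he ▸ hd)
      have h1 := congrArg Multiplicative.toAdd hud
      rw [toAdd_pow, toAdd_one, ← Nat.cast_smul_eq_nsmul F, Nat.cast_pow] at h1
      exact Multiplicative.toAdd.injective ((smul_eq_zero.1 h1).resolve_left (pow_ne_zero _ hqF))
    have hab : ∀ b ∈ Q', ∀ b' ∈ Q', b * b' = b' * b := by
      rintro _ ⟨b, hb, rfl⟩ _ ⟨b', hb', rfl⟩
      refine hinj ?_
      rw [← map_mul, ← map_mul, hρ', hρ']
      refine MulEquiv.ext fun u => congrArg Multiplicative.ofAdd (Subtype.ext ?_)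
      show ρ ((b : H) * b') (u.toAdd : V) = ρ ((b' : H) * b) (u.toAdd : V)
      rw [hcommW _ (mem_subgroupOf.1 hb).1 _ (mem_subgroupOf.1 hb').1 _ u.toAdd.2,
        (mem_subgroupOf.1 hb).2 _ (mem_subgroupOf.1 hb').1, one_smul]
    have hcop : (Nat.card Q').Coprime p := by
      obtain ⟨e, he⟩ := IsPGroup.iff_card.1 hQ'p
      rw [he]
      exact ((Nat.coprime_primes hq.out hp.out).2 hpq).pow_left e
    set x' := π ⟨z, hzS⟩ with hx'
    have hx'y : x' ^ p ^ f = π ⟨y, hyS⟩ := by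
      rw [hx', ← map_pow]; exact congrArg π (Subtype.ext hzy)
    have hmoved : x' ^ p ^ f * π ⟨a, hRS ha⟩ * (x' ^ p ^ f)⁻¹ ≠ π ⟨a, hRS ha⟩ := by
      rw [hx'y, ← map_inv, ← map_mul, ← map_mul]
      intro e
      have e1 := congrArg (fun g => ρ' g (Multiplicative.ofAdd (⟨v, hv⟩ : W))) e
      exact hne (congrArg (fun u : Multiplicative W => ((u.toAdd : W) : V)) e1)
    have hord : orderOf x' = p ^ (f + 1) := by
      refine orderOf_eq_prime_pow (fun e => hmoved (by rw [e]; simp)) ?_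
      rw [hx', ← map_pow, show (⟨z, hzS⟩ : S) ^ p ^ (f + 1) = 1 from Subtype.ext hzP, map_one]
    obtain ⟨u, hu⟩ := exists_norm_ne_one' ρ' hinj Q' hV hab hcop x'
      (by
        rintro _ ⟨b, hb, rfl⟩
        refine ⟨⟨z, hzS⟩ * b * ⟨z, hzS⟩⁻¹, ?_, by simp [hx']⟩
        rw [SetLike.mem_coe, mem_subgroupOf]
        exact hRz _ (mem_subgroupOf.1 hb)) f hord
      ⟨π ⟨a, hRS ha⟩, mem_map_of_mem _ (mem_subgroupOf.2 ha), hmoved⟩
    refine hu (Multiplicative.toAdd.injective (Subtype.ext ?_))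
    rw [toAdd_prod, Submodule.coe_sum, toAdd_one, Submodule.coe_zero, ← hN _ u.toAdd.2]
    refine Finset.sum_congr rfl fun i _ => ?_
    rw [hx', ← map_pow, hρ']
    exact τ_apply _ _
  -- the coprime action of `y`
  have hcopy : (Nat.card (zpowers y)).Coprime q := by rw [Nat.card_zpowers]; exact h.cop
  have hcopT : ∀ T : Subgroup H, T ≤ Q → (Nat.card (zpowers y)).Coprime (Nat.card T) := fun T hT => by
    obtain ⟨e, he⟩ := IsPGroup.iff_card.1 (h.isP.to_le hT)
    rw [he]
    exact hcopy.pow_right e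
  have hnormy : ∀ T : Subgroup H, (∀ a ∈ T, y * a * y⁻¹ ∈ T) → zpowers y ≤ normalizer (T : Set H) := by
    intro T hT
    refine zpowers_le.2 (mem_normalizer_iff_map_conj_eq.2 (eq_of_le_of_card_ge ?_ ?_))
    · rintro _ ⟨a, ha, rfl⟩; exact hT a ha
    · exact (card_map_of_injective (MulAut.conj y).injective).ge
  have hsplit : ∀ (G N : Subgroup H), G ≤ Q → N ≤ G → (∀ a ∈ G, y * a * y⁻¹ ∈ G) → (∀ a ∈ N, y * a * y⁻¹ ∈ N) →
      ∀ c ∈ G, (∀ k : ℕ, ⁅c, y ^ k⁆ ∈ N) → ∃ n ∈ N, ∃ c' ∈ innerCenter Q, c = n * c' := by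
    intro G N hGQ hNG hGy hNy c hcG hcomm
    obtain ⟨n, hn, c', hc', e⟩ := Coprime.exists_mul_centralizer_of_commutator_mem (hnormy G hGy)
      (hcopT G hGQ) (Or.inr (have := (h.isP.to_le hGQ).isNilpotent; IsNilpotent.to_isSolvable)) hNG
      (hnormy N hNy) hcG (fun w hw => by
        obtain ⟨k, rfl⟩ := mem_powers_iff_mem_zpowers.2 hw
        exact hcomm k)
    refine ⟨n, hn, c', h.center_of_fixed (hGQ hc'.1) ?_, e⟩
    rw [mem_centralizer_iff.1 hc'.2 y (mem_zpowers y), mul_inv_cancel_right]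
  have hcommk : ∀ (N : Subgroup H), (∀ a ∈ N, y * a * y⁻¹ ∈ N) → ∀ c : H, c * (y * c⁻¹ * y⁻¹) ∈ N →
      ∀ k : ℕ, ⁅c, y ^ k⁆ ∈ N := by
    intro N hNy c h1 k
    induction k with
    | zero => simp [commutatorElement_def]
    | succ k ih =>
      rw [show ⁅c, y ^ (k + 1)⁆ = (c * (y * c⁻¹ * y⁻¹)) * (y * ⁅c, y ^ k⁆ * y⁻¹) by
        rw [pow_succ']; simp only [commutatorElement_def]; group]
      exact mul_mem h1 (hNy _ ih)
  -- the radical acts by scalars
  have hscal : ∀ a ∈ R, ∃ s : F, ∀ v ∈ W, ρ a v = s • v := by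
    intro a ha
    let RK : Subgroup H :=
      { carrier := {b | b ∈ R ∧ ∀ v ∈ W, ρ b v = v}
        one_mem' := ⟨one_mem R, fun v _ => by rw [map_one]; rfl⟩
        mul_mem' := fun {b b'} hb hb' => ⟨mul_mem hb.1 hb'.1, fun v hv => by
          rw [ρ_mul_apply, hb'.2 v hv, hb.2 v hv]⟩
        inv_mem' := fun {b} hb => ⟨inv_mem hb.1, fun v hv => by
          conv_lhs => rw [← hb.2 v hv, ← ρ_mul_apply, inv_mul_cancel, map_one]
          rfl⟩ }
    have hRKy : ∀ b ∈ RK, y * b * y⁻¹ ∈ RK := fun b hb =>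
      ⟨hRy b hb.1, fun v hv => by rw [hfixR b hb.1 v hv]; exact hb.2 v hv⟩
    have hfixa : a * (y * a⁻¹ * y⁻¹) ∈ RK := by
      refine ⟨mul_mem ha (hRy _ (inv_mem ha)), fun v hv => ?_⟩
      rw [ρ_mul_apply, hfixR _ (inv_mem ha) v hv, ← ρ_mul_apply, mul_inv_cancel, map_one]
      rfl
    obtain ⟨n, hn, c', hc', rfl⟩ := hsplit R RK (radical_le h hc) (fun b hb => hb.1) hRy hRKy a ha
      (hcommk RK hRKy a hfixa)
    refine ⟨ψ c', fun v hv => ?_⟩
    rw [ρ_mul_apply, mem_eigenOf.1 hv c' hc', map_smul, hn.2 v hv]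
  -- the quotient by the radical
  let R' := R.subgroupOf Q
  have hR'n : R'.Normal := ⟨fun r hr d => by
    rw [mem_subgroupOf] at hr ⊢
    rw [show ((d * r * d⁻¹ : Q) : H) = ⁅(d : H), (r : H)⁆ * r by simp [commutatorElement_def, mul_assoc]]
    exact mul_mem (center_le_radical h hc (h.commutator_mem_center d.2 hr.1)) hr⟩
  let zQ : MulAut Q :=
    { toFun := fun a => ⟨z * a * z⁻¹, h.inv z hz _ a.2⟩
      invFun := fun a => ⟨z⁻¹ * a * z, by simpa using h.inv z⁻¹ (inv_mem hz) _ a.2⟩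
      left_inv := fun a => Subtype.ext (by simp [mul_assoc])
      right_inv := fun a => Subtype.ext (by simp [mul_assoc])
      map_mul' := fun a b => Subtype.ext (by simp [mul_assoc]) }
  have hzQ : ∀ a : Q, ((zQ a : Q) : H) = z * a * z⁻¹ := fun _ => rfl
  have hzR' : R'.map zQ.toMonoidHom = R' := by
    refine eq_of_le_of_card_ge ?_ (card_map_of_injective zQ.injective).ge
    rintro _ ⟨a, ha, rfl⟩
    exact mem_subgroupOf.2 (hRz _ (mem_subgroupOf.1 ha))
  let σ : Equiv.Perm (Q ⧸ R') := (QuotientGroup.congr R' R' zQ hzR').toEquiv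
  have hσpow : ∀ (t : ℕ) (a : Q), ∃ b : Q, (b : H) = z ^ t * a * (z ^ t)⁻¹ ∧
      (σ ^ t) (QuotientGroup.mk a) = QuotientGroup.mk b := by
    intro t
    induction t with
    | zero => intro a; exact ⟨a, by simp, rfl⟩
    | succ t ih =>
      intro a
      obtain ⟨b, hb, hb'⟩ := ih a
      refine ⟨zQ b, by rw [hzQ, hb, pow_succ']; group, ?_⟩
      rw [pow_succ', Equiv.Perm.mul_apply, hb']
      rfl
  have hσP : σ ^ P = 1 := Equiv.ext fun i => by
    obtain ⟨a, rfl⟩ := QuotientGroup.mk_surjective i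
    obtain ⟨b, hb, hb'⟩ := hσpow P a
    rw [hb', show b = a from Subtype.ext (by rw [hb, hPdef, hzP]; simp)]
    rfl
  have hfree : ∀ i : Q ⧸ R', i ≠ 1 → ∀ t < P, t ≠ 0 → (σ ^ t) i ≠ i := by
    intro i hi t ht ht0 e
    obtain ⟨j, -, hj⟩ := (Nat.dvd_prime_pow hp.out).1 (Nat.gcd_dvd_right t P)
    have hjf : j ≤ f := Nat.lt_succ_iff.1 ((Nat.pow_lt_pow_iff_right hp.out.one_lt).1
      (lt_of_le_of_lt (hj ▸ Nat.le_of_dvd (Nat.pos_of_ne_zero ht0) (Nat.gcd_dvd_left _ _)) ht))
    have hfixall : ∀ u : Equiv.Perm (Q ⧸ R'), u ∈ zpowers (σ ^ t) → u i = i := by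
      intro u hu
      have : zpowers (σ ^ t) ≤ MulAction.stabilizer (Equiv.Perm (Q ⧸ R')) i := zpowers_le.2 e
      exact this hu
    have h1 : (σ ^ p ^ j) ∈ zpowers (σ ^ t) := by
      refine mem_zpowers_iff.2 ⟨Nat.gcdA t P, ?_⟩
      have hx1 : σ ^ ((P : ℕ) : ℤ) = 1 := by rw [zpow_natCast, hσP]
      rw [← zpow_natCast σ (p ^ j), ← hj, Nat.gcd_eq_gcd_ab, zpow_add, zpow_mul, zpow_mul, hx1, one_zpow,
        mul_one, zpow_natCast]
    have h2 := hfixall _ (pow_mem h1 (p ^ (f - j)))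
    rw [← pow_mul, ← pow_add, Nat.add_sub_cancel' hjf] at h2
    obtain ⟨a, rfl⟩ := QuotientGroup.mk_surjective i
    obtain ⟨b, hb, hb'⟩ := hσpow (p ^ f) a
    rw [hb', QuotientGroup.eq, mem_subgroupOf, Subgroup.coe_mul, InvMemClass.coe_inv, hb, hzy] at h2
    refine hi ((QuotientGroup.eq_one_iff a).2 (mem_subgroupOf.2 ?_))
    have h3 : (a : H) * (y * (a : H)⁻¹ * y⁻¹) ∈ R := by
      have e1 : (y * (a : H) * y⁻¹)⁻¹ * a = ⁅(y * (a : H) * y⁻¹)⁻¹, (a : H)⁆ *
          ((a : H) * (y * (a : H)⁻¹ * y⁻¹)) := by simp only [commutatorElement_def]; group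
      rw [e1] at h2
      exact (mul_mem_cancel_left (center_le_radical h hc (h.commutator_mem_center
        (inv_mem (h.inv _ h.ymem _ a.2)) a.2))).1 h2
    obtain ⟨n, hn, c', hc', e'⟩ := hsplit Q R le_rfl (radical_le h hc) (h.inv _ h.ymem) hRy a a.2
      (hcommk R hRy a h3)
    rw [e']
    exact mul_mem hn (center_le_radical h hc hc')
  obtain ⟨T, hT1, hT2, hT3⟩ := exists_orbit_reps σ 1 (pow_pos hp.out.pos _) hσP
    (map_one (QuotientGroup.congr R' R' zQ hzR')) hfree
  -- the index of the radical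
  have hMcard : Nat.card (Q ⧸ R') = R.relIndex Q := (index_eq_card R').symm
  let Z := ⁅Q, Q⁆
  have hZA : Z ≤ innerCenter Q := commutator_le.2 fun a ha b hb => h.commutator_mem_center ha hb
  have hZq : ∀ a ∈ Z, ψ a ^ q = 1 := by
    let Zq : Subgroup H :=
      { carrier := {a | a ∈ innerCenter Q ∧ ψ a ^ q = 1}
        one_mem' := ⟨one_mem _, by rw [eigen_one hc.occurs, one_pow]⟩
        mul_mem' := fun {a b} ha hb => ⟨mul_mem ha.1 hb.1, by
          rw [eigen_mul hc.occurs ha.1 hb.1, mul_pow, ha.2, hb.2, one_mul]⟩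
        inv_mem' := fun {a} ha => ⟨inv_mem ha.1, by rw [eigen_inv hc.occurs ha.1, inv_pow, ha.2, inv_one]⟩ }
    refine fun a ha => ((show Z ≤ Zq from commutator_le.2 fun u hu w hw =>
      ⟨h.commutator_mem_center hu hw, ?_⟩) ha).2
    have hmc := h.commutator_mem_center hu hw
    have hpow : ∀ k : ℕ, ψ (⁅u, w⁆ ^ k) = ψ ⁅u, w⁆ ^ k := by
      intro k
      induction k with
      | zero => rw [pow_zero, pow_zero, eigen_one hc.occurs]
      | succ k ih => rw [pow_succ, pow_succ, eigen_mul hc.occurs (pow_mem hmc k) hmc, ih]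
    rw [← hpow, h.commutator_pow_eq_one hu hw, eigen_one hc.occurs]
  let ψZ : Z →* Fˣ := MonoidHom.toHomUnits
    { toFun := fun a : Z => ψ a
      map_one' := eigen_one hc.occurs
      map_mul' := fun a b => eigen_mul hc.occurs (hZA a.2) (hZA b.2) }
  have hψZ : ∀ a : Z, ((ψZ a : Fˣ) : F) = ψ a := fun a => rfl
  have hker : ψZ.ker.index = q := by
    rw [index_ker]
    have hle : ψZ.range ≤ rootsOfUnity q F := by
      rintro _ ⟨a, rfl⟩
      exact Units.ext (by rw [Units.val_pow_eq_pow_val, hψZ, hZq a a.2, Units.val_one])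
    have : NeZero q := ⟨hq.out.ne_zero⟩
    refine le_antisymm ((Nat.card_le_card_of_injective _ (Subgroup.inclusion_injective hle)).trans
      (card_rootsOfUnity F q)) ?_
    have : Finite ψZ.range := Finite.of_surjective ψZ.rangeRestrict ψZ.rangeRestrict_surjective
    obtain ⟨a, ha, b, hb, hab⟩ := hc.ne
    set g : Fˣ := ψZ ⟨⁅a, b⁆, Subgroup.commutator_mem_commutator ha hb⟩ with hg
    have hgq : g ^ q = 1 := hle ⟨_, rfl⟩
    have hg1 : g ≠ 1 := fun e => hab (congrArg Units.val e)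
    rw [← orderOf_eq_prime hgq hg1]
    exact Nat.le_of_dvd Nat.card_pos (Subgroup.orderOf_dvd_natCard _ ⟨_, rfl⟩)
  obtain ⟨m, hm⟩ := exists_relIndex_eq_sq (q := q) (ψZ.ker.map Z.subtype) Z
    (fun u hu k hk => (mem_innerCenter.1 (hZA hu)).2 k (mem_innerCenter.1 (hZA (map_subtype_le _ hk))).1)
    (by rw [relIndex, subgroupOf, comap_map_eq_self_of_injective Z.subtype_injective, hker]) Q
    (fun a ha b hb => Subgroup.commutator_mem_commutator ha hb)
    (fun a ha b hb c hc' => h.commutator_mul_left ha hb hc') R (radical_le h hc)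
    (fun a ha => by
      have hiff : ∀ d ∈ Q, ⁅a, d⁆ ∈ ψZ.ker.map Z.subtype ↔ ψ ⁅a, d⁆ = 1 := fun d hd => by
        constructor
        · rintro ⟨w, hw, he⟩
          rw [← he]
          exact congrArg Units.val hw
        · exact fun e => ⟨⟨⁅a, d⁆, Subgroup.commutator_mem_commutator ha hd⟩, Units.ext e, rfl⟩
      exact ⟨fun h' d hd => (hiff d hd).2 (h'.2 d hd), fun h' => ⟨ha, fun d hd => (hiff d hd).1 (h' d hd)⟩⟩)
  have hm0 : 0 < m := by
    refine Nat.pos_of_ne_zero fun e => ?_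
    rw [e, Nat.mul_zero, pow_zero, relIndex_eq_one] at hm
    obtain ⟨a, ha, b, hb, hab⟩ := hc.ne
    exact hab ((hm ha).2 b hb)
  refine ⟨m, hm0, hm, ⟨?_, ?_⟩, ?_⟩
  · rw [← hm, ← hMcard, ← hT2]; exact dvd_mul_left _ _
  · -- the pairing on the cosets of the radical
    letI : CommGroup (Q ⧸ R') :=
      { (inferInstance : Group (Q ⧸ R')) with
        mul_comm := by
          rintro ⟨a⟩ ⟨b⟩
          refine (QuotientGroup.eq (a := a * b) (b := b * a)).2 (mem_subgroupOf.2 ?_)
          rw [show (((a * b)⁻¹ * (b * a) : Q) : H) = ⁅(b : H)⁻¹, (a : H)⁻¹⁆ by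
            simp [commutatorElement_def, mul_assoc]]
          exact center_le_radical h hc (h.commutator_mem_center (inv_mem b.2) (inv_mem a.2)) }
    have : Finite ψZ.range := Finite.of_surjective ψZ.rangeRestrict ψZ.rangeRestrict_surjective
    let pr : Q → Q → ψZ.range := fun a b =>
      ψZ.rangeRestrict ⟨⁅(a : H), (b : H)⁆, Subgroup.commutator_mem_commutator a.2 b.2⟩
    have hpr : ∀ a b : Q, (((pr a b : ψZ.range) : Fˣ) : F) = ψ ⁅(a : H), (b : H)⁆ := fun _ _ => rfl
    have hext : ∀ u v : ψZ.range, ((u : Fˣ) : F) = ((v : Fˣ) : F) → u = v := fun u v e =>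
      Subtype.ext (Units.ext e)
    have hprl : ∀ a b c : Q, pr (a * b) c = pr a c * pr b c := fun a b c => by
      refine hext _ _ ?_
      rw [Subgroup.coe_mul, Units.val_mul, hpr, hpr, hpr, Subgroup.coe_mul, h.commutator_mul_left a.2 b.2 c.2]
      exact eigen_mul hc.occurs (h.commutator_mem_center a.2 c.2) (h.commutator_mem_center b.2 c.2)
    have hinv' : ∀ a b : Q, pr b a = (pr a b)⁻¹ := fun a b => by
      refine hext _ _ ?_
      rw [hpr, InvMemClass.coe_inv, Units.val_inv_eq_inv_val, hpr, ← commutatorElement_inv,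
        eigen_inv hc.occurs (h.commutator_mem_center a.2 b.2)]
    have hprr : ∀ a b c : Q, pr a (b * c) = pr a b * pr a c := fun a b c => by
      rw [hinv' (b * c) a, hprl, mul_inv, ← hinv', ← hinv']
    have hradl : ∀ a b : Q, (a : H) ∈ R → pr a b = 1 := fun a b ha => hext _ _ (by
      rw [hpr, OneMemClass.coe_one, Units.val_one]; exact ha.2 _ b.2)
    have hpr1 : ∀ a b : Q, (QuotientGroup.mk a : Q ⧸ R') = QuotientGroup.mk b → ∀ c, pr a c = pr b c := by
      intro a b e c
      rw [QuotientGroup.eq, mem_subgroupOf] at e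
      rw [show b = a * (a⁻¹ * b) by group, hprl, hradl _ c e, mul_one]
    let g : Q ⧸ R' → Q ⧸ R' → ψZ.range := fun i j => pr i.out j.out
    have hg : ∀ a b : Q, g (QuotientGroup.mk a) (QuotientGroup.mk b) = pr a b := fun a b => by
      show pr _ _ = _
      rw [hpr1 _ a (QuotientGroup.out_eq' _), hinv', hpr1 _ b (QuotientGroup.out_eq' _), ← hinv']
    let σM : MulAut (Q ⧸ R') := QuotientGroup.congr R' R' zQ hzR'
    have hσM : ∀ (t : ℕ) (i : Q ⧸ R'), (σM ^ t) i = (σ ^ t) i := by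
      intro t
      induction t with
      | zero => intro i; rfl
      | succ t ih =>
        intro i
        rw [pow_succ', pow_succ', MulAut.mul_apply, Equiv.Perm.mul_apply, ih]
        rfl
    refine Linear.semiregular_pairing (q := q) (M := Q ⧸ R') (C := ψZ.range) (h := P) (by rw [← index_ker, hker])
      ?_ g ?_ ?_ ?_ σM ?_ ?_ (pow_pos hp.out.pos _) (((Nat.coprime_primes hp.out hq.out).2 hpq.symm).pow_left _)
      ?_ ?_ m (by rw [hMcard, hm])
    · rintro ⟨a⟩
      refine (QuotientGroup.eq_one_iff (a ^ q)).2 (mem_subgroupOf.2 ⟨(a ^ q).2, fun d hd => ?_⟩)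
      rw [SubmonoidClass.coe_pow, h.commutator_pow a.2 hd, h.commutator_pow_eq_one a.2 hd, eigen_one hc.occurs]
    · rintro ⟨a⟩ ⟨b⟩ ⟨c⟩
      exact (hg (a * b) c).trans ((hprl a b c).trans (congrArg₂ (· * ·) (hg a c).symm (hg b c).symm))
    · rintro ⟨a⟩
      refine (hg a a).trans (hext _ _ ?_)
      rw [hpr, commutatorElement_self, eigen_one hc.occurs, OneMemClass.coe_one, Units.val_one]
    · rintro ⟨a⟩ ha
      refine (QuotientGroup.eq_one_iff a).2 (mem_subgroupOf.2 ⟨a.2, fun d hd => ?_⟩)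
      have e := congrArg (fun u : ψZ.range => ((u : Fˣ) : F))
        ((hg a ⟨d, hd⟩).symm.trans (ha (QuotientGroup.mk ⟨d, hd⟩)))
      simpa [hpr] using e
    · rintro ⟨a⟩ ⟨b⟩
      refine (hg (zQ a) (zQ b)).trans (Eq.trans (hext _ _ ?_) (hg a b).symm)
      rw [hpr, hpr, hzQ, hzQ, ← hfix _ (h.commutator_mem_center a.2 b.2)]
      congr 1
      simp [commutatorElement_def, mul_assoc]
    · rintro ⟨a⟩ ⟨b⟩ ⟨c⟩
      exact (hg a (b * c)).trans ((hprr a b c).trans (congrArg₂ (· * ·) (hg a b).symm (hg a c).symm))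
    · exact MulEquiv.ext fun i => by rw [hσM, hσP]; rfl
    · intro i hi t e
      rw [hσM, ← Nat.mod_add_div t P, pow_add, pow_mul, hσP, one_pow, mul_one] at e
      by_contra ht
      exact hfree i hi _ (Nat.mod_lt _ (pow_pos hp.out.pos _)) (fun e0 => ht (Nat.dvd_of_mod_eq_zero e0)) e
  -- the endomorphisms
  have := Fintype.ofFinite Q
  have := Fintype.ofFinite (Q ⧸ R')
  let τQ : Q →* Module.End F W := τ.comp (Subgroup.inclusion hQS)
  let zS : S := ⟨z, hzS⟩
  set B : Submodule F (Module.End F W) := ⨅ c : Q, endCentralizer (τQ c) with hBdef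
  have hB : ∀ φ, φ ∈ B ↔ ∀ c : Q, τQ c * φ = φ * τQ c := fun φ => by
    simp [hBdef, Submodule.mem_iInf, mem_endCentralizer]
  have hcomm : ∀ a b : Q, τQ a * τQ b = ψ ⁅(a : H), (b : H)⁆ • (τQ b * τQ a) := fun a b =>
    LinearMap.ext fun v => Subtype.ext (by
      rw [← map_mul, ← map_mul, LinearMap.smul_apply, Submodule.coe_smul]
      exact hcommW _ a.2 _ b.2 _ v.2)
  have hvanish : ∀ e : Q, (e : H) ∉ R → ∑ a : Q, ψ ⁅(a : H), (e : H)⁆ = 0 := by
    intro e he
    obtain ⟨d, hd, hne⟩ : ∃ d ∈ Q, ψ ⁅(d : H), (e : H)⁆ ≠ 1 := by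
      by_contra hcon
      push Not at hcon
      refine he ⟨e.2, fun d hd => ?_⟩
      rw [← commutatorElement_inv d, eigen_inv hc.occurs (h.commutator_mem_center hd e.2), hcon d hd, inv_one]
    have hS : ψ ⁅(d : H), (e : H)⁆ * ∑ a : Q, ψ ⁅(a : H), (e : H)⁆ = ∑ a : Q, ψ ⁅(a : H), (e : H)⁆ := by
      rw [Finset.mul_sum]
      refine Fintype.sum_equiv (Equiv.mulLeft (⟨d, hd⟩ : Q)) _ _ fun a => ?_
      simp only [Equiv.coe_mulLeft, Subgroup.coe_mul]
      rw [h.commutator_mul_left hd a.2 e.2,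
        eigen_mul hc.occurs (h.commutator_mem_center hd e.2) (h.commutator_mem_center a.2 e.2)]
    by_contra h0
    exact hne (mul_right_cancel₀ h0 (by rw [hS, one_mul]))
  have hQne : (Nat.card Q : F) ≠ 0 := natCard_cast_ne_zero hqF h.isP
  have hsumR : ∀ e : Q, (e : H) ∈ R → ∑ a : Q, ψ ⁅(a : H), (e : H)⁆ = (Nat.card Q : F) := by
    intro e he
    rw [Finset.sum_congr rfl fun (a : Q) _ => show ψ ⁅(a : H), (e : H)⁆ = 1 by
      rw [← commutatorElement_inv (e : H), eigen_inv hc.occurs (h.commutator_mem_center e.2 a.2), he.2 a a.2,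
        inv_one]]
    rw [Finset.sum_const, Finset.card_univ, nsmul_eq_mul, mul_one, Nat.card_eq_fintype_card]
  let β : Q → (Module.End F W →ₗ[F] Module.End F W) := fun c =>
    ∑ a : Q, LinearMap.mulLeft F (τQ a * τQ c⁻¹) ∘ₗ LinearMap.mulRight F (τQ a⁻¹)
  have hβ : ∀ c φ, β c φ = ∑ a : Q, τQ a * τQ c⁻¹ * φ * τQ a⁻¹ := fun c φ => by
    simp [β, LinearMap.sum_apply, mul_assoc]
  have hβB : ∀ c φ, β c φ ∈ B := by
    intro c φ
    refine (hB _).2 fun d => ?_
    rw [hβ, Finset.mul_sum, Finset.sum_mul]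
    refine Fintype.sum_equiv (Equiv.mulLeft d) _ _ fun a => ?_
    simp only [Equiv.coe_mulLeft, mul_inv_rev, map_mul]
    simp only [mul_assoc]
    rw [← map_mul τQ d⁻¹ d, inv_mul_cancel, map_one, mul_one]
  have hkey : ∀ φ, ∑ c : Q, τQ c * β c φ = ((Nat.card R' * Nat.card Q : ℕ) : F) • φ := by
    intro φ
    calc ∑ c : Q, τQ c * β c φ = ∑ a : Q, ∑ c : Q, ψ ⁅(c : H), (a : H)⁆ • (τQ a * φ * τQ a⁻¹) := by
          simp only [hβ, Finset.mul_sum]
          rw [Finset.sum_comm]
          refine Finset.sum_congr rfl fun a _ => Finset.sum_congr rfl fun c _ => ?_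
          simp only [← mul_assoc]
          rw [hcomm c a, smul_mul_assoc, smul_mul_assoc, smul_mul_assoc]
          simp only [mul_assoc]
          rw [← mul_assoc (τQ c), ← map_mul τQ c c⁻¹, mul_inv_cancel, map_one, one_mul]
      _ = ∑ a : Q, if (a : H) ∈ R then (Nat.card Q : F) • φ else 0 := by
          refine Finset.sum_congr rfl fun a _ => ?_
          rw [← Finset.sum_smul]
          split_ifs with ha
          · rw [hsumR a ha]
            congr 1
            obtain ⟨s, hs⟩ := hscal _ ha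
            have hτ : τQ a = s • (1 : Module.End F W) := LinearMap.ext fun v => Subtype.ext (by
              rw [LinearMap.smul_apply, Submodule.coe_smul]
              exact hs _ v.2)
            rw [hτ, smul_mul_assoc, one_mul, smul_mul_assoc, ← mul_smul_comm,
              ← one_mul (τQ a⁻¹), ← smul_mul_assoc, ← hτ, ← map_mul, mul_inv_cancel, map_one, mul_one]
          · rw [hvanish a ha, zero_smul]
      _ = ((Nat.card R' * Nat.card Q : ℕ) : F) • φ := by
          rw [← Finset.sum_filter, Finset.sum_const, ← Nat.cast_smul_eq_nsmul F, smul_smul, Nat.cast_mul]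
          congr 3
          rw [← Fintype.card_subtype, ← Nat.card_eq_fintype_card]
          exact Nat.card_congr (Equiv.refl _)
  have hz' : ∀ φ, φ ∈ endCentralizer (τ zS) → ∀ c : Q, β (zQ c) φ = τ zS * β c φ * τ zS⁻¹ := by
    intro φ hφ c
    rw [mem_endCentralizer] at hφ
    rw [hβ, hβ, Finset.mul_sum, Finset.sum_mul]
    refine (Fintype.sum_equiv zQ.toEquiv _ _ fun a => ?_).symm
    have hτz : ∀ b : Q, τQ (zQ b) = τ zS * τQ b * τ zS⁻¹ := fun b => by
      rw [show τQ b = τ (Subgroup.inclusion hQS b) from rfl, ← map_mul, ← map_mul]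
      exact congrArg τ (Subtype.ext rfl)
    have hinv : τ zS⁻¹ * τ zS = 1 := by rw [← map_mul, inv_mul_cancel, map_one]
    show _ = τQ (zQ a) * τQ (zQ c)⁻¹ * φ * τQ (zQ a)⁻¹
    rw [← map_inv zQ, ← map_inv zQ, hτz, hτz, hτz]
    have hφ' : τ zS⁻¹ * φ * τ zS = φ := by rw [mul_assoc, ← hφ, ← mul_assoc, hinv, one_mul]
    symm
    calc τ zS * τQ a * τ zS⁻¹ * (τ zS * τQ c⁻¹ * τ zS⁻¹) * φ * (τ zS * τQ a⁻¹ * τ zS⁻¹)
        = τ zS * τQ a * (τ zS⁻¹ * τ zS) * τQ c⁻¹ * (τ zS⁻¹ * φ * τ zS) * τQ a⁻¹ * τ zS⁻¹ := by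
          simp only [mul_assoc]
      _ = _ := by rw [hinv, hφ', mul_one]; simp only [mul_assoc]
  have hcoset : ∀ (φ : Module.End F W) (c d : Q),
      (QuotientGroup.mk c : Q ⧸ R') = QuotientGroup.mk d → β c φ = 0 → β d φ = 0 := by
    intro φ c d hcd hc0
    obtain ⟨s, hs⟩ := hscal _ (inv_mem (mem_subgroupOf.1 (QuotientGroup.eq.1 hcd)))
    have hτ : τQ (c⁻¹ * d)⁻¹ = s • (1 : Module.End F W) := LinearMap.ext fun v => Subtype.ext (by
      rw [LinearMap.smul_apply, Submodule.coe_smul]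
      exact hs _ v.2)
    have hd : τQ d⁻¹ = s • τQ c⁻¹ := by
      rw [show d⁻¹ = (c⁻¹ * d)⁻¹ * c⁻¹ by group, map_mul, hτ, smul_mul_assoc, one_mul]
    have e : β d φ = s • β c φ := by
      simp only [hβ, hd, Finset.smul_sum, mul_smul_comm, smul_mul_assoc]
    rw [e, hc0, smul_zero]
  let rep : Q ⧸ R' → Q := Quotient.out
  have hrep : ∀ i, (QuotientGroup.mk (rep i) : Q ⧸ R') = i := fun i => QuotientGroup.out_eq' i
  -- `C(z)` embeds in the maps from the orbits into `B`
  let Ψ1 : endCentralizer (τ zS) →ₗ[F] (T → B) :=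
    LinearMap.pi fun w => LinearMap.codRestrict B ((β (rep w)) ∘ₗ (endCentralizer (τ zS)).subtype)
      fun φ => hβB _ _
  have hΨ1 : Function.Injective Ψ1 := by
    refine injective_of_forall_eq_zero Ψ1 ?_
    intro φ hφ
    have hall : ∀ c : Q, β c φ.1 = 0 := by
      intro c
      obtain ⟨t, w, hw, htw⟩ := hT1 (QuotientGroup.mk c)
      have h0 : β (rep w) φ.1 = 0 := congrArg Subtype.val (congrFun hφ ⟨w, hw⟩)
      have hiter : ∀ k : ℕ, β ((zQ ^ k : MulAut Q) (rep w)) φ.1 = 0 ∧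
          (σ ^ k) w = QuotientGroup.mk ((zQ ^ k : MulAut Q) (rep w)) := by
        intro k
        induction k with
        | zero => exact ⟨h0, (hrep w).symm⟩
        | succ k ih =>
          rw [pow_succ', MulAut.mul_apply, hz' _ φ.2, ih.1, mul_zero, zero_mul, pow_succ',
            Equiv.Perm.mul_apply, ih.2]
          exact ⟨rfl, rfl⟩
      exact hcoset _ _ _ ((hiter t).2.symm.trans htw) (hiter t).1
    have h1 := hkey φ.1
    simp only [hall, mul_zero, Finset.sum_const_zero] at h1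
    refine Subtype.ext ((smul_eq_zero.1 h1.symm).resolve_left ?_)
    rw [Nat.cast_mul]
    exact mul_ne_zero (natCard_cast_ne_zero hqF (h.isP.to_subgroup R')) hQne
  -- the maps from the cosets into `B` embed in `End W`
  let Ψ2 : (Q ⧸ R' → B) →ₗ[F] Module.End F W :=
    ∑ i : Q ⧸ R', LinearMap.mulLeft F (τQ (rep i)) ∘ₗ B.subtype ∘ₗ LinearMap.proj i
  have hΨ2 : Function.Injective Ψ2 := by
    refine injective_of_forall_eq_zero Ψ2 ?_
    intro g hg
    funext i0
    have hg' : ∑ i : Q ⧸ R', τQ (rep i) * (g i : Module.End F W) = 0 := by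
      simpa [Ψ2, LinearMap.sum_apply] using hg
    have h1 : β (rep i0) (∑ i : Q ⧸ R', τQ (rep i) * (g i : Module.End F W)) = 0 := by rw [hg', map_zero]
    have hterm : ∀ i, β (rep i0) (τQ (rep i) * (g i : Module.End F W)) =
        (∑ a : Q, ψ ⁅(a : H), (((rep i0)⁻¹ * rep i : Q) : H)⁆) •
          (τQ ((rep i0)⁻¹ * rep i) * (g i : Module.End F W)) := by
      intro i
      rw [hβ, Finset.sum_smul]
      refine Finset.sum_congr rfl fun a _ => ?_
      rw [mul_assoc _ (τQ (rep i0)⁻¹), ← mul_assoc (τQ (rep i0)⁻¹), ← map_mul, ← mul_assoc (τQ a),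
        hcomm a, smul_mul_assoc, smul_mul_assoc, mul_assoc _ (τQ a), (hB _).1 (g i).2 a,
        mul_assoc, mul_assoc, ← map_mul, mul_inv_cancel, map_one, mul_one]
    rw [map_sum, Finset.sum_congr rfl fun i _ => hterm i, Finset.sum_eq_single i0 (fun i _ hii => ?_)
      (fun hn => absurd (Finset.mem_univ _) hn)] at h1
    · rw [inv_mul_cancel, map_one, one_mul, hsumR 1 (by rw [OneMemClass.coe_one]; exact one_mem R)] at h1
      exact Subtype.ext ((smul_eq_zero.1 h1).resolve_left hQne)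
    · rw [hvanish _ fun hmem => hii ?_, zero_smul]
      exact ((hrep i0).symm.trans ((QuotientGroup.eq.2 (mem_subgroupOf.2 hmem)).trans (hrep i))).symm
  have hWnt : Nontrivial W := Submodule.nontrivial_iff_ne_bot.2 hW
  have : Module.Free F B := Module.Free.of_divisionRing F B
  have : Nontrivial B := ⟨⟨(⟨1, (hB _).2 fun c => by simp⟩ : B), 0,
    fun e => one_ne_zero (congrArg Subtype.val e)⟩⟩
  have hBpos : 0 < finrank F B := by
    by_contra h0
    have : Module.Finite F B := inferInstance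
    exact absurd (Module.finrank_zero_iff.1 (Nat.eq_zero_of_not_pos h0)) (not_subsingleton B)
  have h2 := LinearMap.finrank_le_finrank_of_injective hΨ2
  have h1 := LinearMap.finrank_le_finrank_of_injective hΨ1
  rw [finrank_pi_fintype, Finset.sum_const, Finset.card_univ, smul_eq_mul, finrank_linearMap] at h2
  rw [finrank_pi_fintype, Finset.sum_const, Finset.card_univ, smul_eq_mul, Fintype.card_coe] at h1
  have hprod : ((L.map fun a => τ zS - a • (1 : Module.End F W))).prod = 0 := by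
    refine LinearMap.ext fun v => Subtype.ext ?_
    rw [LinearMap.zero_apply, Submodule.coe_zero, ← hL v v.2]
    clear hL h1 h2
    induction L generalizing v with
    | nil => rfl
    | cons a L ih =>
      simp only [List.map_cons, List.prod_cons, Module.End.mul_apply, LinearMap.sub_apply,
        LinearMap.smul_apply, Module.End.one_apply, Submodule.coe_sub, Submodule.coe_smul, τ_apply]
      rw [ih]
  have h3 := sq_le_mul_finrank_endCentralizer_of_prod L W (τ zS) hprod
  have h4 : Fintype.card (Q ⧸ R') ≤ L.length * T.card := by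
    refine Nat.le_of_mul_le_mul_right ?_ hBpos
    calc Fintype.card (Q ⧸ R') * finrank F B ≤ finrank F W * finrank F W := h2
      _ = finrank F W ^ 2 := (sq _).symm
      _ ≤ L.length * finrank F (endCentralizer (τ zS)) := h3
      _ ≤ L.length * (T.card * finrank F B) := Nat.mul_le_mul_left _ h1
      _ = L.length * T.card * finrank F B := (mul_assoc _ _ _).symm
  rw [← Nat.card_eq_fintype_card, hMcard, hm] at h4
  rw [hMcard, hm] at hT2
  obtain ⟨t, ht⟩ := Nat.exists_eq_add_of_lt hT3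
  have hTP : T.card * P = q ^ (2 * m) - 1 + P := by
    rw [← hT2, ht, zero_add, Nat.add_sub_cancel, add_mul, one_mul]
  calc q ^ (2 * m) * P ≤ L.length * T.card * P := Nat.mul_le_mul_right _ h4
    _ = L.length * (q ^ (2 * m) - 1 + P) := by rw [mul_assoc, hTP]
    _ = L.length * (P - 1 + q ^ (2 * m)) := by
      have := Nat.one_le_pow (2 * m) q hq.out.pos
      have := Nat.one_le_pow (f + 1) p hp.out.pos
      congr 1
      omega

end Cfsg.Lib.Local
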