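import Mathlib.LinearAlgebra.Dimension.LinearMap
import Mathlib.LinearAlgebra.FiniteDimensional.Basic
import Mathlib.LinearAlgebra.FiniteDimensional.Lemmas
import Mathlib.LinearAlgebra.Dimension.Constructions
import Mathlib.RingTheory.Finiteness.Basic
import Mathlib.LinearAlgebra.FreeModule.Finite.Matrix
import Mathlib.Algebra.Field.Basic

/-!
The centralizer of a nilpotent endomorphism with `f ^ r = 0` has dimension at least `D² / r`.
-/

set_option autoImplicit false

namespace Cfsg.Lib.Local

open Module

variable {F : Type*} [Field F]

/-- The endomorphisms commuting with `f`. -/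
noncomputable def endCentralizer {V : Type*} [AddCommGroup V] [Module F V] (f : Module.End F V) :
    Submodule F (Module.End F V) :=
  LinearMap.ker (LinearMap.mulLeft F f - LinearMap.mulRight F f)

theorem mem_endCentralizer {V : Type*} [AddCommGroup V] [Module F V] (f φ : Module.End F V) :
    φ ∈ endCentralizer f ↔ f * φ = φ * f := by
  simp [endCentralizer, LinearMap.mem_ker, sub_eq_zero]

theorem mem_endCentralizer_sub_smul {V : Type*} [AddCommGroup V] [Module F V] (f φ : Module.End F V) (a : F) :
    φ ∈ endCentralizer (f - a • (1 : Module.End F V)) ↔ f * φ = φ * f := by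
  rw [mem_endCentralizer, sub_mul, mul_sub, smul_mul_assoc, mul_smul_comm, one_mul, mul_one, sub_left_inj]

theorem sq_le_mul_finrank_endCentralizer_of_prod : ∀ (l : List F) (V : Type*) [AddCommGroup V] [Module F V]
    [FiniteDimensional F V] (f : Module.End F V), (l.map fun a => f - a • (1 : Module.End F V)).prod = 0 →
      finrank F V ^ 2 ≤ l.length * finrank F (endCentralizer f) := by
  intro l
  induction l with
  | nil =>
    intro V _ _ _ f hf
    simp only [List.map_nil, List.prod_nil] at hf
    have : Subsingleton V := ⟨fun a b => by
      have h := LinearMap.congr_fun hf (a - b)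
      simp only [Module.End.one_apply, LinearMap.zero_apply, sub_eq_zero] at h
      exact h⟩
    simp [finrank_zero_of_subsingleton]
  | cons a l ih =>
    intro V _ _ _ f0 hf
    have hC : endCentralizer f0 = endCentralizer (f0 - a • (1 : Module.End F V)) := by
      ext φ
      rw [mem_endCentralizer_sub_smul, mem_endCentralizer]
    rw [hC, List.length_cons]
    set r := l.length with hr0
    set f := f0 - a • (1 : Module.End F V) with hfdef
    set I := LinearMap.range f with hI
    have hfI : ∀ v ∈ I, f v ∈ I := fun v _ => LinearMap.mem_range_self f v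
    let g : Module.End F I := f.restrict hfI
    have hcomm : ∀ l' : List F, Commute f (l'.map fun b => f0 - b • (1 : Module.End F V)).prod := by
      intro l'
      induction l' with
      | nil => simp
      | cons b l' ihc =>
        rw [List.map_cons, List.prod_cons]
        refine Commute.mul_right ?_ ihc
        rw [hfdef]
        exact ((Commute.refl f0).sub_right ((Commute.one_right f0).smul_right b)).sub_left
          (((Commute.one_left _).smul_left a))
    let g0 : Module.End F I := f0.restrict (p := I) (q := I) fun v hv => by
      obtain ⟨w, rfl⟩ := hv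
      refine ⟨f0 w, ?_⟩
      simp [hfdef, map_sub]
    have hg : (l.map fun b => g0 - b • (1 : Module.End F I)).prod = 0 := by
      refine LinearMap.ext fun v => Subtype.ext ?_
      have h1 : ∀ (l' : List F) (u : I), (((l'.map fun b => g0 - b • (1 : Module.End F I)).prod u : I) : V) =
          (l'.map fun b => f0 - b • (1 : Module.End F V)).prod (u : V) := by
        intro l'
        induction l' with
        | nil => intro u; simp
        | cons b l' ihm =>
          intro u
          simp only [List.map_cons, List.prod_cons, Module.End.mul_apply, LinearMap.sub_apply,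
            LinearMap.smul_apply, Module.End.one_apply, Submodule.coe_sub, Submodule.coe_smul, ← ihm]
          rfl
      obtain ⟨w, hw⟩ := v.2
      rw [h1, ← hw, ← Module.End.mul_apply, ← (hcomm l).eq]
      simp only [List.map_cons, List.prod_cons] at hf
      rw [hf]
      simp
    have h1' := ih I g0 hg
    have hgC : endCentralizer g0 = endCentralizer g := by
      ext φ
      rw [show g = g0 - a • (1 : Module.End F I) from LinearMap.ext fun v => Subtype.ext (by
        simp [g, g0, hfdef]), mem_endCentralizer_sub_smul, mem_endCentralizer]
    have h1 : finrank F I ^ 2 ≤ r * finrank F (endCentralizer g) := hgC ▸ h1'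
    -- restriction of commuting maps
    let res : endCentralizer f →ₗ[F] Module.End F I :=
      { toFun := fun φ => φ.1.restrict (p := I) (q := I) (fun v hv => by
          obtain ⟨w, rfl⟩ := hv
          exact ⟨φ.1 w, LinearMap.congr_fun ((mem_endCentralizer f φ.1).1 φ.2) w⟩)
        map_add' := fun φ ψ => LinearMap.ext fun v => Subtype.ext rfl
        map_smul' := fun c φ => LinearMap.ext fun v => Subtype.ext rfl }
    obtain ⟨s, hs⟩ := LinearMap.exists_rightInverse_of_surjective (f.rangeRestrict)
      (LinearMap.range_eq_top.2 f.surjective_rangeRestrict)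
    obtain ⟨π, hπ⟩ := I.subtype.exists_leftInverse_of_injective (Submodule.ker_subtype I)
    have hrange : endCentralizer g ≤ LinearMap.range res := by
      intro ψ hψ
      have hψ' : ∀ u : I, f (ψ u : V) = ψ ⟨f (u : V), hfI _ u.2⟩ := fun u =>
        congrArg Subtype.val (LinearMap.congr_fun ((mem_endCentralizer g ψ).1 hψ) u)
      have hs' : ∀ u : I, f (s u) = (u : V) := fun u => congrArg Subtype.val (LinearMap.congr_fun hs u)
      let A : Module.End F V := s ∘ₗ ψ ∘ₗ f.rangeRestrict
      let φ : Module.End F V := A + (I.subtype ∘ₗ ψ - A ∘ₗ I.subtype) ∘ₗ π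
      have hA : ∀ v, f (A v) = ψ ⟨f v, LinearMap.mem_range_self f v⟩ := fun v => hs' _
      have hφI : ∀ u : I, φ (u : V) = ψ u := fun u => by
        have hu : π (u : V) = u := LinearMap.congr_fun hπ u
        show A (u : V) + ((ψ (π (u : V)) : V) - A (π (u : V) : V)) = _
        rw [hu, add_sub_cancel]
      have hφ : f * φ = φ * f := by
        refine LinearMap.ext fun v => ?_
        show f (φ v) = φ (f v)
        rw [show φ (f v) = _ from hφI ⟨f v, LinearMap.mem_range_self f v⟩]
        show f (A v + ((ψ (π v) : V) - A (π v : V))) = _
        rw [map_add, map_sub, hA, hA, hψ' (π v), sub_self, add_zero]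
      exact ⟨⟨φ, (mem_endCentralizer f φ).2 hφ⟩, LinearMap.ext fun u => Subtype.ext (hφI u)⟩
    -- maps killing the range and landing in the kernel
    set K := LinearMap.ker f with hK
    let J : (V ⧸ I →ₗ[F] K) →ₗ[F] LinearMap.ker res :=
      { toFun := fun η =>
          ⟨⟨K.subtype ∘ₗ η ∘ₗ I.mkQ, (mem_endCentralizer f _).2 (LinearMap.ext fun v => by
            show f (η (I.mkQ v) : V) = (η (I.mkQ (f v)) : V)
            rw [show I.mkQ (f v) = 0 from (Submodule.Quotient.mk_eq_zero I).2 (LinearMap.mem_range_self f v),
              map_zero]
            exact (η (I.mkQ v)).2)⟩, LinearMap.mem_ker.2 (LinearMap.ext fun u => Subtype.ext (by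
            show (η (I.mkQ (u : V)) : V) = 0
            rw [show I.mkQ (u : V) = 0 from (Submodule.Quotient.mk_eq_zero I).2 u.2, map_zero]
            rfl))⟩
        map_add' := fun η θ => Subtype.ext (Subtype.ext (LinearMap.ext fun v => rfl))
        map_smul' := fun c η => Subtype.ext (Subtype.ext (LinearMap.ext fun v => rfl)) }
    have hJ : Function.Injective J := by
      intro η θ h
      refine LinearMap.ext fun x => ?_
      obtain ⟨v, rfl⟩ := I.mkQ_surjective x
      exact Subtype.ext (LinearMap.congr_fun (congrArg (fun w : LinearMap.ker res => (w.1.1 : Module.End F V)) h) v)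
    have h2 := LinearMap.finrank_le_finrank_of_injective hJ
    have h3 : finrank F (V ⧸ I) + finrank F I = finrank F V := Submodule.finrank_quotient_add_finrank I
    have h4 : finrank F I + finrank F K = finrank F V := LinearMap.finrank_range_add_finrank_ker f
    rw [Module.finrank_linearMap] at h2
    have h5 := LinearMap.finrank_range_add_finrank_ker res
    have h6 := Submodule.finrank_mono hrange
    have h7 : finrank F (V ⧸ I) = finrank F K := by omega
    rw [h7] at h2
    rw [← h4]
    set k := finrank F K
    set i := finrank F I
    set c := finrank F (endCentralizer g)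
    have h8 : c + k * k ≤ finrank F (endCentralizer f) := by omega
    calc (i + k) ^ 2 ≤ (r + 1) * (c + k * k) := by
          rcases Nat.eq_zero_or_pos r with h0 | hr
          · rw [h0, zero_mul] at h1
            have hi : i = 0 := pow_eq_zero_iff two_ne_zero |>.1 (Nat.le_zero.1 h1)
            rw [h0, hi]; ring_nf; omega
          · zify at h1 hr ⊢
            have key : (r : ℤ) * ((r + 1) * (c + k * k) - (i + k) ^ 2) ≥ 0 := by
              nlinarith [sq_nonneg ((i : ℤ) - r * k), mul_nonneg (Int.natCast_nonneg r) (Int.natCast_nonneg c)]
            nlinarith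
      _ ≤ (r + 1) * finrank F (endCentralizer f) := Nat.mul_le_mul_left _ h8

theorem sq_le_mul_finrank_endCentralizer (r : ℕ) (V : Type*) [AddCommGroup V] [Module F V]
    [FiniteDimensional F V] (f : Module.End F V) (hf : f ^ r = 0) :
      finrank F V ^ 2 ≤ r * finrank F (endCentralizer f) := by
  simpa using sq_le_mul_finrank_endCentralizer_of_prod (List.replicate r (0 : F)) V f (by simpa using hf)

end Cfsg.Lib.Local
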