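import Cfsg.Agent.Lib.Local.HallHigmanAbelian
import Cfsg.Agent.Lib.Local.HallHigmanCentralizer
import Mathlib.Algebra.Polynomial.Basic
import Mathlib.RingTheory.Polynomial.Basic
import Mathlib.Algebra.CharP.Lemmas

/-!
The critical configuration of Hall–Higman Theorem B, without splitting fields: a `q`-group moved by the
element of order `p` forces `|Q/R| P ≤ k (P - 1 + |Q/R|)` on a component.
-/

set_option autoImplicit false

namespace Cfsg.Lib.Local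

open Subgroup
open scoped commutatorElement

section Group

variable {H : Type*} [Group H] [Finite H]

theorem conj_mem_frattini_map {Q : Subgroup H} {x : H} (hx : x ∈ normalizer (Q : Set H)) {a : H}
    (ha : a ∈ (frattini Q).map Q.subtype) : x * a * x⁻¹ ∈ (frattini Q).map Q.subtype := by
  obtain ⟨b, hb, rfl⟩ := ha
  let σ : MulAut Q :=
    { toFun := fun z => ⟨x * z * x⁻¹, (mem_normalizer_iff.1 hx _).1 z.2⟩
      invFun := fun z => ⟨x⁻¹ * z * x, by simpa using (mem_normalizer_iff.1 (inv_mem hx) _).1 z.2⟩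
      left_inv := fun z => Subtype.ext (by simp [mul_assoc])
      right_inv := fun z => Subtype.ext (by simp [mul_assoc])
      map_mul' := fun z z' => Subtype.ext (by simp [mul_assoc]) }
  exact ⟨σ b, (characteristic_iff_map_eq.1 frattini_characteristic σ).le ⟨b, hb, rfl⟩, rfl⟩

theorem conj_mem_commutator {A B : Subgroup H} {x : H} (hA : ∀ a ∈ A, x * a * x⁻¹ ∈ A)
    (hB : ∀ b ∈ B, x * b * x⁻¹ ∈ B) {u : H} (hu : u ∈ ⁅A, B⁆) : x * u * x⁻¹ ∈ ⁅A, B⁆ := by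
  have h : (⁅A, B⁆).map (MulAut.conj x).toMonoidHom ≤ ⁅A, B⁆ := by
    rw [map_commutator]
    refine commutator_mono ?_ ?_
    · rintro _ ⟨a, ha, rfl⟩; exact hA a ha
    · rintro _ ⟨b, hb, rfl⟩; exact hB b hb
  exact h ⟨u, hu, rfl⟩

/-- A `q`-group moved regularly by the element `y`, central in `X`: the properties of a minimal `X`-invariant
`q`-group moved by `y`. -/
structure MinimalMoved (Q X : Subgroup H) (y : H) (q : ℕ) : Prop where
  isP : IsPGroup q Q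
  inv : ∀ g ∈ X, ∀ a ∈ Q, g * a * g⁻¹ ∈ Q
  moved : ∃ a ∈ Q, y * a * y⁻¹ ≠ a
  commutator_eq : ⁅Q, zpowers y⁆ = Q
  frattini_fixed : ∀ a ∈ (frattini Q).map Q.subtype, y * a * y⁻¹ = a
  center_fixed' : (∃ a ∈ Q, ∃ b ∈ Q, a * b ≠ b * a) →
    ∀ a ∈ Q, (∀ b ∈ Q, a * b = b * a) → y * a * y⁻¹ = a
  ymem : y ∈ X
  ycen : ∀ g ∈ X, g * y = y * g
  cop : (orderOf y).Coprime q

variable {Q X : Subgroup H} {y : H} {q : ℕ}

theorem mem_normalizer_of_conj_mem {g : H} (hg : ∀ a ∈ Q, g * a * g⁻¹ ∈ Q) :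
    g ∈ normalizer (Q : Set H) := by
  refine mem_normalizer_iff_map_conj_eq.2 (eq_of_le_of_card_ge ?_ ?_)
  · rintro _ ⟨a, ha, rfl⟩; exact hg a ha
  · exact (card_map_of_injective (MulAut.conj g).injective).ge

/-- A minimal moved invariant subgroup is regularly moved. -/
theorem exists_minimalMoved' [hq : Fact q.Prime] (hQ : IsPGroup q Q)
    (hinv : ∀ g ∈ X, ∀ a ∈ Q, g * a * g⁻¹ ∈ Q) (hne : ∃ a ∈ Q, y * a * y⁻¹ ≠ a) (hy : y ∈ X)
    (hcen : ∀ g ∈ X, g * y = y * g) (hcop : (orderOf y).Coprime q) :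
    ∃ Q0 ≤ Q, MinimalMoved Q0 X y q ∧
      ∀ R : Subgroup H, R ≤ Q0 → R ≠ Q0 → (∀ g ∈ X, ∀ a ∈ R, g * a * g⁻¹ ∈ R) → ∀ a ∈ R, y * a * y⁻¹ = a := by
  obtain ⟨Q0, ⟨h1, h2, h3⟩, hmin'⟩ := Set.Finite.exists_minimal
    (s := {R : Subgroup H | R ≤ Q ∧ (∀ g ∈ X, ∀ a ∈ R, g * a * g⁻¹ ∈ R) ∧ ∃ a ∈ R, y * a * y⁻¹ ≠ a})
    (Set.toFinite _) ⟨Q, le_rfl, hinv, hne⟩
  have hP : IsPGroup q Q0 := hQ.to_le h1
  have hmin : ∀ R : Subgroup H, R ≤ Q0 → R ≠ Q0 → (∀ g ∈ X, ∀ a ∈ R, g * a * g⁻¹ ∈ R) →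
      ∀ a ∈ R, y * a * y⁻¹ = a := fun R hR hRne hRx a ha => by
    by_contra hne'
    exact hRne (le_antisymm hR (hmin' ⟨hR.trans h1, hRx, a, ha, hne'⟩ hR))
  have hzle : zpowers y ≤ normalizer (Q0 : Set H) := zpowers_le.2 (mem_normalizer_of_conj_mem (h2 y hy))
  refine ⟨Q0, h1, ⟨hP, h2, h3, ?_, ?_, fun hna a ha hac => ?_, hy, hcen, hcop⟩, hmin⟩
  · have hle : ⁅Q0, zpowers y⁆ ≤ Q0 := Coprime.commutator_le_of_le_normalizer hzle
    by_contra hne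
    have hinv' : ∀ g ∈ X, ∀ a ∈ ⁅Q0, zpowers y⁆, g * a * g⁻¹ ∈ ⁅Q0, zpowers y⁆ := fun g hg a ha =>
      conj_mem_commutator (h2 g hg) (fun b hb => by
        obtain ⟨k, hk⟩ := mem_zpowers_iff.1 hb
        exact mem_zpowers_iff.2 ⟨k, by rw [← hk, ← conj_zpow, mul_inv_eq_iff_eq_mul.2 (hcen g hg)]⟩) ha
    have hfix := hmin _ hle hne hinv'
    have h0 : ⁅⁅Q0, zpowers y⁆, zpowers y⁆ = ⊥ := by
      rw [commutator_eq_bot_iff_le_centralizer]
      intro a ha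
      refine mem_centralizer_iff.2 fun b hb => ?_
      obtain ⟨k, hk⟩ := mem_zpowers_iff.1 hb
      rw [← hk]
      exact ((show Commute y a from mul_inv_eq_iff_eq_mul.1 (hfix a ha)).zpow_left k).eq
    have hcop' : (Nat.card (zpowers y)).Coprime (Nat.card Q0) := by
      obtain ⟨e, he⟩ := IsPGroup.iff_card.1 hP
      rw [Nat.card_zpowers, he]
      exact hcop.pow_right e
    have e1 := Coprime.commutator_eq_bot_of_commutator_commutator_eq_bot hzle hcop'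
      (Or.inr (have := hP.isNilpotent; IsNilpotent.to_isSolvable)) h0
    obtain ⟨a, ha, hne'⟩ := h3
    refine hne' ?_
    have e2 := (commutator_eq_bot_iff_le_centralizer.1 e1) ha
    rw [mem_centralizer_iff.1 e2 y (mem_zpowers y), mul_inv_cancel_right]
  · refine hmin _ (map_subtype_le _) (fun e => ?_) fun g hg a ha =>
      conj_mem_frattini_map (mem_normalizer_of_conj_mem (h2 g hg)) ha
    obtain ⟨a, ha, hne⟩ := h3
    have hnt : Nontrivial Q0 := ⟨⟨⟨a, ha⟩, 1, fun e1 => hne (by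
      rw [show a = 1 from congrArg Subtype.val e1]; simp)⟩⟩
    refine PGroup.frattini_ne_top (G := Q0) (eq_top_iff.2 fun b _ => ?_)
    obtain ⟨c, hc, hcb⟩ := e.ge b.2
    rwa [← show c = b from Subtype.ext hcb]
  · obtain ⟨u, hu, w, hw, huw⟩ := hna
    refine hmin (Q0 ⊓ centralizer (Q0 : Set H)) inf_le_left (fun e => huw ?_) (fun g hg c hc => ?_) a
      (mem_inf.2 ⟨ha, mem_centralizer_iff.2 fun b hb => (hac b hb).symm⟩)
    · exact (mem_centralizer_iff.1 (e.ge hu).2 w hw).symm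
    · obtain ⟨hc1, hc2⟩ := mem_inf.1 hc
      refine mem_inf.2 ⟨h2 g hg c hc1, mem_centralizer_iff.2 fun b hb => ?_⟩
      have hb' := h2 g⁻¹ (inv_mem hg) b hb
      rw [inv_inv] at hb'
      have e' := congrArg (fun z => g * z * g⁻¹) (mem_centralizer_iff.1 hc2 _ hb')
      simpa [mul_assoc] using e'

theorem exists_minimalMoved [hq : Fact q.Prime] (hQ : IsPGroup q Q)
    (hinv : ∀ g ∈ X, ∀ a ∈ Q, g * a * g⁻¹ ∈ Q) (hne : ∃ a ∈ Q, y * a * y⁻¹ ≠ a) (hy : y ∈ X)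
    (hcen : ∀ g ∈ X, g * y = y * g) (hcop : (orderOf y).Coprime q) :
    ∃ Q0 ≤ Q, MinimalMoved Q0 X y q :=
  (exists_minimalMoved' hQ hinv hne hy hcen hcop).imp fun _ h => ⟨h.1, h.2.1⟩

variable [hq : Fact q.Prime]

theorem MinimalMoved.mem_normalizer (h : MinimalMoved Q X y q) {g : H} (hg : g ∈ X) :
    g ∈ normalizer (Q : Set H) := mem_normalizer_of_conj_mem (h.inv g hg)

theorem MinimalMoved.zpowers_le_normalizer (h : MinimalMoved Q X y q) :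
    zpowers y ≤ normalizer (Q : Set H) :=
  zpowers_le.2 (h.mem_normalizer h.ymem)

/-- Invariant proper subgroups whose commutator with `Q` is centralized are central in `Q`. -/
theorem MinimalMoved.central_of_fixed (h : MinimalMoved Q X y q) {R : Subgroup H}
    (hR : ∀ a ∈ R, y * a * y⁻¹ = a) (hRQ : ∀ u ∈ ⁅R, Q⁆, y * u * y⁻¹ = u) :
    ∀ a ∈ R, ∀ b ∈ Q, a * b = b * a := by
  have hc : ∀ S : Subgroup H, (∀ a ∈ S, y * a * y⁻¹ = a) → ⁅zpowers y, S⁆ = ⊥ := by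
    intro S hS
    rw [commutator_eq_bot_iff_le_centralizer]
    intro b hb
    obtain ⟨k, hk⟩ := mem_zpowers_iff.1 hb
    refine mem_centralizer_iff.2 fun a ha => ?_
    rw [← hk]
    exact ((show Commute y a from mul_inv_eq_iff_eq_mul.1 (hS a ha)).zpow_left k).eq.symm
  have h1 : ⁅⁅Q, zpowers y⁆, R⁆ = ⊥ := by
    refine commutator_commutator_eq_bot_of_rotate ?_ ?_
    · rw [hc R hR, commutator_bot_left]
    · rw [commutator_comm, hc _ hRQ]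
  rw [h.commutator_eq, commutator_eq_bot_iff_le_centralizer] at h1
  intro a ha b hb
  exact mem_centralizer_iff.1 (h1 hb) a ha

theorem MinimalMoved.frattini_central (h : MinimalMoved Q X y q) :
    ∀ a ∈ (frattini Q).map Q.subtype, ∀ b ∈ Q, a * b = b * a := by
  refine h.central_of_fixed h.frattini_fixed fun u hu => h.frattini_fixed u ?_
  refine (commutator_le.2 fun a ha b hb => ?_) hu
  obtain ⟨a', ha', rfl⟩ := ha
  refine ⟨⁅a', (⟨b, hb⟩ : Q)⁆, ?_, rfl⟩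
  exact PGroup.commutator_le_frattini h.isP (Subgroup.commutator_mem_commutator (mem_top _) (mem_top _))

theorem MinimalMoved.commutator_mem_frattini (h : MinimalMoved Q X y q) {a b : H} (ha : a ∈ Q) (hb : b ∈ Q) :
    ⁅a, b⁆ ∈ (frattini Q).map Q.subtype :=
  ⟨⁅(⟨a, ha⟩ : Q), ⟨b, hb⟩⁆,
    PGroup.commutator_le_frattini h.isP (Subgroup.commutator_mem_commutator (mem_top _) (mem_top _)), rfl⟩

theorem MinimalMoved.fixed_central (h : MinimalMoved Q X y q) {a : H} (ha : a ∈ Q)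
    (hfix : y * a * y⁻¹ = a) : ∀ b ∈ Q, a * b = b * a := by
  refine h.central_of_fixed (R := Q ⊓ centralizer ({y} : Set H)) ?_ ?_ a
    (mem_inf.2 ⟨ha, mem_centralizer_singleton_iff.2 (mul_inv_eq_iff_eq_mul.1 hfix).symm⟩)
  · intro c hc
    rw [mul_inv_eq_iff_eq_mul]
    exact (mem_centralizer_singleton_iff.1 (mem_inf.1 hc).2).symm
  · intro u hu
    exact h.frattini_fixed u ((commutator_le.2 fun a ha b hb =>
      h.commutator_mem_frattini (mem_inf.1 ha).1 hb) hu)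

theorem MinimalMoved.commutator_mul_left (h : MinimalMoved Q X y q) {a b c : H} (ha : a ∈ Q) (hb : b ∈ Q)
    (hc : c ∈ Q) : ⁅a * b, c⁆ = ⁅a, c⁆ * ⁅b, c⁆ := by
  have h1 := h.frattini_central _ (h.commutator_mem_frattini hb hc) a ha
  have h2 := h.frattini_central _ (h.commutator_mem_frattini hb hc) _ (show ⁅a, c⁆ ∈ Q from
    map_subtype_le _ (h.commutator_mem_frattini ha hc))
  rw [show ⁅a * b, c⁆ = a * ⁅b, c⁆ * a⁻¹ * ⁅a, c⁆ by simp only [commutatorElement_def]; group,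
    ← h1, mul_inv_cancel_right]
  exact h2

theorem MinimalMoved.commutator_pow (h : MinimalMoved Q X y q) {a c : H} (ha : a ∈ Q) (hc : c ∈ Q) :
    ∀ n : ℕ, ⁅a ^ n, c⁆ = ⁅a, c⁆ ^ n := by
  intro n
  induction n with
  | zero => simp
  | succ n ih => rw [pow_succ, h.commutator_mul_left (pow_mem ha n) ha hc, ih, pow_succ]

theorem MinimalMoved.commutator_pow_eq_one (h : MinimalMoved Q X y q) {a c : H} (ha : a ∈ Q) (hc : c ∈ Q) :
    ⁅a, c⁆ ^ q = 1 := by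
  rw [← h.commutator_pow ha hc, commutatorElement_eq_one_iff_mul_comm]
  exact h.frattini_central _ ⟨(⟨a, ha⟩ : Q) ^ q, PGroup.pow_mem_frattini h.isP _, rfl⟩ c hc

/-- The radical of a commutator pairing has square index. -/
theorem exists_relIndex_eq_sq (K : Subgroup H) (Z : Subgroup H) (hKn : ∀ z ∈ Z, ∀ k ∈ K, z * k = k * z)
    (hidx : K.relIndex Z = q) : ∀ (S : Subgroup H),
    (∀ a ∈ S, ∀ b ∈ S, ⁅a, b⁆ ∈ Z) → (∀ a ∈ S, ∀ b ∈ S, ∀ c ∈ S, ⁅a * b, c⁆ = ⁅a, c⁆ * ⁅b, c⁆) →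
    ∀ R : Subgroup H, R ≤ S → (∀ a ∈ S, a ∈ R ↔ ∀ c ∈ S, ⁅a, c⁆ ∈ K) →
      ∃ m, R.relIndex S = q ^ (2 * m) := by
  intro S
  induction S using WellFoundedLT.induction with
  | _ S ih =>
  intro hZ hbil R hRS hR
  by_cases hall : ∀ a ∈ S, ∀ c ∈ S, ⁅a, c⁆ ∈ K
  · exact ⟨0, by rw [Nat.mul_zero, pow_zero, relIndex_eq_one]; exact fun a ha => (hR a ha).2 (hall a ha)⟩
  push Not at hall
  obtain ⟨a, ha, b, hb, hab⟩ := hall
  -- the quotient `Z / K`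
  have hnorm : (K.subgroupOf Z).Normal := ⟨fun k hk z => by
    rw [mem_subgroupOf] at hk ⊢
    rw [Subgroup.coe_mul, Subgroup.coe_mul, hKn z z.2 _ hk, InvMemClass.coe_inv, mul_inv_cancel_right]
    exact hk⟩
  let f : S → S → Z ⧸ K.subgroupOf Z := fun u v => QuotientGroup.mk ⟨⁅(u : H), (v : H)⁆, hZ u u.2 v v.2⟩
  have hf1 : ∀ u v, f u v = 1 ↔ ⁅(u : H), (v : H)⁆ ∈ K := fun u v => QuotientGroup.eq_one_iff _
  let Φ : S →* (Z ⧸ K.subgroupOf Z) × (Z ⧸ K.subgroupOf Z) :=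
    MonoidHom.mk' (fun u => (f u ⟨a, ha⟩, f u ⟨b, hb⟩)) fun u v => by
      refine Prod.ext ?_ ?_ <;>
      · show QuotientGroup.mk _ = QuotientGroup.mk _ * QuotientGroup.mk _
        rw [← QuotientGroup.mk_mul]
        exact congrArg QuotientGroup.mk (Subtype.ext (hbil u u.2 v v.2 _ (by assumption)))
  have hprime : (Nat.card (Z ⧸ K.subgroupOf Z)).Prime := by
    rw [← index_eq_card, show (K.subgroupOf Z).index = q from hidx]; exact hq.out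
  have : Fact (Nat.card (Z ⧸ K.subgroupOf Z)).Prime := ⟨hprime⟩
  have hgen : ∀ g : Z ⧸ K.subgroupOf Z, g ≠ 1 → ∀ t, ∃ n : ℕ, g ^ n = t := by
    intro g hg t
    exact (mem_powers_iff_mem_zpowers).2 (mem_zpowers_of_prime_card (G := Z ⧸ K.subgroupOf Z) rfl hg)
  have hab' : f ⟨a, ha⟩ ⟨b, hb⟩ ≠ 1 := fun e => hab ((hf1 _ _).1 e)
  have hba' : f ⟨b, hb⟩ ⟨a, ha⟩ ≠ 1 := fun e => hab (by
    have h1 := (hf1 _ _).1 e
    rw [← commutatorElement_inv]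
    exact inv_mem h1)
  have hself : ∀ u : S, f u u = 1 := fun u => (hf1 u u).2 (by simp [commutatorElement_self])
  have hsurj : Function.Surjective Φ := by
    rintro ⟨s, t⟩
    obtain ⟨i, hi⟩ := hgen _ hba' s
    obtain ⟨j, hj⟩ := hgen _ hab' t
    refine ⟨(⟨b, hb⟩ : S) ^ i * (⟨a, ha⟩ : S) ^ j, ?_⟩
    rw [map_mul, map_pow, map_pow]
    show (f ⟨b, hb⟩ ⟨a, ha⟩, f ⟨b, hb⟩ ⟨b, hb⟩) ^ i * (f ⟨a, ha⟩ ⟨a, ha⟩, f ⟨a, ha⟩ ⟨b, hb⟩) ^ j = _
    rw [hself, hself, Prod.pow_mk, Prod.pow_mk, Prod.mk_mul_mk, one_pow, one_pow, mul_one, one_mul, hi, hj]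
  set S' := Φ.ker.map S.subtype with hS'
  have hS'S : S' ≤ S := map_subtype_le _
  have hS'mem : ∀ u, u ∈ S' ↔ u ∈ S ∧ ⁅u, a⁆ ∈ K ∧ ⁅u, b⁆ ∈ K := by
    intro u
    constructor
    · rintro ⟨v, hv, rfl⟩
      exact ⟨v.2, (hf1 v ⟨a, ha⟩).1 (congrArg Prod.fst hv), (hf1 v ⟨b, hb⟩).1 (congrArg Prod.snd hv)⟩
    · rintro ⟨hu, h1, h2⟩
      exact ⟨⟨u, hu⟩, Prod.ext ((hf1 ⟨u, hu⟩ ⟨a, ha⟩).2 h1) ((hf1 ⟨u, hu⟩ ⟨b, hb⟩).2 h2), rfl⟩
  have hlt : S' < S := lt_of_le_of_ne hS'S fun e => hab ((hS'mem a).1 (e ▸ ha)).2.2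
  have hRS' : R ≤ S' := fun u hu => (hS'mem u).2
    ⟨hRS hu, (hR u (hRS hu)).1 hu a ha, (hR u (hRS hu)).1 hu b hb⟩
  have hR' : ∀ u ∈ S', u ∈ R ↔ ∀ c ∈ S', ⁅u, c⁆ ∈ K := by
    intro u hu
    refine ⟨fun h c hc => (hR u (hS'S hu)).1 h c (hS'S hc), fun h => (hR u (hS'S hu)).2 fun c hc => ?_⟩
    obtain ⟨⟨s, t⟩, hst⟩ : ∃ z, Φ ⟨c, hc⟩ = z := ⟨_, rfl⟩
    obtain ⟨i, hi⟩ := hgen _ hba' s
    obtain ⟨j, hj⟩ := hgen _ hab' t
    set w : S := (⟨b, hb⟩ : S) ^ i * (⟨a, ha⟩ : S) ^ j with hw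
    have hwΦ : Φ w = (s, t) := by
      rw [hw, map_mul, map_pow, map_pow]
      show (f ⟨b, hb⟩ ⟨a, ha⟩, f ⟨b, hb⟩ ⟨b, hb⟩) ^ i * (f ⟨a, ha⟩ ⟨a, ha⟩, f ⟨a, ha⟩ ⟨b, hb⟩) ^ j = _
      rw [hself, hself, Prod.pow_mk, Prod.pow_mk, Prod.mk_mul_mk, one_pow, one_pow, mul_one, one_mul, hi, hj]
    have hd : (w⁻¹ * ⟨c, hc⟩ : S) ∈ Φ.ker := by
      rw [MonoidHom.mem_ker, map_mul, map_inv, hwΦ, hst, inv_mul_cancel]
    have hd' : ((w⁻¹ * ⟨c, hc⟩ : S) : H) ∈ S' := ⟨_, hd, rfl⟩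
    -- the elements pairing trivially with `u`
    let ψ : S →* Z ⧸ K.subgroupOf Z := MonoidHom.mk' (fun v => f v ⟨u, hS'S hu⟩) fun v v' => by
      show QuotientGroup.mk _ = QuotientGroup.mk _ * QuotientGroup.mk _
      rw [← QuotientGroup.mk_mul]
      exact congrArg QuotientGroup.mk (Subtype.ext (hbil v v.2 v' v'.2 u (hS'S hu)))
    have hinvK : ∀ p1 p2 : H, ⁅p1, p2⁆ ∈ K → ⁅p2, p1⁆ ∈ K := fun p1 p2 h => by
      rw [← commutatorElement_inv]; exact inv_mem h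
    have ha' : ψ ⟨a, ha⟩ = 1 := (hf1 _ _).2 (hinvK _ _ ((hS'mem u).1 hu).2.1)
    have hb' : ψ ⟨b, hb⟩ = 1 := (hf1 _ _).2 (hinvK _ _ ((hS'mem u).1 hu).2.2)
    have hd1 : ψ (w⁻¹ * ⟨c, hc⟩) = 1 := (hf1 _ _).2 (hinvK _ _ (h _ hd'))
    have hc1 : ψ ⟨c, hc⟩ = 1 := by
      rw [show (⟨c, hc⟩ : S) = w * (w⁻¹ * ⟨c, hc⟩) by group, map_mul, hd1, hw, map_mul, map_pow, map_pow,
        ha', hb']
      simp
    exact hinvK _ _ ((hf1 _ _).1 hc1)
  obtain ⟨m, hm⟩ := ih S' hlt (fun u hu v hv => hZ u (hS'S hu) v (hS'S hv))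
    (fun u hu v hv w hw => hbil u (hS'S hu) v (hS'S hv) w (hS'S hw)) R hRS' hR'
  refine ⟨m + 1, ?_⟩
  rw [← relIndex_mul_relIndex R S' S hRS' hS'S, hm]
  have hidx' : S'.relIndex S = q ^ 2 := by
    rw [hS', relIndex, subgroupOf, comap_map_eq_self_of_injective S.subtype_injective, index_ker,
      MonoidHom.range_eq_top.2 hsurj, card_top, Nat.card_prod, ← index_eq_card,
      show (K.subgroupOf Z).index = q from hidx]
    ring
  rw [hidx', ← pow_add]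
  ring_nf

end Group

end Cfsg.Lib.Local
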