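import Cfsg.Agent.Lib.Local.HallHigmanBound
import Mathlib.RingTheory.Flat.Basic
import Mathlib.RingTheory.TensorProduct.Maps
import Mathlib.FieldTheory.IsAlgClosed.AlgebraicClosure
import Mathlib.LinearAlgebra.FreeModule.Finite.Basic
import Mathlib.Algebra.Polynomial.AlgebraMap

/-!
Hall–Higman Theorem B and its coprime companion: the critical configuration for an element of prime-power
order with vanishing norm.
-/

set_option autoImplicit false

namespace Cfsg.Lib.Local

open Subgroup Polynomial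
open scoped commutatorElement

theorem geom_mul {R : Type*} [Semiring R] (g : R) (a : ℕ) : ∀ b : ℕ,
    (∑ t ∈ Finset.range a, g ^ t) * ∑ s ∈ Finset.range b, (g ^ a) ^ s = ∑ i ∈ Finset.range (a * b), g ^ i := by
  intro b
  induction b with
  | zero => simp
  | succ b ih =>
    rw [Finset.sum_range_succ, mul_add, ih, Nat.mul_succ, Finset.sum_range_add, Finset.sum_mul]
    congr 1
    exact Finset.sum_congr rfl fun t _ => by rw [← pow_mul, ← pow_add, add_comm]

theorem geom_eq_sub_pow (F : Type*) [Field F] {p : ℕ} [hp : Fact p.Prime] [CharP F p] {R : Type*} [Ring R]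
    [Algebra F R] (g : R) (j : ℕ) : (g - 1) ^ (p ^ j - 1) = ∑ t ∈ Finset.range (p ^ j), g ^ t := by
  have h : ((X : F[X]) - 1) ^ (p ^ j - 1) = ∑ t ∈ Finset.range (p ^ j), X ^ t := by
    refine mul_right_cancel₀ (b := (X : F[X]) - 1) (fun e => ?_) ?_
    · have h1 := congrArg natDegree e
      rw [show ((X : F[X]) - 1) = X - C 1 by simp, natDegree_X_sub_C, natDegree_zero] at h1
      exact one_ne_zero h1
    rw [geom_sum_mul, ← pow_succ, Nat.sub_add_cancel (Nat.one_le_pow j p hp.out.pos), sub_pow_char_pow, one_pow]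
  have := congrArg (aeval g) h
  simpa using this

theorem pow_sub_one_eq (F : Type*) [Field F] {p : ℕ} [hp : Fact p.Prime] [CharP F p] {R : Type*} [Ring R]
    [Algebra F R] (g : R) (j : ℕ) : (g - 1) ^ p ^ j = g ^ p ^ j - 1 := by
  have h : ((X : F[X]) - 1) ^ p ^ j = X ^ p ^ j - 1 := by rw [sub_pow_char_pow, one_pow]
  have := congrArg (aeval g) h
  simpa using this

variable {H : Type*} [Group H] [Finite H] {F : Type*} [Field F] {V : Type*} [AddCommGroup V] [Module F V]

/-- A group moved by an element of vanishing norm is nonabelian. -/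
theorem nonabelian_of_norm {ρ : H →* Module.End F V} (hρ : Function.Injective ρ) {Q X : Subgroup H} {y : H}
    {q : ℕ} [hq : Fact q.Prime] (h : MinimalMoved Q X y q) (hqF : (q : F) ≠ 0) {p : ℕ} [hp : Fact p.Prime]
    (hpq : q ≠ p) {x : H} (hx : x ∈ X) {n : ℕ} (hy : x ^ p ^ n = y) (hord : x ^ p ^ (n + 1) = 1)
    (hN : ∑ i ∈ Finset.range (p ^ (n + 1)), ρ x ^ i = 0) : ∃ a ∈ Q, ∃ b ∈ Q, a * b ≠ b * a := by
  by_contra hcon
  push Not at hcon
  let σ : H →* MulAut (Multiplicative V) :=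
    { toFun := fun g =>
        { toFun := fun u => Multiplicative.ofAdd (ρ g u.toAdd)
          invFun := fun u => Multiplicative.ofAdd (ρ g⁻¹ u.toAdd)
          left_inv := fun u => by
            show Multiplicative.ofAdd (ρ g⁻¹ (ρ g u.toAdd)) = u
            rw [← ρ_mul_apply, inv_mul_cancel, map_one]; rfl
          right_inv := fun u => by
            show Multiplicative.ofAdd (ρ g (ρ g⁻¹ u.toAdd)) = u
            rw [← ρ_mul_apply, mul_inv_cancel, map_one]; rfl
          map_mul' := fun u u' => by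
            show Multiplicative.ofAdd (ρ g (u.toAdd + u'.toAdd)) = _
            rw [map_add]; rfl }
      map_one' := MulEquiv.ext fun u => by
        show Multiplicative.ofAdd (ρ 1 u.toAdd) = u
        rw [map_one]; rfl
      map_mul' := fun g g' => MulEquiv.ext fun u => by
        show Multiplicative.ofAdd (ρ (g * g') u.toAdd) = _
        rw [map_mul]; rfl }
  have hσ : Function.Injective σ := fun g g' e => hρ (LinearMap.ext fun v =>
    congrArg (fun f : MulAut (Multiplicative V) => (f (Multiplicative.ofAdd v)).toAdd) e)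
  have hV : ∀ (u : Multiplicative V) (d : ℕ), d ∣ Nat.card Q → u ^ d = 1 → u = 1 := by
    intro u d hd hud
    obtain ⟨e, he⟩ := IsPGroup.iff_card.1 h.isP
    obtain ⟨e', -, rfl⟩ := (Nat.dvd_prime_pow hq.out).1 (he ▸ hd)
    have h1 := congrArg Multiplicative.toAdd hud
    rw [toAdd_pow, toAdd_one, ← Nat.cast_smul_eq_nsmul F, Nat.cast_pow] at h1
    exact Multiplicative.toAdd.injective ((smul_eq_zero.1 h1).resolve_left (pow_ne_zero _ hqF))
  obtain ⟨a, ha, hne⟩ := h.moved
  have hcop : (Nat.card Q).Coprime p := by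
    obtain ⟨e, he⟩ := IsPGroup.iff_card.1 h.isP
    rw [he]
    exact ((Nat.coprime_primes hq.out hp.out).2 hpq).pow_left e
  have hordx : orderOf x = p ^ (n + 1) := orderOf_eq_prime_pow (fun e => hne (by
    rw [← hy, e]; simp)) hord
  obtain ⟨u, hu⟩ := exists_norm_ne_one' σ hσ Q hV hcon hcop x (h.inv x hx) n hordx
    ⟨a, ha, by rw [hy]; exact hne⟩
  refine hu (Multiplicative.toAdd.injective ?_)
  rw [toAdd_prod, toAdd_one]
  have h1 := LinearMap.congr_fun hN u.toAdd
  rw [LinearMap.sum_apply, LinearMap.zero_apply] at h1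
  rw [← h1]
  refine Finset.sum_congr rfl fun i _ => ?_
  rw [← map_pow]
  rfl

/-- The critical configuration over an algebraically closed field. -/
theorem critical_bound [IsAlgClosed F] [FiniteDimensional F V] {ρ : H →* Module.End F V}
    (hρ : Function.Injective ρ) {Q X : Subgroup H} {y : H} {q : ℕ} [hq : Fact q.Prime]
    (h : MinimalMoved Q X y q) (hqF : (q : F) ≠ 0) {p : ℕ} [hp : Fact p.Prime] (hpq : q ≠ p) {x : H}
    (hx : x ∈ X) {n : ℕ} (hy : x ^ p ^ n = y) (hord : x ^ p ^ (n + 1) = 1)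
    (hN : ∑ i ∈ Finset.range (p ^ (n + 1)), ρ x ^ i = 0) (k : ℕ → ℕ)
    (hL : ∀ j ≤ n, ∃ L : List F, L.length = k j ∧ (∑ t ∈ Finset.range (p ^ j), ρ x ^ t) *
      (L.map fun a => ρ (x ^ p ^ j) - a • (1 : Module.End F V)).prod = 0)
    (ψ : H → F) (hc : IsComponent ρ Q ψ) :
    ∃ j ≤ n, (∀ a ∈ innerCenter Q, ψ (x ^ p ^ j * a * (x ^ p ^ j)⁻¹) = ψ a) ∧
      (∀ t < p ^ j, t ≠ 0 → ∃ a ∈ innerCenter Q, ψ (x ^ t * a * (x ^ t)⁻¹) ≠ ψ a) ∧
      ∃ m, 0 < m ∧ (radical h hc).relIndex Q = q ^ (2 * m) ∧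
        (p ^ (n + 1 - j) ∣ q ^ (2 * m) - 1 ∧ (p ^ (n + 1 - j) ∣ q ^ m + 1 ∨ p ^ (n + 1 - j) ∣ q ^ m - 1)) ∧
        q ^ (2 * m) * p ^ (n + 1 - j) ≤ k j * (p ^ (n + 1 - j) - 1 + q ^ (2 * m)) := by
  have hna := nonabelian_of_norm hρ h hqF hpq hx hy hord hN
  obtain ⟨j, hjn, hfix, horb, hsep⟩ := exists_orbit (ρ := ρ) h hna hqF (ψ := ψ) hx hy hord
  refine ⟨j, hjn, hfix, hsep, ?_⟩
  set z := x ^ p ^ j with hz
  have hzX : z ∈ X := pow_mem hx _
  have hzy : z ^ p ^ (n - j) = y := by rw [hz, ← pow_mul, ← pow_add, Nat.add_sub_cancel' hjn, hy]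
  have hexp : j + (n - j + 1) = n + 1 := by omega
  have hzP : z ^ p ^ (n - j + 1) = 1 := by rw [hz, ← pow_mul, ← pow_add, hexp, hord]
  have hzW : ∀ v ∈ eigenOf ρ (innerCenter Q) ψ, ρ z v ∈ eigenOf ρ (innerCenter Q) ψ := fun v hv =>
    mem_eigenOf.2 fun a ha => by
      rw [mem_eigenOf.1 (IsComponent.conj_mem_eigen h ψ hzX hv) a ha]
      congr 1
      have h1 := h.conj_mem_center (inv_mem hzX) ha
      rw [inv_inv] at h1
      rw [← hfix _ h1]
      group
  have hkill : ∀ (f : Module.End F V), (∑ t ∈ Finset.range (p ^ j), ρ x ^ t) * f = 0 →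
      (∀ v ∈ eigenOf ρ (innerCenter Q) ψ, f v ∈ eigenOf ρ (innerCenter Q) ψ) →
      ∀ v ∈ eigenOf ρ (innerCenter Q) ψ, f v = 0 := by
    intro f hf hfW v hv
    refine horb _ (hfW v hv) ?_
    have h1 := LinearMap.congr_fun hf v
    rw [Module.End.mul_apply, LinearMap.sum_apply, LinearMap.zero_apply] at h1
    simpa [map_pow] using h1
  have hNz : ∀ v ∈ eigenOf ρ (innerCenter Q) ψ,
      ∑ i ∈ Finset.range (p ^ (n - j + 1)), ρ (z ^ i) v = 0 := by
    intro v hv
    have h1 := hkill (∑ i ∈ Finset.range (p ^ (n - j + 1)), ρ z ^ i) (by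
      rw [hz, map_pow, geom_mul, ← pow_add, hexp, hN]) (fun w hw => ?_) v hv
    · simpa [LinearMap.sum_apply, map_pow] using h1
    · rw [LinearMap.sum_apply]
      refine Submodule.sum_mem _ fun i _ => ?_
      have hpow : ∀ i : ℕ, (ρ z ^ i) w ∈ eigenOf ρ (innerCenter Q) ψ := by
        intro i
        induction i with
        | zero => simpa using hw
        | succ i ih => rw [pow_succ', Module.End.mul_apply]; exact hzW _ ih
      exact hpow i
  obtain ⟨L, hLk, hL0⟩ := hL j hjn
  have hprodW : ∀ (l : List F), ∀ v ∈ eigenOf ρ (innerCenter Q) ψ,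
      (l.map fun a => ρ z - a • (1 : Module.End F V)).prod v ∈ eigenOf ρ (innerCenter Q) ψ := by
    intro l
    induction l with
    | nil => intro v hv; simpa using hv
    | cons a l ih =>
      intro v hv
      rw [List.map_cons, List.prod_cons, Module.End.mul_apply, LinearMap.sub_apply, LinearMap.smul_apply,
        Module.End.one_apply]
      exact sub_mem (hzW _ (ih v hv)) (Submodule.smul_mem _ _ (ih v hv))
  obtain ⟨m, hm0, hm, hdvd, hle⟩ := component_bound h hna hc hqF hpq hzX hzy hzP hfix hNz L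
    (hkill _ hL0 (hprodW L))
  rw [hLk] at hle
  rw [show n - j + 1 = n + 1 - j by omega] at hdvd hle
  exact ⟨m, hm0, hm, hdvd, hle⟩

/-- Extension of scalars to an algebraic closure, for representations. -/
noncomputable def closureRep (ρ : H →* Module.End F V) :
    H →* Module.End (AlgebraicClosure F) (TensorProduct F (AlgebraicClosure F) V) :=
  ((Module.End.baseChangeHom F (AlgebraicClosure F) V : _ →ₐ[F] _) : _ →* _).comp ρ

theorem closureRep_injective {ρ : H →* Module.End F V} (hρ : Function.Injective ρ) :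
    Function.Injective (closureRep ρ) :=
  fun g g' e => hρ (LinearMap.baseChangeHom_injective F V (AlgebraicClosure F) e)

theorem closureRep_sum_pow {ρ : H →* Module.End F V} {x : H} {N : ℕ}
    (hN : ∑ i ∈ Finset.range N, ρ x ^ i = 0) : ∑ i ∈ Finset.range N, closureRep ρ x ^ i = 0 := by
  have := congrArg (Module.End.baseChangeHom F (AlgebraicClosure F) V) hN
  simpa [closureRep] using this

theorem closureRep_sub_one_pow {ρ : H →* Module.End F V} {x : H} {r : ℕ}
    (hr : (ρ x - 1) ^ r = 0) : (closureRep ρ x - 1) ^ r = 0 := by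
  have := congrArg (Module.End.baseChangeHom F (AlgebraicClosure F) V) hr
  simpa [closureRep] using this

/-- **Hall–Higman Theorem B**, critical form: if `(x - 1) ^ r = 0` with `r < p ^ (n + 1)`, then the
minimal moved group is nonabelian and satisfies the numerical exception. -/
theorem theoremB [FiniteDimensional F V] {ρ : H →* Module.End F V}
    (hρ : Function.Injective ρ) {Q X : Subgroup H} {y : H} {q : ℕ} [hq : Fact q.Prime]
    (h : MinimalMoved Q X y q) {p : ℕ} [hp : Fact p.Prime] [CharP F p] (hpq : q ≠ p) {x : H}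
    (hx : x ∈ X) {n : ℕ} (hy : x ^ p ^ n = y) (hord : x ^ p ^ (n + 1) = 1) {r : ℕ} (hr : r < p ^ (n + 1))
    (hxr : (ρ x - 1) ^ r = 0) :
    (∃ a ∈ Q, ∃ b ∈ Q, a * b ≠ b * a) ∧ ∃ j ≤ n, ∃ m, 0 < m ∧
      (p ^ (n + 1 - j) ∣ q ^ (2 * m) - 1 ∧ (p ^ (n + 1 - j) ∣ q ^ m + 1 ∨ p ^ (n + 1 - j) ∣ q ^ m - 1)) ∧
      q ^ (2 * m) * p ^ (n + 1 - j) ≤ r / p ^ j * (p ^ (n + 1 - j) - 1 + q ^ (2 * m)) := by
  have hqF : (q : F) ≠ 0 := by
    rw [Ne, CharP.cast_eq_zero_iff F p]
    exact fun hd => hpq ((Nat.prime_dvd_prime_iff_eq hp.out hq.out).1 hd).symm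
  have hzero : ∀ e, r ≤ e → (ρ x - 1) ^ e = 0 := fun e he => by
    rw [← Nat.add_sub_cancel' he, pow_add, hxr, zero_mul]
  have hN : ∑ i ∈ Finset.range (p ^ (n + 1)), ρ x ^ i = 0 := by
    rw [← geom_eq_sub_pow F (p := p)]
    exact hzero _ (Nat.le_sub_one_of_lt hr)
  refine ⟨nonabelian_of_norm hρ h hqF hpq hx hy hord hN, ?_⟩
  let K := AlgebraicClosure F
  have : CharP K p := charP_of_injective_algebraMap (algebraMap F K).injective p
  have hqK : (q : K) ≠ 0 := by
    rw [← map_natCast (algebraMap F K)]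
    exact (map_ne_zero_iff _ (algebraMap F K).injective).2 hqF
  have hρK := closureRep_injective hρ
  have hna := nonabelian_of_norm hρ h hqF hpq hx hy hord hN
  obtain ⟨ψ, hc⟩ := exists_isComponent (closureRep ρ) hρK h hna hqK
  obtain ⟨j, hj, -, -, m, hm0, -, hdvd, hle⟩ := critical_bound hρK h hqK hpq hx hy hord
    (closureRep_sum_pow hN) (fun j => r / p ^ j) (fun j _ => ⟨List.replicate (r / p ^ j) 1, List.length_replicate, by
      rw [List.map_replicate, List.prod_replicate, one_smul, map_pow]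
      have hg1 := geom_eq_sub_pow K (p := p) (closureRep ρ x) j
      have hg2 := pow_sub_one_eq K (p := p) (closureRep ρ x) j
      refine (congrArg₂ (fun a b => a * b ^ (r / p ^ j)) hg1.symm hg2.symm).trans ?_
      rw [← pow_mul, ← pow_add]
      refine (Nat.add_sub_cancel' ?_ : r + (p ^ j - 1 + p ^ j * (r / p ^ j) - r) = _) ▸ ?_
      · have := Nat.div_add_mod r (p ^ j)
        have := Nat.mod_lt r (pow_pos hp.out.pos j)
        omega
      · rw [pow_add, closureRep_sub_one_pow hxr, zero_mul]⟩) ψ hc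
  exact ⟨j, hj, m, hm0, hdvd, hle⟩

end Cfsg.Lib.Local
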