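import Mathlib

/-!
# Involutions in a group generated by two quadratic elements

If `A * A = 0` and `B * B = 0` in a ring without 2-torsion, then an involution in the monoid generated by
`1 + A` and `1 + B` commutes with `A`.
-/

set_option autoImplicit false

namespace Cfsg.Lib.Local.InversionAlgebra

variable {R : Type*} [Ring R] (A B : R)

/-- Commuting with both of the two elements. -/
def Cc (e : R) : Prop := e * A = A * e ∧ e * B = B * e

/-- The normal form of an element together with that of its inverse. -/
def Nf (x x' : R) : Prop :=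
  ∃ e f g h : R, Cc A B e ∧ Cc A B f ∧ Cc A B g ∧ Cc A B h ∧
    x = e + f * A + g * B + h * (A * B) ∧
    x' = e + h * (A * B + B * A) - f * A - g * B - h * (A * B)

variable {A B}

theorem cc_C (hA : A * A = 0) (hB : B * B = 0) : Cc A B (A * B + B * A) := by
  constructor
  · calc (A * B + B * A) * A = A * B * A + B * (A * A) := by noncomm_ring
      _ = A * B * A + A * A * B := by rw [hA]; noncomm_ring
      _ = A * (A * B + B * A) := by noncomm_ring
  · calc (A * B + B * A) * B = A * (B * B) + B * A * B := by noncomm_ring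
      _ = B * A * B + B * B * A := by rw [hB]; noncomm_ring
      _ = B * (A * B + B * A) := by noncomm_ring

theorem Cc.add {e f : R} (he : Cc A B e) (hf : Cc A B f) : Cc A B (e + f) :=
  ⟨by rw [add_mul, mul_add, he.1, hf.1], by rw [add_mul, mul_add, he.2, hf.2]⟩

theorem Cc.sub {e f : R} (he : Cc A B e) (hf : Cc A B f) : Cc A B (e - f) :=
  ⟨by rw [sub_mul, mul_sub, he.1, hf.1], by rw [sub_mul, mul_sub, he.2, hf.2]⟩

theorem Cc.mul {e f : R} (he : Cc A B e) (hf : Cc A B f) : Cc A B (e * f) :=
  ⟨by rw [mul_assoc, hf.1, ← mul_assoc, he.1, mul_assoc],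
    by rw [mul_assoc, hf.2, ← mul_assoc, he.2, mul_assoc]⟩

theorem Cc.zero : Cc A B (0 : R) := ⟨by simp, by simp⟩

theorem Cc.one : Cc A B (1 : R) := ⟨by simp, by simp⟩

theorem nf_one : Nf A B (1 : R) 1 :=
  ⟨1, 0, 0, 0, Cc.one, Cc.zero, Cc.zero, Cc.zero, by simp, by simp⟩

theorem Nf.mul_A (hA : A * A = 0) (hB : B * B = 0) {x x' : R} (h : Nf A B x x') :
    Nf A B (x * (1 + A)) ((1 - A) * x') := by
  obtain ⟨e, f, g, h, he, hf, hg, hh, rfl, rfl⟩ := h
  have hC := cc_C hA hB
  set C := A * B + B * A with hCdef
  refine ⟨e + g * C, e + f + h * C, g, h - g, he.add (hg.mul hC), (he.add hf).add (hh.mul hC), hg,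
    hh.sub hg, ?_, ?_⟩
  · have h1 : A * B * A = C * A := by rw [hCdef, add_mul, mul_assoc B A A, hA, mul_zero, add_zero]
    have h2 : B * A = C - A * B := by rw [hCdef]; abel
    calc (e + f * A + g * B + h * (A * B)) * (1 + A)
        = e + f * A + g * B + h * (A * B) + e * A + f * (A * A) + g * (B * A) + h * (A * B * A) := by
          noncomm_ring
      _ = e + f * A + g * B + h * (A * B) + e * A + f * 0 + g * (C - A * B) + h * (C * A) := by
          rw [hA, h2, h1]
      _ = _ := by noncomm_ring
  · have e1 : A * e = e * A := he.1.symm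
    have e2 : A * (h * C) = h * C * A := (hh.mul hC).1.symm
    have e3 : A * (f * A) = 0 := by rw [← mul_assoc, ← hf.1, mul_assoc, hA, mul_zero]
    have e4 : A * (g * B) = g * (A * B) := by rw [← mul_assoc, ← hg.1, mul_assoc]
    have e5 : A * (h * (A * B)) = 0 := by
      rw [← mul_assoc, ← hh.1, mul_assoc, ← mul_assoc A A B, hA, zero_mul, mul_zero]
    calc (1 - A) * (e + h * C - f * A - g * B - h * (A * B))
        = e + h * C - f * A - g * B - h * (A * B) - A * e - A * (h * C) + A * (f * A) + A * (g * B)
          + A * (h * (A * B)) := by noncomm_ring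
      _ = e + h * C - f * A - g * B - h * (A * B) - e * A - h * C * A + 0 + g * (A * B) + 0 := by
          rw [e1, e2, e3, e4, e5]
      _ = _ := by rw [hCdef]; noncomm_ring

theorem Nf.mul_B (hA : A * A = 0) (hB : B * B = 0) {x x' : R} (h : Nf A B x x') :
    Nf A B (x * (1 + B)) ((1 - B) * x') := by
  obtain ⟨e, f, g, h, he, hf, hg, hh, rfl, rfl⟩ := h
  have hC := cc_C hA hB
  set C := A * B + B * A with hCdef
  refine ⟨e, f, g + e, h + f, he, hf, hg.add he, hh.add hf, ?_, ?_⟩
  · calc (e + f * A + g * B + h * (A * B)) * (1 + B)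
        = e + f * A + g * B + h * (A * B) + e * B + f * (A * B) + g * (B * B) + h * (A * (B * B)) := by
          noncomm_ring
      _ = e + f * A + g * B + h * (A * B) + e * B + f * (A * B) := by rw [hB]; simp
      _ = _ := by noncomm_ring
  · have e1 : B * e = e * B := he.2.symm
    have e2 : B * (h * C) = h * C * B := (hh.mul hC).2.symm
    have e3 : B * (f * A) = f * (C - A * B) := by
      rw [← mul_assoc, ← hf.2, mul_assoc, hCdef]; congr 1; abel
    have e4 : B * (g * B) = 0 := by rw [← mul_assoc, ← hg.2, mul_assoc, hB, mul_zero]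
    have e5 : B * (h * (A * B)) = h * C * B := by
      rw [← mul_assoc, ← hh.2, mul_assoc, mul_assoc h C B]
      congr 1
      rw [hCdef, add_mul, mul_assoc A B B, hB, mul_zero, zero_add, mul_assoc B A B]
    calc (1 - B) * (e + h * C - f * A - g * B - h * (A * B))
        = e + h * C - f * A - g * B - h * (A * B) - B * e - B * (h * C) + B * (f * A) + B * (g * B)
          + B * (h * (A * B)) := by noncomm_ring
      _ = e + h * C - f * A - g * B - h * (A * B) - e * B - h * C * B + f * (C - A * B) + 0
          + h * C * B := by rw [e1, e2, e3, e4, e5]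
      _ = _ := by rw [hCdef]; noncomm_ring

/-- An involution generated by two quadratic elements commutes with them. -/
theorem commute_of_sq_eq_one (hA : A * A = 0) (hB : B * B = 0) (h2 : ∀ r : R, r + r = 0 → r = 0)
    {z : R} (hz : z ∈ Submonoid.closure ({1 + A, 1 + B} : Set R)) (hzz : z * z = 1) :
    z * A = A * z := by
  have key : ∃ z', Nf A B z z' ∧ z * z' = 1 := by
    clear hzz
    induction hz using Submonoid.closure_induction_right with
    | one => exact ⟨1, nf_one, one_mul 1⟩
    | mul_right x hx y hy ih =>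
      obtain ⟨x', hn, hxx⟩ := ih
      rcases hy with rfl | rfl
      · refine ⟨_, hn.mul_A hA hB, ?_⟩
        calc x * (1 + A) * ((1 - A) * x') = x * (1 - A * A) * x' := by noncomm_ring
          _ = 1 := by rw [hA, sub_zero, mul_one, hxx]
      · refine ⟨_, hn.mul_B hA hB, ?_⟩
        calc x * (1 + B) * ((1 - B) * x') = x * (1 - B * B) * x' := by noncomm_ring
          _ = 1 := by rw [hB, sub_zero, mul_one, hxx]
  obtain ⟨z', hn, hz'⟩ := key
  have he : z' = z := by
    calc z' = z * z * z' := by rw [hzz, one_mul]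
      _ = z := by rw [mul_assoc, hz', mul_one]
  obtain ⟨e, f, g, h, he', hf, hg, hh, h1, h3⟩ := hn
  rw [he] at h3
  have hs : z + z = e + e + h * (A * B + B * A) := by
    nth_rewrite 1 [h1]
    nth_rewrite 1 [h3]
    abel
  have hc : Cc A B (z + z) := hs ▸ (he'.add he').add (hh.mul (cc_C hA hB))
  have := hc.1
  rw [add_mul, mul_add] at this
  rw [← sub_eq_zero]
  refine h2 _ ?_
  calc z * A - A * z + (z * A - A * z) = (z * A + z * A) - (A * z + A * z) := by abel
    _ = 0 := by rw [this, sub_self]

end Cfsg.Lib.Local.InversionAlgebra
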