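import Cfsg.Agent.S2758

/-!
# Inverted elements of prime power order
-/

set_option autoImplicit false

namespace Cfsg.Lib.Local.InversionZJ

open Subgroup Cfsg.Lib.FusionSys

universe u v

variable {G : Type u} [Group G] {q : ℕ}

/-- Some element of `X` inverts a nontrivial `q`-element of `X`. -/
def InvIn (q : ℕ) (X : Subgroup G) : Prop :=
  ∃ t ∈ X, ∃ y ∈ X, y ≠ 1 ∧ (∃ k : ℕ, y ^ q ^ k = 1) ∧ t * y * t⁻¹ = y⁻¹

theorem InvIn.mono {X Y : Subgroup G} (h : InvIn q X) (hle : X ≤ Y) : InvIn q Y := by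
  obtain ⟨t, ht, y, hy, h1, h2, h3⟩ := h
  exact ⟨t, hle ht, y, hle hy, h1, h2, h3⟩

theorem InvIn.map {H : Type v} [Group H] {X : Subgroup G} (h : InvIn q X) (f : G →* H)
    (hf : Set.InjOn f X) : InvIn q (X.map f) := by
  obtain ⟨t, ht, y, hy, h1, ⟨k, h2⟩, h3⟩ := h
  refine ⟨f t, mem_map_of_mem f ht, f y, mem_map_of_mem f hy, fun e => h1 (hf hy (one_mem X) ?_),
    ⟨k, by rw [← map_pow, h2, map_one]⟩, by rw [← map_inv, ← map_mul, ← map_mul, h3, map_inv]⟩
  rw [e, map_one]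

theorem InvIn.conj {X : Subgroup G} (h : InvIn q X) (g : G) :
    InvIn q (X.map (MulAut.conj g).toMonoidHom) :=
  h.map _ (MulAut.conj g).injective.injOn

theorem invIn_top_subgroup {X : Subgroup G} (h : InvIn q X) : InvIn q (⊤ : Subgroup ↥X) := by
  obtain ⟨t, ht, y, hy, h1, ⟨k, h2⟩, h3⟩ := h
  exact ⟨⟨t, ht⟩, mem_top _, ⟨y, hy⟩, mem_top _, fun e => h1 (congrArg Subtype.val e),
    ⟨k, Subtype.ext h2⟩, Subtype.ext h3⟩

theorem invIn_iff_involves [Finite G] [Fact q.Prime] (hq : q ≠ 2) (X : Subgroup G) :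
    InvIn q X ↔ Cfsg.Involves (DihedralGroup q) ↥X := by
  have hqq := (Fact.out : q.Prime)
  constructor
  · rintro ⟨t, ht, y, hy, hy1, ⟨k, hk⟩, hty⟩
    obtain ⟨a, m, hm, ham⟩ := Nat.exists_eq_two_pow_mul_odd (n := orderOf t) (orderOf_pos t).ne'
    obtain ⟨j, hj⟩ := hm
    have hinv : ∀ n : ℕ, t ^ (2 * n + 1) * y * (t ^ (2 * n + 1))⁻¹ = y⁻¹ := by
      intro n
      induction n with
      | zero => simpa using hty
      | succ n ih =>
        calc t ^ (2 * (n + 1) + 1) * y * (t ^ (2 * (n + 1) + 1))⁻¹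
            = t * (t * (t ^ (2 * n + 1) * y * (t ^ (2 * n + 1))⁻¹) * t⁻¹) * t⁻¹ := by
              rw [show 2 * (n + 1) + 1 = (2 * n + 1) + 1 + 1 by ring, pow_succ', pow_succ']; group
          _ = y⁻¹ := by rw [ih, ← conj_inv, hty, inv_inv, hty]
    obtain ⟨i, -, hi⟩ := (Nat.dvd_prime_pow hqq).1 (orderOf_dvd_of_pow_eq_one hk)
    refine (Cfsg.Agent.S2758.result (G := ↥X) hq).2.2 ⟨⟨t ^ m, pow_mem ht m⟩, ⟨y, hy⟩, ⟨a, ?_⟩, ⟨i, ?_⟩,
      fun e => hy1 (congrArg Subtype.val e), Subtype.ext (by rw [hj]; exact hinv j)⟩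
    · rw [Subgroup.orderOf_mk, orderOf_pow, ham, Nat.gcd_eq_right (dvd_mul_left _ _),
        Nat.mul_div_cancel _ (by omega)]
    · rw [Subgroup.orderOf_mk]; exact hi
  · intro h
    obtain ⟨t, y, -, ⟨j, hj⟩, hy1, hty⟩ := (Cfsg.Agent.S2758.result (G := ↥X) hq).2.1 h
    exact ⟨t, t.2, y, y.2, fun e => hy1 (Subtype.ext e),
      ⟨j, by rw [← hj]; exact congrArg Subtype.val (pow_orderOf_eq_one y)⟩, congrArg Subtype.val hty⟩

theorem invIn_of_map [Finite G] [Fact q.Prime] (hq : q ≠ 2) {H : Type v} [Group H] [Finite H]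
    (f : G →* H) {X : Subgroup G} (h : InvIn q (X.map f)) : InvIn q X :=
  (invIn_iff_involves hq X).2
    (involves_of_surjective (f.subgroupMap_surjective X) ((invIn_iff_involves hq _).1 h))

/-- An element acting as an involution on a `q`-subgroup gives an inversion. -/
theorem invIn_of_normalize [Finite G] [Fact q.Prime] (hq : q ≠ 2) {X P : Subgroup G} {x : G}
    (hx : x ∈ X) (hPX : P ≤ X) (hP : IsPGroup q ↥P) (hn : x ∈ normalizer (P : Set G))
    (hc : x ∉ centralizer (P : Set G)) (h2 : x * x ∈ centralizer (P : Set G)) : InvIn q X := by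
  obtain ⟨a, m, ⟨j, hj⟩, ham⟩ := Nat.exists_eq_two_pow_mul_odd (n := orderOf x) (orderOf_pos x).ne'
  refine (invIn_iff_involves hq X).2 ((Cfsg.Agent.S2758.result (G := ↥X) hq).1.2
    ⟨⟨x ^ m, pow_mem hx m⟩, P.subgroupOf X, ⟨a, ?_⟩, hP.of_equiv (subgroupOfEquivOfLe hPX).symm, ?_, ?_⟩)
  · rw [Subgroup.orderOf_mk, orderOf_pow, ham, Nat.gcd_eq_right (dvd_mul_left _ _),
      Nat.mul_div_cancel _ (by omega)]
  · rw [mem_normalizer_iff]
    exact fun y => mem_normalizer_iff.1 (pow_mem hn m) (y : G)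
  · intro h
    have h1 : x ^ m ∈ centralizer (P : Set G) := mem_centralizer_iff.2 fun p hp =>
      congrArg Subtype.val (mem_centralizer_iff.1 h ⟨p, hPX hp⟩ hp)
    refine hc ?_
    have h3 : x ^ (2 * j) ∈ centralizer (P : Set G) := by
      rw [pow_mul, pow_two]; exact pow_mem h2 j
    rw [hj, pow_succ] at h1
    exact (Subgroup.mul_mem_cancel_left _ h3).1 h1

end Cfsg.Lib.Local.InversionZJ
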