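import Cfsg.Agent.S0593
import Cfsg.Agent.Lib.Local.InversionAlgebra
import Cfsg.Agent.Lib.Local.InversionBasic
import Cfsg.Agent.Lib.Local.QdInvolved
import Cfsg.Agent.Lib.Local.FF.Model
import Cfsg.Agent.Lib.Invol.BaerSuzuki
import Cfsg.Agent.Lib.Core.Cores
import Cfsg.Agent.Lib.PGroup.Basic

/-!
# A quadratic element and an involution

An element acting quadratically and nontrivially on a chief factor of odd order commutes, modulo the
centralizer of the factor, with an element acting on it as an involution.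
-/

set_option autoImplicit false
set_option linter.style.haveILetI false

namespace Cfsg.Lib.Local.InversionZJ

open Subgroup
open scoped commutatorElement

universe u

variable {G : Type u} [Group G] [Finite G] {q : ℕ} [hqf : Fact q.Prime]

/-- `W` is a minimal normal `q`-subgroup. -/
structure MinNormal (q : ℕ) (W : Subgroup G) : Prop where
  normal : W.Normal
  pgroup : IsPGroup q ↥W
  ne : W ≠ ⊥
  min : ∀ K : Subgroup G, K.Normal → K ≤ W → K = ⊥ ∨ K = W

theorem MinNormal.comm {W : Subgroup G} (h : MinNormal q W) : W ≤ centralizer (W : Set G) := by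
  haveI := h.normal
  haveI : Nontrivial ↥W := (nontrivial_iff_ne_bot W).2 h.ne
  have hn : (W ⊓ centralizer (W : Set G)).Normal := inferInstance
  rcases h.min _ hn inf_le_left with he | he
  · exfalso
    haveI := h.pgroup.center_nontrivial
    obtain ⟨c, hc⟩ := exists_ne (1 : Subgroup.center ↥W)
    refine hc (Subtype.ext (Subtype.ext ?_))
    have : ((c : ↥W) : G) ∈ W ⊓ centralizer (W : Set G) :=
      ⟨(c : ↥W).2, mem_centralizer_iff.2 fun w hw =>
        congrArg Subtype.val (mem_center_iff.1 c.2 ⟨w, hw⟩)⟩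
    rw [he, mem_bot] at this
    exact this
  · exact inf_eq_left.1 he

theorem MinNormal.exponent {W : Subgroup G} (h : MinNormal q W) : ∀ w ∈ W, w ^ q = 1 := by
  haveI := h.normal
  have hc := h.comm
  let Om : Subgroup G :=
    { carrier := {w | w ∈ W ∧ w ^ q = 1}
      one_mem' := ⟨one_mem W, one_pow q⟩
      mul_mem' := fun {a b} ha hb => ⟨mul_mem ha.1 hb.1, by
        rw [(show Commute a b from mem_centralizer_iff.1 (hc hb.1) a ha.1).mul_pow, ha.2, hb.2, one_mul]⟩
      inv_mem' := fun {a} ha => ⟨inv_mem ha.1, by rw [inv_pow, ha.2, inv_one]⟩ }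
  have hn : Om.Normal := ⟨fun w hw g => ⟨h.normal.conj_mem w hw.1 g, by
    rw [conj_pow, hw.2, mul_one, mul_inv_cancel]⟩⟩
  rcases h.min Om hn (fun w hw => hw.1) with he | he
  · exfalso
    haveI : Nontrivial ↥W := (nontrivial_iff_ne_bot W).2 h.ne
    obtain ⟨j, hj0, hj⟩ := h.pgroup.nontrivial_iff_card.1 inferInstance
    obtain ⟨w, hw⟩ := exists_prime_orderOf_dvd_card' (G := ↥W) q (hj ▸ dvd_pow_self q (by omega))
    have hm : (w : G) ∈ Om := ⟨w.2, by
      rw [← SubmonoidClass.coe_pow, ← hw, pow_orderOf_eq_one]; rfl⟩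
    rw [he, mem_bot] at hm
    rw [show w = 1 from Subtype.ext hm, orderOf_one] at hw
    exact hqf.out.one_lt.ne hw
  · intro w hw
    exact (he.ge hw).2

/-- A normal `q`-subgroup modulo the centralizer of `W` centralizes `W`. -/
theorem MinNormal.pCore_eq_bot {W : Subgroup G} [W.Normal] (h : MinNormal q W) :
    Cfsg.pCore q (G ⧸ centralizer (W : Set G)) = ⊥ := by
  set f := QuotientGroup.mk' (centralizer (W : Set G)) with hf
  set D := (Cfsg.pCore q (G ⧸ centralizer (W : Set G))).comap f with hD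
  haveI : D.Normal := inferInstance
  obtain ⟨S⟩ : Nonempty (Sylow q G) := inferInstance
  have hWS : W ≤ (S : Subgroup G) := h.pgroup.le_sylow_of_normal S
  obtain ⟨w, hwW, hwc, hw1⟩ : ∃ w ∈ W, w ∈ centralizer ((S : Subgroup G) : Set G) ∧ w ≠ 1 := by
    have hne : (W.subgroupOf (S : Subgroup G)) ≠ ⊥ := by
      rw [Ne, subgroupOf_eq_bot, disjoint_iff, inf_eq_left.2 hWS]
      exact h.ne
    haveI : (W.subgroupOf (S : Subgroup G)).Normal := h.normal.subgroupOf _
    obtain ⟨w, hw, hw1⟩ := (bot_or_exists_ne_one (W.subgroupOf (S : Subgroup G) ⊓ center _)).resolve_left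
      (fun e => PGroup.inf_center_ne_bot S.isPGroup' hne e)
    exact ⟨w, hw.1, mem_centralizer_iff.2 fun s hs =>
      congrArg Subtype.val (mem_center_iff.1 hw.2 ⟨s, hs⟩), fun e => hw1 (Subtype.ext e)⟩
  have hwD : w ∈ W ⊓ centralizer (D : Set G) := by
    refine ⟨hwW, mem_centralizer_iff.2 fun d hd => ?_⟩
    have h1 : f d ∈ (S : Subgroup G).map f := by
      rw [← Sylow.coe_mapSurjective (P := S) (QuotientGroup.mk'_surjective _)]
      exact Core.pCore_le_sylow _ hd
    obtain ⟨s, hs, hsd⟩ := h1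
    have h2 : s⁻¹ * d ∈ centralizer (W : Set G) := QuotientGroup.eq.1 hsd
    have c1 : Commute w s := (mem_centralizer_iff.1 hwc s hs).symm
    have c2 : Commute w (s⁻¹ * d) := mem_centralizer_iff.1 h2 w hwW
    have := c1.mul_right c2
    rw [mul_inv_cancel_left] at this
    exact this.eq.symm
  have hn : (W ⊓ centralizer (D : Set G)).Normal := inferInstance
  rcases h.min _ hn inf_le_left with he | he
  · rw [he, mem_bot] at hwD
    exact absurd hwD hw1
  · refine (eq_bot_iff_forall _).2 fun x hx => ?_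
    obtain ⟨d, rfl⟩ := QuotientGroup.mk'_surjective _ x
    refine (QuotientGroup.eq_one_iff d).2 (mem_centralizer_iff.2 fun v hv => ?_)
    exact (mem_centralizer_iff.1 (inf_eq_left.1 he hv) d hx).symm

section EndAct

open scoped IsMulCommutative

/-- Conjugation as endomorphisms of an abelian normal subgroup. -/
noncomputable def endAct (W : Subgroup G) [W.Normal] [IsMulCommutative ↥W] :
    G →* AddMonoid.End (Additive ↥W) where
  toFun x := ((MulAut.conjNormal x : ↥W ≃* ↥W).toMonoidHom.toAdditive : Additive ↥W →+ Additive ↥W)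
  map_one' := DFunLike.ext _ _ fun w => Additive.toMul.injective (Subtype.ext (by
    show (1 : G) * ((Additive.toMul w : ↥W) : G) * (1 : G)⁻¹ = ((Additive.toMul w : ↥W) : G)
    rw [one_mul, inv_one, mul_one]))
  map_mul' x y := DFunLike.ext _ _ fun w => Additive.toMul.injective (Subtype.ext (by
    show x * y * ((Additive.toMul w : ↥W) : G) * (x * y)⁻¹ =
      x * (y * ((Additive.toMul w : ↥W) : G) * y⁻¹) * x⁻¹
    group))

omit [Finite G] in
theorem endAct_apply (W : Subgroup G) [W.Normal] [IsMulCommutative ↥W] (x : G) (w : ↥W) :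
    ((Additive.toMul (endAct W x (Additive.ofMul w)) : ↥W) : G) = x * (w : G) * x⁻¹ :=
  rfl

end EndAct

open scoped IsMulCommutative in
theorem exists_proper_invIn_of_minNormal (h2 : q ≠ 2) {W : Subgroup G} [W.Normal] (hW : MinNormal q W)
    {a : G} (hquad : ⁅⁅W, zpowers a⁆, zpowers a⁆ = ⊥) (ha : a ∉ centralizer (W : Set G)) :
    ∃ X : Subgroup G, X ≠ ⊤ ∧ InvIn q X ∧ ∀ x : G, ⁅x, a⁆ ∈ centralizer (W : Set G) → x ∈ X := by
  set C := centralizer (W : Set G) with hC
  set f := QuotientGroup.mk' C with hf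
  have hcore := hW.pCore_eq_bot
  have haq := QdInvolved.quadratic_commute hquad
  have hexp := hW.exponent
  have hapow : a ^ q ∈ C := mem_centralizer_iff.2 fun v hv => by
    have h1 := QdInvolved.pow_conj_of_commute (c := a * v * a⁻¹ * v⁻¹) rfl (haq v hv) q
    rw [hexp _ (mul_mem ((inferInstance : W.Normal).conj_mem v hv a) (inv_mem hv)), one_mul] at h1
    exact (mul_inv_eq_iff_eq_mul.1 h1).symm
  have hap : IsPGroup q (zpowers (f a)) := by
    have : f a ^ q = 1 := by rw [← map_pow]; exact (QuotientGroup.eq_one_iff _).2 hapow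
    exact fun ⟨w, m, hm⟩ => ⟨1, Subtype.ext (by
      show w ^ q ^ 1 = 1
      rw [← hm, pow_one]
      show (f a ^ m) ^ q = 1
      rw [← zpow_natCast, ← _root_.zpow_mul, mul_comm, _root_.zpow_mul, zpow_natCast, this, one_zpow])⟩
  obtain ⟨g, hg⟩ : ∃ g : G, ¬ IsPGroup q ↥(closure ({f a, f (g * a * g⁻¹)} : Set (G ⧸ C))) := by
    by_contra hcon
    push Not at hcon
    obtain ⟨N, hNn, hNp, hle⟩ := Cfsg.Lib.Invol.baerSuzuki (zpowers (f a)) hap fun x => by
      obtain ⟨g, rfl⟩ := QuotientGroup.mk'_surjective C x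
      refine (hcon g).to_le (sup_le (zpowers_le.2 (subset_closure (Set.mem_insert _ _))) ?_)
      rw [MonoidHom.map_zpowers, zpowers_le]
      exact subset_closure (Set.mem_insert_of_mem _ (Set.mem_singleton_iff.2 (by rw [map_mul, map_mul, map_inv]; rfl)))
    have := Core.le_pCore' hNn hNp (hle (mem_zpowers _))
    rw [hcore, mem_bot] at this
    exact ha ((QuotientGroup.eq_one_iff _).1 this)
  set b := g * a * g⁻¹ with hb
  have hbquad : ⁅⁅W, zpowers b⁆, zpowers b⁆ = ⊥ := by
    have h := congrArg (Subgroup.map (MulAut.conj g).toMonoidHom) hquad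
    rw [Subgroup.map_commutator, Subgroup.map_commutator, MonoidHom.map_zpowers,
      Core.map_conj_eq_of_mem_normalizer (normalizer_eq_top_iff.2 ‹W.Normal› ▸ mem_top g),
      Subgroup.map_bot] at h
    simpa using h
  have hbq := QdInvolved.quadratic_commute hbquad
  -- the model
  set ι := FF.toModel W with hι
  have hker : ι.ker = C := FF.toModel_ker W
  have hιf : ∀ S : Subgroup G, Nonempty (↥(S.map ι) ≃* ↥(S.map f)) := fun S => ⟨by
    have : S.map ι = (S.map f).map (SemidirectProduct.inr : G ⧸ C →* FF.Model W) := by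
      rw [Subgroup.map_map]; rfl
    exact (MulEquiv.subgroupCongr this).trans
      ((S.map f).equivMapOfInjective _ SemidirectProduct.inr_injective).symm⟩
  set S := closure ({a, b} : Set G) with hS
  have hSf : S.map f = closure ({f a, f b} : Set (G ⧸ C)) := by
    rw [hS, MonoidHom.map_closure, Set.image_pair]
  have hSι : S.map ι = closure ({ι a, ι b} : Set (FF.Model W)) := by
    rw [hS, MonoidHom.map_closure, Set.image_pair]
  have hVe : Cfsg.IsElementaryAbelian q (FF.modV W) := by
    refine ⟨⟨⟨?_⟩⟩, ?_⟩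
    · rintro ⟨_, v, rfl⟩ ⟨_, w, rfl⟩
      refine Subtype.ext ?_
      show SemidirectProduct.inl v * SemidirectProduct.inl w = SemidirectProduct.inl w * SemidirectProduct.inl v
      rw [← map_mul, ← map_mul]
      exact congrArg _ (Subtype.ext (mem_centralizer_iff.1 (hW.comm w.2) v v.2))
    · rintro _ ⟨v, rfl⟩
      rw [← map_pow, show v ^ q = 1 from Subtype.ext (hexp v v.2), map_one]
  have hquadM : ∀ c : G, ⁅⁅W, zpowers c⁆, zpowers c⁆ = ⊥ →
      ⁅⁅FF.modV W, zpowers (ι c)⁆, zpowers (ι c)⁆ = ⊥ := by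
    intro c hc
    rw [commutator_eq_bot_iff_le_centralizer] at hc ⊢
    refine commutator_le.2 ?_
    rintro _ ⟨v, rfl⟩ _ ⟨i, rfl⟩
    have h1 : ⁅(v : G), c ^ i⁆ ∈ centralizer (zpowers c : Set G) :=
      hc (commutator_mem_commutator v.2 (zpow_mem (mem_zpowers c) i))
    refine mem_centralizer_iff.2 ?_
    rintro _ ⟨j, rfl⟩
    have e : ⁅(SemidirectProduct.inl v : FF.Model W), ι c ^ i⁆ =
        SemidirectProduct.inl (v * MulAut.conjNormal (c ^ i) v⁻¹) := by
      rw [← map_zpow, map_mul, ← FF.toModel_conj, commutatorElement_def, map_inv, ← hι]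
      simp [mul_assoc]
    show ι c ^ j * ⁅(SemidirectProduct.inl v : FF.Model W), ι c ^ i⁆ =
      ⁅(SemidirectProduct.inl v : FF.Model W), ι c ^ i⁆ * ι c ^ j
    rw [e, ← mul_inv_eq_iff_eq_mul, ← map_zpow, FF.toModel_conj]
    congr 1
    refine Subtype.ext ?_
    have e2 : ((v * MulAut.conjNormal (c ^ i) v⁻¹ : ↥W) : G) = ⁅(v : G), c ^ i⁆ := by
      rw [Subgroup.coe_mul, MulAut.conjNormal_apply, Subgroup.coe_inv, commutatorElement_def]
      group
    rw [MulAut.conjNormal_apply, e2, mem_centralizer_iff.1 h1 _ (zpow_mem (mem_zpowers c) j),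
      mul_inv_cancel_right]
  have hfaith : S.map ι ⊓ centralizer (FF.modV W : Set (FF.Model W)) = ⊥ := by
    refine (eq_bot_iff_forall _).2 ?_
    rintro _ ⟨⟨x, hx, rfl⟩, hc⟩
    refine MonoidHom.mem_ker.1 (hker.ge (mem_centralizer_iff.2 fun v hv => ?_))
    have h1 := mem_centralizer_iff.1 hc (SemidirectProduct.inl ⟨v, hv⟩) ⟨_, rfl⟩
    have h3 := FF.toModel_conj W x ⟨v, hv⟩
    rw [← h1, mul_inv_cancel_right] at h3
    have h4 := congrArg Subtype.val (SemidirectProduct.inl_injective h3)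
    rw [MulAut.conjNormal_apply] at h4
    exact mul_inv_eq_iff_eq_mul.1 h4.symm |>.symm
  have hN : S.map ι ≤ normalizer (FF.modV W : Set (FF.Model W)) := by
    rintro _ ⟨x, -, rfl⟩
    refine mem_normalizer_fintype ?_
    rintro _ ⟨v, rfl⟩
    exact ⟨_, (FF.toModel_conj W x v).symm⟩
  have hnp : ¬ IsPGroup q ↥(S.map ι) := fun h => hg (hSf ▸ h.of_equiv (hιf S).some)
  haveI : Fact (Nat.Prime 2) := ⟨Nat.prime_two⟩
  obtain ⟨T2⟩ : Nonempty (Sylow 2 ↥(S.map ι)) := inferInstance
  have hnc := Cfsg.Agent.S0593.result h2 (FF.modV W) (S.map ι) hVe hN hfaith (ι a) (ι b) hSι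
    (hquadM a hquad) (hquadM b hbquad) hnp T2
  have hdvd : 2 ∣ Nat.card ↥(S.map ι) := by
    by_contra h
    refine hnc ⟨⟨fun x y => ?_⟩⟩
    have hb0 : (T2 : Subgroup ↥(S.map ι)) = ⊥ := Subgroup.eq_bot_of_card_eq _ (by
      rw [T2.card_eq_multiplicity, Nat.factorization_eq_zero_of_not_dvd h, pow_zero])
    exact Subtype.ext ((mem_bot.1 (hb0.le (x * y).2)).trans (mem_bot.1 (hb0.le (y * x).2)).symm)
  obtain ⟨z, hz⟩ := exists_prime_orderOf_dvd_card' (G := ↥(S.map ι)) 2 hdvd
  obtain ⟨z₀, hz₀, hzz₀⟩ := z.2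
  have hz2 : z₀ * z₀ ∈ C := by
    refine hker.le (MonoidHom.mem_ker.2 ?_)
    rw [map_mul, hzz₀, ← pow_two]
    have := pow_orderOf_eq_one z
    rw [hz] at this
    exact congrArg Subtype.val this
  have hz1 : z₀ ∉ C := fun h => by
    have h0 : z = 1 := Subtype.ext (hzz₀ ▸ MonoidHom.mem_ker.1 (hker.ge h))
    rw [h0, orderOf_one] at hz
    omega
  -- endomorphisms of `W`
  haveI hWc : IsMulCommutative ↥W :=
    ⟨⟨fun x y => Subtype.ext (mem_centralizer_iff.1 (hW.comm y.2) x x.2)⟩⟩
  set φ := endAct W with hφ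
  have hφC : ∀ x : G, φ x = 1 → x ∈ C := fun x hx => mem_centralizer_iff.2 fun v hv => by
    have h1 := endAct_apply W x ⟨v, hv⟩
    rw [← hφ, hx] at h1
    change v = x * v * x⁻¹ at h1
    exact (mul_inv_eq_iff_eq_mul.1 h1.symm).symm
  have hsq : ∀ c : G, (∀ v ∈ W, Commute c (c * v * c⁻¹ * v⁻¹)) → (φ c - 1) * (φ c - 1) = 0 := by
    intro c hc
    refine DFunLike.ext _ _ fun w => ?_
    obtain ⟨w, rfl⟩ := Additive.ofMul.surjective w
    show φ c (φ c (Additive.ofMul w) - Additive.ofMul w) - (φ c (Additive.ofMul w) - Additive.ofMul w) = 0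
    rw [sub_eq_zero]
    obtain ⟨u, hu⟩ := Additive.ofMul.surjective (φ c (Additive.ofMul w) - Additive.ofMul w)
    rw [← hu]
    refine Additive.toMul.injective (Subtype.ext ?_)
    have huc : (u : G) = c * (w : G) * c⁻¹ * (w : G)⁻¹ := by
      have h := congrArg (fun x : Additive ↥W => ((Additive.toMul x : ↥W) : G)) hu
      simp only [toMul_ofMul, toMul_sub, div_eq_mul_inv] at h
      rwa [hφ, Subgroup.coe_mul, endAct_apply, Subgroup.coe_inv] at h
    rw [hφ, endAct_apply, toMul_ofMul, huc, (hc w w.2).eq, mul_inv_cancel_right]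
  have htor : ∀ r : AddMonoid.End (Additive ↥W), r + r = 0 → r = 0 := by
    intro r hr
    refine DFunLike.ext _ _ fun w => ?_
    obtain ⟨u, hu⟩ := Additive.ofMul.surjective (r w)
    have h0 : r w + r w = 0 := congrArg (fun e : AddMonoid.End (Additive ↥W) => e w) hr
    show r w = 0
    rw [← hu] at h0 ⊢
    refine Additive.toMul.injective (Subtype.ext ?_)
    have hv2 : (u : G) ^ 2 = 1 := by
      rw [pow_two]
      exact congrArg (fun x : Additive ↥W => ((Additive.toMul x : ↥W) : G)) h0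
    have hvq : (u : G) ^ q = 1 := hexp _ u.2
    obtain ⟨k, hk⟩ := hqf.out.odd_of_ne_two h2
    rw [hk, pow_succ, pow_mul, hv2, one_pow, one_mul] at hvq
    exact hvq
  have hcm : φ z₀ * (φ a - 1) = (φ a - 1) * φ z₀ := by
    refine InversionAlgebra.commute_of_sq_eq_one (B := φ b - 1) (hsq a haq) (hsq b hbq) htor ?_ ?_
    · have h1 : z₀ ∈ Submonoid.closure ({a, b} : Set G) := by
        rw [← Subgroup.closure_toSubmonoid_of_finite]; exact hz₀
      have h3 := Submonoid.mem_map_of_mem φ h1
      rw [MonoidHom.map_mclosure, Set.image_pair] at h3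
      simpa using h3
    · rw [← map_mul]
      refine DFunLike.ext _ _ fun w => ?_
      obtain ⟨w, rfl⟩ := Additive.ofMul.surjective w
      refine Additive.toMul.injective (Subtype.ext ?_)
      rw [hφ, endAct_apply, ← mem_centralizer_iff.1 hz2 _ w.2, mul_inv_cancel_right]
      rfl
  rw [mul_sub, sub_mul, mul_one, one_mul, sub_left_inj, ← map_mul, ← map_mul] at hcm
  have hza : ⁅z₀, a⁆ ∈ C := by
    refine hφC _ ?_
    rw [commutatorElement_def, mul_assoc (z₀ * a) z₀⁻¹, map_mul, hcm, ← map_mul]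
    rw [show a * z₀ * (z₀⁻¹ * a⁻¹) = 1 by group, map_one]
  refine ⟨(centralizer ({f a} : Set (G ⧸ C))).comap f, ?_, ?_, ?_⟩
  · intro htop
    have hn : (zpowers (f a)).Normal := by
      refine ⟨fun x hx y => ?_⟩
      obtain ⟨y, rfl⟩ := QuotientGroup.mk'_surjective C y
      obtain ⟨i, rfl⟩ := mem_zpowers_iff.1 hx
      have : Commute (f y) (f a) := mem_centralizer_singleton_iff.1 (htop.ge (mem_top y))
      rw [(this.zpow_right i).eq, mul_inv_cancel_right]
      exact hx
    have := Core.le_pCore' hn hap (mem_zpowers _)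
    rw [hcore, mem_bot] at this
    exact ha ((QuotientGroup.eq_one_iff _).1 this)
  · refine invIn_of_normalize (P := W) h2 (x := z₀) ?_ ?_ hW.pgroup ?_ hz1 hz2
    · refine mem_centralizer_singleton_iff.2 (commutatorElement_eq_one_iff_mul_comm.1 ?_)
      rw [← map_commutatorElement]
      exact (QuotientGroup.eq_one_iff _).2 hza
    · intro w hw
      refine mem_centralizer_singleton_iff.2 ?_
      rw [show f w = 1 from (QuotientGroup.eq_one_iff _).2 (hW.comm hw), one_mul, mul_one]
    · rw [normalizer_eq_top_iff.2 ‹W.Normal›]; exact mem_top _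
  · intro x hx
    refine mem_centralizer_singleton_iff.2 (commutatorElement_eq_one_iff_mul_comm.1 ?_)
    rw [← map_commutatorElement]
    exact (QuotientGroup.eq_one_iff _).2 hx

/-- The kernel of the action on the factor `M / N`. -/
def act (N M : Subgroup G) [N.Normal] : Subgroup G :=
  (centralizer ((M.map (QuotientGroup.mk' N) : Subgroup (G ⧸ N)) : Set (G ⧸ N))).comap (QuotientGroup.mk' N)

omit [Finite G] in
theorem mem_act {N M : Subgroup G} [N.Normal] {x : G} :
    x ∈ act N M ↔ ∀ m ∈ M, ⁅m, x⁆ ∈ N := by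
  rw [act, mem_comap, mem_centralizer_iff]
  constructor
  · intro h m hm
    rw [← QuotientGroup.eq_one_iff, ← QuotientGroup.mk'_apply, map_commutatorElement]
    exact commutatorElement_eq_one_iff_mul_comm.2 (h _ (mem_map_of_mem _ hm))
  · rintro h _ ⟨m, hm, rfl⟩
    refine commutatorElement_eq_one_iff_mul_comm.1 ?_
    rw [← map_commutatorElement]
    exact (QuotientGroup.eq_one_iff _).2 (h m hm)

omit [Finite G] in
instance act_normal (N M : Subgroup G) [N.Normal] [M.Normal] : (act N M).Normal := by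
  haveI : (M.map (QuotientGroup.mk' N)).Normal :=
    Subgroup.Normal.map inferInstance _ (QuotientGroup.mk'_surjective N)
  exact Subgroup.Normal.comap inferInstance _

/-- Outside the preimage of the largest normal `q`-subgroup modulo `C(B)` there is nontrivial action on a chief
factor of `B`. -/
theorem exists_factor {B : Subgroup G} [B.Normal] (hB : IsPGroup q ↥B) {a : G}
    (ha : (QuotientGroup.mk a : G ⧸ centralizer (B : Set G)) ∉ Cfsg.pCore q (G ⧸ centralizer (B : Set G))) :
    ∃ (N M : Subgroup G) (_ : N.Normal), M.Normal ∧ N ≤ M ∧ M ≤ B ∧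
      MinNormal q (M.map (QuotientGroup.mk' N)) ∧ a ∉ act N M := by
  by_contra hcon
  push Not at hcon
  let K : Subgroup G := ⨅ (N : Subgroup G) (M : Subgroup G) (_ : N.Normal)
    (_ : M.Normal ∧ N ≤ M ∧ M ≤ B ∧ MinNormal q (M.map (QuotientGroup.mk' N))), act N M
  have hKle : ∀ (N M : Subgroup G) (hN : N.Normal),
      (M.Normal ∧ N ≤ M ∧ M ≤ B ∧ MinNormal q (M.map (QuotientGroup.mk' N))) → K ≤ act N M :=
    fun N M hN h => iInf_le_of_le N (iInf_le_of_le M (iInf_le_of_le hN (iInf_le_of_le h le_rfl)))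
  haveI hKn : K.Normal := normal_iInf_normal fun N => normal_iInf_normal fun M =>
    normal_iInf_normal fun hN => normal_iInf_normal fun h => by
      haveI := h.1
      exact act_normal N M
  have key : ∀ D : Subgroup G, D.Normal → D ≤ B → ∀ x ∈ K, ∃ k, x ^ q ^ k ∈ centralizer (D : Set G) := by
    intro D
    induction D using WellFoundedLT.induction with
    | ind D ih =>
    intro hDn hDB x hx
    by_cases hD0 : D = ⊥
    · exact ⟨0, mem_centralizer_iff.2 fun d hd => by
        have : d ∈ (⊥ : Subgroup G) := hD0 ▸ hd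
        rw [mem_bot.1 this, one_mul, mul_one]⟩
    obtain ⟨N, ⟨hND, hNn⟩, hmax⟩ := (Set.toFinite {N : Subgroup G | N < D ∧ N.Normal}).exists_maximal
      ⟨⊥, bot_lt_iff_ne_bot.2 hD0, inferInstance⟩
    haveI := hNn
    have hmin : MinNormal q (D.map (QuotientGroup.mk' N)) := by
      refine ⟨hDn.map _ (QuotientGroup.mk'_surjective N), (hB.to_le hDB).map _, fun h => ?_, fun K' hK' hle => ?_⟩
      · refine hND.not_ge fun d hd => ?_
        have := mem_map_of_mem (QuotientGroup.mk' N) hd
        rw [h, mem_bot] at this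
        exact (QuotientGroup.eq_one_iff d).1 this
      · have hNK : N ≤ K'.comap (QuotientGroup.mk' N) := fun n hn => by
          rw [mem_comap, show QuotientGroup.mk' N n = 1 from (QuotientGroup.eq_one_iff n).2 hn]
          exact one_mem K'
        have hKD : K'.comap (QuotientGroup.mk' N) ≤ D := by
          refine (comap_mono hle).trans ?_
          rw [comap_map_eq, QuotientGroup.ker_mk', sup_eq_left.2 hND.le]
        rw [← map_comap_eq_self_of_surjective (QuotientGroup.mk'_surjective N) K']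
        rcases eq_or_lt_of_le hKD with he | hlt
        · exact .inr (by rw [he])
        · left
          rw [Subgroup.map_eq_bot_iff, QuotientGroup.ker_mk']
          exact hmax ⟨hlt, Subgroup.Normal.comap hK' _⟩ hNK
    obtain ⟨k, hk⟩ := ih N hND hNn (hND.le.trans hDB) x hx
    obtain ⟨c, hc⟩ := IsPGroup.iff_card.1 (hB.to_le (hND.le.trans hDB))
    refine ⟨k + c, mem_centralizer_iff.2 fun d hd => ?_⟩
    set z := x ^ q ^ k with hz
    have hzK : z ∈ act N D := hKle N D hNn ⟨hDn, hND.le, hDB, hmin⟩ (pow_mem hx _)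
    have h1 := inv_mem (mem_act.1 hzK d hd)
    rw [commutatorElement_inv, commutatorElement_def] at h1
    have h3 := QdInvolved.pow_conj_of_commute (c := z * d * z⁻¹ * d⁻¹) rfl
      (mem_centralizer_iff.1 hk _ h1).symm (q ^ c)
    have h4 : (z * d * z⁻¹ * d⁻¹) ^ q ^ c = 1 := by
      rw [← hc]
      exact congrArg Subtype.val (pow_card_eq_one' (x := (⟨_, h1⟩ : ↥N)))
    rw [h4, one_mul, hz, ← pow_mul, ← pow_add] at h3
    exact (mul_inv_eq_iff_eq_mul.1 h3).symm
  refine ha (Core.le_pCore' (hKn.map (QuotientGroup.mk' _) (QuotientGroup.mk'_surjective _)) ?_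
    ⟨a, ?_, rfl⟩)
  · rintro ⟨_, x, hx, rfl⟩
    obtain ⟨k, hk⟩ := key B inferInstance le_rfl x hx
    refine ⟨k, Subtype.ext ?_⟩
    show (QuotientGroup.mk' _ x) ^ q ^ k = 1
    rw [← map_pow]
    exact (QuotientGroup.eq_one_iff _).2 hk
  · show a ∈ K
    simp only [K, mem_iInf]
    exact fun N M hN h => hcon N M hN h.1 h.2.1 h.2.2.1 h.2.2.2

/-- The step for a factor of `G`. -/
theorem exists_proper_invIn (h2 : q ≠ 2) {N M : Subgroup G} [N.Normal] [M.Normal]
    (hmin : MinNormal q (M.map (QuotientGroup.mk' N))) {a : G}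
    (hquad : ⁅⁅M, zpowers a⁆, zpowers a⁆ = ⊥) (ha : a ∉ act N M) :
    ∃ X : Subgroup G, X ≠ ⊤ ∧ InvIn q X ∧ ∀ x : G, ⁅x, a⁆ ∈ act N M → x ∈ X := by
  haveI : (M.map (QuotientGroup.mk' N)).Normal :=
    Subgroup.Normal.map inferInstance _ (QuotientGroup.mk'_surjective N)
  have hq' : ⁅⁅M.map (QuotientGroup.mk' N), zpowers (QuotientGroup.mk' N a)⁆,
      zpowers (QuotientGroup.mk' N a)⁆ = ⊥ := by
    rw [← MonoidHom.map_zpowers, ← Subgroup.map_commutator, ← Subgroup.map_commutator, hquad,
      Subgroup.map_bot]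
  obtain ⟨X, hX, hinv, hmem⟩ := exists_proper_invIn_of_minNormal h2 hmin hq' ha
  refine ⟨X.comap (QuotientGroup.mk' N), fun h => hX ?_, ?_, fun x hx => hmem _ ?_⟩
  · rw [← map_comap_eq_self_of_surjective (QuotientGroup.mk'_surjective N) X, h,
      Subgroup.map_top_of_surjective _ (QuotientGroup.mk'_surjective N)]
  · refine invIn_of_map h2 (QuotientGroup.mk' N) ?_
    rwa [map_comap_eq_self_of_surjective (QuotientGroup.mk'_surjective N)]
  · rw [← map_commutatorElement]
    exact hx

end Cfsg.Lib.Local.InversionZJ
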