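import Cfsg.Agent.Lib.Local.GlaubermanComplement
import Cfsg.Agent.Lib.Local.InversionStep

/-!
# Inversion of `q`-elements is seen in the normalizer of `Z(J(T))`

For an odd prime `q`, if some element of `G` inverts a nontrivial `q`-element, then so does some element of
`N(Z(J(T)))` for a Sylow `q`-subgroup `T`.
-/

set_option autoImplicit false
set_option linter.style.haveILetI false

namespace Cfsg.Lib.Local.InversionZJ

open Subgroup GlaubermanZJ
open scoped commutatorElement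

universe u

variable {G : Type u} [Group G] [Finite G] {q : ℕ} [hqf : Fact q.Prime]

local notation:max "cj" g:max K:max => Subgroup.map (MulEquiv.toMonoidHom (MulAut.conj g)) K

omit [Finite G] in
theorem card_cj (g : G) (K : Subgroup G) : Nat.card ↥(cj g K) = Nat.card ↥K :=
  card_map_of_injective (MulAut.conj g).injective

theorem map_normalizer_subgroup {X : Subgroup G} (S : Subgroup ↥X) :
    (normalizer (centerThompsonAOf S : Set ↥X)).map X.subtype ≤
      X ⊓ normalizer (centerThompsonAOf (S.map X.subtype) : Set G) := by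
  refine le_inf (map_subtype_le _) ?_
  rw [← GlaubermanZJ.map_centerThompsonAOf' X.subtype S X.subtype_injective.injOn]
  exact le_normalizer_map _

/-- The statement to be proved. -/
def Seen (q : ℕ) (G : Type u) [Group G] : Prop :=
  InvIn q (⊤ : Subgroup G) →
    ∃ T : Sylow q G, InvIn q (normalizer (centerThompsonAOf (T : Subgroup G) : Set G))

omit hqf in
theorem seen_subgroup {X : Subgroup G} (h : Seen q ↥X) (hX : InvIn q X) :
    ∃ S : Sylow q ↥X,
      InvIn q (X ⊓ normalizer (centerThompsonAOf ((S : Subgroup ↥X).map X.subtype) : Set G)) := by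
  obtain ⟨S, hS⟩ := h (invIn_top_subgroup hX)
  exact ⟨S, (hS.map X.subtype X.subtype_injective.injOn).mono (map_normalizer_subgroup _)⟩

theorem exists_conj_le_sylow {R : Subgroup G} (hR : IsPGroup q ↥R) (T : Sylow q G) :
    ∃ g : G, cj g R ≤ (T : Subgroup G) := by
  obtain ⟨T', hT'⟩ := hR.exists_le_sylow
  obtain ⟨g, hg⟩ := MulAction.exists_smul_eq G T' T
  refine ⟨g, (map_mono hT').trans (le_of_eq ?_)⟩
  rw [← hg, Sylow.coe_subgroup_smul]
  rfl

/-- Climbing along normalizers of `Z(J(R))`. -/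
theorem climb (IH : ∀ X : Subgroup G, X ≠ ⊤ → Seen q ↥X) (good : Subgroup G → Prop)
    (hconj : ∀ (g : G) (R : Subgroup G), good R → good (cj g R))
    (hmono : ∀ R R' : Subgroup G, good R → R ≤ R' → good R')
    (hnn : ∀ R : Subgroup G, IsPGroup q ↥R → good R → ¬ (centerThompsonAOf R).Normal)
    {X : Subgroup G} (hX : X ≠ ⊤) (hinv : InvIn q X) {R₀ : Subgroup G} (hR₀X : R₀ ≤ X)
    (hR₀ : IsPGroup q ↥R₀) (hgood : good R₀) :
    ∃ T : Sylow q G, InvIn q (normalizer (centerThompsonAOf (T : Subgroup G) : Set G)) := by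
  classical
  have up : ∀ (Y : Subgroup G), Y ≠ ⊤ → InvIn q Y → ∀ R : Subgroup G, R ≤ Y → IsPGroup q ↥R → good R →
      ∃ R' : Subgroup G, IsPGroup q ↥R' ∧ good R' ∧ Nat.card R ≤ Nat.card R' ∧
        InvIn q (normalizer (centerThompsonAOf R' : Set G)) := by
    intro Y hY hYi R hRY hR hg
    obtain ⟨S, hS⟩ := seen_subgroup (IH Y hY) hYi
    obtain ⟨y, hy⟩ := exists_conj_le_sylow (hR.of_equiv (subgroupOfEquivOfLe hRY).symm) S
    have hle : cj (y : G) R ≤ (S : Subgroup ↥Y).map Y.subtype := by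
      rintro _ ⟨r, hr, rfl⟩
      exact ⟨_, hy ⟨⟨r, hRY hr⟩, hr, rfl⟩, rfl⟩
    exact ⟨_, S.isPGroup'.map _, hmono _ _ (hconj y R hg) hle,
      (card_cj (y : G) R).ge.trans (card_le_of_le hle), hS.mono inf_le_right⟩
  obtain ⟨R₁, h1, h1g, -, h1i⟩ := up X hX hinv R₀ hR₀X hR₀ hgood
  obtain ⟨R, ⟨hR, hRg, hRi⟩, hmax⟩ := Set.exists_max_image
    {R : Subgroup G | IsPGroup q ↥R ∧ good R ∧ InvIn q (normalizer (centerThompsonAOf R : Set G))}
    (fun R => Nat.card R) (Set.toFinite _) ⟨R₁, h1, h1g, h1i⟩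
  obtain ⟨T, hRT⟩ := hR.exists_le_sylow
  rcases eq_or_lt_of_le hRT with he | hlt
  · exact ⟨T, he ▸ hRi⟩
  exfalso
  set R' := (T : Subgroup G) ⊓ normalizer (R : Set G) with hR'
  have hlt' : R < R' := Cfsg.Lib.Fusion.lt_inf_normalizer T.isPGroup' hlt
  have hne : normalizer (centerThompsonAOf R : Set G) ≠ ⊤ := fun h =>
    hnn R hR hRg (normalizer_eq_top_iff.1 h)
  obtain ⟨R₂, h2, h2g, hcard, h2i⟩ := up _ hne hRi R'
    (inf_le_right.trans (normalizer_le_normalizer_centerThompsonAOf R))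
    (T.isPGroup'.to_le inf_le_left) (hmono _ _ hRg hlt'.le)
  have := hmax R₂ ⟨h2, h2g, h2i⟩
  exact absurd (hcard.trans this) (not_le.2 (Set.Finite.card_lt_card (Set.toFinite _) hlt'))

/-- The frame of the `ZJ`-theorem without stability. -/
theorem inf_centerThompsonA_normal_of (h2 : q ≠ 2) (P : Sylow q G)
    (hkey : ∀ (B A : Subgroup G) [B.Normal], IsPGroup q ↥B → IsMaxAbIn (P : Subgroup G) A → ¬ B ≤ A →
      B ≤ normalizer (A : Set G) →
      normalClosure ((B ⊓ centerThompsonAOf (P : Subgroup G) : Subgroup G) : Set G) = B →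
      A ≤ (Cfsg.pCore q (G ⧸ centralizer (B : Set G))).comap (QuotientGroup.mk' _))
    (B : Subgroup G) : B.Normal → IsPGroup q ↥B →
      (B ⊓ centerThompsonAOf (P : Subgroup G)).Normal := by
  induction B using WellFoundedLT.induction with
  | ind B ih =>
  intro hBn hBp
  haveI := hBn
  set Z := centerThompsonAOf (P : Subgroup G) with hZ
  have hBP : B ≤ (P : Subgroup G) := le_sylow_of_normal hBp P
  obtain ⟨A₁, hA₁⟩ := exists_isMaxAbIn (P : Subgroup G)
  have hPZ : (P : Subgroup G) ≤ normalizer (Z : Set G) :=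
    le_normalizer.trans (normalizer_le_normalizer_centerThompsonAOf _)
  have hZc : ∀ {x y : G}, x ∈ Z → y ∈ Z → Commute x y := fun hx hy =>
    congrArg Subtype.val (hA₁.2.1.is_comm.comm
      ⟨_, centerThompsonAOf_le_of_isMaxAbIn hA₁ hx⟩ ⟨_, centerThompsonAOf_le_of_isMaxAbIn hA₁ hy⟩)
  by_cases hB0 : B = ⊥
  · rw [hB0, bot_inf_eq]
    infer_instance
  set B₁ := normalClosure ((B ⊓ Z : Subgroup G) : Set G) with hB₁
  have hB₁le : B₁ ≤ B := normalClosure_le_normal (fun x hx => hx.1)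
  rcases eq_or_lt_of_le hB₁le with hB₁eq | hlt
  swap
  · have h := ih B₁ hlt normalClosure_normal (hBp.to_le hB₁le)
    have he : B₁ ⊓ Z = B ⊓ Z :=
      le_antisymm (inf_le_inf_right _ hB₁le) (le_inf subset_normalClosure inf_le_right)
    rwa [he] at h
  have hB'le : ⁅B, B⁆ < B := by
    haveI := hBp.isNilpotent
    haveI : Nontrivial B := (nontrivial_iff_ne_bot B).2 hB0
    have h := Group.IsSolvable.commutator_lt_top_of_nontrivial B
    have h' := (Subgroup.map_subtype_lt_map_subtype (G' := B)).2 h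
    rwa [commutator_def, map_commutator, ← MonoidHom.range_eq_map, range_subtype] at h'
  haveI hY : (⁅B, B⁆ ⊓ Z).Normal := ih _ hB'le inferInstance (hBp.to_le hB'le.le)
  have hBZ : ⁅B, B⁆ ≤ Z := by
    let q := QuotientGroup.mk' (⁅B, B⁆ ⊓ Z)
    haveI : (B.map q).Normal := hBn.map q (QuotientGroup.mk'_surjective _)
    have h1 : ((B ⊓ Z : Subgroup G) : Set G) ⊆
        ((centralizer (B.map q : Set (G ⧸ (⁅B, B⁆ ⊓ Z)))).comap q : Subgroup G) := by
      intro x hx
      rw [SetLike.mem_coe, mem_comap, mem_centralizer_iff]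
      rintro _ ⟨y, hy, rfl⟩
      refine (commutatorElement_eq_one_iff_mul_comm.1 ?_)
      rw [← map_commutatorElement]
      refine (QuotientGroup.eq_one_iff _).2 ⟨commutator_mem_commutator hy hx.1, ?_⟩
      rw [commutatorElement_def]
      exact Z.mul_mem ((mem_normalizer_iff.1 (hPZ (hBP hy)) x).1 hx.2) (Z.inv_mem hx.2)
    have h3 := normalClosure_le_normal h1
    rw [← hB₁, hB₁eq] at h3
    refine le_trans (b := ⁅B, B⁆ ⊓ Z) (commutator_le.2 fun x hx y hy => ?_) inf_le_right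
    rw [← QuotientGroup.eq_one_iff, ← QuotientGroup.mk'_apply, map_commutatorElement]
    exact commutatorElement_eq_one_iff_mul_comm.2
      (mem_centralizer_iff.1 (h3 hy) _ ⟨x, hx, rfl⟩)
  by_cases hall : ∀ A, IsMaxAbIn (P : Subgroup G) A → B ≤ A
  · have hBle : B ≤ Z := by
      obtain ⟨A, hA⟩ := exists_isMaxAbIn (P : Subgroup G)
      rw [hZ, ← familyInf_isMaxAbIn le_rfl ⟨A, hA, hA.1⟩]
      exact le_iInf₂ fun A hA => hall A hA.1
    rw [inf_eq_left.2 hBle]
    exact hBn
  exfalso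
  push Not at hall
  obtain ⟨A', hA', hBA'⟩ := hall
  obtain ⟨A₀, hA₀, hB'A₀, hBA₀, hBN⟩ := exists_normalized_maxAbIn h2 P.isPGroup' hBP
    ⟨A', hA', hBZ.trans (centerThompsonAOf_le_of_isMaxAbIn hA'), hBA'⟩
  set f := QuotientGroup.mk' (centralizer (B : Set G)) with hf
  set L := (Cfsg.pCore q (G ⧸ centralizer (B : Set G))).comap f with hL
  haveI : L.Normal := inferInstance
  have hA₀L : A₀ ≤ L := hkey B A₀ hBp hA₀ hBA₀ hBN hB₁eq
  set R := (P : Subgroup G) ⊓ L with hR
  have hA₀R : A₀ ≤ R := le_inf hA₀.1 hA₀L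
  set X := B ⊓ centerThompsonAOf R with hX
  have hNR : normalizer (R : Set G) ≤ normalizer (X : Set G) := fun g hg =>
    mem_normalizer_fintype fun x hx => ⟨hBn.conj_mem x hx.1 g,
      (mem_normalizer_iff.1 (normalizer_le_normalizer_centerThompsonAOf R hg) x).1 hx.2⟩
  have hCX : centralizer (B : Set G) ≤ normalizer (X : Set G) := fun g hg =>
    mem_normalizer_fintype fun x hx => by
      show g * x * g⁻¹ ∈ X
      rw [← mem_centralizer_iff.1 hg x hx.1, mul_inv_cancel_right]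
      exact hx
  have hLle : L ≤ normalizer (X : Set G) := by
    intro l hl
    have h1 : f l ∈ (P : Subgroup G).map f := by
      rw [← Sylow.coe_mapSurjective (P := P) (QuotientGroup.mk'_surjective _)]
      exact le_sylow_of_normal (Cfsg.Lib.Core.pCore_isPGroup q _) _ hl
    obtain ⟨r, hr, hrl⟩ := h1
    have h3 : r⁻¹ * l ∈ centralizer (B : Set G) := QuotientGroup.eq.1 hrl
    have hrL : r ∈ L := by
      rw [hL, mem_comap, hrl]
      exact hl
    rw [← mul_inv_cancel_left r l]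
    exact mul_mem (hNR (le_normalizer ⟨hr, hrL⟩)) (hCX h3)
  have hXn : X.Normal := by
    have hS : ¬ q ∣ (R.subgroupOf L).index := by
      rw [← relIndex, inf_relIndex_right]
      exact Solv.not_dvd_relIndex_of_isSubnormal P (Subgroup.Normal.isSubnormal inferInstance)
    let RS : Sylow q L :=
      ((P.isPGroup'.to_le inf_le_left).of_equiv
        (subgroupOfEquivOfLe (inf_le_right : R ≤ L)).symm).toSylow hS
    rw [← normalizer_eq_top_iff, eq_top_iff, ← Sylow.normalizer_sup_eq_top RS]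
    refine sup_le ?_ hLle
    rw [IsPGroup.toSylow_coe, map_subgroupOf_eq_of_le (inf_le_right : R ≤ L)]
    exact hNR
  refine hBA₀ ?_
  have hmR : familyInf {A | IsMaxAbIn (P : Subgroup G) A} R = centerThompsonAOf R :=
    familyInf_isMaxAbIn inf_le_left ⟨A₀, hA₀, hA₀R⟩
  have hanti : Z ≤ centerThompsonAOf R := by
    rw [hZ, ← hmR, ← familyInf_isMaxAbIn le_rfl ⟨A₀, hA₀, hA₀.1⟩]
    exact familyInf_anti inf_le_left
  rw [← hB₁eq]
  refine (normalClosure_le_normal (N := X) fun x hx => ⟨hx.1, hanti hx.2⟩).trans (inf_le_right.trans ?_)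
  rw [← hmR]
  exact familyInf_le (𝒜 := {A | IsMaxAbIn (P : Subgroup G) A}) hA₀ hA₀R

/-- Inductive step: nothing normal. -/
theorem seen_of_pCore_eq_bot (IH : ∀ X : Subgroup G, X ≠ ⊤ → Seen q ↥X)
    (hV : Cfsg.pCore q G = ⊥) : Seen q G := by
  rintro ⟨t, -, y, -, hy1, ⟨k, hk⟩, hty⟩
  have hyp : IsPGroup q ↥(zpowers y) := by
    rintro ⟨w, m, hm⟩
    refine ⟨k, Subtype.ext ?_⟩
    show w ^ q ^ k = 1
    rw [← hm]
    show (y ^ m) ^ q ^ k = 1
    rw [← zpow_natCast, ← _root_.zpow_mul, mul_comm, _root_.zpow_mul, zpow_natCast, hk, one_zpow]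
  have hne : zpowers y ≠ ⊥ := fun h => hy1 (by simpa [h] using mem_zpowers y)
  have hX : normalizer (zpowers y : Set G) ≠ ⊤ := fun h => by
    have := Core.le_pCore' (normalizer_eq_top_iff.1 h) hyp
    rw [hV, le_bot_iff] at this
    exact hne this
  refine climb IH (fun R => R ≠ ⊥) (fun g R hR h => hR ?_) (fun R R' hR hle h => hR (le_bot_iff.1 (h ▸ hle)))
    (fun R hR hne' hn => ?_) hX ⟨t, ?_, y, le_normalizer (mem_zpowers y), hy1, ⟨k, hk⟩, hty⟩
    le_normalizer hyp hne
  · rwa [Subgroup.map_eq_bot_iff, (MonoidHom.ker_eq_bot_iff _).2 (MulAut.conj g).injective, le_bot_iff] at h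
  · have := Core.le_pCore' hn (hR.to_le (centerThompsonAOf_le R))
    rw [hV, le_bot_iff] at this
    exact centerThompsonAOf_ne_bot (p := q) hR hne' this
  · refine mem_normalizer_fintype fun x hx => ?_
    obtain ⟨i, rfl⟩ := mem_zpowers_iff.1 hx
    exact mem_zpowers_iff.2 ⟨-i, by rw [← conj_zpow, hty, inv_zpow, zpow_neg]⟩

theorem seen_step (h2 : q ≠ 2) (IH : ∀ X : Subgroup G, X ≠ ⊤ → Seen q ↥X)
    (IHq : Cfsg.pCore q G ≠ ⊥ → Seen q (G ⧸ Cfsg.pCore q G)) : Seen q G := by
  classical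
  by_cases hV0 : Cfsg.pCore q G = ⊥
  · exact seen_of_pCore_eq_bot IH hV0
  intro hinv
  by_contra hno
  set V := Cfsg.pCore q G with hVdef
  have hVp : IsPGroup q ↥V := Core.pCore_isPGroup q G
  have hno' : ∀ T : Sylow q G, ¬ InvIn q (normalizer (centerThompsonAOf (T : Subgroup G) : Set G)) :=
    fun T h => hno ⟨T, h⟩
  have hTN : ∀ T : Sylow q G, ¬ (centerThompsonAOf (T : Subgroup G)).Normal := fun T h =>
    hno' T (by rw [normalizer_eq_top_iff.2 h]; exact hinv)
  have hover : ∀ (T : Sylow q G) (X : Subgroup G), (T : Subgroup G) ≤ X → X ≠ ⊤ → ¬ InvIn q X := by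
    intro T X hTX hX hXi
    obtain ⟨S, hS⟩ := seen_subgroup (IH X hX) hXi
    have hc : Nat.card ↥((S : Subgroup ↥X).map X.subtype) = Nat.card (T : Subgroup G) := by
      rw [card_map_of_injective X.subtype_injective, Nat.card_congr (Sylow.equiv S (T.subtype hTX)).toEquiv,
        Sylow.coe_subtype, Nat.card_congr (subgroupOfEquivOfLe hTX).toEquiv]
    let S' : Sylow q G := Sylow.ofCard ((S : Subgroup ↥X).map X.subtype)
      (hc.trans T.card_eq_multiplicity)
    refine hno' S' ?_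
    rw [Sylow.coe_ofCard]
    exact hS.mono inf_le_right
  -- the quotient has no inversion
  have hfree : ¬ InvIn q (⊤ : Subgroup (G ⧸ V)) := by
    intro h
    obtain ⟨S, hS⟩ := IHq hV0 h
    set f := QuotientGroup.mk' V
    have hfs : Function.Surjective f := QuotientGroup.mk'_surjective V
    have hSp : IsPGroup q ↥((S : Subgroup (G ⧸ V)).comap f) :=
      S.isPGroup'.comap_of_ker_isPGroup f (by rwa [QuotientGroup.ker_mk'])
    let T : Sylow q G := hSp.toSylow (by rw [index_comap_of_surjective _ hfs]; exact S.not_dvd_index)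
    set K := (normalizer (centerThompsonAOf (S : Subgroup (G ⧸ V)) : Set (G ⧸ V))).comap f with hK
    have hTK : (T : Subgroup G) ≤ K := by
      rw [IsPGroup.toSylow_coe]
      exact comap_mono (le_normalizer.trans (normalizer_le_normalizer_centerThompsonAOf _))
    rw [← map_comap_eq_self_of_surjective hfs (normalizer _)] at hS
    refine hover T K hTK (fun hKtop => ?_) (invIn_of_map h2 f hS)
    have hn : (centerThompsonAOf (S : Subgroup (G ⧸ V))).Normal := by
      rw [← normalizer_eq_top_iff, ← map_comap_eq_self_of_surjective hfs (normalizer _), ← hK, hKtop,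
        Subgroup.map_top_of_surjective _ hfs]
    have h0 := Core.le_pCore' hn (S.isPGroup'.to_le (centerThompsonAOf_le _))
    rw [Core.pCore_quotient_pCore_eq_bot, le_bot_iff] at h0
    have hS0 : (S : Subgroup (G ⧸ V)) = ⊥ :=
      by_contra fun hne => centerThompsonAOf_ne_bot (p := q) S.isPGroup' hne h0
    have hTV : (T : Subgroup G) = V := by
      rw [IsPGroup.toSylow_coe, hS0, MonoidHom.comap_bot, QuotientGroup.ker_mk']
    refine hTN T ?_
    rw [hTV, ← normalizer_eq_top_iff, eq_top_iff]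
    refine le_trans ?_ (normalizer_le_normalizer_centerThompsonAOf V)
    rw [normalizer_eq_top_iff.2 (inferInstance : V.Normal)]
  obtain ⟨T⟩ : Nonempty (Sylow q G) := inferInstance
  set Z := centerThompsonAOf (T : Subgroup G) with hZ
  have hVT : V ≤ (T : Subgroup G) := Core.pCore_le_sylow T
  have hTZn : (T : Subgroup G) ≤ normalizer (Z : Set G) :=
    le_normalizer.trans (normalizer_le_normalizer_centerThompsonAOf _)
  obtain ⟨A₁, hA₁⟩ := exists_isMaxAbIn (T : Subgroup G)
  have hquadA : ∀ (M A : Subgroup G), IsMulCommutative ↥A → M ≤ normalizer (A : Set G) → ∀ a ∈ A,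
      ⁅⁅M, zpowers a⁆, zpowers a⁆ = ⊥ := by
    intro M A hAc hMA a ha
    rw [commutator_eq_bot_iff_le_centralizer, commutator_le]
    intro x hx y hy z hz
    have haA : zpowers a ≤ A := zpowers_le.2 ha
    have h1 : ⁅x, y⁆ ∈ A := A.mul_mem ((mem_normalizer_iff.1 (hMA hx) y).1 (haA hy)) (A.inv_mem (haA hy))
    exact congrArg Subtype.val (hAc.is_comm.comm ⟨z, haA hz⟩ ⟨_, h1⟩)
  -- an inverted element of `V`
  obtain ⟨t, y, hy1, hyk, hty, hyV⟩ : ∃ t y : G, y ≠ 1 ∧ (∃ k : ℕ, y ^ q ^ k = 1) ∧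
      t * y * t⁻¹ = y⁻¹ ∧ y ∈ V := by
    obtain ⟨t, -, y, -, hy1, ⟨k, hk⟩, hty⟩ := hinv
    refine ⟨t, y, hy1, ⟨k, hk⟩, hty, ?_⟩
    by_contra hyV
    refine hfree ⟨QuotientGroup.mk' V t, mem_top _, QuotientGroup.mk' V y, mem_top _,
      fun h => hyV ((QuotientGroup.eq_one_iff y).1 h), ⟨k, by rw [← map_pow, hk, map_one]⟩, ?_⟩
    rw [← map_inv, ← map_mul, ← map_mul, hty, map_inv]
  -- `Z ≤ V`
  set C := centralizer (V : Set G) with hC
  set L := (Cfsg.pCore q (G ⧸ C)).comap (QuotientGroup.mk' C) with hL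
  haveI : L.Normal := inferInstance
  have hZL : Z ≤ L := by
    intro z hz
    by_contra hzL
    obtain ⟨N, M, hN, hM, hNM, hMV, hmin, hact⟩ := exists_factor hVp hzL
    haveI := hM
    -- a central element
    set f := QuotientGroup.mk' (act N M)
    haveI : (Z.subgroupOf (T : Subgroup G)).Normal := normal_subgroupOf_of_le_normalizer hTZn
    set Tb := (T : Subgroup G).map f
    have hnn : ((Z.map f).subgroupOf Tb).Normal := by
      refine normal_subgroupOf_of_le_normalizer ?_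
      rintro _ ⟨s, hs, rfl⟩
      exact le_normalizer_map f ⟨s, hTZn hs, rfl⟩
    have hne : (Z.map f).subgroupOf Tb ≠ ⊥ := by
      rw [Ne, subgroupOf_eq_bot, disjoint_iff, inf_eq_left.2 (map_mono (centerThompsonAOf_le _))]
      exact fun h => hact ((QuotientGroup.eq_one_iff z).1 (mem_bot.1 (h ▸ mem_map_of_mem f hz)))
    haveI := hnn
    obtain ⟨c, hc, hc1⟩ := (bot_or_exists_ne_one ((Z.map f).subgroupOf Tb ⊓ center _)).resolve_left
      (fun e => PGroup.inf_center_ne_bot (T.isPGroup'.map f) hne e)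
    obtain ⟨a, haZ, hac⟩ := hc.1
    have haM : a ∉ act N M := fun h => hc1 (Subtype.ext (hac.symm.trans ((QuotientGroup.eq_one_iff a).2 h)))
    obtain ⟨X, hX, hXi, hXmem⟩ := exists_proper_invIn h2 hmin
      (hquadA M Z ⟨⟨fun u v => Subtype.ext (congrArg Subtype.val (hA₁.2.1.is_comm.comm
        ⟨u, centerThompsonAOf_le_of_isMaxAbIn hA₁ u.2⟩ ⟨v, centerThompsonAOf_le_of_isMaxAbIn hA₁ v.2⟩) : _)⟩⟩
        (hMV.trans (hVT.trans hTZn)) a haZ) haM
    refine hover T X (fun s hs => hXmem s ?_) hX hXi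
    rw [← QuotientGroup.eq_one_iff, ← QuotientGroup.mk'_apply, map_commutatorElement,
      commutatorElement_eq_one_iff_mul_comm]
    have := congrArg Subtype.val (mem_center_iff.1 hc.2 ⟨f s, mem_map_of_mem f hs⟩)
    rw [hac]
    exact this
  have hZV : Z ≤ V := by
    set S := (T : Subgroup G) ⊓ L with hS
    have hSi : ¬ q ∣ (S.subgroupOf L).index := by
      rw [← relIndex, inf_relIndex_right]
      exact Solv.not_dvd_relIndex_of_isSubnormal T (Subgroup.Normal.isSubnormal inferInstance)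
    let SS : Sylow q L := ((T.isPGroup'.to_le inf_le_left).of_equiv
        (subgroupOfEquivOfLe (inf_le_right : S ≤ L)).symm).toSylow hSi
    have htop := Sylow.normalizer_sup_eq_top SS
    rw [IsPGroup.toSylow_coe, map_subgroupOf_eq_of_le (inf_le_right : S ≤ L)] at htop
    by_cases hSn : normalizer (S : Set G) = ⊤
    · refine (le_inf (centerThompsonAOf_le _) hZL).trans ?_
      exact Core.le_pCore' (normalizer_eq_top_iff.1 hSn) (T.isPGroup'.to_le inf_le_left)
    exfalso
    have hTS : (T : Subgroup G) ≤ normalizer (S : Set G) := le_normalizer_iff.2 fun s hs x hx =>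
      mem_inf.2 ⟨mul_mem (mul_mem hs (mem_inf.1 hx).1) (inv_mem hs),
        (inferInstance : L.Normal).conj_mem x (mem_inf.1 hx).2 s⟩
    refine hover T _ hTS hSn ?_
    obtain ⟨n, hn, l, hl, hnl⟩ : ∃ n ∈ normalizer (S : Set G), ∃ l ∈ L, n * l = t :=
      mem_sup_of_normal_right.1 (htop.ge (mem_top t))
    have h1 : QuotientGroup.mk' C l ∈ (T : Subgroup G).map (QuotientGroup.mk' C) := by
      rw [← Sylow.coe_mapSurjective (P := T) (QuotientGroup.mk'_surjective _)]
      exact Core.pCore_le_sylow _ hl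
    obtain ⟨r, hr, hrl⟩ := h1
    have h3 : r⁻¹ * l ∈ C := QuotientGroup.eq.1 hrl
    have hrS : r ∈ S := ⟨hr, show QuotientGroup.mk' C r ∈ Cfsg.pCore q (G ⧸ C) by rw [hrl]; exact hl⟩
    refine ⟨n * r, mul_mem hn (le_normalizer hrS), y, hTS (hVT hyV), hy1, hyk, ?_⟩
    have e : r⁻¹ * l * y * (r⁻¹ * l)⁻¹ = y := by
      rw [← mem_centralizer_iff.1 h3 y hyV, mul_inv_cancel_right]
    calc n * r * y * (n * r)⁻¹ = n * r * (r⁻¹ * l * y * (r⁻¹ * l)⁻¹) * (n * r)⁻¹ := by rw [e]
      _ = (n * l) * y * (n * l)⁻¹ := by group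
      _ = y⁻¹ := by rw [hnl, hty]
  -- the `ZJ` argument
  refine hTN T ?_
  have hfin := inf_centerThompsonA_normal_of h2 T (fun B A _ hBp hA hBA hBN hBcl => ?_) V inferInstance hVp
  · rwa [inf_eq_right.2 hZV] at hfin
  intro a ha
  by_contra haL
  obtain ⟨N, M, hN, hM, hNM, hMB, hmin, hact⟩ := exists_factor hBp haL
  haveI := hM
  obtain ⟨X, hX, hXi, hXmem⟩ := exists_proper_invIn h2 hmin
    (hquadA M A hA.2.1 (hMB.trans hBN) a ha) hact
  have hAX : A ≤ X := fun x hx => hXmem x (by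
    rw [commutatorElement_eq_one_iff_mul_comm.2
      (congrArg Subtype.val (hA.2.1.is_comm.comm ⟨x, hx⟩ ⟨a, ha⟩))]
    exact one_mem _)
  refine hno (climb IH (fun R => ∃ A' ≤ R, IsMulCommutative ↥A' ∧ Nat.card A' = Nat.card A ∧ ¬ B ≤ A')
    ?_ ?_ ?_ hX hXi hAX (T.isPGroup'.to_le hA.1) ⟨A, le_rfl, hA.2.1, rfl, hBA⟩)
  · rintro g R ⟨A', hle, hc, hcard, hB⟩
    refine ⟨cj g A', map_mono hle, (haveI := hc; inferInstance), (card_cj g A').trans hcard, fun h => hB ?_⟩
    intro b hb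
    obtain ⟨x, hx, hxe⟩ := h ((inferInstance : B.Normal).conj_mem b hb g)
    rw [MulEquiv.coe_toMonoidHom, MulAut.conj_apply, mul_left_inj, mul_right_inj] at hxe
    exact hxe ▸ hx
  · rintro R R' ⟨A', hle, h⟩ hRR'
    exact ⟨A', hle.trans hRR', h⟩
  · rintro R hR ⟨A', hle, hc, hcard, hB⟩ hn
    obtain ⟨T', hT'⟩ := hR.exists_le_sylow
    have hA'T : IsMaxAbIn (T' : Subgroup G) A' := by
      refine ⟨hle.trans hT', hc, fun D hD hDc => ?_⟩
      obtain ⟨g, hg⟩ := exists_conj_le_sylow (T'.isPGroup'.to_le hD) T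
      rw [hcard, ← card_cj g D]
      exact hA.2.2 _ hg (haveI := hDc; inferInstance)
    have hmR := familyInf_isMaxAbIn hT' ⟨A', hA'T, hle⟩
    have hYA : centerThompsonAOf R ≤ A' := by
      rw [← hmR]
      exact familyInf_le (𝒜 := {A | IsMaxAbIn (T' : Subgroup G) A}) hA'T hle
    have hanti : centerThompsonAOf (T' : Subgroup G) ≤ centerThompsonAOf R := by
      rw [← hmR, ← familyInf_isMaxAbIn le_rfl ⟨A', hA'T, hA'T.1⟩]
      exact familyInf_anti hT'
    obtain ⟨g, hg⟩ := MulAction.exists_smul_eq G T' T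
    have hgT : cj g (T' : Subgroup G) = (T : Subgroup G) := by
      rw [← hg, Sylow.coe_subgroup_smul]
      rfl
    have hZY : Z ≤ centerThompsonAOf R := by
      rw [hZ, ← hgT, ← GlaubermanZJ.map_centerThompsonAOf]
      rintro _ ⟨x, hx, rfl⟩
      exact hn.conj_mem x (hanti hx) g
    refine hB ?_
    rw [← hBcl]
    haveI := hn
    exact (normalClosure_le_normal fun x hx => hZY hx.2).trans hYA

/-- Inversion of `q`-elements is seen in the normalizer of `Z(J(T))`. -/
theorem seen (h2 : q ≠ 2) : ∀ (n : ℕ) (H : Type u) [Group H] [Finite H], Nat.card H = n → Seen q H := by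
  intro n
  induction n using Nat.strong_induction_on with
  | _ n ih =>
  intro H _ _ hn
  refine seen_step h2 (fun X hX => ?_) (fun hV => ih _ ?_ _ rfl)
  · refine ih _ ?_ _ rfl
    rw [← hn, ← card_top (G := H)]
    exact Set.Finite.card_lt_card (Set.toFinite _) (SetLike.coe_ssubset_coe.2 (lt_top_iff_ne_top.2 hX))
  · haveI : Nontrivial ↥(Cfsg.pCore q H) := (nontrivial_iff_ne_bot _).2 hV
    rw [← hn, card_eq_card_quotient_mul_card_subgroup (Cfsg.pCore q H)]
    exact lt_mul_of_one_lt_right Nat.card_pos Finite.one_lt_card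

/-- Inversion is seen in the normalizer of `Z(J(T))` for every Sylow subgroup `T`. -/
theorem exists_inverted_mem (h2 : q ≠ 2) {H : Type u} [Group H] [Finite H]
    (h : InvIn q (⊤ : Subgroup H)) (T : Sylow q H) :
    ∃ x ∈ (T : Subgroup H), x ≠ 1 ∧
      ∃ g ∈ normalizer (centerThompsonAOf (T : Subgroup H) : Set H), g * x * g⁻¹ = x⁻¹ := by
  obtain ⟨T', hT'⟩ := seen h2 _ H rfl h
  obtain ⟨c, hc⟩ := MulAction.exists_smul_eq H T' T
  have hcT : cj c (T' : Subgroup H) = (T : Subgroup H) := by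
    rw [← hc, Sylow.coe_subgroup_smul]
    rfl
  have h1 := (hT'.conj c).mono (Y := normalizer (centerThompsonAOf (T : Subgroup H) : Set H)) (by
    rw [← hcT, ← GlaubermanZJ.map_centerThompsonAOf]
    exact le_normalizer_map _)
  obtain ⟨g, hg, y, hy, hy1, ⟨k, hk⟩, hgy⟩ := h1
  set N := normalizer (centerThompsonAOf (T : Subgroup H) : Set H)
  have hTN : (T : Subgroup H) ≤ N :=
    le_normalizer.trans (normalizer_le_normalizer_centerThompsonAOf _)
  have hyp : IsPGroup q ↥((zpowers y).subgroupOf N) := by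
    rintro ⟨w, hw⟩
    refine ⟨k, Subtype.ext (Subtype.ext ?_)⟩
    obtain ⟨m, hm⟩ := hw
    show (w : H) ^ q ^ k = 1
    rw [← show y ^ m = (w : H) from hm, ← zpow_natCast, ← _root_.zpow_mul, mul_comm, _root_.zpow_mul,
      zpow_natCast, hk, one_zpow]
  obtain ⟨n, hn⟩ := exists_conj_le_sylow hyp (T.subtype hTN)
  have hx : (n : H) * y * (n : H)⁻¹ ∈ (T : Subgroup H) := hn ⟨⟨y, hy⟩, mem_zpowers y, rfl⟩
  refine ⟨_, hx, fun h => hy1 (by simpa using h), n * g * n⁻¹, mul_mem (mul_mem n.2 hg) (inv_mem n.2), ?_⟩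
  calc (n : H) * g * (n : H)⁻¹ * (n * y * (n : H)⁻¹) * ((n : H) * g * (n : H)⁻¹)⁻¹
      = n * (g * y * g⁻¹) * (n : H)⁻¹ := by group
    _ = _ := by rw [hgy]; group

end Cfsg.Lib.Local.InversionZJ
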