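import Cfsg.Agent.Lib.Local.MinimalFamily

/-!
Groups generated by an invariant family of strongly `p`-irreducible subgroups.
-/

set_option autoImplicit false
set_option linter.style.haveILetI false

namespace Cfsg.Lib.Local

open Subgroup Cfsg.Lib
open scoped commutatorElement

variable {p : ℕ}

section Transfer

variable {A B : Type*} [Group A] [Group B]

theorem isStronglyPIrreducible_of_equiv [Finite A] [Fact p.Prime] (e : A ≃* B)
    (h : IsStronglyPIrreducible p A) : IsStronglyPIrreducible p B := by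
  haveI : Finite B := Finite.of_equiv A e.toEquiv
  refine ⟨mt (isPClosed_congr e).mpr h.1, fun N hN hc => ?_⟩
  haveI : (N.map e.symm.toMonoidHom).Normal := hN.map _ e.symm.surjective
  have hmm : ∀ X : Subgroup B, (X.map e.symm.toMonoidHom).map e.toMonoidHom = X := fun X => by
    rw [Subgroup.map_map]
    convert Subgroup.map_id X
    ext x; simp
  have h1 := h.2 (N.map e.symm.toMonoidHom) inferInstance fun hle => hc ?_
  · rw [← Fusion.map_pResidual_equiv e, ← hmm N]
    exact map_mono h1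
  · have h2 := map_mono (f := e.toMonoidHom) hle
    rwa [map_commutator, hmm, map_top_of_surjective (e.toMonoidHom) e.surjective, Core.map_pCore_equiv e] at h2

theorem isStronglyPIrreducible_of_surjective [Finite A] [Fact p.Prime] {f : A →* B}
    (hf : Function.Surjective f) (hk : IsPGroup p f.ker) (h : IsStronglyPIrreducible p A) :
    IsStronglyPIrreducible p B :=
  isStronglyPIrreducible_of_equiv (QuotientGroup.quotientKerEquivOfSurjective f hf)
    ((isStronglyPIrreducible_quotient_iff f.ker hk).mpr h)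

end Transfer

variable {H : Type*} [Group H]

theorem isStronglyPIrreducible_sup [Finite H] [Fact p.Prime] {E D : Subgroup H} [D.Normal] (hD : IsPGroup p D)
    (h : IsStronglyPIrreducible p E) : IsStronglyPIrreducible p (E ⊔ D : Subgroup H) := by
  obtain ⟨f, hf, hk⟩ := exists_surjective_to_quotient (p := p) E D hD
  exact (isStronglyPIrreducible_quotient_iff _ (hD.comap_of_injective _ (E ⊔ D).subtype_injective)).mp
    (isStronglyPIrreducible_of_surjective hf hk h)

/-- If `[x, X] ≤ Z`, `Z` is centralized by `X` modulo `D` and its `p`-elements lie in `D`, then every `p`-element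
of `X` commutes with `x` modulo `D`; hence so does `X` if it is generated by `p`-elements. -/
theorem commutator_mem_of_hom_trick [Fact p.Prime] {D : Subgroup H} [D.Normal] {X Z : Subgroup H} {x : H}
    (hgen : X ≤ closure {y | y ∈ X ∧ ∃ k : ℕ, orderOf y = p ^ k}) (hx : ∀ y ∈ X, ⁅x, y⁆ ∈ Z)
    (hZX : ⁅Z, X⁆ ≤ D) (hZ : ∀ z ∈ Z, ∀ k : ℕ, z ^ p ^ k ∈ D → z ∈ D) :
    ∀ y ∈ X, ⁅x, y⁆ ∈ D := by
  let S : Subgroup H :=
    { carrier := {y | ⁅x, y⁆ ∈ D}
      one_mem' := by simp
      mul_mem' := fun {a b} ha hb => by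
        show ⁅x, a * b⁆ ∈ D
        rw [show ⁅x, a * b⁆ = ⁅x, a⁆ * (a * ⁅x, b⁆ * a⁻¹) by simp only [commutatorElement_def]; group]
        exact mul_mem ha ((inferInstance : D.Normal).conj_mem _ hb a)
      inv_mem' := fun {a} ha => by
        show ⁅x, a⁻¹⁆ ∈ D
        rw [show ⁅x, a⁻¹⁆ = a⁻¹ * ⁅x, a⁆⁻¹ * a⁻¹⁻¹ by simp only [commutatorElement_def]; group]
        exact (inferInstance : D.Normal).conj_mem _ (inv_mem ha) _ }
  suffices h : closure {y | y ∈ X ∧ ∃ k : ℕ, orderOf y = p ^ k} ≤ S from fun y hy => h (hgen hy)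
  rw [closure_le]
  rintro y ⟨hy, k, hk⟩
  refine hZ _ (hx y hy) k ?_
  -- modulo `D` the commutator is central with the same order
  let f := QuotientGroup.mk' D
  have hcomm : Commute (f ⁅x, y⁆) (f y) := by
    have h1 : f ⁅⁅x, y⁆, y⁆ = 1 := (QuotientGroup.eq_one_iff _).mpr (hZX (commutator_mem_commutator (hx y hy) hy))
    rw [map_commutatorElement, commutatorElement_eq_one_iff_commute] at h1
    exact h1
  have h2 : f x * f y * (f x)⁻¹ = f ⁅x, y⁆ * f y := by
    rw [map_commutatorElement, commutatorElement_def, inv_mul_cancel_right]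
  have h3 : (f ⁅x, y⁆ * f y) ^ p ^ k = 1 := by
    rw [← h2, conj_pow, ← map_pow, ← hk, pow_orderOf_eq_one, map_one, mul_one, mul_inv_cancel]
  rw [hcomm.mul_pow, ← map_pow, ← map_pow, ← hk, pow_orderOf_eq_one, map_one, mul_one, hk] at h3
  exact (QuotientGroup.eq_one_iff _).mp h3

theorem pElement_le [Finite H] [Fact p.Prime] {z : H} {D : Subgroup H} (hD : IsPGroup p D) [D.Normal] {k : ℕ}
    (h : z ^ p ^ k ∈ D) : IsPGroup p (zpowers z ⊔ D : Subgroup H) := by
  refine isPGroup_sup_of_le_normalizer ?_ hD (le_normalizer_normal _)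
  obtain ⟨m, hm⟩ := hD ⟨_, h⟩
  have h1 : z ^ p ^ (k + m) = 1 := by
    rw [pow_add, pow_mul]
    exact congrArg Subtype.val hm
  intro w
  obtain ⟨i, hi⟩ := mem_zpowers_iff.mp w.2
  refine ⟨k + m, Subtype.ext ?_⟩
  rw [coe_pow, ← hi, ← zpow_natCast, ← zpow_mul, mul_comm, zpow_mul, zpow_natCast, h1, one_zpow, coe_one]

/-- `p`-elements of a subgroup of `X` centralized by `X` modulo `O_p (H)` lie in `O_p (H)`, for `X` subnormal. -/
theorem mem_pCore_of_central [Finite H] [Fact p.Prime] {X : Subgroup H} (hX : X.IsSubnormal)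
    (hDX : pCore p H ≤ X) {z : H} (hz : z ∈ X) (hc : ∀ y ∈ X, ⁅z, y⁆ ∈ pCore p H) {k : ℕ}
    (hk : z ^ p ^ k ∈ pCore p H) : z ∈ pCore p H := by
  set D := pCore p H
  set N := zpowers z ⊔ D
  have hNX : N ≤ X := sup_le (zpowers_le.mpr hz) hDX
  have hn : X ≤ normalizer (N : Set H) := by
    have key : ∀ y ∈ X, N.map (MulAut.conj y).toMonoidHom ≤ N := fun y hy => by
      rw [Subgroup.map_sup, MonoidHom.map_zpowers, Core.normal_iff_map_conj.mp inferInstance y]
      refine sup_le (zpowers_le.mpr ?_) le_sup_right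
      show y * z * y⁻¹ ∈ N
      rw [show y * z * y⁻¹ = ⁅z, y⁆⁻¹ * z by simp only [commutatorElement_def]; group]
      exact mul_mem (mem_sup_right (inv_mem (hc y hy))) (mem_sup_left (mem_zpowers z))
    intro y hy
    refine Core.mem_normalizer_iff_map_conj.mpr (le_antisymm (key y hy) ?_)
    have := map_mono (f := (MulAut.conj y).toMonoidHom) (key y⁻¹ (inv_mem hy))
    rwa [← Core.map_conj_mul, mul_inv_cancel, Core.map_conj_eq_of_mem_normalizer (one_mem _)] at this
  exact Core.le_pCore_of_isSubnormal (p := p)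
    (IsSubnormal.step N X hNX hX ((normal_subgroupOf_iff_le_normalizer hNX).mpr hn))
    (pElement_le (Core.pCore_isPGroup p H) hk) (mem_sup_left (mem_zpowers z))

namespace FamilyData

variable [Finite H] [hp : Fact p.Prime] {𝔏 : Set (Subgroup H)} (F : FamilyData p 𝔏)
  (hirr : ∀ L ∈ 𝔏, IsStronglyPIrreducible p L)

include F hirr

omit hirr in
theorem pCore_map {L : Subgroup H} (hL : L ∈ 𝔏) : (pCore p L).map L.subtype = pCore p H := by
  rw [Core.pCore_map_eq_inf_of_isSubnormal (F.isSubnormal hL), inf_eq_left.mpr (F.core L hL)]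

theorem dichotomy {L : Subgroup H} (hL : L ∈ 𝔏) {N : Subgroup H} (hN : N ≤ L) (hn : L ≤ normalizer (N : Set H)) :
    ⁅N, L⁆ ≤ pCore p H ∨ Res p L ≤ N := by
  by_cases h : ⁅N.subgroupOf L, (⊤ : Subgroup L)⁆ ≤ pCore p L
  · left
    have := map_mono (f := L.subtype) h
    rwa [map_commutator, map_subgroupOf_eq_of_le hN, ← MonoidHom.range_eq_map, range_subtype, F.pCore_map hL] at this
  · right
    haveI := (normal_subgroupOf_iff_le_normalizer hN).mpr hn
    have := map_mono (f := L.subtype) ((hirr L hL).2 _ inferInstance h)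
    rwa [map_subgroupOf_eq_of_le hN] at this

theorem generated {L : Subgroup H} (hL : L ∈ 𝔏) : L ≤ closure {y | y ∈ L ∧ ∃ k : ℕ, orderOf y = p ^ k} := by
  set N := closure {y | y ∈ L ∧ ∃ k : ℕ, orderOf y = p ^ k} with hN
  have hNL : N ≤ L := (closure_le _).mpr fun y hy => hy.1
  have hn : L ≤ normalizer (N : Set H) := by
    have key : ∀ l ∈ L, N.map (MulAut.conj l).toMonoidHom ≤ N := fun l hl => by
      rw [hN, MonoidHom.map_closure, closure_le]
      rintro _ ⟨y, ⟨hy, k, hk⟩, rfl⟩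
      refine subset_closure ⟨mul_mem (mul_mem hl hy) (inv_mem hl), k, ?_⟩
      show orderOf ((MulAut.conj l) y) = _
      rw [MulEquiv.orderOf_eq, hk]
    intro l hl
    refine Core.mem_normalizer_iff_map_conj.mpr (le_antisymm (key l hl) ?_)
    have := map_mono (f := (MulAut.conj l).toMonoidHom) (key l⁻¹ (inv_mem hl))
    rwa [← Core.map_conj_mul, mul_inv_cancel, Core.map_conj_eq_of_mem_normalizer (one_mem _)] at this
  rcases F.dichotomy hirr hL hNL hn with h | h
  · exfalso
    refine (hirr L hL).1 (isPClosed_iff_le.mpr fun P hP y hy => ?_)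
    obtain ⟨k, hk⟩ := IsPGroup.iff_orderOf.mp hP ⟨y, hy⟩
    have hk' : orderOf (y : H) = p ^ k := by
      rw [orderOf_coe]
      rwa [orderOf_mk] at hk
    have hyD : (y : H) ∈ pCore p H := mem_pCore_of_central (F.isSubnormal hL) (F.core L hL) y.2
      (fun l hl => h (commutator_mem_commutator (subset_closure ⟨y.2, k, hk'⟩) hl))
      (k := k) (by rw [← hk', pow_orderOf_eq_one]; exact one_mem _)
    rw [← F.pCore_map hL] at hyD
    obtain ⟨y', hy', e⟩ := hyD
    rwa [← Subtype.ext e]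
  · obtain ⟨T⟩ : Nonempty (Sylow p H) := inferInstance
    refine (sylow_sup_res T (F.isSubnormal hL)).ge.trans (sup_le (fun y hy => ?_) h)
    obtain ⟨k, hk⟩ := IsPGroup.iff_orderOf.mp T.2 ⟨y, hy.1⟩
    exact subset_closure ⟨hy.2, k, by rw [← orderOf_mk y hy.1]; exact hk⟩

/-- Members commute modulo `O_p (H)` or share their `O^p`. -/
theorem commute_or_eq {L L' : Subgroup H} (hL : L ∈ 𝔏) (hL' : L' ∈ 𝔏) :
    Res p L = Res p L' ∨ ⁅L, L'⁆ ≤ pCore p H := by
  set W := L ⊓ L'
  have hnL : L ≤ normalizer (L' : Set H) := (le_sSup hL).trans (F.norm L' hL')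
  have hnL' : L' ≤ normalizer (L : Set H) := (le_sSup hL').trans (F.norm L hL)
  rcases F.dichotomy hirr hL (inf_le_left : W ≤ L) (le_normalizer_inf le_normalizer hnL) with h1 | h1
  swap
  · left
    refine F.res_eq_of_le hL hL' ((MonoidHom.map_closure _ _).le.trans ((closure_le _).mpr ?_))
    rintro _ ⟨x, hx, rfl⟩
    exact ⟨⟨(x : H), (h1 ⟨x, Fusion.mem_pResidual_of_coprime hx, rfl⟩).2⟩,
      Fusion.mem_pResidual_of_coprime (by rw [← orderOf_coe]; show (orderOf (x : H)).Coprime p; rw [orderOf_coe]; exact hx), rfl⟩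
  right
  have hcomm : ⁅L, L'⁆ ≤ W := le_inf (Coprime.commutator_le_of_le_normalizer hnL')
    ((commutator_comm L L').trans_le (Coprime.commutator_le_of_le_normalizer hnL))
  refine commutator_le.mpr fun a ha b hb => ?_
  have := commutator_mem_of_hom_trick (D := pCore p H) (X := L) (Z := W) (x := b) (F.generated hirr hL)
    (fun y hy => (commutator_comm L L' ▸ hcomm : ⁅L', L⁆ ≤ W) (commutator_mem_commutator hb hy)) h1
    (fun z hz k hk => mem_pCore_of_central (F.isSubnormal hL) (F.core L hL) hz.1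
      (fun y hy => h1 (commutator_mem_commutator hz hy)) hk) a ha
  rw [← inv_mem_iff, commutatorElement_inv]
  exact this

theorem isPIrreducible : IsPIrreducible p H := by
  obtain ⟨L₀, hL₀⟩ := F.ne
  haveI := F.normal
  set D := pCore p H
  set R := sSup 𝔏 with hR
  have hRgen : R ≤ closure {y | y ∈ R ∧ ∃ k : ℕ, orderOf y = p ^ k} := sSup_le fun L hL =>
    (F.generated hirr hL).trans (closure_mono fun y hy => ⟨le_sSup hL hy.1, hy.2⟩)
  refine ⟨fun hcl => ?_, fun N hN hc => ?_⟩
  · refine (hirr L₀ hL₀).1 (isPClosed_iff_le.mpr fun P hP x hx => ?_)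
    have h1 := isPClosed_iff_le.mp hcl (P.map L₀.subtype) (hP.map _) ⟨x, hx, rfl⟩
    rw [← F.pCore_map hL₀] at h1
    obtain ⟨x', hx', e⟩ := h1
    rwa [← Subtype.ext e]
  by_cases hall : ∃ L ∈ 𝔏, Res p L ≤ N
  · obtain ⟨L, hL, hle⟩ := hall
    rw [← F.sSup_res]
    refine sSup_le ?_
    rintro _ ⟨L', hL', rfl⟩
    obtain ⟨g, rfl⟩ := F.trans L hL L' hL'
    rw [← res_map_conj]
    exact (map_mono hle).trans (Core.normal_iff_map_conj.mp hN g).le
  push_neg at hall
  exfalso
  apply hc
  have hcent : ∀ L ∈ 𝔏, ⁅N ⊓ L, L⁆ ≤ D := fun L hL =>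
    (F.dichotomy hirr hL inf_le_right (le_normalizer_inf (le_normalizer_normal _) le_normalizer)).resolve_right
      fun h => hall L hL (h.trans inf_le_left)
  -- `N ∩ R` is central in `R` modulo `D`
  have hNR : ∀ z ∈ N ⊓ R, ∀ y ∈ R, ⁅z, y⁆ ∈ D := by
    intro z hz
    let S : Subgroup H :=
      { carrier := {y | ⁅z, y⁆ ∈ D}
        one_mem' := by simp
        mul_mem' := fun {a b} ha hb => by
          show ⁅z, a * b⁆ ∈ D
          rw [show ⁅z, a * b⁆ = ⁅z, a⁆ * (a * ⁅z, b⁆ * a⁻¹) by simp only [commutatorElement_def]; group]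
          exact mul_mem ha ((inferInstance : D.Normal).conj_mem _ hb a)
        inv_mem' := fun {a} ha => by
          show ⁅z, a⁻¹⁆ ∈ D
          rw [show ⁅z, a⁻¹⁆ = a⁻¹ * ⁅z, a⁆⁻¹ * a⁻¹⁻¹ by simp only [commutatorElement_def]; group]
          exact (inferInstance : D.Normal).conj_mem _ (inv_mem ha) _ }
    have hS : R ≤ S := by
      refine sSup_le fun L hL y hy => ?_
      show ⁅z, y⁆ ∈ D
      refine commutator_mem_of_hom_trick (X := L) (Z := N ⊓ L) (F.generated hirr hL) (fun y hy => ?_) (hcent L hL)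
        (fun w hw k hk => mem_pCore_of_central (F.isSubnormal hL) (F.core L hL) hw.2
          (fun y hy => hcent L hL (commutator_mem_commutator hw hy)) hk) y hy
      refine Subgroup.mem_inf.mpr ⟨?_, ?_⟩
      · rw [show ⁅z, y⁆ = z * (y * z⁻¹ * y⁻¹) by simp only [commutatorElement_def]; group]
        exact mul_mem hz.1 (hN.conj_mem _ (inv_mem hz.1) y)
      · rw [commutatorElement_def]
        exact mul_mem ((mem_normalizer_iff.mp (F.norm L hL hz.2) y).mp hy) (inv_mem hy)
    exact fun y hy => hS hy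
  have hRD : D ≤ R := (F.core L₀ hL₀).trans (le_sSup hL₀)
  have hZp : ∀ w ∈ N ⊓ R, ∀ k : ℕ, w ^ p ^ k ∈ D → w ∈ D := fun w hw k hk =>
    mem_pCore_of_central F.normal.isSubnormal hRD hw.2 (hNR w hw) hk
  rw [isPClosed_subnormal_iff hN.isSubnormal]
  intro P hPN hP
  obtain ⟨T, hPT⟩ := hP.exists_le_sylow
  set P₁ := (T : Subgroup H) ⊓ N
  have hP₁ : ∀ x ∈ P₁, ∀ y ∈ R, ⁅x, y⁆ ∈ D := fun x hx =>
    commutator_mem_of_hom_trick (X := R) (Z := N ⊓ R) hRgen (fun y hy => Subgroup.mem_inf.mpr ⟨by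
        rw [show ⁅x, y⁆ = x * (y * x⁻¹ * y⁻¹) by simp only [commutatorElement_def]; group]
        exact mul_mem hx.2 (hN.conj_mem _ (inv_mem hx.2) y), by
        rw [show ⁅x, y⁆ = (x * y * x⁻¹) * y⁻¹ by simp only [commutatorElement_def]]
        exact mul_mem (F.normal.conj_mem y hy x) (inv_mem hy)⟩)
      (commutator_le.mpr fun w hw y hy => hNR w hw y hy) hZp
  have hn : ((P₁ ⊔ D : Subgroup H)).Normal := by
    refine normalizer_eq_top_iff.mp (top_le_iff.mp ((F.sup_sylow T).ge.trans (sup_le ?_ ?_)))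
    · intro t ht
      rw [Core.mem_normalizer_iff_map_conj, Subgroup.map_sup, Subgroup.map_inf _ _ _ (MulAut.conj t).injective,
        Core.map_conj_eq_of_mem_normalizer (Subgroup.le_normalizer ht), Core.normal_iff_map_conj.mp hN t,
        Core.normal_iff_map_conj.mp (inferInstance : D.Normal) t]
    · have key : ∀ r ∈ R, (P₁ ⊔ D).map (MulAut.conj r).toMonoidHom ≤ P₁ ⊔ D := fun r hr => by
        rw [Subgroup.map_sup, Core.normal_iff_map_conj.mp (inferInstance : D.Normal) r]
        refine sup_le ?_ le_sup_right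
        rintro _ ⟨x, hx, rfl⟩
        rw [MulEquiv.coe_toMonoidHom, MulAut.conj_apply, show r * x * r⁻¹ = ⁅x, r⁆⁻¹ * x by
          simp only [commutatorElement_def]; group]
        exact mul_mem (mem_sup_right (inv_mem (hP₁ x hx r hr))) (mem_sup_left hx)
      intro r hr
      refine Core.mem_normalizer_iff_map_conj.mpr (le_antisymm (key r hr) ?_)
      have := map_mono (f := (MulAut.conj r).toMonoidHom) (key r⁻¹ (inv_mem hr))
      rwa [← Core.map_conj_mul, mul_inv_cancel, Core.map_conj_eq_of_mem_normalizer (one_mem _)] at this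
  exact (le_inf hPT hPN).trans (le_sup_left.trans (Core.le_pCore' hn
    (isPGroup_sup_of_le_normalizer (T.2.to_le inf_le_left) (Core.pCore_isPGroup p H) (le_normalizer_normal _))))

end FamilyData

end Cfsg.Lib.Local
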