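import Cfsg.Agent.Lib.Local.Basic
import Cfsg.Agent.Lib.Fusion.Alperin
import Cfsg.Prelude.Def_IsolatedElements
import Mathlib.NumberTheory.Basic

/-!
Isolated elements of prime power order.
-/

namespace Cfsg.Lib.Local

open Subgroup Cfsg.Lib

variable {G : Type*} [Group G] {p : ℕ}

theorem isPGroup_zpowers [Fact p.Prime] {x : G} (hx : ∃ k : ℕ, orderOf x = p ^ k) :
    IsPGroup p (zpowers x) := by
  obtain ⟨k, hk⟩ := hx
  exact IsPGroup.of_card (n := k) (by rw [Nat.card_zpowers, hk])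

theorem isIsolated_conj {x : G} (h : IsIsolated x) (a : G) : IsIsolated (a * x * a⁻¹) := by
  intro g hg
  have e : g * (a * x * a⁻¹) * g⁻¹ = a * ((a⁻¹ * g * a) * x * (a⁻¹ * g * a)⁻¹) * a⁻¹ := by group
  rw [e] at hg ⊢
  rw [h (a⁻¹ * g * a) (by
    have h1 := hg.map (MulAut.conj a⁻¹).toMonoidHom
    simpa [mul_assoc] using h1)]

theorem commute_conj_iff {x g : G} (h : g * x * g⁻¹ = x) : Commute g x :=
  mul_inv_eq_iff_eq_mul.mp h

/-- An isolated element is central in every finite `p`-group containing it. -/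
theorem isolated_le_centralizer [Finite G] [Fact p.Prime] {x : G} (hiso : IsIsolated x)
    {R : Subgroup G} (hR : IsPGroup p R) (hx : x ∈ R) : R ≤ centralizer ({x} : Set G) := by
  by_contra hne
  set C := R ⊓ centralizer ({x} : Set G) with hC
  have hlt : C < R := lt_of_le_of_ne inf_le_left fun h => hne (h.ge.trans inf_le_right)
  obtain ⟨r, ⟨hrR, hrN⟩, hrC⟩ := SetLike.exists_of_lt (Fusion.lt_inf_normalizer hR hlt)
  have hxC : x ∈ C := ⟨hx, mem_centralizer_singleton_iff.mpr rfl⟩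
  have h1 := ((mem_normalizer_iff.mp hrN x).mp hxC).2
  replace h1 := mem_centralizer_singleton_iff.mp h1
  exact hrC ⟨hrR, mem_centralizer_singleton_iff.mpr (commute_conj_iff (hiso r h1.symm)).eq⟩

theorem isolated_eq_of_mem_pGroup [Finite G] [Fact p.Prime] {x : G} (hiso : IsIsolated x)
    {R : Subgroup G} (hR : IsPGroup p R) (hx : x ∈ R) {g : G} (hg : g * x * g⁻¹ ∈ R) :
    g * x * g⁻¹ = x :=
  hiso g (mem_centralizer_singleton_iff.mp (isolated_le_centralizer hiso hR hx hg)).symm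

theorem isolated_normalizer_le [Finite G] [Fact p.Prime] {x : G} (hiso : IsIsolated x)
    {R : Subgroup G} (hR : IsPGroup p R) (hx : x ∈ R) :
    normalizer (R : Set G) ≤ centralizer ({x} : Set G) := fun g hg =>
  mem_centralizer_singleton_iff.mpr
    (commute_conj_iff (isolated_eq_of_mem_pGroup hiso hR hx ((mem_normalizer_iff.mp hg x).mp hx))).eq

/-- Conjugates of `x` inside a subgroup `K` containing `x` are `K`-conjugate to `x`. -/
theorem isolated_exists_conj [Finite G] [Fact p.Prime] {x : G} (hiso : IsIsolated x)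
    (hxp : ∃ k : ℕ, orderOf x = p ^ k) {K : Subgroup G} (hx : x ∈ K) {g : G}
    (hg : g * x * g⁻¹ ∈ K) : ∃ k ∈ K, k * (g * x * g⁻¹) * k⁻¹ = x := by
  have hgp : ∃ k : ℕ, orderOf (g * x * g⁻¹) = p ^ k := by
    obtain ⟨k, hk⟩ := hxp
    exact ⟨k, by rw [← hk]; exact (MulAut.conj g).orderOf_eq x⟩
  obtain ⟨S, hS⟩ := ((isPGroup_zpowers hxp).of_equiv
    (subgroupOfEquivOfLe (zpowers_le.mpr hx)).symm).exists_le_sylow
  obtain ⟨R, hR⟩ := ((isPGroup_zpowers hgp).of_equiv
    (subgroupOfEquivOfLe (zpowers_le.mpr hg)).symm).exists_le_sylow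
  obtain ⟨k, hk⟩ := MulAction.exists_smul_eq (↥K) R S
  refine ⟨k, k.2, ?_⟩
  have e : (k : G) * (g * x * g⁻¹) * (k : G)⁻¹ = ((k : G) * g) * x * ((k : G) * g)⁻¹ := by group
  rw [e]
  refine isolated_eq_of_mem_pGroup hiso (S.2.map K.subtype) ⟨⟨x, hx⟩, hS (mem_zpowers x), rfl⟩ ?_
  rw [← e]
  refine ⟨k * ⟨g * x * g⁻¹, hg⟩ * k⁻¹, ?_, rfl⟩
  rw [← hk]
  exact ⟨⟨g * x * g⁻¹, hg⟩, hR (mem_zpowers (g * x * g⁻¹)), rfl⟩

theorem isolated_stronglyClosed [Finite G] [Fact p.Prime] {x : G} (hiso : IsIsolated x)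
    (hxp : ∃ k : ℕ, orderOf x = p ^ k) (P : Sylow p G) (hxP : x ∈ (P : Subgroup G)) :
    ∀ y ∈ zpowers x, ∀ g : G, g * y * g⁻¹ ∈ (P : Subgroup G) → g * y * g⁻¹ ∈ zpowers x := by
  rintro _ ⟨i, rfl⟩ g hg
  dsimp only at hg ⊢
  set z := g * x ^ i * g⁻¹ with hz
  have hxz : x ∈ centralizer ({z} : Set G) := mem_centralizer_singleton_iff.mpr
    (mem_centralizer_singleton_iff.mp (isolated_le_centralizer hiso P.2 hxP hg)).symm
  have hyz : g * x * g⁻¹ ∈ centralizer ({z} : Set G) := by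
    rw [mem_centralizer_singleton_iff]
    have e : z = (g * x * g⁻¹) ^ i := conj_zpow.symm
    rw [e]
    exact Commute.self_zpow _ i
  obtain ⟨k, hk, he⟩ := isolated_exists_conj hiso hxp hxz hyz
  refine ⟨i, ?_⟩
  show x ^ i = z
  conv_lhs => rw [← he, conj_zpow, conj_zpow, ← hz]
  rw [mem_centralizer_singleton_iff.mp hk, mul_inv_cancel_right]

theorem isolated_sup_centralizer [Finite G] [Fact p.Prime] {x : G} (hiso : IsIsolated x)
    (hxp : ∃ k : ℕ, orderOf x = p ^ k) {H N : Subgroup G} (hNH : N ≤ H)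
    (hHN : H ≤ normalizer (N : Set G)) (hxN : x ∈ N) :
    N ⊔ (H ⊓ centralizer ({x} : Set G)) = H := by
  refine le_antisymm (sup_le hNH inf_le_left) fun h hh => ?_
  obtain ⟨n, hn, he⟩ := isolated_exists_conj hiso hxp hxN
    ((mem_normalizer_iff.mp (hHN hh) x).mp hxN)
  have hc : n * h ∈ H ⊓ centralizer ({x} : Set G) := by
    refine ⟨mul_mem (hNH hn) hh, mem_centralizer_singleton_iff.mpr (commute_conj_iff ?_).eq⟩
    rw [← mul_assoc] at he
    refine Eq.trans ?_ he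
    group
  have e : h = n⁻¹ * (n * h) := by group
  rw [e]
  exact mul_mem_sup (inv_mem hn) hc

theorem isolated_mk [Finite G] [Fact p.Prime] {x : G} (hiso : IsIsolated x)
    (hxp : ∃ k : ℕ, orderOf x = p ^ k) (N : Subgroup G) [N.Normal] :
    IsIsolated (QuotientGroup.mk' N x) := by
  intro c hc
  obtain ⟨g, rfl⟩ := QuotientGroup.mk'_surjective N c
  set f := QuotientGroup.mk' N with hf
  rw [← map_inv, ← map_mul, ← map_mul] at hc ⊢
  set W : Subgroup (G ⧸ N) := zpowers (f x) ⊔ zpowers (f (g * x * g⁻¹))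
  have hW : W ≤ centralizer ({f (g * x * g⁻¹)} : Set (G ⧸ N)) :=
    sup_le (zpowers_le.mpr (mem_centralizer_singleton_iff.mpr hc.eq))
      (zpowers_le.mpr (mem_centralizer_singleton_iff.mpr rfl))
  obtain ⟨k, hk, he⟩ := isolated_exists_conj hiso hxp (K := W.comap f)
    (mem_sup_left (mem_zpowers _) : f x ∈ W) (g := g) (mem_sup_right (mem_zpowers _) : f _ ∈ W)
  have h1 := mem_centralizer_singleton_iff.mp (hW hk)
  conv_rhs => rw [← he, map_mul, map_mul, map_inv, h1, mul_inv_cancel_right]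

/-- An automorphism of a cyclic `p`-group fixing a nontrivial element has `p`-power order. -/
theorem exists_pow_centralizes_of_isCyclic [Finite G] [hp : Fact p.Prime] {P : Subgroup G}
    (hP : IsPGroup p P) (hc : IsCyclic ↥P) {x : G} (hx : x ∈ P) (hx1 : x ≠ 1) {n : G}
    (hn : n ∈ normalizer (P : Set G)) (hnx : n * x * n⁻¹ = x) :
    ∃ k : ℕ, n ^ p ^ k ∈ centralizer (P : Set G) := by
  obtain ⟨⟨c, hcP⟩, hgen⟩ := hc.exists_generator
  have hgen' : ∀ y ∈ P, ∃ i : ℤ, c ^ i = y := fun y hy => by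
    obtain ⟨i, hi⟩ := hgen ⟨y, hy⟩
    exact ⟨i, congrArg Subtype.val hi⟩
  obtain ⟨a, ha⟩ := hgen' _ ((mem_normalizer_iff.mp hn c).mp hcP)
  obtain ⟨j, hj⟩ := hgen' x hx
  obtain ⟨m, hm⟩ := IsPGroup.iff_orderOf.mp hP ⟨c, hcP⟩
  rw [Subgroup.orderOf_mk] at hm
  have hfix : c ^ ((a - 1) * j) = 1 := by
    have h1 : c ^ (a * j) = c ^ j := by
      rw [zpow_mul, ha, conj_zpow, hj, hnx]
    rw [sub_mul, one_mul, zpow_sub, h1, mul_inv_cancel]
  have hdvd : (p : ℤ) ∣ a - 1 := by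
    by_contra hnd
    have hcop : IsCoprime ((p : ℤ) ^ m) (a - 1) :=
      ((Nat.prime_iff_prime_int.mp hp.out).coprime_iff_not_dvd.mpr hnd).pow_left
    have h2 : ((p : ℤ) ^ m) ∣ j := by
      refine hcop.dvd_of_dvd_mul_left ?_
      have := orderOf_dvd_iff_zpow_eq_one.mpr hfix
      rw [hm] at this
      exact_mod_cast this
    refine hx1 (hj ▸ orderOf_dvd_iff_zpow_eq_one.mp ?_)
    rw [hm]
    exact_mod_cast h2
  refine ⟨m, ?_⟩
  have hpow : ∀ k : ℕ, n ^ k * c * (n ^ k)⁻¹ = c ^ (a ^ k) := by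
    intro k
    induction k with
    | zero => simp
    | succ k ih =>
      have e : n ^ (k + 1) * c * (n ^ (k + 1))⁻¹ = n * (n ^ k * c * (n ^ k)⁻¹) * n⁻¹ := by
        rw [pow_succ']; group
      rw [e, ih, ← conj_zpow, ← ha, ← zpow_mul, pow_succ']
  intro y hy
  obtain ⟨i, rfl⟩ := hgen' y hy
  have h3 : c ^ (a ^ p ^ m) = c := by
    have h4 := (dvd_pow_self_sub hdvd m)
    have : c ^ (a ^ p ^ m - 1) = 1 := by
      rw [← orderOf_dvd_iff_zpow_eq_one, hm]
      push_cast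
      exact (pow_dvd_pow _ (Nat.le_succ m)).trans h4
    rwa [zpow_sub, zpow_one, mul_inv_eq_one] at this
  have h5 : Commute (n ^ p ^ m) c := commute_conj_iff (by rw [hpow, h3])
  exact (h5.zpow_right i).eq.symm
where
  dvd_pow_self_sub {p : ℕ} {a : ℤ} (h : (p : ℤ) ∣ a - 1) (m : ℕ) :
      (p : ℤ) ^ (m + 1) ∣ a ^ p ^ m - 1 := by
    have := dvd_sub_pow_of_dvd_sub (R := ℤ) (a := a) (b := 1) h m
    rwa [one_pow] at this

theorem isolated_hasNormalPComplement [Finite G] [hp : Fact p.Prime] {x : G} (hiso : IsIsolated x)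
    (hxp : ∃ k : ℕ, orderOf x = p ^ k) (hx1 : x ≠ 1)
    (hcyc : ∀ P : Sylow p G, IsCyclic ↥(P : Subgroup G)) : HasNormalPComplement p G := by
  obtain ⟨P, hP⟩ := (isPGroup_zpowers hxp).exists_le_sylow
  have hxP : x ∈ (P : Subgroup G) := hP (mem_zpowers x)
  refine Fusion.hasNormalPComplement_of_normalizer_le_centralizer P fun n hn => ?_
  have hnx := isolated_eq_of_mem_pGroup hiso P.2 hxP ((mem_normalizer_iff.mp hn x).mp hxP)
  obtain ⟨k, hk⟩ := exists_pow_centralizes_of_isCyclic P.2 (hcyc P) hxP hx1 hn hnx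
  set N := normalizer ((P : Subgroup G) : Set G)
  set m := ((P : Subgroup G).subgroupOf N).index
  haveI : ((P : Subgroup G).subgroupOf N).Normal := normal_in_normalizer
  have hnm : n ^ m ∈ centralizer ((P : Subgroup G) : Set G) := by
    haveI : IsCyclic ↥(P : Subgroup G) := hcyc P
    intro y hy
    have h1 : n ^ m ∈ (P : Subgroup G) :=
      pow_index_mem ((P : Subgroup G).subgroupOf N) (⟨n, hn⟩ : N)
    haveI : IsMulCommutative ↥(P : Subgroup G) := IsCyclic.isMulCommutative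
    exact setLike_mul_comm hy h1
  have hcop : (p ^ k).Coprime m := by
    refine Nat.Coprime.pow_left _ ((Nat.Prime.coprime_iff_not_dvd hp.out).2 fun h => ?_)
    exact P.not_dvd_index (h.trans (relIndex_dvd_index_of_le le_normalizer))
  have h2 := (centralizer ((P : Subgroup G) : Set G)).mul_mem
    ((centralizer ((P : Subgroup G) : Set G)).zpow_mem hk ((p ^ k).gcdA m))
    ((centralizer ((P : Subgroup G) : Set G)).zpow_mem hnm ((p ^ k).gcdB m))
  rw [← zpow_natCast, ← zpow_natCast n m, ← zpow_mul, ← zpow_mul, ← zpow_add,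
    ← Nat.gcd_eq_gcd_ab, hcop.gcd_eq_one, Nat.cast_one, zpow_one] at h2
  exact h2

theorem chain_commute [Finite G] [Fact p.Prime] {P : Sylow p G} {x : G} (hx1 : x ≠ 1)
    (hlc : ∀ R : Subgroup G, R ≤ (P : Subgroup G) → R ≠ ⊥ →
      normalizer (R : Set G) ≤ centralizer ({x} : Set G))
    {l : List (Sylow p G × G)} {D : Subgroup G} (hD : x ∈ D) (h : Fusion.Chain P l D) :
    Commute (Fusion.chainProd l) x := by
  induction l generalizing D with
  | nil => simp [Fusion.chainProd]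
  | cons a l ih =>
    obtain ⟨-, hn, hle, hc⟩ := h
    have hne : (P : Subgroup G) ⊓ (a.1 : Subgroup G) ≠ ⊥ := fun h =>
      hx1 (mem_bot.mp (h ▸ hle hD))
    have ha : a.2 * x = x * a.2 := mem_centralizer_singleton_iff.mp (hlc _ inf_le_left hne hn)
    have hxD : x ∈ Fusion.conjR a.2 D := by
      rw [Fusion.mem_conjR, ha, mul_inv_cancel_right]
      exact hD
    have e : Fusion.chainProd (a :: l) = a.2 * Fusion.chainProd l := by simp [Fusion.chainProd]
    rw [e]
    exact Commute.mul_left ha (ih hxD hc)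

end Cfsg.Lib.Local
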