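import Cfsg.Agent.Lib.Local.Isolated
import Cfsg.Agent.Lib.Solv.Frobenius
import Cfsg.Agent.Lib.Core.Cores
import Mathlib.GroupTheory.SchurZassenhaus

/-!
An isolated `p`-element centralizing every `p'`-subgroup it normalizes is central.
-/

set_option autoImplicit false

namespace Cfsg.Lib.Local.IsolatedCentral

open Subgroup

universe u

variable {p : ℕ} [hp : Fact p.Prime]

/-- The element centralizes every `p'`-subgroup that it normalizes. -/
def Balanced (p : ℕ) {G : Type u} [Group G] (x : G) : Prop :=
  ∀ H : Subgroup G, (Nat.card H).Coprime p → (∀ h ∈ H, x * h * x⁻¹ ∈ H) → ∀ h ∈ H, x * h = h * x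

theorem aux : ∀ (n : ℕ) (G : Type u) [Group G] [Finite G], Nat.card G ≤ n → ∀ x : G,
    (∃ k : ℕ, orderOf x = p ^ k) → Cfsg.IsIsolated x → Balanced p x → ∀ g : G, g * x * g⁻¹ = x := by
  intro n
  induction n with
  | zero => intro G _ _ h; have := Nat.card_pos (α := G); omega
  | succ n ih =>
    intro G _ _ hn x hxp hiso hbal
    obtain ⟨k, hk⟩ := hxp
    -- quotients by a normal subgroup
    have hquot : ∀ N : Subgroup G, N ≠ ⊥ → (hN : N.Normal) →
        (∀ g : G, g * x * g⁻¹ * x⁻¹ ∈ N → g * x * g⁻¹ = x) →
        (∀ g : G, x * (g * x * g⁻¹) * x⁻¹ * (g * x * g⁻¹)⁻¹ ∈ N → Commute x (g * x * g⁻¹)) →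
        (∀ H : Subgroup (G ⧸ N), (Nat.card H).Coprime p →
          (∀ h ∈ H, (x : G ⧸ N) * h * (x : G ⧸ N)⁻¹ ∈ H) → ∀ h ∈ H, (x : G ⧸ N) * h = h * x) →
        ∀ g : G, g * x * g⁻¹ = x := by
      intro N hN0 hN h1 h2 h3 g
      have hlt : Nat.card (G ⧸ N) ≤ n := by
        have := Cfsg.Lib.Core.card_quotient_lt hN0
        omega
      obtain ⟨j, -, hj⟩ : ∃ j ≤ k, orderOf (x : G ⧸ N) = p ^ j :=
        (Nat.dvd_prime_pow hp.out).1 (hk ▸ orderOf_map_dvd (QuotientGroup.mk' N) x)
      have hiso' : Cfsg.IsIsolated (x : G ⧸ N) := by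
        intro q hq
        obtain ⟨a, rfl⟩ := QuotientGroup.mk_surjective q
        have hmem : x * (a * x * a⁻¹) * x⁻¹ * (a * x * a⁻¹)⁻¹ ∈ N := by
          rw [← QuotientGroup.eq_one_iff]
          simp only [QuotientGroup.mk_mul, QuotientGroup.mk_inv]
          rw [hq.eq]
          group
        rw [← QuotientGroup.mk_inv, ← QuotientGroup.mk_mul, ← QuotientGroup.mk_mul, hiso a (h2 a hmem)]
      have h := ih (G ⧸ N) hlt (x : G ⧸ N) ⟨j, hj⟩ hiso' h3 (g : G ⧸ N)
      refine h1 g ?_
      rw [← QuotientGroup.eq_one_iff]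
      simp only [QuotientGroup.mk_mul, QuotientGroup.mk_inv]
      rw [h, mul_inv_cancel]
    by_cases hx1 : x = 1
    · intro g; simp [hx1]
    by_cases hZ : Subgroup.center G = ⊥
    · by_cases htop : centralizer ({x} : Set G) = ⊤
      · intro g
        have h := mem_centralizer_singleton_iff.1 (htop ▸ mem_top g)
        rw [h]; group
      exfalso
      set M := centralizer ({x} : Set G) with hM
      have hxM : x ∈ M := mem_centralizer_singleton_iff.2 rfl
      have hfrob : Cfsg.IsFrobeniusComplement M := by
        refine ⟨fun h => hx1 (mem_bot.1 (h ▸ hxM)), htop, fun g hg => ?_⟩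
        rw [eq_bot_iff]
        intro d hd
        rw [mem_bot]
        by_contra hd1
        apply hg
        obtain ⟨hdM, hdg⟩ := hd
        have hxd : x ∈ centralizer ({d} : Set G) :=
          mem_centralizer_singleton_iff.2 (mem_centralizer_singleton_iff.1 hdM).symm
        have hyd : g * x * g⁻¹ ∈ centralizer ({d} : Set G) := by
          obtain ⟨m, hm, rfl⟩ := hdg
          have := congrArg (MulAut.conj g) (mem_centralizer_singleton_iff.1 hm)
          exact mem_centralizer_singleton_iff.2 (by simpa [map_mul, MulAut.smul_def] using this.symm)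
        set D := centralizer ({d} : Set G) with hD
        have hDtop : D ≠ ⊤ := fun h => hd1 (mem_bot.1 (hZ ▸ mem_center_iff.2 fun a =>
          mem_centralizer_singleton_iff.1 (h ▸ mem_top a : a ∈ D)))
        have hDn : Nat.card D ≤ n := by have := Cfsg.Lib.Core.lt_card_of_ne_top hDtop; omega
        have h := ih D hDn ⟨x, hxd⟩ ⟨k, by rw [Subgroup.orderOf_mk, hk]⟩
          (fun a ha => Subtype.ext (hiso a (congrArg Subtype.val ha.eq)))
          (fun H hH hn' h hh => by
            have := hbal (H.map D.subtype) (by rwa [Cfsg.Lib.Core.card_map_subtype]) (by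
              rintro _ ⟨y, hy, rfl⟩
              exact ⟨_, hn' y hy, rfl⟩) _ ⟨h, hh, rfl⟩
            exact Subtype.ext this)
          ⟨g * x * g⁻¹, hyd⟩
        have h' : g * x * g⁻¹ * x * (g * x * g⁻¹)⁻¹ = x := congrArg Subtype.val h
        refine mem_centralizer_singleton_iff.2 (Cfsg.Lib.Local.commute_conj_iff ?_).eq
        exact hiso g (Cfsg.Lib.Local.commute_conj_iff h').symm
      obtain ⟨K, -, hKn, hKc⟩ := Cfsg.Lib.Solv.frobenius_theorem hfrob
      haveI := hKn
      obtain ⟨S, hS⟩ := (IsPGroup.of_card (n := k) (by rw [Nat.card_zpowers, hk]) :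
        IsPGroup p (zpowers x)).exists_le_sylow
      have hSM : (S : Subgroup G) ≤ M :=
        Cfsg.Lib.Local.isolated_le_centralizer hiso S.isPGroup' (hS (mem_zpowers x))
      have hKcop : (Nat.card K).Coprime p := by
        rw [← hKc.index_eq_card, Cfsg.Lib.Core.coprime_iff_not_dvd']
        exact fun h => S.not_dvd_index (h.trans (index_dvd_of_le hSM))
      have hKM : K ≤ M := fun y hy => mem_centralizer_singleton_iff.2
        (hbal K hKcop (fun z hz => hKn.conj_mem z hz x) y hy).symm
      have hKbot : K = ⊥ := le_bot_iff.1 (hKc.disjoint le_rfl hKM)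
      rw [hKbot, isComplement'_bot_left] at hKc
      exact htop hKc
    · -- a central subgroup of prime order
      obtain ⟨q, hq, hqd⟩ := Nat.exists_prime_and_dvd
        (fun h => hZ (eq_bot_of_card_eq _ h) : Nat.card (Subgroup.center G) ≠ 1)
      haveI : Fact q.Prime := ⟨hq⟩
      obtain ⟨z, hz⟩ := exists_prime_orderOf_dvd_card' (G := Subgroup.center G) q hqd
      set N := zpowers (z : G) with hN
      have hNZ : N ≤ Subgroup.center G := zpowers_le.2 z.2
      have hNn : N.Normal := ⟨fun a ha g => by
        rw [mem_center_iff.1 (hNZ ha) g, mul_inv_cancel_right]; exact ha⟩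
      have hNcard : Nat.card N = q := by rw [hN, Nat.card_zpowers, orderOf_coe, hz]
      have hN0 : N ≠ ⊥ := fun h => hq.ne_one (by rw [← hNcard, h, card_bot])
      haveI := hNn
      by_cases hqp : q = p
      · -- a central `p`-group
        refine hquot N hN0 hNn (fun g hg => hiso g ?_) (fun g hg => ?_) (fun H hH hHn h hh => ?_)
        · have hc := mem_center_iff.1 (hNZ hg) x
          have e : g * x * g⁻¹ = g * x * g⁻¹ * x⁻¹ * x := by group
          rw [e]
          exact (Commute.mul_right hc (Commute.refl x))
        · have hc := mem_center_iff.1 (hNZ hg)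
          set y := g * x * g⁻¹ with hy
          have hconj : g⁻¹ * x * g * x = x * (g⁻¹ * x * g) → Commute x y := fun h => by
            have := congrArg (fun t => g * t * g⁻¹) h
            rw [commute_iff_eq]
            simpa [hy, mul_assoc] using this
          apply hconj
          have e1 : g⁻¹ * x * g * x * (g⁻¹ * x * g)⁻¹ * x⁻¹ =
              g⁻¹ * (x * y * x⁻¹ * y⁻¹) * g := by rw [hy]; group
          have e2 : g⁻¹ * (x * y * x⁻¹ * y⁻¹) * g = x * y * x⁻¹ * y⁻¹ := by
            rw [hc g⁻¹]; group
          -- the conjugate of `x` by `g⁻¹ x g` commutes with `x`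
          have h3 : Commute x ((g⁻¹ * x * g) * x * (g⁻¹ * x * g)⁻¹) := by
            have e : (g⁻¹ * x * g) * x * (g⁻¹ * x * g)⁻¹ = (x * y * x⁻¹ * y⁻¹) * x := by
              rw [← e2, ← e1]; group
            rw [e]
            exact Commute.mul_right (hc x) (Commute.refl x)
          have h4 := hiso _ h3
          exact (mul_inv_eq_iff_eq_mul.1 h4)
        · -- a `p'`-subgroup of the quotient lifts
          set P := H.comap (QuotientGroup.mk' N) with hP
          have hNP : N ≤ P := fun a ha => by simp [hP, (QuotientGroup.eq_one_iff a).2 ha]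
          have hidx : (N.subgroupOf P).index = Nat.card H := by
            have h1 : N.relIndex P = ((⊥ : Subgroup (G ⧸ N)).comap (QuotientGroup.mk' N)).relIndex P := by
              rw [MonoidHom.comap_bot, QuotientGroup.ker_mk']
            rw [relIndex_comap, hP, map_comap_eq_self_of_surjective (QuotientGroup.mk'_surjective N),
              relIndex_bot_left] at h1
            exact h1
          have hNPc : Nat.card (N.subgroupOf P) = p := by
            rw [Nat.card_congr (subgroupOfEquivOfLe hNP).toEquiv, hNcard, hqp]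
          have hcop : (Nat.card (N.subgroupOf P)).Coprime (N.subgroupOf P).index := by
            rw [hidx, hNPc]; exact hH.symm
          obtain ⟨K, hK⟩ := Subgroup.exists_right_complement'_of_coprime hcop
          have hKc : Nat.card K = Nat.card H := by rw [← hidx]; exact hK.symm.index_eq_card.symm
          have hdec : ∀ a ∈ P, ∃ c ∈ N, ∃ b ∈ K.map P.subtype, c * b = a := by
            intro a ha
            obtain ⟨c, b, hcb⟩ : ∃ c ∈ N.subgroupOf P, ∃ b ∈ K, c * b = (⟨a, ha⟩ : ↥P) := by
              obtain ⟨⟨⟨c, hc⟩, ⟨b, hb⟩⟩, hcb, -⟩ := hK.existsUnique (⟨a, ha⟩ : ↥P)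
              exact ⟨c, hc, b, hb, hcb⟩
            obtain ⟨b', hb', he⟩ := hcb
            exact ⟨c, b, b', ⟨b', hb', rfl⟩, congrArg Subtype.val he⟩
          have hcentK := hbal (K.map P.subtype) (by rwa [Cfsg.Lib.Core.card_map_subtype, hKc]) ?_
          · obtain ⟨a, rfl⟩ := QuotientGroup.mk_surjective h
            obtain ⟨c, hc, b, hb, rfl⟩ := hdec a hh
            simp only [QuotientGroup.mk_mul]
            rw [(QuotientGroup.eq_one_iff c).2 hc, one_mul, ← QuotientGroup.mk_mul, hcentK b hb,
              QuotientGroup.mk_mul]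
          · rintro _ ⟨b, hb, rfl⟩
            have hxb : x * (b : G) * x⁻¹ ∈ P := by
              have := hHn _ b.2
              simpa [hP] using this
            obtain ⟨c, hc, d, hd, hcd⟩ := hdec _ hxb
            have hc1 : c = 1 := by
              have hpow : (x * (b : G) * x⁻¹) ^ Nat.card K = 1 := by
                rw [conj_pow, ← SubgroupClass.coe_pow,
                  show b ^ Nat.card K = 1 from congrArg Subtype.val (pow_card_eq_one' (x := (⟨b, hb⟩ : K)))]
                simp
              have hdpow : d ^ Nat.card K = 1 := by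
                rw [← Cfsg.Lib.Core.card_map_subtype (K := K)]
                exact congrArg Subtype.val (pow_card_eq_one' (x := (⟨d, hd⟩ : K.map P.subtype)))
              rw [← hcd, (Commute.symm (mem_center_iff.1 (hNZ hc) d)).mul_pow, hdpow, mul_one] at hpow
              refine orderOf_eq_one_iff.1 (Nat.eq_one_of_dvd_coprimes (hKc ▸ hH)
                (orderOf_dvd_of_pow_eq_one hpow) ?_)
              have := Subgroup.orderOf_dvd_natCard N hc
              rwa [hNcard, hqp] at this
            rw [hc1, one_mul] at hcd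
            exact hcd ▸ hd
      · -- a central `p'`-group
        have hNcop : (Nat.card N).Coprime p := by
          rw [hNcard]; exact (Nat.coprime_primes hq hp.out).2 hqp
        have hkill : ∀ y c : G, orderOf y ∣ p ^ k → c ∈ N → orderOf (c * y) ∣ p ^ k → c = 1 := by
          intro y c hy hc hcy
          have h1 := orderOf_dvd_iff_pow_eq_one.1 hcy
          rw [(Commute.symm (mem_center_iff.1 (hNZ hc) y)).mul_pow,
            orderOf_dvd_iff_pow_eq_one.1 hy, mul_one] at h1
          exact orderOf_eq_one_iff.1 (Nat.eq_one_of_dvd_coprimes (hNcop.symm.pow_left k)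
            (orderOf_dvd_of_pow_eq_one h1) (Subgroup.orderOf_dvd_natCard N hc))
        have hord : ∀ a : G, orderOf (a * x * a⁻¹) ∣ p ^ k := fun a => by
          rw [← MulAut.conj_apply, MulEquiv.orderOf_eq, hk]
        refine hquot N hN0 hNn (fun g hg => ?_) (fun g hg => ?_) (fun H hH hHn h hh => ?_)
        · have h1 := hkill x _ (by rw [hk]) hg (by
            have e : g * x * g⁻¹ * x⁻¹ * x = g * x * g⁻¹ := by group
            rw [e]; exact hord g)
          exact mul_inv_eq_one.1 h1
        · have h1 := hkill (g * x * g⁻¹) _ (hord g) hg (by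
            have e : x * (g * x * g⁻¹) * x⁻¹ * (g * x * g⁻¹)⁻¹ * (g * x * g⁻¹) =
                (x * g) * x * (x * g)⁻¹ := by group
            rw [e]; exact hord _)
          rw [mul_inv_eq_one] at h1
          exact mul_inv_eq_iff_eq_mul.1 h1
        · set P := H.comap (QuotientGroup.mk' N) with hP
          have hcard : (Nat.card P).Coprime p := by
            rw [hP, Cfsg.Lib.Core.card_comap_eq _ (QuotientGroup.mk'_surjective N), QuotientGroup.ker_mk']
            exact Nat.Coprime.mul_left hNcop hH
          obtain ⟨a, rfl⟩ := QuotientGroup.mk_surjective h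
          have := hbal P hcard (fun b hb => by
            have := hHn _ hb
            simpa [hP] using this) a hh
          rw [← QuotientGroup.mk_mul, this, QuotientGroup.mk_mul]

end Cfsg.Lib.Local.IsolatedCentral
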