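import Cfsg.Agent.Lib.Local.Isolated
import Cfsg.Agent.Lib.Core.Cores
import Cfsg.Agent.Lib.Core.PSolvable

/-!
A minimal counterexample to the `Z*_p`-statement for an isolated element of prime order.
-/

set_option autoImplicit false

namespace Cfsg.Lib.Local.IsoMin

open Subgroup Cfsg Cfsg.Lib

universe u

variable {G : Type u} [Group G] [Finite G] {p : ℕ} [Fact p.Prime] {x : G}

theorem not_central (hnz : ¬ InZStar p x) : ¬ ∀ g : G, Commute g x := fun h => hnz fun g => by
  rw [(h g).eq, mul_inv_cancel_right, mul_inv_cancel]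
  exact one_mem _

theorem core_eq_bot (hnz : ¬ InZStar p x)
    (hquot : ∀ (N : Subgroup G) [N.Normal], N ≠ ⊥ → InZStar p (QuotientGroup.mk x : G ⧸ N)) :
    pPrimeCore p G = ⊥ := by
  by_contra h
  refine hnz fun g => ?_
  have h1 := hquot _ h (QuotientGroup.mk g)
  rw [Core.pPrimeCore_quotient_eq_bot, mem_bot, ← QuotientGroup.mk_inv, ← QuotientGroup.mk_inv,
    ← QuotientGroup.mk_mul, ← QuotientGroup.mk_mul, ← QuotientGroup.mk_mul, QuotientGroup.eq_one_iff] at h1
  exact h1

/-- In a proper subgroup `H ∋ x` the commutators with `x` lie in a normal `p'`-subgroup of `H`. -/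
theorem comm_mem (hmin : ∀ (H : Subgroup G) (hxH : x ∈ H), H ≠ ⊤ → InZStar p (⟨x, hxH⟩ : ↥H))
    {H : Subgroup G} (hxH : x ∈ H) (hH : H ≠ ⊤) {h : G} (hh : h ∈ H) :
    h * x * h⁻¹ * x⁻¹ ∈ (pPrimeCore p ↥H).map H.subtype :=
  ⟨_, hmin H hxH hH ⟨h, hh⟩, rfl⟩

/-- An isolated element centralizing a normal subgroup that contains its commutators is central. -/
theorem commute_of_comm_mem (hiso : IsIsolated x) {g : G}
    (h : Commute x (g * x * g⁻¹ * x⁻¹)) : Commute g x := by
  refine commute_conj_iff (hiso g ?_)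
  have := h.mul_right (Commute.refl x)
  rwa [inv_mul_cancel_right] at this

/-- A subgroup centralized by `x` whose `p'`-core vanishes. -/
theorem commute_of_proper (hmin : ∀ (H : Subgroup G) (hxH : x ∈ H), H ≠ ⊤ → InZStar p (⟨x, hxH⟩ : ↥H))
    {M H : Subgroup G} [M.Normal] (hO : pPrimeCore p G = ⊥) (hMH : M ≤ H) (hxH : x ∈ H) (hH : H ≠ ⊤)
    {m : G} (hm : m ∈ M) : Commute m x := by
  haveI hMn : (M.subgroupOf H).Normal := inferInstance
  set D := (pPrimeCore p ↥H) ⊓ M.subgroupOf H with hD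
  have h1 : m * x * m⁻¹ * x⁻¹ ∈ M := by
    rw [mul_assoc, mul_assoc, ← mul_assoc x]
    exact M.mul_mem hm (Normal.conj_mem inferInstance _ (M.inv_mem hm) x)
  have hbot : D = ⊥ := by
    set E := (pPrimeCore p ↥H).comap (Subgroup.inclusion hMH) with hE
    haveI : (pPrimeCore p ↥H).Normal := inferInstance
    have hcop : (Nat.card E).Coprime p := by
      rw [← card_map_of_injective (inclusion_injective hMH)]
      exact Core.coprime_card_of_le (map_comap_le _ _) (Core.pPrimeCore_coprime p H)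
    have h2 : E ≤ pPrimeCore p ↥M := Core.le_pPrimeCore' inferInstance hcop
    have h3 : (pPrimeCore p ↥M).map M.subtype = ⊥ := by
      rw [eq_bot_iff, ← hO]
      exact Core.pPrimeCore_map_le_of_isSubnormal (Subgroup.Normal.isSubnormal inferInstance)
    rw [eq_bot_iff]
    rintro ⟨y, hyH⟩ ⟨hy1, hy2⟩
    have : y ∈ (pPrimeCore p ↥M).map M.subtype := ⟨⟨y, hy2⟩, h2 hy1, rfl⟩
    rw [h3, mem_bot] at this
    exact mem_bot.2 (Subtype.ext this)
  have h4 : (⟨m, hMH hm⟩ : H) * ⟨x, hxH⟩ * (⟨m, hMH hm⟩ : H)⁻¹ * (⟨x, hxH⟩ : H)⁻¹ ∈ D :=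
    ⟨hmin H hxH hH ⟨m, hMH hm⟩, h1⟩
  rw [hbot, mem_bot] at h4
  have h5 : m * x * m⁻¹ * x⁻¹ = 1 := by simpa using congrArg Subtype.val h4
  rw [mul_inv_eq_one, mul_inv_eq_iff_eq_mul] at h5
  exact h5

/-- `x` centralizes no minimal normal subgroup, and each of them supplements `⟨x⟩`. -/
theorem minNormal (hx : orderOf x = p) (hiso : IsIsolated x) (hnz : ¬ InZStar p x)
    (hmin : ∀ (H : Subgroup G) (hxH : x ∈ H), H ≠ ⊤ → InZStar p (⟨x, hxH⟩ : ↥H))
    (hquot : ∀ (N : Subgroup G) [N.Normal], N ≠ ⊥ → InZStar p (QuotientGroup.mk x : G ⧸ N))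
    {M : Subgroup G} (hM : Core.IsMinNormal M) :
    p ∣ Nat.card M ∧ x ∉ centralizer (M : Set G) ∧ M ⊔ zpowers x = ⊤ := by
  haveI := hM.1
  have hO := core_eq_bot hnz hquot
  have hpd : p ∣ Nat.card M := by
    by_contra hnd
    refine hM.2.1 ?_
    rw [eq_bot_iff, ← hO]
    exact Core.le_pPrimeCore ((Nat.Prime.coprime_iff_not_dvd Fact.out).2 hnd).symm
  have hB : x ∉ centralizer (M : Set G) := by
    intro hxC
    set C := centralizer (M : Set G) with hC
    haveI hCn : C.Normal := inferInstance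
    by_cases hCt : C = ⊤
    swap
    · refine not_central hnz fun g => commute_of_comm_mem hiso ?_
      refine (commute_of_proper hmin (M := C) hO le_rfl hxC hCt ?_).symm
      exact C.mul_mem (hCn.conj_mem x hxC g) (C.inv_mem hxC)
    have hMc : ∀ g : G, ∀ m ∈ M, g * m = m * g := fun g m hm =>
      (mem_centralizer_iff.1 (hCt ▸ mem_top g : g ∈ C) m hm).symm
    -- the preimage of the core of `G ⧸ M`
    set L := (pPrimeCore p (G ⧸ M)).comap (QuotientGroup.mk' M) with hL
    haveI hLn : L.Normal := (inferInstance : (pPrimeCore p (G ⧸ M)).Normal).comap _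
    have hML : M ≤ L := fun m hm => by
      show QuotientGroup.mk' M m ∈ pPrimeCore p (G ⧸ M)
      rw [show QuotientGroup.mk' M m = 1 from (QuotientGroup.eq_one_iff m).2 hm]
      exact one_mem _
    have hidx : ¬ p ∣ M.relIndex L := by
      have h1 : M.relIndex L = Nat.card ↥(pPrimeCore p (G ⧸ M)) := by
        have e : (⊥ : Subgroup (G ⧸ M)).comap (QuotientGroup.mk' M) = M := by
          rw [MonoidHom.comap_bot, QuotientGroup.ker_mk']
        have h2 := Subgroup.relIndex_comap (⊥ : Subgroup (G ⧸ M)) (QuotientGroup.mk' M) L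
        rw [e] at h2
        rw [h2, hL, Subgroup.map_comap_eq_self_of_surjective (QuotientGroup.mk'_surjective M),
          Subgroup.relIndex_bot_left]
      rw [h1, ← Nat.Prime.coprime_iff_not_dvd Fact.out]
      exact (Core.pPrimeCore_coprime p _).symm
    have hMp : IsPGroup p M := by
      have hs : Group.IsSolvable M :=
        Group.isSolvable_of_comm fun a b => Subtype.ext (hMc a b b.2)
      obtain ⟨-, r, hr, -, hrp⟩ := Core.minimal_solvable_elementary hM hs
      haveI := Fact.mk hr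
      obtain ⟨k, hk⟩ := IsPGroup.iff_card.1 hrp
      rw [hk] at hpd
      rwa [← (Nat.prime_dvd_prime_iff_eq Fact.out hr).1 ((Fact.out : p.Prime).dvd_of_dvd_pow hpd)] at hrp
    let T : Sylow p ↥L := (hMp.comap_of_injective L.subtype L.subtype_injective : IsPGroup p (M.subgroupOf L)).toSylow hidx
    obtain ⟨P, K, hKn, hK⟩ : HasNormalPComplement p ↥L := by
      refine Fusion.hasNormalPComplement_of_normalizer_le_centralizer T fun l _ => mem_centralizer_iff.2 ?_
      intro m hm
      exact Subtype.ext (hMc (l : G) (m : G) hm).symm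
    have hKc : (Nat.card K).Coprime p := Fusion.coprime_card_of_complement hK
    have hKb : K = ⊥ := by
      rw [eq_bot_iff]
      intro k hk
      have h1 : K ≤ pPrimeCore p ↥L := Core.le_pPrimeCore' hKn hKc
      have h2 : (k : G) ∈ pPrimeCore p G :=
        Core.pPrimeCore_map_le_of_isSubnormal (Subgroup.Normal.isSubnormal hLn) ⟨k, h1 hk, rfl⟩
      rw [hO, mem_bot] at h2
      exact mem_bot.2 (Subtype.ext h2)
    have hLM : L ≤ M := by
      have hLp : IsPGroup p ↥L := by
        have := hK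
        rw [hKb, isComplement'_bot_left] at this
        exact (P.2).of_equiv ((MulEquiv.subgroupCongr this).trans Subgroup.topEquiv)
      refine relIndex_eq_one.1 ?_
      obtain ⟨k, hk⟩ := IsPGroup.iff_card.1 hLp
      exact Nat.eq_one_of_dvd_coprimes (((Nat.Prime.coprime_iff_not_dvd Fact.out).2 hidx).pow_left k)
        (hk ▸ relIndex_dvd_card M L) dvd_rfl
    refine not_central hnz fun g => commute_of_comm_mem hiso ?_
    have h1 := hquot M hM.2.1 (QuotientGroup.mk g)
    have h2 : g * x * g⁻¹ * x⁻¹ ∈ L := by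
      show QuotientGroup.mk' M (g * x * g⁻¹ * x⁻¹) ∈ pPrimeCore p (G ⧸ M)
      simpa using h1
    exact hMc x _ (hLM h2)
  refine ⟨hpd, hB, ?_⟩
  by_contra hne
  refine hB (mem_centralizer_iff.2 fun m hm => ?_)
  exact commute_of_proper hmin hO le_sup_left (mem_sup_right (mem_zpowers x)) hne hm

end Cfsg.Lib.Local.IsoMin
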