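import Cfsg.Agent.Lib.Coprime.Conjugacy
import Mathlib.GroupTheory.GroupAction.Quotient
import Mathlib.GroupTheory.Index

/-!
The norm of a fixed point of `S` to a larger group `C` acting on an abelian subgroup.
-/

set_option autoImplicit false
set_option linter.style.haveILetI false

namespace Cfsg.Lib.Local

open Subgroup
open scoped commutatorElement IsMulCommutative

variable {G : Type*} [Group G] [Finite G] {V : Subgroup G} [IsMulCommutative V] (S : Subgroup G)
  {C : Subgroup G} (hCV : C ≤ normalizer (V : Set G))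

/-- The product of the conjugates of an element of `V` over the cosets of `S` in `C`. -/
noncomputable def normHom : V →* V :=
  haveI := Fintype.ofFinite (C ⧸ S.subgroupOf C)
  { toFun := fun v => ∏ q : C ⧸ S.subgroupOf C, Coprime.conjHom hCV q.out v
    map_one' := by simp
    map_mul' := fun v w => by simp only [map_mul, Finset.prod_mul_distrib] }

theorem normHom_apply [Fintype (C ⧸ S.subgroupOf C)] (v : V) :
    normHom S hCV v = ∏ q : C ⧸ S.subgroupOf C, Coprime.conjHom hCV q.out v := by
  show Finset.prod _ _ = _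
  congr 1
  exact congrArg (fun i => @Finset.univ _ i) (Subsingleton.elim _ _)

variable {S hCV}

theorem conjHom_eq_of_mk {v : V} (hv : ∀ s ∈ S, s * (v : G) = v * s) {a : C} {q : C ⧸ S.subgroupOf C}
    (h : (QuotientGroup.mk a : C ⧸ S.subgroupOf C) = q) :
    Coprime.conjHom hCV a v = Coprime.conjHom hCV q.out v := by
  have hs : ((q.out)⁻¹ * a : C) ∈ S.subgroupOf C :=
    QuotientGroup.eq.mp (by rw [QuotientGroup.out_eq', h])
  apply Subtype.ext
  rw [Coprime.conjHom_apply, Coprime.conjHom_apply]
  calc (a : G) * v * (a : G)⁻¹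
      = (q.out : G) * ((((q.out)⁻¹ * a : C) : G) * v) * (a : G)⁻¹ := by
        simp only [Subgroup.coe_mul, Subgroup.coe_inv]; group
    _ = (q.out : G) * ((v : G) * (((q.out)⁻¹ * a : C) : G)) * (a : G)⁻¹ := by rw [hv _ (mem_subgroupOf.mp hs)]
    _ = (q.out : G) * v * (q.out : G)⁻¹ := by
        simp only [Subgroup.coe_mul, Subgroup.coe_inv]; group

/-- The norm is fixed by `C`. -/
theorem normHom_fixed {v : V} (hv : ∀ s ∈ S, s * (v : G) = v * s) {c : G} (hc : c ∈ C) :
    c * (normHom S hCV v : G) = normHom S hCV v * c := by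
  haveI := Fintype.ofFinite (C ⧸ S.subgroupOf C)
  have h : Coprime.conjHom hCV ⟨c, hc⟩ (normHom S hCV v) = normHom S hCV v := by
    rw [normHom_apply, map_prod]
    refine Fintype.prod_bijective (fun q => (⟨c, hc⟩ : C) • q)
      (MulAction.bijective (⟨c, hc⟩ : C)) _ _ fun q => ?_
    rw [← conjHom_eq_of_mk hv (a := (⟨c, hc⟩ : C) * q.out) (q := (⟨c, hc⟩ : C) • q) (by
      conv_rhs => rw [← QuotientGroup.out_eq' q]
      rfl)]
    apply Subtype.ext
    simp only [Coprime.conjHom_apply, Subgroup.coe_mul]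
    group
  have h' : c * (normHom S hCV v : G) * c⁻¹ = normHom S hCV v := congrArg Subtype.val h
  exact mul_inv_eq_iff_eq_mul.mp h'

/-- The norm of an element fixed by `C` is its power. -/
theorem normHom_of_fixed {v : V} (hv : ∀ c ∈ C, c * (v : G) = v * c) :
    normHom S hCV v = v ^ S.relIndex C := by
  haveI := Fintype.ofFinite (C ⧸ S.subgroupOf C)
  rw [normHom_apply, Finset.prod_congr rfl (g := fun _ => v) (fun q _ => ?_), Finset.prod_const,
    Finset.card_univ, ← Nat.card_eq_fintype_card]
  · rfl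
  · apply Subtype.ext
    rw [Coprime.conjHom_apply, hv _ q.out.2, mul_inv_cancel_right]

/-- The defect of the norm lies in the commutator of `V` with `C`. -/
theorem pow_mul_normHom_inv_mem (v : V) :
    ((v ^ S.relIndex C * (normHom S hCV v)⁻¹ : V) : G) ∈ ⁅V, C⁆ := by
  haveI := Fintype.ofFinite (C ⧸ S.subgroupOf C)
  have h : v ^ S.relIndex C * (normHom S hCV v)⁻¹ =
      ∏ q : C ⧸ S.subgroupOf C, v * (Coprime.conjHom hCV q.out v)⁻¹ := by
    rw [Finset.prod_mul_distrib, Finset.prod_inv_distrib, Finset.prod_const, Finset.card_univ,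
      ← normHom_apply, ← Nat.card_eq_fintype_card]
    rfl
  rw [h]
  refine (Subgroup.prod_mem (⁅V, C⁆.subgroupOf V) fun q _ => ?_ : _ ∈ ⁅V, C⁆.subgroupOf V)
  show (v : G) * ((q.out : G) * v * (q.out : G)⁻¹)⁻¹ ∈ ⁅V, C⁆
  have := commutator_mem_commutator v.2 q.out.2 (H₁ := V) (H₂ := C)
  rw [commutatorElement_def] at this
  simpa [mul_assoc] using this

/-- The norm commutes with elements normalizing all three subgroups. -/
theorem normHom_conj {t : G} (htV : t ∈ normalizer (V : Set G)) (htS : t ∈ normalizer (S : Set G))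
    (htC : t ∈ normalizer (C : Set G)) {v w : V} (hw : ∀ s ∈ S, s * (w : G) = w * s)
    (hvw : t * (v : G) * t⁻¹ = w) : t * (normHom S hCV v : G) * t⁻¹ = normHom S hCV w := by
  haveI := Fintype.ofFinite (C ⧸ S.subgroupOf C)
  let φ : V →* V :=
    { toFun := fun x => ⟨t * (x : G) * t⁻¹, (mem_normalizer_iff.mp htV _).mp x.2⟩
      map_one' := by simp
      map_mul' := fun x y => by apply Subtype.ext; simp [mul_assoc] }
  suffices h : φ (normHom S hCV v) = normHom S hCV w from congrArg Subtype.val h
  rw [normHom_apply, normHom_apply, map_prod]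
  let σ : C ⧸ S.subgroupOf C → C ⧸ S.subgroupOf C := fun q =>
    QuotientGroup.mk ⟨t * (q.out : G) * t⁻¹, (mem_normalizer_iff.mp htC _).mp q.out.2⟩
  have hσ : Function.Injective σ := by
    intro q r h
    rw [← QuotientGroup.out_eq' q, ← QuotientGroup.out_eq' r]
    refine QuotientGroup.eq.mpr (mem_subgroupOf.mpr ((mem_normalizer_iff.mp htS _).mpr ?_))
    have h' := mem_subgroupOf.mp (QuotientGroup.eq.mp h)
    simpa [mul_assoc] using h'
  refine Fintype.prod_bijective σ (Finite.injective_iff_bijective.mp hσ) _ _ fun q => ?_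
  rw [← conjHom_eq_of_mk hw (a := ⟨t * (q.out : G) * t⁻¹, (mem_normalizer_iff.mp htC _).mp q.out.2⟩)
    (q := σ q) rfl]
  apply Subtype.ext
  show t * ((q.out : G) * v * (q.out : G)⁻¹) * t⁻¹ = _
  rw [Coprime.conjHom_apply, ← hvw]
  group

end Cfsg.Lib.Local
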