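import Cfsg.Prelude.Def_LocalEven
import Cfsg.Agent.Lib.Local.Norm
import Cfsg.Agent.Lib.Local.PReduced
import Cfsg.Agent.Lib.Local.CharPCriteria
import Cfsg.Agent.Lib.Local.SubnormalSylow
import Cfsg.Agent.Lib.Solv.SubnormalJoin

/-!
Point stabilizers of subnormal subgroups: the centralizers of `Ω₁(Z(T))` and of `Ω₁(Z(T ∩ L))`
meet a normal subgroup `L` in the same subgroup in characteristic `p`.
-/

set_option autoImplicit false

namespace Cfsg.Lib.Local.PointStab

open Subgroup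
open scoped commutatorElement

variable {G : Type*} [Group G] [Finite G] {p : ℕ} [hp : Fact p.Prime]

local notation "ΩZ(" X ")" => Cfsg.omegaOne p (X ⊓ Subgroup.centralizer ((X : Subgroup G) : Set G))

omit [Finite G] hp in
theorem mem_omegaCenter {X : Subgroup G} {x : G} (h1 : x ∈ X) (h2 : ∀ y ∈ X, y * x = x * y)
    (h3 : x ^ p = 1) : x ∈ ΩZ(X) :=
  subset_closure ⟨⟨h1, mem_centralizer_iff.2 h2⟩, h3⟩

theorem pow_eq_one_of_mem_omegaCenter {X : Subgroup G} {x : G} (h : x ∈ ΩZ(X)) : x ^ p = 1 :=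
  (isElementaryAbelian_omegaOne (isMulCommutative_center_inf X)).2 x h

theorem comm_of_mem_omegaCenter {X : Subgroup G} {x : G} (h : x ∈ ΩZ(X)) :
    x ∈ X ∧ ∀ y ∈ X, y * x = x * y :=
  ⟨(omegaOne_le h).1, mem_centralizer_iff.1 (omegaOne_le h).2⟩

/-- A `p`-group fixes an element of order `p` of a nontrivial `p`-group it normalizes. -/
theorem exists_fixed {A K : Subgroup G} (hA : IsPGroup p A) (hK : IsPGroup p K) (hK1 : K ≠ ⊥)
    (hn : A ≤ normalizer (K : Set G)) : ∃ k ∈ K, k ≠ 1 ∧ k ^ p = 1 ∧ ∀ a ∈ A, a * k = k * a := by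
  letI : MulDistribMulAction ↥A ↥K := MulDistribMulAction.compHom ↥K
    ((Subgroup.normalizerMonoidHom K).comp (Subgroup.inclusion hn))
  haveI : Nontrivial K := (Subgroup.nontrivial_iff_ne_bot K).2 hK1
  obtain ⟨j, hj0, hj⟩ := hK.nontrivial_iff_card.1 inferInstance
  obtain ⟨y, hy, hy1⟩ := hA.exists_fixed_point_of_prime_dvd_card_of_fixed_point K
    (hj ▸ dvd_pow_self p hj0.ne') (a := 1) (fun q => smul_one q)
  have hyc : ∀ a ∈ A, a * (y : G) = y * a := fun a ha =>
    mul_inv_eq_iff_eq_mul.1 (congrArg Subtype.val (hy ⟨a, ha⟩))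
  have hy1' : (y : G) ≠ 1 := fun h => hy1 (Subtype.ext h).symm
  obtain ⟨i, hi⟩ := IsPGroup.iff_orderOf.1 hK y
  rw [← orderOf_coe] at hi
  have hi0 : i ≠ 0 := fun h => hy1' (orderOf_eq_one_iff.1 (by rw [hi, h, pow_zero]))
  obtain ⟨l, rfl⟩ : ∃ l, i = l + 1 := ⟨i - 1, by omega⟩
  refine ⟨(y : G) ^ p ^ l, pow_mem y.2 _, fun h => ?_, ?_, fun a ha => ?_⟩
  · have := orderOf_dvd_of_pow_eq_one h
    rw [hi] at this
    exact absurd (Nat.pow_dvd_pow_iff_le_right hp.out.one_lt |>.1 this) (by omega)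
  · rw [← pow_mul, ← pow_succ, ← hi, pow_orderOf_eq_one]
  · exact ((show Commute a (y : G) from hyc a ha).pow_right _).eq

theorem eq_one_of_pow_eq_one {x : G} {m : ℕ} (hm : ¬ p ∣ m) (h1 : x ^ p = 1) (h2 : x ^ m = 1) : x = 1 :=
  orderOf_eq_one_iff.1 (Nat.eq_one_of_dvd_coprimes (hp.out.coprime_iff_not_dvd.2 hm)
    (orderOf_dvd_of_pow_eq_one h1) (orderOf_dvd_of_pow_eq_one h2))

/-- In characteristic `p`, `C_L(Ω₁Z(T)) = C_L(Ω₁Z(T ∩ L))` for a normal subgroup `L`. -/
theorem inf_centralizer_eq (hG : centralizer (pCore p G : Set G) ≤ pCore p G) (T : Sylow p G)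
    (L : Subgroup G) [hLn : L.Normal] :
    L ⊓ centralizer ((ΩZ((T : Subgroup G)) : Subgroup G) : Set G) =
      L ⊓ centralizer ((ΩZ((T : Subgroup G) ⊓ L) : Subgroup G) : Set G) := by
  set R := (T : Subgroup G) ⊓ L with hR
  set Z := ΩZ((T : Subgroup G)) with hZ
  set W := ΩZ(R) with hW
  set Q := Cfsg.pCoreOf p L with hQ
  have hQL : Q ≤ L := pCoreOf_le L
  have hQR : Q ≤ R :=
    le_inf ((Core.pCore_map_le_of_isSubnormal hLn.isSubnormal).trans (Core.pCore_le_sylow T)) hQL
  have hchar : ∀ x ∈ L, (∀ q ∈ Q, q * x = x * q) → x ∈ Q := by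
    intro x hx h
    have := CharPCriteria.of_isSubnormal hLn.isSubnormal hG (x := (⟨x, hx⟩ : ↥L))
      (mem_centralizer_iff.2 fun q hq => Subtype.ext (h q ⟨q, hq, rfl⟩))
    exact ⟨_, this, rfl⟩
  have hnQ : ∀ g : G, g ∈ normalizer (Q : Set G) := fun g =>
    normalizer_le_normalizer_pCoreOf L (by rw [normalizer_eq_top]; exact mem_top g)
  set V := Q ⊓ centralizer (Q : Set G) with hV
  have hnV : ∀ g : G, g ∈ normalizer (V : Set G) := fun g =>
    mem_normalizer_inf (hnQ g) (normalizer_le_normalizer_centralizer Q (hnQ g))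
  haveI : IsMulCommutative V := isMulCommutative_center_inf Q
  have hndR : ¬ p ∣ R.relIndex L := not_dvd_relIndex_inf T hLn.isSubnormal
  have hrel : ∀ C : Subgroup G, R ≤ C → C ≤ L → ¬ p ∣ R.relIndex C := fun C h1 h2 h =>
    hndR (h.trans (Dvd.intro _ (relIndex_mul_relIndex R C L h1 h2)))
  have hWV : ∀ w ∈ W, w ∈ V := by
    intro w hw
    obtain ⟨hwR, hwc⟩ := comm_of_mem_omegaCenter hw
    exact ⟨hchar w hwR.2 fun q hq => hwc q (hQR hq), mem_centralizer_iff.2 fun q hq => hwc q (hQR hq)⟩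
  refine le_antisymm (le_inf inf_le_left ?_) (le_inf inf_le_left ?_)
  · -- the stabilizer of `Z` centralizes `W`
    set C := L ⊓ centralizer (Z : Set G) with hC
    have hRC : R ≤ C := le_inf inf_le_right fun r hr => mem_centralizer_iff.2 fun z hz =>
      ((comm_of_mem_omegaCenter hz).2 r hr.1).symm
    have hTC : (T : Subgroup G) ≤ normalizer (C : Set G) := by
      refine le_normalizer_inf (le_normalizer_normal _) (le_trans ?_ (normalizer_le_normalizer_centralizer Z))
      refine fun t ht => centralizer_le_normalizer _ (mem_centralizer_iff.2 fun z hz => ?_)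
      exact ((comm_of_mem_omegaCenter hz).2 t ht).symm
    have hCV : C ≤ normalizer (V : Set G) := fun g _ => hnV g
    set f := normHom R hCV with hf
    have hWR : ∀ v : V, (v : G) ∈ W → ∀ s ∈ R, s * (v : G) = v * s := fun v hv s hs =>
      (comm_of_mem_omegaCenter hv).2 s hs
    let W' : Subgroup V := W.subgroupOf V
    have himg : ∀ v ∈ W', f v ∈ W' := by
      intro v hv
      show (f v : G) ∈ W
      refine mem_omegaCenter (hQR (f v).2.1) (fun s hs => normHom_fixed (hWR v hv) (hRC hs)) ?_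
      rw [← SubgroupClass.coe_pow, ← map_pow, show v ^ p = 1 from Subtype.ext (pow_eq_one_of_mem_omegaCenter hv)]
      simp
    set K : Subgroup G := ((f.ker ⊓ W').map V.subtype) with hK
    have hKbot : K = ⊥ := by
      by_contra hne
      have hKp : IsPGroup p K := (T.isPGroup'.to_le inf_le_left : IsPGroup p R).to_le (by
        rintro _ ⟨v, hv, rfl⟩
        exact hQR v.2.1)
      have hTK : (T : Subgroup G) ≤ normalizer (K : Set G) := by
        refine Core.le_normalizer_iff_conj_mem.mpr ?_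
        rintro t ht _ ⟨v, ⟨hv1, hv2⟩, rfl⟩
        have hv2' : (v : G) ∈ W := hv2
        have htR : t ∈ normalizer (R : Set G) :=
          le_normalizer_inf le_normalizer (le_normalizer_normal _) ht
        set w : V := ⟨t * (v : G) * t⁻¹, (mem_normalizer_iff.1 (hnV t) _).1 v.2⟩
        have hwW : (w : G) ∈ W := by
          obtain ⟨h1, h2⟩ := comm_of_mem_omegaCenter hv2'
          refine mem_omegaCenter ((mem_normalizer_iff.1 htR _).1 h1) (fun s hs => ?_) ?_
          · have := h2 (t⁻¹ * s * t) ((mem_normalizer_iff''.1 htR s).1 hs)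
            have := congrArg (fun a => t * a * t⁻¹) this
            simpa [w, mul_assoc] using this
          · show (t * (v : G) * t⁻¹) ^ p = 1
            rw [conj_pow, pow_eq_one_of_mem_omegaCenter hv2']
            simp
        refine ⟨w, ⟨?_, hwW⟩, rfl⟩
        have hv1' : f v = 1 := MonoidHom.mem_ker.1 hv1
        refine MonoidHom.mem_ker.2 (Subtype.ext ?_)
        rw [hf, ← normHom_conj (hCV := hCV) (hnV t) htR (hTC ht) (hWR w hwW) (v := v) rfl, ← hf, hv1']
        simp
      obtain ⟨k, hkK, hk1, hkp, hkT⟩ := exists_fixed T.isPGroup' hKp hne hTK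
      obtain ⟨v, ⟨hv1, hv2⟩, rfl⟩ := hkK
      have hvZ : (v : G) ∈ Z := mem_omegaCenter ((hQR v.2.1).1) hkT hkp
      have hfix : f v = v ^ R.relIndex C := normHom_of_fixed fun c hc =>
        (mem_centralizer_iff.1 hc.2 v hvZ).symm
      rw [MonoidHom.mem_ker.1 hv1] at hfix
      exact hk1 (eq_one_of_pow_eq_one (hrel C hRC inf_le_left) hkp (congrArg Subtype.val hfix.symm))
    have hinj : Function.Injective fun v : W' => (⟨f v, himg v v.2⟩ : W') := by
      intro a b h
      have h' : f a = f b := congrArg Subtype.val h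
      have hmem : ((a : V) * (b : V)⁻¹ : V) ∈ f.ker ⊓ W' :=
        ⟨MonoidHom.mem_ker.2 (by rw [map_mul, map_inv, h', mul_inv_cancel]),
          W'.mul_mem a.2 (W'.inv_mem b.2)⟩
      have h0 : (((a : V) * (b : V)⁻¹ : V) : G) ∈ K := ⟨_, hmem, rfl⟩
      rw [hKbot, mem_bot] at h0
      exact Subtype.ext (mul_inv_eq_one.1 (Subtype.ext h0))
    intro c hc
    refine mem_centralizer_iff.2 fun w hw => ?_
    obtain ⟨⟨u, hu⟩, hue⟩ := (Finite.injective_iff_surjective.1 hinj) ⟨⟨w, hWV w hw⟩, hw⟩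
    have hue' : (f u : G) = w := congrArg (fun a : W' => ((a : V) : G)) hue
    rw [← hue']
    exact (normHom_fixed (hWR u hu) hc).symm
  · -- the stabilizer of `W` centralizes `Z`
    set C := L ⊓ centralizer (W : Set G) with hC
    have hRC : R ≤ C := le_inf inf_le_right fun r hr => mem_centralizer_iff.2 fun w hw =>
      ((comm_of_mem_omegaCenter hw).2 r hr).symm
    have hm := hrel C hRC inf_le_left
    intro c hc
    refine mem_centralizer_iff.2 fun z hz => ?_
    obtain ⟨hzT, hzc⟩ := comm_of_mem_omegaCenter hz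
    have hzQ : ∀ q ∈ Q, q * z = z * q := fun q hq => hzc q (hQR hq).1
    have hdef : ∀ g ∈ L, g * z * g⁻¹ * z⁻¹ ∈ V := by
      intro g hg
      have hL1 : g * z * g⁻¹ * z⁻¹ ∈ L := by
        have : g * z * g⁻¹ * z⁻¹ = g * (z * g⁻¹ * z⁻¹) := by group
        rw [this]
        exact L.mul_mem hg (hLn.conj_mem _ (L.inv_mem hg) z)
      have hc1 : ∀ q ∈ Q, q * (g * z * g⁻¹ * z⁻¹) = g * z * g⁻¹ * z⁻¹ * q := by
        intro q hq
        have h1 : Commute q (g * z * g⁻¹) := by
          have := congrArg (fun a => g * a * g⁻¹) (hzQ (g⁻¹ * q * g) ((mem_normalizer_iff''.1 (hnQ g) q).1 hq))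
          rw [commute_iff_eq]
          simpa [mul_assoc] using this
        exact (h1.mul_right (Commute.inv_right (hzQ q hq))).eq
      exact ⟨hchar _ hL1 hc1, mem_centralizer_iff.2 hc1⟩
    -- first norm, inside `V⟨z⟩`
    set A := V ⊔ zpowers z with hA
    have hcA : ⁅V, zpowers z⁆ = ⊥ := Core.commutator_eq_bot_iff_forall.2 fun v hv y hy => by
      obtain ⟨i, rfl⟩ := mem_zpowers_iff.1 hy
      exact ((show Commute v z from hzQ v hv.1).zpow_right i).eq
    haveI : IsMulCommutative A := by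
      refine ⟨⟨fun a b => Subtype.ext ?_⟩⟩
      obtain ⟨v, hv, y, hy, hay⟩ := (Core.mem_sup_of_commute hcA).1 a.2
      obtain ⟨v', hv', y', hy', hby⟩ := (Core.mem_sup_of_commute hcA).1 b.2
      have h1 : Commute v v' := congrArg Subtype.val (mul_comm' (⟨v, hv⟩ : V) ⟨v', hv'⟩)
      have h2 : Commute y y' := by
        obtain ⟨i, rfl⟩ := mem_zpowers_iff.1 hy
        obtain ⟨j, rfl⟩ := mem_zpowers_iff.1 hy'
        exact Commute.zpow_zpow (Commute.refl z) i j
      have h3 : Commute v y' := Core.commutator_eq_bot_iff_forall.1 hcA v hv y' hy'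
      have h4 : Commute y v' := (Core.commutator_eq_bot_iff_forall.1 hcA v' hv' y hy).symm
      show (a : G) * b = b * a
      rw [← hay, ← hby]
      exact ((h1.mul_right h3).mul_left (h4.mul_right h2)).eq
    have hCA : C ≤ normalizer (A : Set G) := by
      refine Core.le_normalizer_iff_conj_mem.mpr fun g hg a ha => ?_
      obtain ⟨v, hv, y, hy, rfl⟩ := (Core.mem_sup_of_commute hcA).1 ha
      obtain ⟨i, rfl⟩ := mem_zpowers_iff.1 hy
      have e : g * (v * z ^ i) * g⁻¹ = (g * v * g⁻¹) * (g * z * g⁻¹ * z⁻¹ * z) ^ i := by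
        rw [show g * z * g⁻¹ * z⁻¹ * z = g * z * g⁻¹ by group, conj_zpow]; group
      rw [e]
      exact A.mul_mem (mem_sup_left ((mem_normalizer_iff.1 (hnV g) v).1 hv))
        (A.zpow_mem (A.mul_mem (mem_sup_left (hdef g hg.1)) (mem_sup_right (mem_zpowers z))) i)
    set zA : A := ⟨z, mem_sup_right (mem_zpowers z)⟩ with hzA
    have hzR : ∀ s ∈ R, s * (zA : G) = zA * s := fun s hs => hzc s hs.1
    set m := R.relIndex C with hmdef
    set b := normHom R hCA zA with hb
    have hbfix : ∀ g ∈ C, g * (b : G) = b * g := fun g hg => normHom_fixed hzR hg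
    have hAC : ⁅A, C⁆ ≤ V := by
      refine commutator_le.2 fun a ha g hg => ?_
      obtain ⟨v, hv, y, hy, rfl⟩ := (Core.mem_sup_of_commute hcA).1 ha
      obtain ⟨i, rfl⟩ := mem_zpowers_iff.1 hy
      -- `g ↦ g a g⁻¹ a⁻¹` takes values in `V`
      have h1 : ∀ j : ℤ, g * z ^ j * g⁻¹ * (z ^ j)⁻¹ ∈ V := by
        intro j
        have hcom : Commute (g * z * g⁻¹ * z⁻¹) z := (hzQ _ (hdef g hg.1).1)
        rw [show g * z ^ j * g⁻¹ = (g * z * g⁻¹ * z⁻¹ * z) ^ j by
          rw [show g * z * g⁻¹ * z⁻¹ * z = g * z * g⁻¹ by group, conj_zpow], hcom.mul_zpow,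
          mul_inv_cancel_right]
        exact V.zpow_mem (hdef g hg.1) j
      have h2 : g * v * g⁻¹ * v⁻¹ ∈ V :=
        V.mul_mem ((mem_normalizer_iff.1 (hnV g) v).1 hv) (V.inv_mem hv)
      have hc' : Commute v⁻¹ (g * z ^ i * g⁻¹ * (z ^ i)⁻¹) :=
        congrArg Subtype.val (mul_comm' (⟨v⁻¹, V.inv_mem hv⟩ : V) ⟨_, h1 i⟩)
      have hvz : Commute v (z ^ i) := Core.commutator_eq_bot_iff_forall.1 hcA v hv _ hy
      have e : ⁅v * z ^ i, g⁆ = ((g * v * g⁻¹ * v⁻¹) * (g * z ^ i * g⁻¹ * (z ^ i)⁻¹))⁻¹ := by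
        rw [commutatorElement_def]
        calc v * z ^ i * g * (v * z ^ i)⁻¹ * g⁻¹
            = v * (z ^ i * g * (z ^ i)⁻¹ * g⁻¹) * g * v⁻¹ * g⁻¹ := by group
          _ = (g * z ^ i * g⁻¹ * (z ^ i)⁻¹)⁻¹ * (v * g * v⁻¹ * g⁻¹) := by
              rw [show z ^ i * g * (z ^ i)⁻¹ * g⁻¹ = (g * z ^ i * g⁻¹ * (z ^ i)⁻¹)⁻¹ by group,
                show v * (g * z ^ i * g⁻¹ * (z ^ i)⁻¹)⁻¹ = (g * z ^ i * g⁻¹ * (z ^ i)⁻¹)⁻¹ * v from
                  ((Commute.inv_left_iff.1 hc').inv_right).eq]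
              group
          _ = _ := by group
      rw [e]
      exact V.inv_mem (V.mul_mem h2 (h1 i))
    have hu' : ((zA ^ m * b⁻¹ : A) : G) ∈ V := hAC (pow_mul_normHom_inv_mem zA)
    set u : V := ⟨((zA ^ m * b⁻¹ : A) : G), hu'⟩ with hu
    have hzcomm : ∀ s ∈ R, Commute s (z ^ m) := fun s hs => (show Commute s z from hzR s hs).pow_right m
    have huR : ∀ s ∈ R, s * (u : G) = u * s := fun s hs =>
      ((hzcomm s hs).mul_right (Commute.inv_right (hbfix s (hRC hs)))).eq
    have hzb : Commute (z ^ m) (b : G)⁻¹ :=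
      Commute.inv_right (congrArg Subtype.val (mul_comm' (zA ^ m) b))
    have hup : ∀ g ∈ C, g * ((u ^ p : V) : G) = (u ^ p : V) * g := by
      intro g hg
      have e : ((u ^ p : V) : G) = ((b : G)⁻¹) ^ p := by
        show (z ^ m * (b : G)⁻¹) ^ p = _
        rw [hzb.mul_pow, ← pow_mul, mul_comm m p, pow_mul, pow_eq_one_of_mem_omegaCenter hz]
        simp
      rw [e]
      exact ((show Commute g (b : G) from hbfix g hg).inv_right.pow_right p).eq
    -- second norm, inside `V`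
    have hCV : C ≤ normalizer (V : Set G) := fun g _ => hnV g
    set n := normHom R hCV u with hn
    set w := u ^ m * n⁻¹ with hw
    have hwW : (w : G) ∈ W := by
      refine mem_omegaCenter (hQR w.2.1) (fun s hs => ?_) ?_
      · exact (((show Commute s (u : G) from huR s hs).pow_right m).mul_right
          (Commute.inv_right (normHom_fixed huR (hRC hs)))).eq
      · have h2 : n ^ p = (u ^ p) ^ m := by
          rw [hn, ← map_pow, normHom_of_fixed fun g hg => hup g hg]
        have : w ^ p = 1 := by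
          rw [hw, (show Commute (u ^ m) n⁻¹ from mul_comm' _ _).mul_pow, inv_pow, h2, ← pow_mul, ← pow_mul, mul_comm m p, mul_inv_cancel]
        exact congrArg Subtype.val this
    have humfix : Commute c ((u : G) ^ m) := by
      have e : (u : G) ^ m = (w : G) * n := by simp [hw]
      rw [e]
      exact ((show Commute (w : G) c from mem_centralizer_iff.1 hc.2 w hwW).symm).mul_right
        (normHom_fixed huR hc)
    have hfix2 : Commute c (z ^ (m * m)) := by
      have e : z ^ (m * m) = (u : G) ^ m * (b : G) ^ m := by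
        have e1 : z ^ m = (u : G) * b := by simp [hu, hzA]
        rw [pow_mul, e1, Commute.mul_pow]
        exact ((show Commute (z ^ m * (b : G)⁻¹) (b : G) from
          Commute.mul_left (congrArg Subtype.val (mul_comm' (zA ^ m) b)) (Commute.inv_left (Commute.refl _))))
      rw [e]
      exact humfix.mul_right ((show Commute c (b : G) from hbfix c hc).pow_right m)
    have hcop : (m * m).Coprime (orderOf z) :=
      Nat.Coprime.coprime_dvd_right (orderOf_dvd_of_pow_eq_one (pow_eq_one_of_mem_omegaCenter hz))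
        ((hp.out.coprime_iff_not_dvd.2 fun h => hm ((hp.out.dvd_mul.1 h).elim id id)).symm)
    obtain ⟨j, hj⟩ := exists_pow_eq_self_of_coprime hcop
    rw [← hj]
    exact (hfix2.pow_right j).eq.symm

omit [Finite G] hp in
theorem map_inf_centralizer {D : Subgroup G} (X : Subgroup D) (Z : Subgroup D) :
    (X ⊓ centralizer (Z : Set D)).map D.subtype =
      X.map D.subtype ⊓ centralizer ((Z.map D.subtype : Subgroup G) : Set G) := by
  ext g
  constructor
  · rintro ⟨x, ⟨hx, hxc⟩, rfl⟩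
    refine ⟨⟨x, hx, rfl⟩, mem_centralizer_iff.2 ?_⟩
    rintro _ ⟨y, hy, rfl⟩
    exact congrArg Subtype.val (mem_centralizer_iff.1 hxc y hy)
  · rintro ⟨⟨x, hx, rfl⟩, hc⟩
    exact ⟨x, ⟨hx, mem_centralizer_iff.2 fun y hy => Subtype.ext (mem_centralizer_iff.1 hc y ⟨y, hy, rfl⟩)⟩, rfl⟩

/-- One normal step inside a group of local characteristic `p`. -/
theorem inf_centralizer_eq_step (hG : Cfsg.IsOfLocalCharacteristic p G) (T : Sylow p G)
    {M L : Subgroup G} (hM : M.IsSubnormal) (hLM : L ≤ M) (hMn : M ≤ normalizer (L : Set G))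
    (hL : L.IsSubnormal) (hLp : p ∣ Nat.card L) :
    L ⊓ centralizer ((ΩZ((T : Subgroup G) ⊓ M) : Subgroup G) : Set G) =
      L ⊓ centralizer ((ΩZ((T : Subgroup G) ⊓ L) : Subgroup G) : Set G) := by
  set S := (T : Subgroup G) ⊓ M with hS
  set R := (T : Subgroup G) ⊓ L with hR
  set Y := ΩZ(S) ⊓ L with hY
  have hRS : R ≤ S := inf_le_inf_left _ hLM
  have hRne : R ≠ ⊥ := fun h => by
    have := not_dvd_relIndex_inf T hL
    rw [← hR, h, relIndex_bot_left] at this
    exact this hLp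
  have hYne : Y ≠ ⊥ := by
    obtain ⟨k, hk, hk1, hkp, hkc⟩ := exists_fixed (T.isPGroup'.to_le inf_le_left : IsPGroup p S)
      (T.isPGroup'.to_le inf_le_left : IsPGroup p R) hRne
      (le_normalizer_inf (inf_le_left.trans le_normalizer) (inf_le_right.trans hMn))
    intro h
    have : k ∈ Y := ⟨mem_omegaCenter (hRS hk) hkc hkp, hk.2⟩
    rw [h, mem_bot] at this
    exact hk1 this
  have hYp : IsPGroup p Y := (T.isPGroup'.to_le inf_le_left : IsPGroup p S).to_le
    (fun y hy => (comm_of_mem_omegaCenter hy.1).1)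
  have hYR : Y ≤ ΩZ(R) := fun y hy => by
    obtain ⟨h1, h2⟩ := comm_of_mem_omegaCenter hy.1
    exact mem_omegaCenter ⟨h1.1, hy.2⟩ (fun r hr => h2 r (hRS hr)) (pow_eq_one_of_mem_omegaCenter hy.1)
  set N := normalizer (Y : Set G) with hN
  set D := M ⊓ centralizer (Y : Set G) with hD
  have hDN : D ≤ N := inf_le_right.trans (centralizer_le_normalizer _)
  haveI hCn : ((centralizer (Y : Set G)).subgroupOf N).Normal :=
    normal_subgroupOf_of_le_normalizer (normalizer_le_normalizer_centralizer Y)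
  have hDsub : (D.subgroupOf N).IsSubnormal :=
    (hM.subgroupOf (H := M) (K := N)).inf hCn.isSubnormal
  have hDchar : centralizer (pCore p D : Set D) ≤ pCore p D :=
    CharPCriteria.congr (subgroupOfEquivOfLe hDN)
      (CharPCriteria.of_isSubnormal hDsub (hG.2 Y hYp hYne))
  have hSD : S ≤ D := le_inf inf_le_right fun s hs => mem_centralizer_iff.2 fun y hy =>
    ((comm_of_mem_omegaCenter hy.1).2 s hs).symm
  have hSp : IsPGroup p (S.subgroupOf D) := (T.isPGroup'.to_le inf_le_left : IsPGroup p S).comap_subtype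
  have hnd : ¬ p ∣ (S.subgroupOf D).index := fun h =>
    not_dvd_relIndex_inf T hM (h.trans (Dvd.intro _ (relIndex_mul_relIndex S D M hSD inf_le_left)))
  haveI : (L.subgroupOf D).Normal :=
    normal_subgroupOf_of_le_normalizer (inf_le_left.trans hMn)
  have h := congrArg (Subgroup.map D.subtype)
    (inf_centralizer_eq hDchar (hSp.toSylow hnd) (L.subgroupOf D))
  rw [IsPGroup.toSylow_coe, map_inf_centralizer, map_inf_centralizer, map_omegaOne_center,
    map_omegaOne_center, map_subgroupOf_eq_of_le hSD, subgroupOf_map_subtype] at h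
  have h2 : (S.subgroupOf D ⊓ L.subgroupOf D).map D.subtype = R := by
    rw [show S.subgroupOf D ⊓ L.subgroupOf D = (S ⊓ L).subgroupOf D from rfl,
      map_subgroupOf_eq_of_le (inf_le_left.trans hSD), hS, inf_assoc, inf_eq_right.2 hLM]
  rw [h2] at h
  have hle : ∀ {Z : Subgroup G}, Y ≤ Z → L ⊓ centralizer (Z : Set G) ≤ D := fun hYZ x hx =>
    ⟨hLM hx.1, centralizer_le hYZ hx.2⟩
  refine le_antisymm (fun x hx => ?_) (fun x hx => ?_)
  · exact ⟨hx.1, (h ▸ (show x ∈ L ⊓ D ⊓ centralizer ((ΩZ(S) : Subgroup G) : Set G) from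
      ⟨⟨hx.1, hle (inf_le_left : Y ≤ ΩZ(S)) hx⟩, hx.2⟩) :
      x ∈ L ⊓ D ⊓ centralizer ((ΩZ(R) : Subgroup G) : Set G)).2⟩
  · exact ⟨hx.1, (h.symm ▸ (show x ∈ L ⊓ D ⊓ centralizer ((ΩZ(R) : Subgroup G) : Set G) from
      ⟨⟨hx.1, hle hYR hx⟩, hx.2⟩) :
      x ∈ L ⊓ D ⊓ centralizer ((ΩZ(S) : Subgroup G) : Set G)).2⟩

/-- The same along a subnormal chain. -/
theorem inf_centralizer_eq_of_isSubnormal (hG : Cfsg.IsOfLocalCharacteristic p G) (T : Sylow p G)
    {L : Subgroup G} (hL : L.IsSubnormal) (hLp : p ∣ Nat.card L) :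
    ∀ n : ℕ, ∀ M : Subgroup G, Nat.card M ≤ n → M.IsSubnormal → L ≤ M →
      L ⊓ centralizer ((ΩZ((T : Subgroup G) ⊓ M) : Subgroup G) : Set G) =
        L ⊓ centralizer ((ΩZ((T : Subgroup G) ⊓ L) : Subgroup G) : Set G) := by
  intro n
  induction n with
  | zero => intro M h; have := Nat.card_pos (α := M); omega
  | succ n ih =>
    intro M hn hM hLM
    rcases (hL.subgroupOf (H := L) (K := M)).lt_normal with h | ⟨N, hN, hLN, hlt⟩
    · rw [subgroupOf_eq_top] at h
      rw [le_antisymm hLM h]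
    set N' := N.map M.subtype with hN'
    have hN'M : N' ≤ M := map_subtype_le _
    have hLN' : L ≤ N' := by
      rw [← map_subgroupOf_eq_of_le hLM]; exact map_mono hLN
    have hMn : M ≤ normalizer (N' : Set G) := by
      refine Core.le_normalizer_iff_conj_mem.mpr ?_
      rintro g hg _ ⟨y, hy, rfl⟩
      exact ⟨⟨g, hg⟩ * y * ⟨g, hg⟩⁻¹, hN.conj_mem y hy _, rfl⟩
    have hN'sub : N'.IsSubnormal :=
      Core.isSubnormal_of_normal_subgroupOf hN'M hM (normal_subgroupOf_of_le_normalizer hMn)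
    have hcard : Nat.card N' ≤ n := by
      rw [hN', Core.card_map_subtype]
      have := Core.lt_card_of_ne_top hlt.ne
      omega
    have h1 := inf_centralizer_eq_step hG T hM hN'M hMn hN'sub (hLp.trans (card_dvd_of_le hLN'))
    have h2 := ih N' hcard hN'sub hLN'
    refine Eq.trans ?_ h2
    ext x
    constructor
    · intro hx
      exact ⟨hx.1, (h1 ▸ (⟨hLN' hx.1, hx.2⟩ : x ∈ N' ⊓ centralizer ((ΩZ((T : Subgroup G) ⊓ M) : Subgroup G) : Set G)) :
        x ∈ N' ⊓ centralizer ((ΩZ((T : Subgroup G) ⊓ N') : Subgroup G) : Set G)).2⟩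
    · intro hx
      exact ⟨hx.1, (h1.symm ▸ (⟨hLN' hx.1, hx.2⟩ : x ∈ N' ⊓ centralizer ((ΩZ((T : Subgroup G) ⊓ N') : Subgroup G) : Set G)) :
        x ∈ N' ⊓ centralizer ((ΩZ((T : Subgroup G) ⊓ M) : Subgroup G) : Set G)).2⟩

omit hp in
theorem mem_of_isSubnormal_of_sylow [Fact p.Prime] {J : Subgroup G} (hJ : J.IsSubnormal)
    (S : Sylow p G) (hS : (S : Subgroup G) ≤ J) {x : G} (hx : ∃ k : ℕ, orderOf x = p ^ k) : x ∈ J := by
  obtain ⟨k, hk⟩ := hx
  obtain ⟨S', hS'⟩ := (IsPGroup.of_card (n := k) (by rw [Nat.card_zpowers, hk]) :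
    IsPGroup p (zpowers x)).exists_le_sylow
  set I := (S' : Subgroup G) ⊓ J with hI
  have h1 : ¬ p ∣ I.index := by
    rw [← relIndex_mul_index (inf_le_right : I ≤ J)]
    exact fun h => (Fact.out : p.Prime).dvd_mul.1 h |>.elim (not_dvd_relIndex_inf S' hJ)
      (fun h' => S.not_dvd_index (h'.trans (index_dvd_of_le hS)))
  obtain ⟨j, hj⟩ := IsPGroup.iff_card.1 S'.isPGroup'
  have h2 : I.relIndex (S' : Subgroup G) = 1 :=
    Nat.eq_one_of_dvd_coprimes (((Fact.out : p.Prime).coprime_iff_not_dvd.2 h1).pow_left j)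
      (hj ▸ relIndex_dvd_card _ _)
      (Dvd.intro _ (relIndex_mul_index (inf_le_left : I ≤ (S' : Subgroup G))))
  exact (relIndex_eq_one.1 h2 (hS' (mem_zpowers x))).2

end Cfsg.Lib.Local.PointStab
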