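import Cfsg.Agent.Lib.Local.Isolated
import Cfsg.Agent.Lib.PGroup.OddOmega
import Cfsg.Agent.Lib.Core.Layer
import Cfsg.Agent.Lib.Local.SubnormalSylow
import Cfsg.Agent.Lib.Local.PointStabilizer
import Cfsg.Agent.Lib.Local.PMinimalComponents
import Cfsg.Prelude.Def_CaseTheorems

/-!
An isolated element of order `p` in a group of `p`-rank two.
-/

set_option autoImplicit false

namespace Cfsg.Lib.Local.IsolatedRankTwo

open Subgroup Cfsg.Lib

variable {G : Type*} [Group G] [Finite G] {p : ℕ} [hp : Fact p.Prime]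

/-- No fusion of elements of order `p` forces a normal `p`-complement, for odd `p`. -/
theorem hasNormalPComplement_of_no_fusion (hp2 : p ≠ 2) (P : Sylow p G)
    (h : ∀ y ∈ (P : Subgroup G), y ^ p = 1 → ∀ g : G, g * y * g⁻¹ ∈ (P : Subgroup G) → g * y * g⁻¹ = y) :
    Cfsg.HasNormalPComplement p G := by
  refine Fusion.hasNormalPComplement_of_tame P fun Q _ x hx hxc => ?_
  set D := (P : Subgroup G) ⊓ (Q : Subgroup G) with hD
  have hDp : IsPGroup p D := P.isPGroup'.to_le inf_le_left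
  obtain ⟨k, hk⟩ := IsPGroup.iff_card.1 hDp
  have hcop : (Nat.card (zpowers x)).Coprime (Nat.card D) := by
    rw [Nat.card_zpowers, hk]; exact hxc.pow_right k
  refine PGroup.le_centralizer_of_centralizes_omega hp2 (zpowers x) D hDp (zpowers_le.2 hx) hcop
    (fun y hy hyp a ha => ?_) (mem_zpowers x)
  obtain ⟨i, rfl⟩ := mem_zpowers_iff.1 ha
  have h1 := h y hy.1 hyp x ((mem_normalizer_iff.1 hx y).1 hy).1
  exact (((Cfsg.Lib.Local.commute_conj_iff h1).zpow_left i)).eq

/-- In a component some element of order `p` is fused. -/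
theorem component_fusion (hp2 : p ≠ 2) (P : Sylow p G) {L : Subgroup G} (hL : Cfsg.IsComponent L)
    (hLp : p ∣ Nat.card L)
    (h : ∀ y ∈ (P : Subgroup G) ⊓ L, y ^ p = 1 → ∀ g ∈ L, g * y * g⁻¹ ∈ (P : Subgroup G) → g * y * g⁻¹ = y) :
    False := by
  have hRp : IsPGroup p (((P : Subgroup G) ⊓ L).subgroupOf L) :=
    (P.isPGroup'.to_le inf_le_left : IsPGroup p ↥((P : Subgroup G) ⊓ L)).comap_subtype
  have hnd : ¬ p ∣ (((P : Subgroup G) ⊓ L).subgroupOf L).index := Cfsg.Lib.Local.not_dvd_relIndex_inf P hL.1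
  have hcomp : Cfsg.HasNormalPComplement p L := by
    refine hasNormalPComplement_of_no_fusion hp2 (hRp.toSylow hnd) fun y hy hyp g hg => ?_
    rw [IsPGroup.toSylow_coe, mem_subgroupOf] at hy hg
    exact Subtype.ext (h y hy (congrArg Subtype.val hyp) g g.2 hg.1)
  have hperf : ⁅(⊤ : Subgroup L), (⊤ : Subgroup L)⁆ = (⊤ : Subgroup L) := by
    have := Core.quasisimple_commutator hL.2
    rwa [commutator_def] at this
  have htop : (⊤ : Subgroup L) ≤ Cfsg.pResidual p L := PMin.perfect_le_pResidual hperf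
  have hcop := Fusion.hasNormalPComplement_iff_coprime.1 hcomp
  rw [top_le_iff.1 htop, card_top] at hcop
  exact Core.coprime_iff_not_dvd'.1 hcop hLp

/-- Three commuting elements of order dividing `p` in `p`-rank two. -/
theorem exists_zpow_mul (hrank : Cfsg.PRankLE p 2 G) {a b c : G} (ha : orderOf a = p) (hb : orderOf b = p)
    (hc : c ^ p = 1) (hab : Commute a b) (hac : Commute a c) (hbc : Commute b c)
    (hne : b ∉ zpowers a) : ∃ i j : ℤ, c = a ^ i * b ^ j := by
  set S : Set G := {a, b, c} with hS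
  set E := closure S with hE
  have hcomm : ∀ x ∈ S, ∀ y ∈ S, x * y = y * x := by
    rintro x (rfl | rfl | rfl) y (rfl | rfl | rfl)
    all_goals first
      | rfl
      | exact hab.eq
      | exact hab.symm.eq
      | exact hac.eq
      | exact hac.symm.eq
      | exact hbc.eq
      | exact hbc.symm.eq
  haveI hEc : IsMulCommutative E := Subgroup.isMulCommutative_closure hcomm
  have hexp : ∀ x ∈ E, x ^ p = 1 := by
    intro x hx
    refine closure_induction (p := fun z _ => z ^ p = 1) ?_ (one_pow p) ?_ ?_ hx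
    · rintro z (rfl | rfl | rfl)
      · rw [← ha, pow_orderOf_eq_one]
      · rw [← hb, pow_orderOf_eq_one]
      · exact hc
    · intro u v hu hv h1 h2
      rw [(show Commute u v from congrArg Subtype.val (mul_comm' (⟨u, hu⟩ : E) ⟨v, hv⟩)).mul_pow, h1, h2,
        one_mul]
    · intro u _ h1
      rw [inv_pow, h1, inv_one]
  have haE : a ∈ E := subset_closure (by simp [hS])
  have hbE : b ∈ E := subset_closure (by simp [hS])
  have hcE : c ∈ E := subset_closure (by simp [hS])
  set E2 := zpowers a ⊔ zpowers b with hE2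
  have hE2E : E2 ≤ E := sup_le (zpowers_le.2 haE) (zpowers_le.2 hbE)
  have hlt : zpowers a < E2 := lt_of_le_of_ne le_sup_left fun h => hne (h.ge (mem_sup_right (mem_zpowers b)))
  have hcard : p ^ 2 ≤ Nat.card E2 := by
    obtain ⟨m, hm⟩ : Nat.card (zpowers a) ∣ Nat.card E2 := card_dvd_of_le hlt.le
    obtain ⟨j, hj⟩ := IsPGroup.iff_card.1 (fun x : E2 => ⟨1, Subtype.ext (by simpa using hexp x (hE2E x.2))⟩ : IsPGroup p E2)
    rw [hj]
    refine Nat.pow_le_pow_right hp.out.pos ?_
    by_contra hj2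
    interval_cases j
    · have h1 : Nat.card (zpowers a) ≤ 1 := by
        rw [← pow_zero p, ← hj]; exact Nat.le_of_dvd Nat.card_pos (card_dvd_of_le hlt.le)
      rw [Nat.card_zpowers, ha] at h1
      exact absurd hp.out.two_le (by omega)
    · refine hlt.ne (eq_of_le_of_card_ge hlt.le ?_)
      rw [hj, Nat.card_zpowers, ha, pow_one]
  have hEq : E2 = E := eq_of_le_of_card_ge hE2E ((hrank E hEc hexp).trans hcard)
  have hcomm2 : ⁅zpowers a, zpowers b⁆ = ⊥ := Core.commutator_eq_bot_iff_forall.2 fun x hx y hy => by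
    obtain ⟨i, rfl⟩ := mem_zpowers_iff.1 hx
    obtain ⟨j, rfl⟩ := mem_zpowers_iff.1 hy
    exact (hab.zpow_zpow i j).eq
  obtain ⟨u, hu, v, hv, huv⟩ := (Core.mem_sup_of_commute hcomm2).1 (hEq.ge hcE)
  obtain ⟨i, rfl⟩ := mem_zpowers_iff.1 hu
  obtain ⟨j, rfl⟩ := mem_zpowers_iff.1 hv
  exact ⟨i, j, huv.symm⟩

theorem generalizedFitting_simple (hp2 : p ≠ 2) (hcore : Cfsg.pPrimeCore p G = ⊥)
    (hrank : Cfsg.PRankLE p 2 G) {x : G} (hx : orderOf x = p) (hiso : Cfsg.IsIsolated x)
    (hnc : x ∉ Subgroup.center G) :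
    IsSimpleGroup ↥(Cfsg.generalizedFittingSubgroup G) ∧
      ¬ IsMulCommutative ↥(Cfsg.generalizedFittingSubgroup G) := by
  classical
  have hxp : IsPGroup p (zpowers x) := IsPGroup.of_card (n := 1) (by rw [Nat.card_zpowers, hx, pow_one])
  obtain ⟨P, hP⟩ := hxp.exists_le_sylow
  have hxP : x ∈ (P : Subgroup G) := hP (mem_zpowers x)
  have hPx : ∀ y ∈ (P : Subgroup G), Commute x y := fun y hy =>
    (mem_centralizer_singleton_iff.1 (Cfsg.Lib.Local.isolated_le_centralizer hiso P.isPGroup' hxP hy)).symm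
  have hfix : ∀ g : G, g * x * g⁻¹ ∈ (P : Subgroup G) → g * x * g⁻¹ = x := fun g hg =>
    Cfsg.Lib.Local.isolated_eq_of_mem_pGroup hiso P.isPGroup' hxP hg
  have hx1 : x ≠ 1 := fun h => hp.out.ne_one (by rw [← hx, h, orderOf_one])
  set Q := Cfsg.pCore p G with hQ
  have hQP : Q ≤ (P : Subgroup G) := Core.pCore_le_sylow P
  have hxQ : x ∉ Q := by
    intro h
    refine hnc (mem_center_iff.2 fun g => ?_)
    have hmem : g * x * g⁻¹ ∈ Q := (inferInstance : Q.Normal).conj_mem x h g
    exact mul_inv_eq_iff_eq_mul.1 (hfix g (hQP hmem))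
  have hpF : ∀ q : Nat.Primes, (q : ℕ) ≠ p → Cfsg.pCore (q : ℕ) G ≤ ⊥ := by
    intro q hq
    haveI : Fact (q : ℕ).Prime := ⟨q.2⟩
    rw [← hcore]
    obtain ⟨n, hn⟩ := IsPGroup.iff_card.1 (Core.pCore_isPGroup (q : ℕ) G)
    exact Core.le_pPrimeCore (hn ▸ Nat.Coprime.pow_left n ((Nat.coprime_primes q.2 hp.out).2 hq))
  have hF : Cfsg.fittingSubgroup G ≤ Q := by
    rw [Core.fittingSubgroup_eq_iSup_pCore]
    refine iSup_le fun q => ?_
    by_cases hq : (q : ℕ) = p
    · rw [hq]
    · exact (hpF q hq).trans bot_le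
  obtain ⟨L, hL⟩ : ∃ L : Subgroup G, Cfsg.IsComponent L := by
    by_contra! h
    have hE := Core.layer_eq_bot_iff.2 h
    have hC := Core.centralizer_generalizedFitting_le (G := G)
    rw [Core.generalizedFitting_eq_fitting_of_layer_eq_bot hE] at hC
    refine hxQ (hF (hC (mem_centralizer_iff.2 fun y hy => ?_)))
    exact (hPx y (hQP (hF hy))).symm.eq
  have hLp : ∀ K : Subgroup G, Cfsg.IsComponent K → p ∣ Nat.card K := by
    intro K hK
    by_contra h
    have h1 := Core.le_pPrimeCore_of_isSubnormal hK.1 (Core.coprime_iff_not_dvd'.2 h)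
    rw [hcore, le_bot_iff] at h1
    exact Core.IsComponent.ne_bot hK h1
  -- `O_p(G) = 1`
  have hQ1 : Q = ⊥ := by
    by_contra hne
    obtain ⟨z, hzQ, hz1, hzp, hzc⟩ := PointStab.exists_fixed P.isPGroup' (Core.pCore_isPGroup p G) hne
      (le_normalizer_of_normal : (P : Subgroup G) ≤ normalizer (Q : Set G))
    have hzo : orderOf z = p := orderOf_eq_prime hzp hz1
    refine component_fusion hp2 P hL (hLp L hL) fun y hy hyp g hgL hg => ?_
    have hxz : z ∉ zpowers x := by
      intro h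
      obtain ⟨i, hi⟩ := mem_zpowers_iff.1 h
      apply hxQ
      have hle : zpowers z ≤ zpowers x := zpowers_le.2 ⟨i, hi⟩
      have heq : zpowers z = zpowers x := eq_of_le_of_card_ge hle (by
        rw [Nat.card_zpowers, Nat.card_zpowers, hzo, hx])
      exact zpowers_le.2 hzQ (heq.ge (mem_zpowers x))
    obtain ⟨i, j, rfl⟩ := exists_zpow_mul hrank hx hzo hyp (hPx z (hQP hzQ)) (hPx y hy.1)
      ((show Commute y z from hzc y hy.1).symm) hxz
    have hgz : Commute g z := Core.commutator_eq_bot_iff_forall.1 (Core.component_commute_fitting hL)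
      g hgL z (Core.pCore_le_fittingSubgroup p G hzQ)
    have e : g * (x ^ i * z ^ j) * g⁻¹ = g * x ^ i * g⁻¹ * z ^ j := by
      rw [mul_assoc, mul_assoc, ((hgz.zpow_right j).inv_left.symm).eq]; group
    rw [e] at hg ⊢
    have hxi : g * x ^ i * g⁻¹ ∈ (P : Subgroup G) := by
      have := (P : Subgroup G).mul_mem hg ((P : Subgroup G).inv_mem ((P : Subgroup G).zpow_mem (hQP hzQ) j))
      simpa using this
    congr 1
    by_cases hxi1 : x ^ i = 1
    · rw [hxi1]; simp
    · have hle : zpowers (x ^ i) = zpowers x := by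
        refine eq_of_le_of_card_ge (zpowers_le.2 ⟨i, rfl⟩) (le_of_eq ?_)
        rw [Nat.card_zpowers, Nat.card_zpowers, hx, orderOf_eq_prime (p := p) ?_ hxi1]
        have hpow : x ^ p = 1 := by rw [← hx, pow_orderOf_eq_one]
        rw [← zpow_natCast, zpow_comm, zpow_natCast, hpow, one_zpow]
      obtain ⟨k, hk⟩ := mem_zpowers_iff.1 (hle.ge (mem_zpowers x))
      have hgx : g * x * g⁻¹ ∈ (P : Subgroup G) := by
        conv => arg 2; rw [← hk, ← conj_zpow]
        exact (P : Subgroup G).zpow_mem hxi k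
      rw [← conj_zpow, hfix g hgx]
  have hFbot : Cfsg.fittingSubgroup G = ⊥ := le_bot_iff.1 (hQ1 ▸ hF)
  have hcenter : ∀ K : Subgroup G, Cfsg.IsComponent K → Subgroup.center K = ⊥ := by
    intro K hK
    have h := Core.center_map_le_fittingSubgroup hK.1
    rw [hFbot, le_bot_iff, map_eq_bot_iff_of_injective _ K.subtype_injective] at h
    exact h
  have hinter : ∀ K₁ K₂ : Subgroup G, Cfsg.IsComponent K₁ → Cfsg.IsComponent K₂ → K₁ ≠ K₂ →
      ∀ y ∈ K₁, y ∈ K₂ → y = 1 := by
    intro K₁ K₂ h₁ h₂ hne y hy₁ hy₂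
    have hmem : (⟨y, hy₁⟩ : K₁) ∈ Subgroup.center K₁ := mem_center_iff.2 fun w => Subtype.ext
      (Core.commutator_eq_bot_iff_forall.1 (Core.component_commute h₁ h₂ hne) w w.2 y hy₂)
    rw [hcenter K₁ h₁, mem_bot] at hmem
    exact congrArg Subtype.val hmem
  have hexists : ∀ K : Subgroup G, Cfsg.IsComponent K → ∃ a ∈ (P : Subgroup G) ⊓ K, orderOf a = p := by
    intro K hK
    have h1 := Cfsg.Lib.Local.not_dvd_relIndex_inf P hK.1
    have h2 : p ∣ Nat.card ↥((P : Subgroup G) ⊓ K) := by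
      rcases hp.out.dvd_mul.1 ((Core.card_mul_relIndex
        (inf_le_right : (P : Subgroup G) ⊓ K ≤ K)).symm ▸ hLp K hK) with h | h
      · exact h
      · exact absurd h h1
    obtain ⟨a, ha⟩ := exists_prime_orderOf_dvd_card' (G := ↥((P : Subgroup G) ⊓ K)) p h2
    exact ⟨a, a.2, by rwa [orderOf_coe]⟩
  -- a single component
  have hone : ∀ K : Subgroup G, Cfsg.IsComponent K → K = L := by
    intro K hK
    by_contra hne
    obtain ⟨a, ha, hao⟩ := hexists K hK
    obtain ⟨b, hb, hbo⟩ := hexists L hL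
    have hKL : ∀ u ∈ K, ∀ v ∈ L, Commute u v := fun u hu v hv =>
      Core.commutator_eq_bot_iff_forall.1 (Core.component_commute hK hL hne) u hu v hv
    have hba : b ∉ zpowers a := fun h => by
      have := hinter K L hK hL hne b ((zpowers_le.2 ha.2) h) hb.2
      rw [this, orderOf_one] at hbo
      exact hp.out.ne_one hbo.symm
    obtain ⟨i, j, hxe⟩ := exists_zpow_mul hrank hao hbo (by rw [← hx, pow_orderOf_eq_one])
      (hKL a ha.2 b hb.2) ((hPx a ha.1).symm) ((hPx b hb.1).symm) hba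
    have key : ∀ (K₁ K₂ : Subgroup G), Cfsg.IsComponent K₁ → Cfsg.IsComponent K₂ → K₁ ≠ K₂ →
        ∀ u v : G, u ∈ (P : Subgroup G) ⊓ K₁ → v ∈ (P : Subgroup G) ⊓ K₂ → x = u * v → orderOf u = p →
          False := by
      intro K₁ K₂ h₁ h₂ hne' u v hu hv huv huo
      obtain ⟨w, hw, hwo⟩ := hexists K₂ h₂
      have hcc : ∀ s ∈ K₁, ∀ t ∈ K₂, Commute s t := fun s hs t ht =>
        Core.commutator_eq_bot_iff_forall.1 (Core.component_commute h₁ h₂ hne') s hs t ht
      refine component_fusion hp2 P h₁ (hLp K₁ h₁) fun y hy hyp g hgK hg => ?_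
      have hyu : Commute u y := by
        have h1 : Commute x y := hPx y hy.1
        have h2 : u = x * v⁻¹ := by rw [huv]; group
        rw [h2]
        exact h1.mul_left (hcc y hy.2 v hv.2).symm.inv_left
      have hwu : w ∉ zpowers u := fun h => by
        have := hinter K₁ K₂ h₁ h₂ hne' w ((zpowers_le.2 hu.2) h) hw.2
        rw [this, orderOf_one] at hwo
        exact hp.out.ne_one hwo.symm
      obtain ⟨s, t, hst⟩ := exists_zpow_mul hrank huo hwo hyp (hcc u hu.2 w hw.2) hyu
        (hcc y hy.2 w hw.2).symm hwu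
      have hwt : w ^ t = 1 := hinter K₁ K₂ h₁ h₂ hne' _ (by
        have : w ^ t = (u ^ s)⁻¹ * y := by rw [hst]; group
        rw [this]
        exact K₁.mul_mem (K₁.inv_mem (K₁.zpow_mem hu.2 s)) hy.2) (K₂.zpow_mem hw.2 t)
      rw [hwt, mul_one] at hst
      subst hst
      by_cases hus : u ^ s = 1
      · rw [hus]; simp
      have hle : zpowers (u ^ s) = zpowers u := by
        refine eq_of_le_of_card_ge (zpowers_le.2 ⟨s, rfl⟩) (le_of_eq ?_)
        rw [Nat.card_zpowers, Nat.card_zpowers, huo, orderOf_eq_prime (p := p) hyp hus]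
      obtain ⟨k, hk⟩ := mem_zpowers_iff.1 (hle.ge (mem_zpowers u))
      have hgu : g * u * g⁻¹ ∈ (P : Subgroup G) := by
        conv => arg 2; rw [← hk, ← conj_zpow]
        exact (P : Subgroup G).zpow_mem hg k
      have hgv : g * v * g⁻¹ = v := by rw [(hcc g hgK v hv.2).eq]; group
      have hgx : g * x * g⁻¹ = g * u * g⁻¹ * v := by
        conv_rhs => rw [← hgv]
        rw [huv]; group
      have h3 := hfix g (by rw [hgx]; exact (P : Subgroup G).mul_mem hgu hv.1)
      rw [hgx, huv, mul_left_inj] at h3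
      rw [← conj_zpow, h3]
    by_cases hai : a ^ i = 1
    · rw [hai, one_mul] at hxe
      refine key L K hL hK (Ne.symm hne) x 1 ⟨hxP, hxe ▸ L.zpow_mem hb.2 j⟩ ⟨one_mem _, one_mem _⟩ (mul_one x).symm hx
    · refine key K L hK hL hne (a ^ i) (b ^ j) ⟨(P : Subgroup G).zpow_mem ha.1 i, K.zpow_mem ha.2 i⟩
        ⟨(P : Subgroup G).zpow_mem hb.1 j, L.zpow_mem hb.2 j⟩ hxe (orderOf_eq_prime ?_ hai)
      rw [← zpow_natCast, zpow_comm, zpow_natCast, ← hao, pow_orderOf_eq_one, one_zpow]
  have hFL : Cfsg.generalizedFittingSubgroup G = L := by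
    rw [Cfsg.generalizedFittingSubgroup, hFbot, sup_bot_eq]
    exact le_antisymm (sSup_le fun K hK => (hone K hK).le) (Core.le_layer hL)
  rw [hFL]
  refine ⟨?_, fun h => Core.IsComponent.not_solvable hL (Core.isSolvable_of_isMulCommutative _)⟩
  have := hL.2.2
  exact ((QuotientGroup.quotientMulEquivOfEq (hcenter L hL)).trans
    (QuotientGroup.quotientBot (G := L))).symm.isSimpleGroup

end Cfsg.Lib.Local.IsolatedRankTwo
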