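import Cfsg.Agent.Lib.Local.Norm
import Cfsg.Agent.Lib.Local.PReduced
import Cfsg.Agent.Lib.Local.SubnormalSylow

/-!
Kieler's lemma: centralizers of the centres of Sylow subgroups of subnormal subgroups.
-/

set_option autoImplicit false
set_option linter.style.haveILetI false

namespace Cfsg.Lib.Local

open Subgroup
open scoped commutatorElement IsMulCommutative

variable {G : Type*} [Group G] [Finite G] {p : ℕ} [Fact p.Prime]

/-- The elements of order dividing `p` of the centre of `R`, as generated subgroup. -/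
abbrev omegaZ (p : ℕ) (R : Subgroup G) : Subgroup G := omegaOne p (R ⊓ centralizer (R : Set G))

theorem omegaZ_pow {R : Subgroup G} {z : G} (hz : z ∈ omegaZ p R) : z ^ p = 1 :=
  (isElementaryAbelian_omegaOne (isMulCommutative_center_inf R)).2 z hz

theorem mem_omegaZ {R : Subgroup G} {z : G} (hzR : z ∈ R) (hzc : ∀ r ∈ R, r * z = z * r)
    (hzp : z ^ p = 1) : z ∈ omegaZ p R :=
  subset_closure ⟨⟨hzR, mem_centralizer_iff.mpr hzc⟩, hzp⟩

theorem comm_of_mem_omegaZ {R : Subgroup G} {z r : G} (hz : z ∈ omegaZ p R) (hr : r ∈ R) :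
    r * z = z * r :=
  mem_centralizer_iff.mp (omegaOne_le hz).2 r hr

theorem commute_of_pow_coprime {x c : G} {m : ℕ} (hx : x ^ p = 1) (hm : ¬ p ∣ m)
    (h : c * x ^ m = x ^ m * c) : c * x = x * c := by
  have hcop : Nat.Coprime m (orderOf x) := Nat.Coprime.coprime_dvd_right
    (orderOf_dvd_of_pow_eq_one hx) ((Fact.out : p.Prime).coprime_iff_not_dvd.mpr hm).symm
  obtain ⟨j, hj⟩ := exists_pow_eq_self_of_coprime hcop
  rw [← hj]
  exact ((show Commute c (x ^ m) from h).pow_right j).eq

/-- Kieler's lemma for a normal subgroup `L` of `M`, everything inside `G`. -/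
theorem kieler_normal {M L R : Subgroup G} (hM : IsCharP p M) (hLM : L ≤ M)
    (hML : M ≤ normalizer (L : Set G)) (hR : IsPGroup p R) (hRM : R ≤ M) (hRi : ¬ p ∣ R.relIndex M)
    (hSi : ¬ p ∣ (R ⊓ L).relIndex L) :
    IsCharP p L ∧ L ⊓ centralizer (omegaZ p R : Set G) =
      L ⊓ centralizer (omegaZ p (R ⊓ L) : Set G) := by
  have hchL : IsCharP p L := by
    refine isCharP_of_normalized (pCoreOf_isPGroup M) (hLM.trans (le_normalizer_pCoreOf M))
      ((pCoreOf_le M).trans hML) ((inf_le_inf_right _ hLM).trans hM)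
  refine ⟨hchL, ?_⟩
  set S := R ⊓ L with hS
  have hSp : IsPGroup p S := hR.to_le inf_le_left
  have hRS : R ≤ normalizer (S : Set G) := le_normalizer_inf le_normalizer (hRM.trans hML)
  have hSm : ∀ C : Subgroup G, S ≤ C → C ≤ L → ¬ p ∣ S.relIndex C := fun C h1 h2 hd =>
    hSi (hd.trans (Dvd.intro _ (relIndex_mul_relIndex S C L h1 h2)))
  have hQR : pCoreOf p M ≤ R := le_of_not_dvd_relIndex_of_le_normalizer hR hRM hRi
    (pCoreOf_isPGroup M) (pCoreOf_le M) (fun q hq => by
      -- `O_p(M)` and `R` generate a `p`-group containing `R`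
      have hsup : IsPGroup p ↥(R ⊔ pCoreOf p M) :=
        isPGroup_sup_of_le_normalizer hR (pCoreOf_isPGroup M) (hRM.trans (le_normalizer_pCoreOf M))
      obtain ⟨j, hj⟩ := IsPGroup.iff_card.mp hsup
      have h2 : R.relIndex (R ⊔ pCoreOf p M) ∣ R.relIndex M :=
        Dvd.intro _ (relIndex_mul_relIndex R _ M le_sup_left (sup_le hRM (pCoreOf_le M)))
      have h3 : R.relIndex (R ⊔ pCoreOf p M) = 1 := Nat.eq_one_of_dvd_coprimes
        (((Fact.out : p.Prime).coprime_iff_not_dvd.mpr hRi).pow_left j)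
        (hj ▸ relIndex_dvd_card R _) h2
      exact le_normalizer (le_sup_right.trans (relIndex_eq_one.mp h3) hq))
  have hQL : pCoreOf p L ≤ S := by
    have h1 : pCoreOf p L ≤ pCoreOf p M := le_pCoreOf ((pCoreOf_le L).trans hLM)
      (hML.trans (normalizer_le_normalizer_pCoreOf L)) (pCoreOf_isPGroup L)
    exact le_inf (h1.trans hQR) (pCoreOf_le L)
  apply le_antisymm
  · -- what centralizes `Z(R)` centralizes `Z(S)`
    set C := L ⊓ centralizer (omegaZ p R : Set G) with hC
    have hSC : S ≤ C := le_inf inf_le_right fun s hs =>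
      mem_centralizer_iff.mpr fun z hz => (comm_of_mem_omegaZ hz hs.1).symm
    refine le_inf inf_le_left fun c hc => mem_centralizer_iff.mpr ?_
    have hm : ¬ p ∣ S.relIndex C := hSm C hSC inf_le_left
    set V := pCoreOf p L ⊓ centralizer (pCoreOf p L : Set G) with hV
    haveI : IsMulCommutative V := isMulCommutative_center_inf _
    have hLV : L ≤ normalizer (V : Set G) := le_normalizer_inf (le_normalizer_pCoreOf L)
      ((le_normalizer_pCoreOf L).trans (normalizer_le_normalizer_centralizer _))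
    have hUV : omegaZ p S ≤ V := fun z hz => by
      have hzS := omegaOne_le hz
      have hzQ : z ∈ pCoreOf p L := hchL ⟨hzS.1.2, centralizer_le hQL hzS.2⟩
      exact ⟨hzQ, centralizer_le hQL hzS.2⟩
    have hCV : C ≤ normalizer (V : Set G) := inf_le_left.trans hLV
    have hRV : R ≤ normalizer (V : Set G) := by
      have h1 : R ≤ normalizer (pCoreOf p L : Set G) :=
        (hRM.trans hML).trans (normalizer_le_normalizer_pCoreOf L)
      exact le_normalizer_inf h1 (h1.trans (normalizer_le_normalizer_centralizer _))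
    have hRC : R ≤ normalizer (C : Set G) := by
      refine le_normalizer_inf (hRM.trans hML) ?_
      refine le_trans (fun r hr => ?_) (normalizer_le_normalizer_centralizer _)
      exact centralizer_le_normalizer _ (mem_centralizer_iff.mpr fun z hz =>
        (comm_of_mem_omegaZ hz hr).symm)
    have hfix : ∀ u ∈ omegaZ p S, ∀ s ∈ S, s * u = u * s := fun u hu s hs =>
      comm_of_mem_omegaZ hu hs
    -- the kernel of the norm in `Z(S)`
    let J : Subgroup G :=
      { carrier := {x | ∃ h : x ∈ omegaZ p S, normHom S hCV ⟨x, hUV h⟩ = 1}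
        one_mem' := ⟨one_mem _, map_one _⟩
        mul_mem' := fun {a b} ⟨ha, ha'⟩ ⟨hb, hb'⟩ => ⟨mul_mem ha hb, by
          rw [show (⟨a * b, hUV (mul_mem ha hb)⟩ : V) = ⟨a, hUV ha⟩ * ⟨b, hUV hb⟩ from rfl,
            map_mul, ha', hb', one_mul]⟩
        inv_mem' := fun {a} ⟨ha, ha'⟩ => ⟨inv_mem ha, by
          rw [show (⟨a⁻¹, hUV (inv_mem ha)⟩ : V) = (⟨a, hUV ha⟩ : V)⁻¹ from rfl, map_inv, ha',
            inv_one]⟩ }
    have hJS : J ≤ S := fun x hx => (omegaOne_le hx.1).1
    have hJbot : J = ⊥ := by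
      by_contra hJ
      have hJR : R ≤ normalizer (J : Set G) := by
        refine Core.le_normalizer_iff_conj_mem.mpr fun r hr x hx => ?_
        obtain ⟨hxU, hxN⟩ := hx
        have hrx : r * x * r⁻¹ ∈ omegaZ p S := by
          have hrS : r ∈ normalizer (S : Set G) := hRS hr
          refine mem_omegaZ ((mem_normalizer_iff.mp hrS x).mp (omegaOne_le hxU).1) (fun s hs => ?_) ?_
          · have hs' : r⁻¹ * s * r ∈ S := (mem_normalizer_iff''.mp hrS s).mp hs
            calc s * (r * x * r⁻¹) = r * ((r⁻¹ * s * r) * x) * r⁻¹ := by group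
              _ = r * x * r⁻¹ * s := by rw [comm_of_mem_omegaZ hxU hs']; group
          · rw [conj_pow, omegaZ_pow hxU, mul_one, mul_inv_cancel]
        refine ⟨hrx, Subtype.ext ?_⟩
        rw [← normHom_conj (hRV hr) (hRS hr) (hRC hr) (v := ⟨x, hUV hxU⟩) (w := ⟨_, hUV hrx⟩)
          (fun s hs => comm_of_mem_omegaZ hrx hs) rfl, hxN]
        simp
      obtain ⟨j, hj, hjne⟩ : ∃ j ∈ J.subgroupOf R ⊓ center R, j ≠ 1 := by
        haveI : (J.subgroupOf R).Normal := normal_subgroupOf_of_le_normalizer hJR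
        refine (bot_or_exists_ne_one _).resolve_left (PGroup.inf_center_ne_bot hR fun h => hJ ?_)
        rw [← map_subgroupOf_eq_of_le (hJS.trans inf_le_left), h, Subgroup.map_bot]
      obtain ⟨hjU, hjN⟩ := mem_subgroupOf.mp hj.1
      have hjZ : (j : G) ∈ omegaZ p R := mem_omegaZ j.2
        (fun r hr => congrArg Subtype.val (mem_center_iff.mp hj.2 ⟨r, hr⟩)) (omegaZ_pow hjU)
      rw [normHom_of_fixed (v := (⟨j, hUV hjU⟩ : V))
        (fun c (hc : c ∈ C) => (mem_centralizer_iff.mp hc.2 j hjZ).symm)] at hjN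
      have hjm : (j : G) ^ S.relIndex C = 1 := congrArg Subtype.val hjN
      refine hjne (Subtype.ext ?_)
      rcases (Nat.dvd_prime (Fact.out : p.Prime)).mp (orderOf_dvd_of_pow_eq_one (omegaZ_pow hjU)) with h | h
      · exact orderOf_eq_one_iff.mp h
      · exact absurd (h ▸ orderOf_dvd_of_pow_eq_one hjm) hm
    intro u hu
    set v : V := ⟨u, hUV hu⟩
    set w : V := v ^ S.relIndex C * (normHom S hCV v)⁻¹ with hw
    have hvfix : ∀ s ∈ S, s * (v : G) = v * s := hfix u hu
    have hNfix : ∀ a ∈ C, a * (normHom S hCV v : G) = normHom S hCV v * a :=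
      fun a ha => normHom_fixed hvfix ha
    have hwS : ∀ s ∈ S, Commute s (w : G) := fun s hs => by
      rw [hw, Subgroup.coe_mul, Subgroup.coe_inv, SubgroupClass.coe_pow]
      exact ((show Commute s (v : G) from hvfix s hs).pow_right _).mul_right
        ((show Commute s (normHom S hCV v : G) from hNfix s (hSC hs)).inv_right)
    have hvp : v ^ p = 1 := Subtype.ext (omegaZ_pow hu)
    have hwp : (w : G) ^ p = 1 := by
      rw [← SubgroupClass.coe_pow, hw, mul_pow, inv_pow, ← map_pow, hvp, map_one, inv_one, mul_one,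
        ← pow_mul, mul_comm, pow_mul, hvp, one_pow, Subgroup.coe_one]
    have hwZ : (w : G) ∈ omegaZ p S := mem_omegaZ (hQL w.2.1) hwS hwp
    have hwN : normHom S hCV w = 1 := by
      have hNN : normHom S hCV (normHom S hCV v) = normHom S hCV v ^ S.relIndex C :=
        normHom_of_fixed hNfix
      rw [hw, map_mul, map_pow, map_inv, hNN, mul_inv_cancel]
    have hwJ : (w : G) ∈ J := ⟨hwZ, hwN⟩
    rw [hJbot, mem_bot] at hwJ
    have hw1 : v ^ S.relIndex C * (normHom S hCV v)⁻¹ = 1 := Subtype.ext hwJ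
    rw [mul_inv_eq_one] at hw1
    refine (commute_of_pow_coprime (omegaZ_pow hu) hm ?_).symm
    have := hNfix c hc
    rwa [← hw1, SubgroupClass.coe_pow] at this
  · -- what centralizes `Z(S)` centralizes `Z(R)`
    set C := L ⊓ centralizer (omegaZ p S : Set G) with hC
    have hSC : S ≤ C := le_inf inf_le_right fun s hs =>
      mem_centralizer_iff.mpr fun z hz => (comm_of_mem_omegaZ hz hs).symm
    refine le_inf inf_le_left fun c hc => mem_centralizer_iff.mpr ?_
    have hm : ¬ p ∣ S.relIndex C := hSm C hSC inf_le_left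
    set V := pCoreOf p M ⊓ centralizer (pCoreOf p M : Set G) with hV
    haveI : IsMulCommutative V := isMulCommutative_center_inf _
    have hMV : M ≤ normalizer (V : Set G) := le_normalizer_inf (le_normalizer_pCoreOf M)
      ((le_normalizer_pCoreOf M).trans (normalizer_le_normalizer_centralizer _))
    have hZV : omegaZ p R ≤ V := fun z hz => by
      have hzR := omegaOne_le hz
      exact ⟨hM ⟨hRM hzR.1, centralizer_le hQR hzR.2⟩, centralizer_le hQR hzR.2⟩
    have hCV : C ≤ normalizer (V : Set G) := (inf_le_left.trans hLM).trans hMV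
    have hVLp : V ⊓ L ≤ S := by
      refine le_trans (le_pCoreOf inf_le_right ?_ ((pCoreOf_isPGroup M).to_le
        (inf_le_left.trans inf_le_left))) hQL
      exact le_normalizer_inf (hLM.trans hMV) le_normalizer
    intro z hz
    set v : V := ⟨z, hZV hz⟩
    set w : V := v ^ S.relIndex C * (normHom S hCV v)⁻¹ with hw
    have hvfix : ∀ s ∈ S, s * (v : G) = v * s := fun s hs => comm_of_mem_omegaZ hz hs.1
    have hNfix : ∀ a ∈ C, a * (normHom S hCV v : G) = normHom S hCV v * a :=
      fun a ha => normHom_fixed hvfix ha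
    have hwS : ∀ s ∈ S, Commute s (w : G) := fun s hs => by
      rw [hw, Subgroup.coe_mul, Subgroup.coe_inv, SubgroupClass.coe_pow]
      exact ((show Commute s (v : G) from hvfix s hs).pow_right _).mul_right
        ((show Commute s (normHom S hCV v : G) from hNfix s (hSC hs)).inv_right)
    have hvp : v ^ p = 1 := Subtype.ext (omegaZ_pow hz)
    have hwp : (w : G) ^ p = 1 := by
      rw [← SubgroupClass.coe_pow, hw, mul_pow, inv_pow, ← map_pow, hvp, map_one, inv_one, mul_one,
        ← pow_mul, mul_comm, pow_mul, hvp, one_pow, Subgroup.coe_one]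
    have hwL : (w : G) ∈ L := by
      refine ((commutator_mono le_rfl inf_le_left : ⁅V, C⁆ ≤ ⁅V, L⁆).trans ?_) (pow_mul_normHom_inv_mem v)
      rw [commutator_comm]
      exact Coprime.commutator_le_of_le_normalizer
        ((inf_le_left.trans (pCoreOf_le M)).trans hML)
    have hwZ : (w : G) ∈ omegaZ p S := mem_omegaZ (hVLp ⟨w.2, hwL⟩) hwS hwp
    have hcw : Commute c (w : G) := (mem_centralizer_iff.mp hc.2 w hwZ).symm
    refine (commute_of_pow_coprime (omegaZ_pow hz) hm ?_).symm
    have hvm : z ^ S.relIndex C = (w : G) * (normHom S hCV v : G) := by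
      rw [← Subgroup.coe_mul, hw, inv_mul_cancel_right, SubgroupClass.coe_pow]
    rw [hvm]
    exact (hcw.mul_right (hNfix c hc)).eq

/-- Kieler's lemma. -/
theorem kieler (hG : centralizer (pCore p G : Set G) ≤ pCore p G) (T : Sylow p G) {L : Subgroup G}
    (hL : L.IsSubnormal) :
    IsCharP p L ∧ L ⊓ centralizer (omegaZ p (T : Subgroup G) : Set G) =
      L ⊓ centralizer (omegaZ p ((T : Subgroup G) ⊓ L) : Set G) := by
  induction hL with
  | top =>
    refine ⟨?_, by rw [inf_top_eq]⟩
    rw [IsCharP, pCoreOf_top, top_inf_eq]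
    exact hG
  | step L K hle hK hN ih =>
    have hKL : K ≤ normalizer (L : Set G) := (normal_subgroupOf_iff_le_normalizer hle).mp hN
    obtain ⟨hchar, heq⟩ := kieler_normal ih.1 hle hKL
      ((T.isPGroup' : IsPGroup p (T : Subgroup G)).to_le inf_le_left) inf_le_right
      (not_dvd_relIndex_inf T hK) (by
        rw [inf_assoc, inf_eq_right.mpr hle]
        exact not_dvd_relIndex_inf T (IsSubnormal.step L K hle hK hN))
    refine ⟨hchar, ?_⟩
    rw [inf_assoc, inf_eq_right.mpr hle] at heq
    rw [← heq]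
    calc L ⊓ centralizer (omegaZ p (T : Subgroup G) : Set G)
        = L ⊓ (K ⊓ centralizer (omegaZ p (T : Subgroup G) : Set G)) := by
          rw [← inf_assoc, inf_eq_left.mpr hle]
      _ = _ := by rw [ih.2, ← inf_assoc, inf_eq_left.mpr hle]

end Cfsg.Lib.Local
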