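import Cfsg.Prelude.Def_LocalStructure
import Cfsg.Agent.Lib.Core.Cores
import Cfsg.Agent.Lib.Fusion.Basic
import Cfsg.Agent.Lib.Local.Basic
import Cfsg.Agent.Lib.Solv.Nilpotent

/-!
`p`-closed, `p`-irreducible and `Y`-minimal groups.
-/

namespace Cfsg.Lib.Local

open Subgroup Cfsg.Lib
open scoped commutatorElement

variable {H : Type*} [Group H] {p : ℕ}

/-- `H` is `p`-closed iff all its `p`-subgroups lie in `O_p(H)`. -/
theorem isPClosed_iff_le [Finite H] [hp : Fact p.Prime] :
    IsPClosed p H ↔ ∀ P : Subgroup H, IsPGroup p P → P ≤ pCore p H := by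
  constructor
  · intro h P hP
    obtain ⟨S, hS⟩ := hP.exists_le_sylow
    exact hS.trans (Core.le_pCore' (h S) S.2)
  · intro h S
    have : (S : Subgroup H) = pCore p H := le_antisymm (h S S.2) (Core.pCore_le_sylow S)
    rw [this]
    infer_instance

/-- A subnormal subgroup is `p`-closed iff all its `p`-subgroups lie in `O_p(H)`. -/
theorem isPClosed_subnormal_iff [Finite H] [hp : Fact p.Prime] {N : Subgroup H}
    (hN : N.IsSubnormal) :
    IsPClosed p ↥N ↔ ∀ P : Subgroup H, P ≤ N → IsPGroup p P → P ≤ pCore p H := by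
  rw [isPClosed_iff_le]
  have e := Core.pCore_map_eq_inf_of_isSubnormal (p := p) hN
  constructor
  · intro h P hPN hP
    have h1 := map_mono (f := N.subtype)
      (h (P.subgroupOf N) (hP.of_equiv (subgroupOfEquivOfLe hPN).symm))
    rw [map_subgroupOf_eq_of_le hPN, e] at h1
    exact h1.trans (by simp)
  · intro h P hP
    have h1 := h _ (map_subtype_le P) (hP.map N.subtype)
    rw [← map_le_map_iff_of_injective N.subtype_injective, e]
    exact le_inf h1 (map_subtype_le P)

theorem isPClosed_congr [Finite H] [Fact p.Prime] {K : Type*} [Group K] (e : H ≃* K) :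
    IsPClosed p H ↔ IsPClosed p K := by
  haveI : Finite K := Finite.of_equiv H e.toEquiv
  constructor
  · exact fun h => isPClosed_iff_le.mpr fun P hP => by
      have h1 := isPClosed_iff_le.mp h (P.map e.symm.toMonoidHom) (hP.map _)
      rw [← Core.map_pCore_equiv (p := p) e]
      exact fun x hx => ⟨e.symm x, h1 ⟨x, hx, rfl⟩, e.apply_symm_apply x⟩
  · exact fun h => isPClosed_iff_le.mpr fun P hP => by
      have h1 := isPClosed_iff_le.mp h (P.map e.toMonoidHom) (hP.map _)
      rw [← Core.map_pCore_equiv (p := p) e.symm]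
      exact fun x hx => ⟨e x, h1 ⟨x, hx, rfl⟩, e.symm_apply_apply x⟩

/-- Strongly `p`-irreducible groups are `p`-irreducible. -/
theorem isPIrreducible_of_strongly [Finite H] [Fact p.Prime]
    (hH : IsStronglyPIrreducible p H) : IsPIrreducible p H := by
  refine ⟨hH.1, fun N hN hc => hH.2 N hN fun hcom => hc ?_⟩
  rw [isPClosed_subnormal_iff hN.isSubnormal]
  intro P hPN hP
  have hn : (P ⊔ pCore p H).Normal := by
    refine ⟨fun x hx g => ?_⟩
    have hle : P ⊔ pCore p H ≤ (P ⊔ pCore p H).comap (MulAut.conj g).toMonoidHom := by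
      refine sup_le (fun y hy => ?_) (fun y hy => mem_sup_right ?_)
      · have h1 : ⁅y, g⁆ ∈ pCore p H := hcom (commutator_mem_commutator (hPN hy) (mem_top g))
        have e : (MulAut.conj g).toMonoidHom y = ⁅y, g⁆⁻¹ * y := by
          simp [commutatorElement_def, mul_assoc]
        rw [mem_comap, e]
        exact mul_mem (mem_sup_right (inv_mem h1)) (mem_sup_left hy)
      · exact (inferInstance : (pCore p H).Normal).conj_mem y hy g
    exact hle hx
  exact le_sup_left.trans
    (Core.le_pCore' hn (Core.isPGroup_sup_of_normal hP (Core.pCore_isPGroup p H)))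

theorem mem_of_coprime_of_mem_sup [Fact p.Prime] {N D : Subgroup H} [N.Normal]
    (hD : IsPGroup p D) {x : H} (hx : x ∈ N ⊔ D) (hc : (orderOf x).Coprime p) : x ∈ N := by
  have h1 : (QuotientGroup.mk' N) x ∈ D.map (QuotientGroup.mk' N) := by
    have h2 := mem_map_of_mem (QuotientGroup.mk' N) hx
    rwa [Subgroup.map_sup, QuotientGroup.map_mk'_self, bot_sup_eq] at h2
  have h3 := orderOf_eq_one_of_coprime_mem (hD.map _) h1
    (Nat.Coprime.coprime_dvd_left (orderOf_map_dvd _ x) hc)
  exact (QuotientGroup.eq_one_iff x).mp h3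

theorem pResidual_le_of_le_sup [Fact p.Prime] {N D : Subgroup H} [N.Normal]
    (hD : IsPGroup p D) (h : pResidual p H ≤ N ⊔ D) : pResidual p H ≤ N :=
  (closure_le _).mpr fun _ hx =>
    mem_of_coprime_of_mem_sup hD (h (Fusion.mem_pResidual_of_coprime hx)) hx

/-- Modulo a normal `p`-subgroup `D`, `O_p` is compatible. -/
theorem comap_pCore_quotient [Finite H] [Fact p.Prime] (D : Subgroup H) [D.Normal]
    (hD : IsPGroup p D) :
    (pCore p (H ⧸ D)).comap (QuotientGroup.mk' D) = pCore p H := by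
  refine le_antisymm (Core.le_pCore' inferInstance ?_) ?_
  · exact (Core.pCore_isPGroup p _).comap_of_ker_isPGroup _ (by rwa [QuotientGroup.ker_mk'])
  · exact map_le_iff_le_comap.mp (Core.map_pCore_le _ (QuotientGroup.mk'_surjective D))

theorem isPClosed_map_mk_iff [Finite H] [Fact p.Prime] (D : Subgroup H) [D.Normal]
    (hD : IsPGroup p D) {N : Subgroup H} (hN : N.Normal) :
    IsPClosed p ↥(N.map (QuotientGroup.mk' D)) ↔ IsPClosed p ↥N := by
  have hs := QuotientGroup.mk'_surjective D
  rw [isPClosed_subnormal_iff hN.isSubnormal,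
    isPClosed_subnormal_iff (hN.map _ hs).isSubnormal]
  constructor
  · intro h P hPN hP
    rw [← comap_pCore_quotient D hD, ← map_le_iff_le_comap]
    exact h _ (map_mono hPN) (hP.map _)
  · intro h Q hQN hQ
    have hP : IsPGroup p ↥(Q.comap (QuotientGroup.mk' D)) :=
      hQ.comap_of_ker_isPGroup _ (by rwa [QuotientGroup.ker_mk'])
    intro y hy
    obtain ⟨n, hn, rfl⟩ := hQN hy
    have h1 := h _ (inf_le_right : Q.comap (QuotientGroup.mk' D) ⊓ N ≤ N) (hP.to_le inf_le_left)
      (⟨hy, hn⟩ : n ∈ Q.comap (QuotientGroup.mk' D) ⊓ N)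
    rw [← comap_pCore_quotient D hD] at h1
    exact h1

theorem isPClosed_quotient_iff [Finite H] [Fact p.Prime] (D : Subgroup H) [D.Normal]
    (hD : IsPGroup p D) : IsPClosed p (H ⧸ D) ↔ IsPClosed p H := by
  have h := isPClosed_map_mk_iff D hD (N := ⊤) inferInstance
  rw [map_top_of_surjective _ (QuotientGroup.mk'_surjective D)] at h
  exact (isPClosed_congr topEquiv).symm.trans (h.trans (isPClosed_congr topEquiv))

theorem pResidual_le_iff_quotient [Finite H] [Fact p.Prime] (D : Subgroup H) [D.Normal]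
    (hD : IsPGroup p D) (N : Subgroup H) [N.Normal] :
    pResidual p (H ⧸ D) ≤ N.map (QuotientGroup.mk' D) ↔ pResidual p H ≤ N := by
  rw [← Fusion.map_pResidual_of_surjective _ (QuotientGroup.mk'_surjective D)]
  refine ⟨fun h => pResidual_le_of_le_sup hD ?_, fun h => map_mono h⟩
  rwa [map_le_iff_le_comap, comap_map_eq, QuotientGroup.ker_mk'] at h

theorem isPIrreducible_quotient_iff [Finite H] [Fact p.Prime] (D : Subgroup H) [D.Normal]
    (hD : IsPGroup p D) : IsPIrreducible p (H ⧸ D) ↔ IsPIrreducible p H := by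
  have hs := QuotientGroup.mk'_surjective D
  constructor
  · rintro ⟨h1, h2⟩
    refine ⟨mt (isPClosed_quotient_iff D hD).mpr h1, fun N hN hc => ?_⟩
    exact (pResidual_le_iff_quotient D hD N).mp
      (h2 _ (hN.map _ hs) (mt (isPClosed_map_mk_iff D hD hN).mp hc))
  · rintro ⟨h1, h2⟩
    refine ⟨mt (isPClosed_quotient_iff D hD).mp h1, fun M hM hc => ?_⟩
    haveI : (M.comap (QuotientGroup.mk' D)).Normal := hM.comap _
    rw [← map_comap_eq_self_of_surjective hs M] at hc ⊢
    exact (pResidual_le_iff_quotient D hD _).mpr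
      (h2 _ inferInstance (mt (isPClosed_map_mk_iff D hD inferInstance).mpr hc))

theorem commutator_le_pCore_quotient_iff [Finite H] [Fact p.Prime] (D : Subgroup H) [D.Normal]
    (hD : IsPGroup p D) (N : Subgroup H) :
    ⁅N.map (QuotientGroup.mk' D), (⊤ : Subgroup (H ⧸ D))⁆ ≤ pCore p (H ⧸ D) ↔
      ⁅N, (⊤ : Subgroup H)⁆ ≤ pCore p H := by
  rw [← map_top_of_surjective _ (QuotientGroup.mk'_surjective D), ← map_commutator,
    map_le_iff_le_comap, comap_pCore_quotient D hD]

theorem isStronglyPIrreducible_quotient_iff [Finite H] [Fact p.Prime] (D : Subgroup H) [D.Normal]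
    (hD : IsPGroup p D) : IsStronglyPIrreducible p (H ⧸ D) ↔ IsStronglyPIrreducible p H := by
  have hs := QuotientGroup.mk'_surjective D
  constructor
  · rintro ⟨h1, h2⟩
    refine ⟨mt (isPClosed_quotient_iff D hD).mpr h1, fun N hN hc => ?_⟩
    exact (pResidual_le_iff_quotient D hD N).mp
      (h2 _ (hN.map _ hs) (mt (commutator_le_pCore_quotient_iff D hD N).mp hc))
  · rintro ⟨h1, h2⟩
    refine ⟨mt (isPClosed_quotient_iff D hD).mp h1, fun M hM hc => ?_⟩
    haveI : (M.comap (QuotientGroup.mk' D)).Normal := hM.comap _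
    rw [← map_comap_eq_self_of_surjective hs M] at hc ⊢
    exact (pResidual_le_iff_quotient D hD _).mpr
      (h2 _ inferInstance (mt (commutator_le_pCore_quotient_iff D hD _).mpr hc))

/-- Frattini argument for a group minimal over a `Y` lying in a Sylow `p`-subgroup: normal
subgroups inside the maximal overgroup of `Y` are `p`-closed. -/
theorem isPClosed_of_le_unique_coatom [Finite H] [hp : Fact p.Prime] (T : Sylow p H)
    {Y : Subgroup H} (hYT : Y ≤ T) {M : Subgroup H}
    (huniq : ∀ K : Subgroup H, IsCoatom K → Y ≤ K → K = M) (hM : M ≠ ⊤)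
    {N : Subgroup H} [hN : N.Normal] (hNM : N ≤ M) : IsPClosed p ↥N := by
  set Q := (T : Subgroup H).subgroupOf N
  have hQp : IsPGroup p Q := T.2.comap_of_injective N.subtype N.subtype_injective
  have hQi : ¬ p ∣ Q.index := Solv.not_dvd_relIndex_of_isSubnormal T hN.isSubnormal
  let S : Sylow p ↥N := hQp.toSylow hQi
  have hF := Sylow.normalizer_sup_eq_top S
  have hS : (S : Subgroup ↥N) = Q := rfl
  rw [hS, subgroupOf_map_subtype] at hF
  have hnorm : Y ≤ normalizer (((T : Subgroup H) ⊓ N : Subgroup H) : Set H) :=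
    hYT.trans (le_normalizer_inf le_normalizer ((normalizer_eq_top_iff.mpr hN).ge.trans' le_top))
  have htop : normalizer (((T : Subgroup H) ⊓ N : Subgroup H) : Set H) = ⊤ := by
    by_contra hne
    obtain ⟨K, hK, hle⟩ := (eq_top_or_exists_le_coatom _).resolve_left hne
    obtain rfl := huniq K hK (hnorm.trans hle)
    exact hM (top_le_iff.mp (hF ▸ sup_le hle hNM))
  have hTN : (T : Subgroup H) ⊓ N ≤ pCore p H :=
    Core.le_pCore' (normalizer_eq_top_iff.mp htop) (T.2.to_le inf_le_left)
  rw [isPClosed_subnormal_iff hN.isSubnormal]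
  intro P hPN hP
  obtain ⟨R, hR⟩ := (hP.of_equiv (subgroupOfEquivOfLe hPN).symm :
    IsPGroup p (P.subgroupOf N)).exists_le_sylow
  obtain ⟨n, rfl⟩ := MulAction.exists_smul_eq (↥N) S R
  intro x hx
  have h1 := hR (show (⟨x, hPN hx⟩ : ↥N) ∈ P.subgroupOf N from hx)
  rw [Sylow.smul_def, Sylow.pointwise_smul_def, Subgroup.mem_pointwise_smul_iff_inv_smul_mem,
    hS] at h1
  simp only [← map_inv, MulAut.smul_def, MulAut.conj_apply] at h1
  have h2 := hTN ⟨mem_subgroupOf.mp h1, SetLike.coe_mem _⟩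
  have h3 := (inferInstance : (pCore p H).Normal).conj_mem _ h2 (n : H)
  simpa [mul_assoc] using h3

/-- For `T` Sylow and `H` minimal over `T`: a normal subgroup is `p`-closed or is supplemented
by `T`. -/
theorem isPClosed_or_sup_eq_top [Finite H] [hp : Fact p.Prime] (T : Sylow p H)
    (hmin : IsMinimalOver (T : Subgroup H)) (N : Subgroup H) [N.Normal] :
    IsPClosed p ↥N ∨ N ⊔ (T : Subgroup H) = ⊤ := by
  obtain ⟨M, ⟨hM, hTM⟩, hu⟩ := hmin.2
  by_cases h : N ⊔ (T : Subgroup H) = ⊤
  · exact Or.inr h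
  obtain ⟨K, hK, hle⟩ := (eq_top_or_exists_le_coatom _).resolve_left h
  obtain rfl := hu K ⟨hK, le_sup_right.trans hle⟩
  exact Or.inl (isPClosed_of_le_unique_coatom T le_rfl (fun K' h1 h2 => hu K' ⟨h1, h2⟩) hK.1
    (le_sup_left.trans hle))

theorem isPGroup_quotient_of_sup_eq_top [Finite H] [Fact p.Prime] {N D : Subgroup H} [N.Normal]
    (hD : IsPGroup p D) (h : N ⊔ D = ⊤) : IsPGroup p (H ⧸ N) := by
  have h1 : D.map (QuotientGroup.mk' N) = ⊤ := by
    have h2 := congrArg (map (QuotientGroup.mk' N)) h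
    rwa [Subgroup.map_sup, QuotientGroup.map_mk'_self, bot_sup_eq,
      map_top_of_surjective _ (QuotientGroup.mk'_surjective N)] at h2
  exact ((hD.map (QuotientGroup.mk' N)).of_equiv (MulEquiv.subgroupCongr h1)).of_equiv topEquiv

theorem not_isPClosed_of_minimal [Finite H] [Fact p.Prime] (T : Sylow p H)
    (hmin : IsMinimalOver (T : Subgroup H)) : ¬ IsPClosed p H := by
  intro hc
  haveI := hc T
  obtain ⟨M, ⟨hM, hTM⟩, -⟩ := hmin.2
  have h : normalClosure ((T : Subgroup H) : Set H) = T := normalClosure_eq_self _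
  exact hM.1 (top_le_iff.mp ((h ▸ hmin.1).ge.trans hTM))

/-- A group minimal over a Sylow `p`-subgroup is `p`-irreducible. -/
theorem isPIrreducible_of_minimal [Finite H] [Fact p.Prime] (T : Sylow p H)
    (hmin : IsMinimalOver (T : Subgroup H)) : IsPIrreducible p H := by
  refine ⟨not_isPClosed_of_minimal T hmin, fun N hN hc => ?_⟩
  exact Fusion.pResidual_le_of_isPGroup_quotient N
    (isPGroup_quotient_of_sup_eq_top T.2 ((isPClosed_or_sup_eq_top T hmin N).resolve_left hc))

/-- Normality of `⁅R, Y⁆` and `Y ⊔ ⁅R, Y⁆` when `R` is normal and `R ⊔ T` is everything. -/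
theorem commutator_normal_of_sup_eq_top {R T Y : Subgroup H} [hR : R.Normal]
    (hRT : T ⊔ R = ⊤) (hTY : T ≤ normalizer (Y : Set H)) :
    (⁅R, Y⁆).Normal ∧ (⁅R, Y⁆ ⊔ Y).Normal := by
  have hconj : ∀ g, g ∈ normalizer (Y : Set H) →
      (⁅R, Y⁆).map (MulAut.conj g).toMonoidHom = ⁅R, Y⁆ ∧
        Y.map (MulAut.conj g).toMonoidHom = Y := fun g hg => by
    have hY := Core.map_conj_eq_of_mem_normalizer hg
    refine ⟨?_, hY⟩
    rw [map_commutator, hY, Core.normal_iff_map_conj.mp hR g]
  have hRW : R ≤ normalizer ((⁅R, Y⁆ : Subgroup H) : Set H) := by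
    rw [Core.le_normalizer_iff_conj_mem]
    intro r hr x hx
    have hle : ⁅R, Y⁆ ≤ (⁅R, Y⁆).comap (MulAut.conj r).toMonoidHom := by
      rw [Subgroup.commutator_le]
      intro s hs y hy
      have e : r * ⁅s, y⁆ * r⁻¹ = ⁅r * s, y⁆ * ⁅r, y⁆⁻¹ := by
        simp only [commutatorElement_def]; group
      simp only [mem_comap, MulEquiv.coe_toMonoidHom, MulAut.conj_apply]
      rw [e]
      exact mul_mem (commutator_mem_commutator (mul_mem hr hs) hy)
        (inv_mem (commutator_mem_commutator hr hy))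
    exact hle hx
  have hRY : R ≤ normalizer ((⁅R, Y⁆ ⊔ Y : Subgroup H) : Set H) := by
    rw [Core.le_normalizer_iff_conj_mem]
    intro r hr x hx
    have hle : ⁅R, Y⁆ ⊔ Y ≤ (⁅R, Y⁆ ⊔ Y).comap (MulAut.conj r).toMonoidHom := by
      refine sup_le (fun w hw => mem_sup_left ?_) (fun y hy => ?_)
      · exact (mem_normalizer_iff.mp (hRW hr) w).mp hw
      · have e : (MulAut.conj r).toMonoidHom y = ⁅r, y⁆ * y := by
          simp [commutatorElement_def, mul_assoc]
        rw [mem_comap, e]
        exact mul_mem (mem_sup_left (commutator_mem_commutator hr hy)) (mem_sup_right hy)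
    exact hle hx
  constructor
  · rw [← normalizer_eq_top_iff, eq_top_iff, ← hRT]
    refine sup_le (fun g hg => ?_) hRW
    exact Core.mem_normalizer_iff_map_conj.mpr (hconj g (hTY hg)).1
  · rw [← normalizer_eq_top_iff, eq_top_iff, ← hRT]
    refine sup_le (fun g hg => ?_) hRY
    refine Core.mem_normalizer_iff_map_conj.mpr ?_
    rw [Subgroup.map_sup, (hconj g (hTY hg)).1, (hconj g (hTY hg)).2]

end Cfsg.Lib.Local
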