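import Cfsg.Agent.Lib.Local.PIrreducible

/-!
Groups generated by an invariant family of `p`-minimal subgroups.
-/

set_option autoImplicit false
set_option linter.style.haveILetI false

namespace Cfsg.Lib.Local

open Subgroup Cfsg.Lib
open scoped commutatorElement

variable {p : ℕ}

section Transfer

variable {A B : Type*} [Group A] [Group B] (f : A →* B) (hf : Function.Surjective f)

include hf

/-- Minimality over a subgroup containing the kernel passes to and from quotients. -/
theorem isMinimalOver_map_iff {Y : Subgroup A} (hY : f.ker ≤ Y) :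
    IsMinimalOver (Y.map f) ↔ IsMinimalOver Y := by
  have hcm : ∀ {M : Subgroup A}, f.ker ≤ M → (M.map f).comap f = M := fun h => by
    rw [comap_map_eq, sup_eq_left.mpr h]
  have hmc := map_comap_eq_self_of_surjective hf
  have h1 : normalClosure ((Y.map f : Subgroup B) : Set B) = ⊤ ↔ normalClosure (Y : Set A) = ⊤ := by
    rw [coe_map, ← map_normalClosure _ f hf]
    constructor
    · intro h
      have := congrArg (comap f) h
      rwa [hcm (hY.trans le_normalClosure), comap_top] at this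
    · intro h; rw [h, map_top_of_surjective f hf]
  have co : ∀ M : Subgroup B, IsCoatom (M.comap f) ↔ IsCoatom M := by
    intro M
    constructor
    · rintro ⟨h, h'⟩
      refine ⟨fun e => h (by rw [e, comap_top]), fun K hK => comap_injective hf ?_⟩
      rw [comap_top]
      exact h' _ ((comap_lt_comap_of_surjective hf).mpr hK)
    · rintro ⟨h, h'⟩
      refine ⟨fun e => h (by rw [← hmc M, e, map_top_of_surjective f hf]), fun K hK => ?_⟩
      have hk : f.ker ≤ K := (comap_mono bot_le).trans hK.le |>.trans' (le_of_eq (MonoidHom.comap_bot f).symm)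
      rw [← hcm hk] at hK ⊢
      rw [h' _ ((comap_lt_comap_of_surjective hf).mp hK), comap_top]
  refine and_congr h1 ⟨?_, ?_⟩
  · rintro ⟨M, ⟨hM, hYM⟩, hu⟩
    refine ⟨M.comap f, ⟨(co M).mpr hM, map_le_iff_le_comap.mp hYM⟩, ?_⟩
    rintro N ⟨hN, hYN⟩
    have hN' := hcm (hY.trans hYN)
    rw [← hu (N.map f) ⟨(co _).mp (by rw [hN']; exact hN), map_mono hYN⟩, hN']
  · rintro ⟨M, ⟨hM, hYM⟩, hu⟩
    refine ⟨M.map f, ⟨(co _).mp (by rw [hcm (hY.trans hYM)]; exact hM), map_mono hYM⟩, ?_⟩
    rintro N ⟨hN, hYN⟩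
    rw [← hmc N, hu (N.comap f) ⟨(co N).mpr hN, map_le_iff_le_comap.mp hYN⟩]

omit hf in
theorem isPGroup_ker_le_sylow [Finite A] [Fact p.Prime] (hk : IsPGroup p f.ker) (S : Sylow p A) :
    f.ker ≤ (S : Subgroup A) :=
  (Core.le_pCore' f.normal_ker hk).trans (Core.pCore_le_sylow S)

/-- `p`-minimality passes to and from quotients by normal `p`-subgroups. -/
theorem forall_isMinimalOver_iff [Finite A] [Fact p.Prime] (hk : IsPGroup p f.ker) :
    (∀ T : Sylow p B, IsMinimalOver (T : Subgroup B)) ↔ ∀ S : Sylow p A, IsMinimalOver (S : Subgroup A) := by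
  haveI : Finite B := Finite.of_surjective f hf
  constructor
  · intro h S
    have := h (S.mapSurjective hf)
    rw [Sylow.coe_mapSurjective] at this
    exact (isMinimalOver_map_iff f hf (isPGroup_ker_le_sylow f hk S)).mp this
  · intro h T
    obtain ⟨S, rfl⟩ := Sylow.mapSurjective_surjective hf p T
    rw [Sylow.coe_mapSurjective]
    exact (isMinimalOver_map_iff f hf (isPGroup_ker_le_sylow f hk S)).mpr (h S)

end Transfer

variable {H : Type*} [Group H]

/-- The map from `E` to `(E ⊔ D) / D`. -/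
theorem exists_surjective_to_quotient (E D : Subgroup H) [D.Normal] (hD : IsPGroup p D) :
    ∃ f : E →* ((E ⊔ D : Subgroup H) ⧸ D.subgroupOf (E ⊔ D)), Function.Surjective f ∧ IsPGroup p f.ker := by
  set L := E ⊔ D
  refine ⟨(QuotientGroup.mk' (D.subgroupOf L)).comp (Subgroup.inclusion le_sup_left), ?_, ?_⟩
  · intro z
    obtain ⟨⟨x, hx⟩, rfl⟩ := QuotientGroup.mk'_surjective (D.subgroupOf L) z
    obtain ⟨e, he, d, hd, rfl⟩ := mem_sup_of_normal_right.mp hx
    refine ⟨⟨e, he⟩, ?_⟩
    refine QuotientGroup.eq.mpr ?_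
    rw [mem_subgroupOf]
    simpa using hd
  · refine IsPGroup.of_injective (hD : IsPGroup p D)
      { toFun := fun x => ⟨((x : E) : H), by
          have h1 := x.2
          rw [MonoidHom.mem_ker] at h1
          exact mem_subgroupOf.mp ((QuotientGroup.eq_one_iff (Subgroup.inclusion le_sup_left (x : E))).mp h1)⟩
        map_one' := rfl
        map_mul' := fun a b => rfl } ?_
    intro a b hab
    exact Subtype.ext (Subtype.ext (congrArg (fun z : D => (z : H)) hab))

theorem exists_isPGroup_ker_mk (L D : Subgroup H) [D.Normal] (hD : IsPGroup p D) :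
    IsPGroup p (QuotientGroup.mk' (D.subgroupOf L)).ker := by
  rw [QuotientGroup.ker_mk']
  exact hD.comap_of_injective L.subtype L.subtype_injective

/-- Minimality of `E` gives minimality of `E ⊔ D`. -/
theorem forall_isMinimalOver_sup [Finite H] [Fact p.Prime] {E D : Subgroup H} [D.Normal] (hD : IsPGroup p D)
    (h : ∀ T : Sylow p E, IsMinimalOver (T : Subgroup E)) (S : Sylow p (E ⊔ D : Subgroup H)) :
    IsMinimalOver (S : Subgroup (E ⊔ D : Subgroup H)) := by
  obtain ⟨f, hf, hk⟩ := exists_surjective_to_quotient (p := p) E D hD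
  exact (forall_isMinimalOver_iff _ (QuotientGroup.mk'_surjective (D.subgroupOf (E ⊔ D)))
    (exists_isPGroup_ker_mk (E ⊔ D) D hD)).mp ((forall_isMinimalOver_iff f hf hk).mpr h) S

/-- The data of a transitive invariant family of subnormal subgroups. -/
structure FamilyData (p : ℕ) (𝔏 : Set (Subgroup H)) : Prop where
  ne : 𝔏.Nonempty
  conj : ∀ h : H, ∀ L ∈ 𝔏, L.map (MulAut.conj h).toMonoidHom ∈ 𝔏
  trans : ∀ L ∈ 𝔏, ∀ K ∈ 𝔏, ∃ h : H, K = L.map (MulAut.conj h).toMonoidHom
  res : pResidual p H ≤ sSup 𝔏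
  norm : ∀ L ∈ 𝔏, sSup 𝔏 ≤ normalizer (L : Set H)
  core : ∀ L ∈ 𝔏, pCore p H ≤ L

namespace FamilyData

variable {𝔏 : Set (Subgroup H)} (F : FamilyData p 𝔏)

include F

theorem normal : (sSup 𝔏).Normal := by
  refine ⟨fun x hx g => ?_⟩
  have : (sSup 𝔏).map (MulAut.conj g).toMonoidHom ≤ sSup 𝔏 := by
    rw [map_le_iff_le_comap]
    exact sSup_le fun L hL => map_le_iff_le_comap.mp (le_sSup (F.conj g L hL))
  exact this ⟨x, hx, rfl⟩

theorem isSubnormal {L : Subgroup H} (hL : L ∈ 𝔏) : L.IsSubnormal := by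
  haveI := F.normal
  exact IsSubnormal.step L (sSup 𝔏) (le_sSup hL) F.normal.isSubnormal
    ((normal_subgroupOf_iff_le_normalizer (le_sSup hL)).mpr (F.norm L hL))

variable [Finite H] [Fact p.Prime]

theorem sup_sylow (T : Sylow p H) : (T : Subgroup H) ⊔ sSup 𝔏 = ⊤ :=
  top_le_iff.mp ((Fusion.sylow_sup_pResidual T).ge.trans (sup_le_sup_left F.res _))

/-- All members are conjugate under any Sylow subgroup. -/
theorem eq_conj (T : Sylow p H) {L K : Subgroup H} (hL : L ∈ 𝔏) (hK : K ∈ 𝔏) :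
    ∃ t ∈ (T : Subgroup H), K = L.map (MulAut.conj t).toMonoidHom := by
  obtain ⟨h, rfl⟩ := F.trans L hL K hK
  haveI := F.normal
  obtain ⟨t, ht, r, hr, rfl⟩ := mem_sup_of_normal_right.mp ((F.sup_sylow T).ge (mem_top h))
  exact ⟨t, ht, by rw [Core.map_conj_mul, Core.map_conj_eq_of_mem_normalizer (F.norm L hL hr)]⟩

theorem not_le_of_coatom (T : Sylow p H) {M : Subgroup H} (hM : IsCoatom M) (hTM : (T : Subgroup H) ≤ M)
    {L : Subgroup H} (hL : L ∈ 𝔏) : ¬ L ≤ M := by
  intro hLM
  refine hM.1 (top_le_iff.mp ((F.sup_sylow T).ge.trans (sup_le hTM (sSup_le fun K hK => ?_))))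
  obtain ⟨t, ht, rfl⟩ := F.eq_conj T hL hK
  rintro _ ⟨x, hx, rfl⟩
  exact mul_mem (mul_mem (hTM ht) (hLM hx)) (inv_mem (hTM ht))

/-- The Sylow subgroup of a member cut out by `T`. -/
noncomputable def sylowOf (T : Sylow p H) {L : Subgroup H} (hL : L ∈ 𝔏) : Sylow p L :=
  (T.2.comap_of_injective L.subtype L.subtype_injective).toSylow
    (Solv.not_dvd_relIndex_of_isSubnormal T (F.isSubnormal hL))

theorem sylowOf_map (T : Sylow p H) {L : Subgroup H} (hL : L ∈ 𝔏) :
    ((F.sylowOf T hL : Sylow p L) : Subgroup L).map L.subtype = (T : Subgroup H) ⊓ L := by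
  show ((T : Subgroup H).subgroupOf L).map L.subtype = _
  rw [subgroupOf_map_subtype]

/-- Relative form of minimality. -/
theorem minimal (hmin : ∀ L ∈ 𝔏, ∀ S : Sylow p L, IsMinimalOver (S : Subgroup L)) (T : Sylow p H)
    {L : Subgroup H} (hL : L ∈ 𝔏) :
    (∀ Y, (T : Subgroup H) ⊓ L ≤ Y → Y ≤ L → L ≤ normalizer (Y : Set H) → Y = L) ∧
      ∃ M, M < L ∧ (T : Subgroup H) ⊓ L ≤ M ∧ ∀ Y, (T : Subgroup H) ⊓ L ≤ Y → Y < L → Y ≤ M := by
  obtain ⟨hnc, M, ⟨hM, hTM⟩, hu⟩ := hmin L hL (F.sylowOf T hL)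
  have hmap := F.sylowOf_map T hL
  set S : Subgroup L := ((F.sylowOf T hL : Sylow p L) : Subgroup L)
  have hsub : ∀ Y, (T : Subgroup H) ⊓ L ≤ Y → S ≤ Y.subgroupOf L := fun Y h x hx =>
    mem_subgroupOf.mpr (h (hmap.le (mem_map_of_mem _ hx)))
  refine ⟨fun Y h1 h2 h3 => ?_, M.map L.subtype, ?_, ?_, fun Y h1 h2 => ?_⟩
  · haveI := (normal_subgroupOf_iff_le_normalizer h2).mpr h3
    have := hnc.ge.trans (normalClosure_le_normal (SetLike.coe_subset_coe.mpr (hsub Y h1)))
    exact le_antisymm h2 (subgroupOf_eq_top.mp (top_le_iff.mp this))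
  · refine lt_of_le_of_ne (map_subtype_le M) fun e => hM.1 ?_
    rw [← comap_map_eq_self_of_injective L.subtype_injective M, e]
    exact subgroupOf_self L
  · rw [← hmap]
    exact map_mono hTM
  · have hne : Y.subgroupOf L ≠ ⊤ := fun e => h2.not_ge (subgroupOf_eq_top.mp e)
    obtain ⟨K, hK, hle⟩ := (eq_top_or_exists_le_coatom _).resolve_left hne
    obtain rfl := hu K ⟨hK, (hsub Y h1).trans hle⟩
    rw [← map_subgroupOf_eq_of_le h2.le]
    exact map_mono hle

/-- `O^p` of a subgroup. -/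
abbrev Res (p : ℕ) (L : Subgroup H) : Subgroup H := (pResidual p L).map L.subtype

omit F [Finite H] [Fact p.Prime] in
theorem res_map_conj (L : Subgroup H) (h : H) :
    (Res p L).map (MulAut.conj h).toMonoidHom = Res p (L.map (MulAut.conj h).toMonoidHom) := by
  have key : ∀ (L : Subgroup H) (h : H),
      (Res p L).map (MulAut.conj h).toMonoidHom ≤ Res p (L.map (MulAut.conj h).toMonoidHom) := fun L h => by
    rw [map_map]
    refine (MonoidHom.map_closure _ _).le.trans ((closure_le _).mpr ?_)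
    rintro _ ⟨x, hx, rfl⟩
    refine ⟨⟨_, mem_map_of_mem (MulAut.conj h).toMonoidHom x.2⟩, Fusion.mem_pResidual_of_coprime ?_, rfl⟩
    rw [← orderOf_coe]
    show (orderOf ((MulAut.conj h) (x : H))).Coprime p
    rw [MulEquiv.orderOf_eq, orderOf_coe]
    exact hx
  refine le_antisymm (key L h) ?_
  have h1 := map_mono (f := (MulAut.conj h).toMonoidHom) (key (L.map (MulAut.conj h).toMonoidHom) h⁻¹)
  rw [← Core.map_conj_mul, ← Core.map_conj_mul, inv_mul_cancel, mul_inv_cancel,
    Core.map_conj_eq_of_mem_normalizer (one_mem _), Core.map_conj_eq_of_mem_normalizer (one_mem _)] at h1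
  exact h1

theorem res_eq_of_le {L K : Subgroup H} (hL : L ∈ 𝔏) (hK : K ∈ 𝔏) (h : Res p L ≤ Res p K) :
    Res p L = Res p K := by
  obtain ⟨g, rfl⟩ := F.trans L hL K hK
  refine eq_of_le_of_card_ge h ?_
  rw [← res_map_conj]
  exact (card_map_of_injective (MulAut.conj g).injective).le

theorem res_norm {L : Subgroup H} (hL : L ∈ 𝔏) : sSup 𝔏 ≤ normalizer (Res p L : Set H) := fun r hr => by
  rw [Core.mem_normalizer_iff_map_conj, res_map_conj, Core.map_conj_eq_of_mem_normalizer (F.norm L hL hr)]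

omit F in
theorem sylow_sup_res (T : Sylow p H) {L : Subgroup H} (hL : L.IsSubnormal) :
    ((T : Subgroup H) ⊓ L) ⊔ Res p L = L := by
  let S : Sylow p L := (T.2.comap_of_injective L.subtype L.subtype_injective).toSylow
    (Solv.not_dvd_relIndex_of_isSubnormal T hL)
  have h := congrArg (map L.subtype) (Fusion.sylow_sup_pResidual S)
  rw [Subgroup.map_sup, ← MonoidHom.range_eq_map, range_subtype] at h
  rw [← subgroupOf_map_subtype]
  exact h

/-- `O^p (H)` is generated by the `O^p (L)`. -/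
theorem sSup_res : sSup (Res p '' 𝔏) = pResidual p H := by
  refine le_antisymm (sSup_le ?_) ?_
  · rintro _ ⟨L, -, rfl⟩
    exact Fusion.map_subtype_pResidual_le L
  set O := sSup (Res p '' 𝔏)
  haveI : O.Normal := ⟨fun x hx g => by
    have : O.map (MulAut.conj g).toMonoidHom ≤ O := by
      rw [map_le_iff_le_comap]
      refine sSup_le ?_
      rintro _ ⟨L, hL, rfl⟩
      rw [← map_le_iff_le_comap, res_map_conj]
      exact le_sSup ⟨_, F.conj g L hL, rfl⟩
    exact this ⟨x, hx, rfl⟩⟩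
  obtain ⟨T₀⟩ : Nonempty (Sylow p H) := inferInstance
  -- modulo `O` the images of the members are normal `p`-subgroups of the image of `R`
  let f := QuotientGroup.mk' O
  have hp1 : IsPGroup p ((sSup 𝔏).map f) := by
    haveI := F.normal
    have hle : sSup 𝔏 ≤ (pCoreOf p ((sSup 𝔏).map f)).comap f := by
      refine sSup_le fun L hL => map_le_iff_le_comap.mp (le_pCoreOf (map_mono (le_sSup hL)) ?_ ?_)
      · exact (map_mono (F.norm L hL)).trans (le_normalizer_map f)
      · have h1 : L.map f = ((T₀ : Subgroup H) ⊓ L).map f := by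
          conv_lhs => rw [← sylow_sup_res T₀ (F.isSubnormal hL), Subgroup.map_sup]
          refine sup_eq_left.mpr ?_
          rw [map_le_iff_le_comap]
          exact (le_sSup ⟨L, hL, rfl⟩ : Res p L ≤ O).trans
            ((QuotientGroup.ker_mk' O).ge.trans (MonoidHom.ker_le_comap f _))
        rw [h1]
        exact (T₀.2.to_le inf_le_left).map f
    exact (pCoreOf_isPGroup _).to_le (map_le_iff_le_comap.mpr hle)
  rw [pResidual, closure_le]
  intro x hx
  have h2 := orderOf_eq_one_of_coprime_mem hp1 (mem_map_of_mem f (F.res (Fusion.mem_pResidual_of_coprime hx)))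
    (Nat.Coprime.coprime_dvd_left (orderOf_map_dvd f x) hx)
  exact (QuotientGroup.eq_one_iff x).mp h2

/-- A group generated by a transitive invariant family of `p`-minimal subgroups is `p`-minimal. -/
theorem isMinimalOver (hmin : ∀ L ∈ 𝔏, ∀ S : Sylow p L, IsMinimalOver (S : Subgroup L)) (T : Sylow p H) :
    IsMinimalOver (T : Subgroup H) := by
  classical
  set R := sSup 𝔏 with hR
  obtain ⟨L₀, hL₀⟩ := F.ne
  choose hclo ML hMlt hMT hMu using fun (L : Subgroup H) (hL : L ∈ 𝔏) => F.minimal hmin T hL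
  have hnc : normalClosure ((T : Subgroup H) : Set H) = ⊤ := by
    refine top_le_iff.mp ((F.sup_sylow T).ge.trans (sup_le le_normalClosure (sSup_le fun L hL => ?_)))
    have := hclo L hL (normalClosure ((T : Subgroup H) : Set H) ⊓ L) (inf_le_inf_right _ le_normalClosure) inf_le_right
      (le_normalizer_inf (le_normalizer_normal _) le_normalizer)
    exact this.ge.trans inf_le_left
  have hTO : (T : Subgroup H) ⊔ pResidual p H = ⊤ := Fusion.sylow_sup_pResidual T
  set C : Subgroup H → Subgroup H := fun L => sSup {A ∈ Res p '' 𝔏 | A ≠ Res p L}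
  have hresle : ∀ L ∈ 𝔏, Res p L ≤ R := fun L hL => (map_subtype_le _).trans (le_sSup hL)
  have hAC : ∀ L ∈ 𝔏, Res p L ⊔ C L = pResidual p H := fun L hL => by
    rw [← F.sSup_res]
    refine le_antisymm (sup_le (le_sSup ⟨L, hL, rfl⟩) (sSup_le_sSup (Set.sep_subset _ _)))
      (sSup_le fun A hA => ?_)
    by_cases h : A = Res p L
    · exact h ▸ le_sup_left
    · exact (le_sSup (show A ∈ {A ∈ Res p '' 𝔏 | A ≠ Res p L} from ⟨hA, h⟩)).trans le_sup_right
  have hCR : ∀ L, C L ≤ R := fun L => sSup_le fun A hA => by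
    obtain ⟨L', hL', rfl⟩ := hA.1
    exact hresle L' hL'
  -- the normal core of `ML L` in `L`
  let K : ∀ L, L ∈ 𝔏 → Subgroup H := fun L hL => (((ML L hL).subgroupOf L).normalCore).map L.subtype
  have hKle : ∀ L (hL : L ∈ 𝔏), K L hL ≤ ML L hL := fun L hL => by
    refine (map_mono (normalCore_le _)).trans ?_
    rw [subgroupOf_map_subtype]; exact inf_le_left
  have hKn : ∀ L (hL : L ∈ 𝔏), L ≤ normalizer (K L hL : Set H) := fun L hL => by
    have h : (K L hL).subgroupOf L = ((ML L hL).subgroupOf L).normalCore :=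
      comap_map_eq_self_of_injective L.subtype_injective _
    refine (normal_subgroupOf_iff_le_normalizer (map_subtype_le _)).mp ?_
    rw [h]; exact normalCore_normal _
  have hKmax : ∀ L (hL : L ∈ 𝔏) (N : Subgroup H), N ≤ L → L ≤ normalizer (N : Set H) →
      N ⊔ ((T : Subgroup H) ⊓ L) ≠ L → N ≤ K L hL := fun L hL N hN hn hne => by
    have h1 : N ⊔ ((T : Subgroup H) ⊓ L) ≤ ML L hL :=
      hMu L hL _ le_sup_right (lt_of_le_of_ne (sup_le hN inf_le_right) hne)
    haveI := (normal_subgroupOf_iff_le_normalizer hN).mpr hn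
    rw [← map_subgroupOf_eq_of_le hN]
    exact map_mono (normal_le_normalCore.mpr (comap_mono (le_sup_left.trans h1)))
  have hpair : ∀ L (hL : L ∈ 𝔏), ∀ L' ∈ 𝔏, Res p L' ≠ Res p L → ⁅Res p L', L⁆ ≤ K L hL := by
    intro L hL L' hL' hne
    have h1 : ⁅Res p L', L⁆ ≤ Res p L' ⊓ L := le_inf
      (Coprime.commutator_le_of_le_normalizer ((le_sSup hL).trans (F.res_norm hL')))
      ((commutator_comm (Res p L') L).trans_le
        (Coprime.commutator_le_of_le_normalizer ((hresle L' hL').trans (F.norm L hL))))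
    refine h1.trans (hKmax L hL _ inf_le_right
      (le_normalizer_inf ((le_sSup hL).trans (F.res_norm hL')) le_normalizer) fun e => hne ?_)
    refine (F.res_eq_of_le hL hL' ?_).symm
    refine (MonoidHom.map_closure _ _).le.trans ((closure_le _).mpr ?_)
    rintro _ ⟨x, hx, rfl⟩
    have hn : (T : Subgroup H) ⊓ L ≤ normalizer ((Res p L' ⊓ L : Subgroup H) : Set H) :=
      inf_le_right.trans (le_normalizer_inf ((le_sSup hL).trans (F.res_norm hL')) le_normalizer)
    set N := Res p L' ⊓ L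
    set X := normalizer (N : Set H)
    haveI : (N.subgroupOf X).Normal := (normal_subgroupOf_iff_le_normalizer Subgroup.le_normalizer).mpr le_rfl
    have hxN : (x : H) ∈ N ⊔ ((T : Subgroup H) ⊓ L) := e.ge x.2
    rw [sup_comm, Core.mem_sup_of_le_normalizer hn] at hxN
    obtain ⟨d, hd, m, hm, hdm⟩ := hxN
    have h2 := mem_of_coprime_of_mem_sup (N := N.subgroupOf X)
      ((T.2.to_le inf_le_left : IsPGroup p ((T : Subgroup H) ⊓ L : Subgroup H)).of_equiv
        (subgroupOfEquivOfLe hn).symm)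
      (show (⟨d * m, mul_mem (hn hd) (Subgroup.le_normalizer hm)⟩ : X) ∈ _ from
        mul_mem (mem_sup_right (show (⟨d, hn hd⟩ : X) ∈ _ from hd))
          (mem_sup_left (show (⟨m, Subgroup.le_normalizer hm⟩ : X) ∈ N.subgroupOf X from hm)))
      (by rw [← orderOf_coe, Subgroup.coe_mk, hdm, orderOf_coe]; exact hx)
    have h3 : d * m ∈ N := h2
    rw [hdm] at h3
    exact h3.1
  have hCK : ∀ L (hL : L ∈ 𝔏) c, c ∈ C L →
      c ∈ normalizer (K L hL : Set H) ∧ ∀ l ∈ L, ⁅c, l⁆ ∈ K L hL := by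
    intro L hL c hc
    have hbase : ∀ a L', L' ∈ 𝔏 → Res p L' ≠ Res p L → a ∈ Res p L' → ∀ l ∈ L, ⁅a, l⁆ ∈ K L hL :=
      fun a L' hL' hne ha l hl => hpair L hL L' hL' hne (commutator_mem_commutator ha hl)
    let N : Subgroup H :=
      { carrier := {c | c ∈ normalizer (K L hL : Set H) ∧ c ∈ normalizer (L : Set H) ∧ ∀ l ∈ L, ⁅c, l⁆ ∈ K L hL}
        one_mem' := ⟨one_mem _, one_mem _, fun l _ => by simp⟩
        mul_mem' := fun {a b} ha hb => ⟨mul_mem ha.1 hb.1, mul_mem ha.2.1 hb.2.1, fun l hl => by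
          rw [show ⁅a * b, l⁆ = a * ⁅b, l⁆ * a⁻¹ * ⁅a, l⁆ by simp only [commutatorElement_def]; group]
          exact mul_mem ((mem_normalizer_iff.mp ha.1 _).mp (hb.2.2 l hl)) (ha.2.2 l hl)⟩
        inv_mem' := fun {a} ha => ⟨inv_mem ha.1, inv_mem ha.2.1, fun l hl => by
          rw [show ⁅a⁻¹, l⁆ = a⁻¹ * ⁅a, l⁆⁻¹ * a by simp only [commutatorElement_def]; group]
          exact (mem_normalizer_iff''.mp ha.1 _).mp (inv_mem (ha.2.2 l hl))⟩ }
    have hle : C L ≤ N := by
      refine sSup_le ?_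
      rintro _ ⟨⟨L', hL', rfl⟩, hne⟩ a ha
      have hconj : ∀ b ∈ Res p L', ∀ k ∈ K L hL, b * k * b⁻¹ ∈ K L hL := fun b hb k hk => by
        rw [show b * k * b⁻¹ = ⁅b, k⁆ * k by simp only [commutatorElement_def]; group]
        exact mul_mem (hbase b L' hL' hne hb k ((map_subtype_le _) hk)) hk
      exact ⟨Core.le_normalizer_iff_conj_mem.mpr hconj ha,
        (hresle L' hL').trans (F.norm L hL) ha, hbase a L' hL' hne ha⟩
    exact ⟨(hle hc).1, (hle hc).2.2⟩
  have hLC : ∀ L (hL : L ∈ 𝔏), L ⊓ C L ≤ K L hL := by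
    intro L hL
    set S := (T : Subgroup H) ⊓ L
    have hn : L ≤ normalizer (((L ⊓ C L : Subgroup H)) : Set H) := by
      refine le_normalizer_inf le_normalizer ((le_sSup hL).trans fun r hr => ?_)
      have key : ∀ r ∈ R, (C L).map (MulAut.conj r).toMonoidHom ≤ C L := fun r hr => by
        rw [map_le_iff_le_comap]
        refine sSup_le ?_
        rintro _ ⟨⟨L', hL', rfl⟩, hne⟩
        rw [← map_le_iff_le_comap, Core.map_conj_eq_of_mem_normalizer (F.res_norm hL' hr)]
        exact le_sSup ⟨⟨L', hL', rfl⟩, hne⟩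
      refine Core.mem_normalizer_iff_map_conj.mpr (le_antisymm (key r hr) ?_)
      have := map_mono (f := (MulAut.conj r).toMonoidHom) (key r⁻¹ (inv_mem hr))
      rwa [← Core.map_conj_mul, mul_inv_cancel, Core.map_conj_eq_of_mem_normalizer (one_mem _)] at this
    refine hKmax L hL _ inf_le_left hn fun e => (hMlt L hL).not_ge ?_
    -- otherwise `K S` is normal in `L`
    have hS : S ≤ K L hL ⊔ S := le_sup_right
    have hnorm : L ≤ normalizer ((K L hL ⊔ S : Subgroup H) : Set H) := by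
      refine Core.le_normalizer_iff_conj_mem.mpr fun l hl => ?_
      suffices hx : ∀ l ∈ (L ⊓ C L) ⊔ S, l ∈ normalizer ((K L hL ⊔ S : Subgroup H) : Set H) from
        fun k hk => (mem_normalizer_iff.mp (hx l (e.ge hl)) k).mp hk
      intro l hl
      refine (sup_le (fun c hc => ?_) (le_sup_right.trans Subgroup.le_normalizer) : (L ⊓ C L) ⊔ S ≤ _) hl
      have key : ∀ c ∈ L ⊓ C L, (K L hL ⊔ S).map (MulAut.conj c).toMonoidHom ≤ K L hL ⊔ S := fun c hc => by
        rw [Subgroup.map_sup, Core.map_conj_eq_of_mem_normalizer (hCK L hL c hc.2).1]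
        refine sup_le le_sup_left ?_
        rintro _ ⟨x, hx, rfl⟩
        rw [MulEquiv.coe_toMonoidHom, MulAut.conj_apply, show c * x * c⁻¹ = ⁅c, x⁆ * x by
          simp only [commutatorElement_def]; group]
        exact mul_mem (mem_sup_left ((hCK L hL c hc.2).2 x hx.2)) (mem_sup_right hx)
      refine Core.mem_normalizer_iff_map_conj.mpr (le_antisymm (key c hc) ?_)
      have := map_mono (f := (MulAut.conj c).toMonoidHom) (key c⁻¹ (inv_mem hc))
      rwa [← Core.map_conj_mul, mul_inv_cancel, Core.map_conj_eq_of_mem_normalizer (one_mem _)] at this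
    have h := hclo L hL _ hS (sup_le (map_subtype_le _) inf_le_right) hnorm
    exact h.ge.trans (sup_le (hKle L hL) (hMT L hL))
  -- the canonical candidate
  let Z : Subgroup H := pResidual p H ⊓ ⨅ L, ⨅ hL : L ∈ 𝔏, (ML L hL ⊓ Res p L) ⊔ C L
  have hMZ : ∀ M, IsCoatom M → (T : Subgroup H) ≤ M → M ⊓ pResidual p H ≤ Z := by
    intro M hM hTM x hx
    refine Subgroup.mem_inf.mpr ⟨hx.2, mem_iInf.mpr fun L => mem_iInf.mpr fun hL => ?_⟩
    have hRn : Res p L ≤ normalizer (C L : Set H) := by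
      refine fun a ha => Core.mem_normalizer_iff_map_conj.mpr ?_
      have key : ∀ a ∈ R, (C L).map (MulAut.conj a).toMonoidHom ≤ C L := fun r hr => by
        rw [map_le_iff_le_comap]
        refine sSup_le ?_
        rintro _ ⟨⟨L', hL', rfl⟩, hne⟩
        rw [← map_le_iff_le_comap, Core.map_conj_eq_of_mem_normalizer (F.res_norm hL' hr)]
        exact le_sSup ⟨⟨L', hL', rfl⟩, hne⟩
      refine le_antisymm (key a (hresle L hL ha)) ?_
      have := map_mono (f := (MulAut.conj a).toMonoidHom) (key a⁻¹ (inv_mem (hresle L hL ha)))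
      rwa [← Core.map_conj_mul, mul_inv_cancel, Core.map_conj_eq_of_mem_normalizer (one_mem _)] at this
    obtain ⟨a, ha, c, hc, he⟩ := (Core.mem_sup_of_le_normalizer hRn).mp ((hAC L hL).ge hx.2)
    set Y := (M ⊓ L) ⊔ K L hL
    have hYL : Y ≤ L := sup_le inf_le_right (map_subtype_le _)
    have hSM : (T : Subgroup H) ⊓ L ≤ M ⊓ L := inf_le_inf_right _ hTM
    have hlt : M ⊓ L < L := lt_of_le_of_ne inf_le_right fun e => F.not_le_of_coatom T hM hTM hL (e ▸ inf_le_left)
    have hYM : Y ≤ ML L hL := sup_le (hMu L hL _ hSM hlt) (hKle L hL)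
    have haL : a ∈ L := map_subtype_le _ ha
    obtain ⟨hcK, hcl⟩ := hCK L hL c hc
    have hcY : c ∈ normalizer (Y : Set H) := by
      have key : ∀ c ∈ C L, Y.map (MulAut.conj c).toMonoidHom ≤ Y := fun c hc => by
        rintro _ ⟨y, hy, rfl⟩
        rw [MulEquiv.coe_toMonoidHom, MulAut.conj_apply, show c * y * c⁻¹ = ⁅c, y⁆ * y by
          simp only [commutatorElement_def]; group]
        exact mul_mem (mem_sup_right ((hCK L hL c hc).2 y (hYL hy))) hy
      refine Core.mem_normalizer_iff_map_conj.mpr (le_antisymm (key c hc) ?_)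
      have := map_mono (f := (MulAut.conj c).toMonoidHom) (key c⁻¹ (inv_mem hc))
      rwa [← Core.map_conj_mul, mul_inv_cancel, Core.map_conj_eq_of_mem_normalizer (one_mem _)] at this
    have hxY : x ∈ normalizer (Y : Set H) := by
      have hxR : x ∈ R := F.res hx.2
      rw [Core.mem_normalizer_iff_map_conj, Subgroup.map_sup, Subgroup.map_inf _ _ _ (MulAut.conj x).injective,
        Core.map_conj_eq_of_mem_normalizer (Subgroup.le_normalizer hx.1),
        Core.map_conj_eq_of_mem_normalizer (F.norm L hL hxR),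
        Core.map_conj_eq_of_mem_normalizer (he ▸ mul_mem (hKn L hL haL) hcK)]
    have haY : a ∈ normalizer (Y : Set H) := by
      rw [show a = x * c⁻¹ by rw [← he, mul_inv_cancel_right]]
      exact mul_mem hxY (inv_mem hcY)
    have hNlt : normalizer (Y : Set H) ⊓ L < L := lt_of_le_of_ne inf_le_right fun e => by
      have h := hclo L hL Y (hSM.trans le_sup_left) hYL (e.ge.trans inf_le_left)
      exact (hMlt L hL).not_ge (h.ge.trans hYM)
    have haM : a ∈ ML L hL := hMu L hL _ (le_inf ((hSM.trans le_sup_left).trans Subgroup.le_normalizer) inf_le_right) hNlt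
      (Subgroup.mem_inf.mpr ⟨haY, haL⟩)
    rw [← he]
    exact mul_mem (mem_sup_left (Subgroup.mem_inf.mpr ⟨haM, ha⟩)) (mem_sup_right hc)
  -- `T` normalizes `Z`
  have hMLT : ∀ t ∈ (T : Subgroup H), ∀ L (hL : L ∈ 𝔏),
      (ML L hL).map (MulAut.conj t).toMonoidHom ≤ ML _ (F.conj t L hL) := by
    intro t ht L hL
    refine hMu _ _ _ ?_ ?_
    · rw [← Core.map_conj_eq_of_mem_normalizer (Subgroup.le_normalizer ht),
        ← Subgroup.map_inf _ _ _ (MulAut.conj t).injective]
      exact map_mono (hMT L hL)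
    · exact (map_lt_map_iff_of_injective (MulAut.conj t).injective).mpr (hMlt L hL)
  have hTZ : (T : Subgroup H) ≤ normalizer (Z : Set H) := by
    have key : ∀ t ∈ (T : Subgroup H), Z.map (MulAut.conj t).toMonoidHom ≤ Z := by
      intro t ht
      refine le_inf ((map_mono inf_le_left).trans (Core.normal_iff_map_conj.mp inferInstance t).le)
        (le_iInf fun L' => le_iInf fun hL' => ?_)
      set L := L'.map (MulAut.conj t⁻¹).toMonoidHom
      have hL : L ∈ 𝔏 := F.conj t⁻¹ L' hL'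
      have he : L.map (MulAut.conj t).toMonoidHom = L' := by
        rw [← Core.map_conj_mul, mul_inv_cancel, Core.map_conj_eq_of_mem_normalizer (one_mem _)]
      refine (map_mono (inf_le_right.trans (iInf₂_le L hL))).trans ?_
      rw [Subgroup.map_sup, Subgroup.map_inf _ _ _ (MulAut.conj t).injective, res_map_conj]
      refine sup_le_sup (inf_le_inf ?_ (le_of_eq (by rw [he]))) ?_
      · have h1 := hMLT t ht L hL
        convert h1 using 2
        · exact he.symm
      · rw [map_le_iff_le_comap]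
        refine sSup_le ?_
        rintro _ ⟨⟨L'', hL'', rfl⟩, hne⟩
        rw [← map_le_iff_le_comap, res_map_conj]
        refine le_sSup ⟨⟨_, F.conj t L'' hL'', rfl⟩, fun e => hne ?_⟩
        rw [← res_map_conj, ← he, ← res_map_conj] at e
        exact map_injective (MulAut.conj t).injective e
    intro t ht
    refine Core.mem_normalizer_iff_map_conj.mpr (le_antisymm (key t ht) ?_)
    have := map_mono (f := (MulAut.conj t).toMonoidHom) (key t⁻¹ (inv_mem ht))
    rwa [← Core.map_conj_mul, mul_inv_cancel, Core.map_conj_eq_of_mem_normalizer (one_mem _)] at this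
  have hMle : ∀ M, IsCoatom M → (T : Subgroup H) ≤ M → M ≤ (T : Subgroup H) ⊔ Z := by
    intro M hM hTM m hm
    obtain ⟨t, ht, o, ho, rfl⟩ := mem_sup_of_normal_right.mp (hTO.ge (mem_top m))
    exact mul_mem (mem_sup_left ht) (mem_sup_right (hMZ M hM hTM
      (Subgroup.mem_inf.mpr ⟨(M.mul_mem_cancel_left (hTM ht)).mp hm, ho⟩)))
  -- existence, and properness of the candidate
  have hTne : (T : Subgroup H) ≠ ⊤ := fun e => by
    refine (hMlt L₀ hL₀).not_ge (le_trans ?_ (hMT L₀ hL₀))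
    exact le_inf (e ▸ le_top) le_rfl
  obtain ⟨M₀, hM₀, hTM₀⟩ := (eq_top_or_exists_le_coatom _).resolve_left hTne
  have hTOZ : (T : Subgroup H) ⊓ pResidual p H ≤ Z := (inf_le_inf_right _ hTM₀).trans (hMZ M₀ hM₀ hTM₀)
  have hne : (T : Subgroup H) ⊔ Z ≠ ⊤ := fun e => by
    have hOZ : pResidual p H ≤ Z := fun o ho => by
      have ho' := e.ge (mem_top o)
      obtain ⟨t, ht, z, hz, rfl⟩ := (Core.mem_sup_of_le_normalizer hTZ).mp ho'
      exact mul_mem (hTOZ (Subgroup.mem_inf.mpr ⟨ht, ((pResidual p H).mul_mem_cancel_right hz.1).mp ho⟩)) hz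
    refine (hMlt L₀ hL₀).not_ge ((sylow_sup_res T (F.isSubnormal hL₀)).ge.trans (sup_le (hMT L₀ hL₀) fun a ha => ?_))
    have haZ : a ∈ (ML L₀ hL₀ ⊓ Res p L₀) ⊔ C L₀ :=
      mem_iInf.mp (mem_iInf.mp (hOZ (Fusion.map_subtype_pResidual_le L₀ ha)).2 L₀) hL₀
    have hn : ML L₀ hL₀ ⊓ Res p L₀ ≤ normalizer (C L₀ : Set H) := by
      intro r hr
      have key : ∀ r ∈ R, (C L₀).map (MulAut.conj r).toMonoidHom ≤ C L₀ := fun r hr => by
        rw [map_le_iff_le_comap]
        refine sSup_le ?_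
        rintro _ ⟨⟨L', hL', rfl⟩, hne⟩
        rw [← map_le_iff_le_comap, Core.map_conj_eq_of_mem_normalizer (F.res_norm hL' hr)]
        exact le_sSup ⟨⟨L', hL', rfl⟩, hne⟩
      have hrR : r ∈ R := hresle L₀ hL₀ hr.2
      refine Core.mem_normalizer_iff_map_conj.mpr (le_antisymm (key r hrR) ?_)
      have := map_mono (f := (MulAut.conj r).toMonoidHom) (key r⁻¹ (inv_mem hrR))
      rwa [← Core.map_conj_mul, mul_inv_cancel, Core.map_conj_eq_of_mem_normalizer (one_mem _)] at this
    obtain ⟨b, hb, c, hc, rfl⟩ := (Core.mem_sup_of_le_normalizer hn).mp haZ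
    have hcA : c ∈ Res p L₀ := ((Res p L₀).mul_mem_cancel_left hb.2).mp ha
    exact mul_mem hb.1 (hKle L₀ hL₀ (hLC L₀ hL₀ (Subgroup.mem_inf.mpr ⟨map_subtype_le _ hcA, hc⟩)))
  refine ⟨hnc, M₀, ⟨hM₀, hTM₀⟩, ?_⟩
  rintro M ⟨hM, hTM⟩
  rcases hM.le_iff.mp (hMle M hM hTM) with h | h
  · exact absurd h hne
  rcases hM₀.le_iff.mp (hMle M₀ hM₀ hTM₀) with h' | h'
  · exact absurd h' hne
  exact h.symm.trans h'

end FamilyData

end Cfsg.Lib.Local
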