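import Mathlib
import Cfsg.Prelude.Def_Transfer

/-!
Lower bounds for the index of the fixed points of an involution of a group acting faithfully on an
elementary abelian `2`-group, from an element of large order inverted by an involution.
-/

set_option autoImplicit false

namespace Cfsg.Lib.Local.ModuleBound

variable {G : Type*} [Group G] [Finite G]

/-- An element of order `p ^ (e + 1)` moving `V` has fixed points of index at least `ℓ ^ D`,
when `D` is at most the order of `ℓ` modulo `p ^ (e + 1)`. -/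
theorem index_bound {ℓ : ℕ} [hℓ : Fact ℓ.Prime] (V : Subgroup G) (hV : IsPGroup ℓ ↥V) {p e D : ℕ} (hp : p.Prime)
    (hp2 : p ≠ ℓ)
    (hD : ∀ k, 0 < k → p ^ (e + 1) ∣ ℓ ^ k - 1 → D ≤ k) (g : G)
    (hg : orderOf g = p ^ (e + 1)) (hgV : g ∈ Subgroup.normalizer (V : Set G))
    (hne : g ^ p ^ e ∉ Subgroup.centralizer (V : Set G)) :
    ℓ ^ D ≤ (V ⊓ Subgroup.centralizer ({g} : Set G)).relIndex V := by
  classical
  -- fixed points of the element of prime order
  set C : Subgroup G := V ⊓ Subgroup.centralizer ({g ^ p ^ e} : Set G) with hC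
  have hle : V ⊓ Subgroup.centralizer ({g} : Set G) ≤ C := by
    refine inf_le_inf_left V fun v hv => ?_
    rw [Subgroup.mem_centralizer_singleton_iff] at hv ⊢
    exact (Commute.pow_right (show Commute v g from hv) _).eq
  refine le_trans ?_ (Nat.le_of_dvd (Nat.pos_of_ne_zero Subgroup.index_ne_zero_of_finite)
    (Subgroup.relIndex_dvd_of_le_left V hle))
  have hCV : C ≤ V := inf_le_left
  have hlt : C < V := by
    refine lt_of_le_of_ne hCV fun h => hne ?_
    rw [Subgroup.mem_centralizer_iff]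
    intro v hv
    have hv' : v ∈ C := h ▸ hv
    exact Subgroup.mem_centralizer_singleton_iff.1 hv'.2
  obtain ⟨a, ha⟩ := hV.exists_card_eq
  obtain ⟨b, hb⟩ := (hV.to_le hCV).exists_card_eq
  have hidx : Nat.card C * C.relIndex V = Nat.card V := by
    rw [← Subgroup.relIndex_bot_left, ← Subgroup.relIndex_bot_left,
      Subgroup.relIndex_mul_relIndex ⊥ C V bot_le hCV]
  have hba : b < a := by
    refine (Nat.pow_lt_pow_iff_right hℓ.out.one_lt).1 ?_
    rw [← ha, ← hb]
    exact lt_of_le_of_ne (Subgroup.card_le_of_le hCV)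
      fun h => hlt.ne (Subgroup.eq_of_le_of_card_ge hCV h.ge)
  have hrel : C.relIndex V = ℓ ^ (a - b) := by
    refine Nat.eq_of_mul_eq_mul_left (pow_pos hℓ.out.pos b) ?_
    rw [← pow_add, Nat.add_sub_cancel' hba.le, ← ha, ← hidx, hb]
  rw [hrel]
  refine Nat.pow_le_pow_right hℓ.out.pos (hD _ (by omega) ?_)
  -- the moved points fall into regular orbits
  set K : Subgroup G := Subgroup.zpowers g with hK
  have hKN : K ≤ Subgroup.normalizer (V : Set G) := (Subgroup.zpowers_le).2 hgV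
  have hcomm : ∀ k : ↥K, Commute (k : G) (g ^ p ^ e) := by
    rintro ⟨k, i, rfl⟩
    exact ((Commute.refl g).zpow_left i).pow_right _
  have hmove : ∀ (k : ↥K) (v : G), v ∈ V ∧ v ∉ C →
      (k : G) * v * (k : G)⁻¹ ∈ V ∧ (k : G) * v * (k : G)⁻¹ ∉ C := by
    intro k v hv
    refine ⟨(Subgroup.mem_normalizer_iff.1 (hKN k.2) v).1 hv.1, fun h => hv.2 ⟨hv.1, ?_⟩⟩
    have h' : Commute ((k : G) * v * (k : G)⁻¹) (g ^ p ^ e) := Subgroup.mem_centralizer_singleton_iff.1 h.2
    refine Subgroup.mem_centralizer_singleton_iff.2 ?_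
    have h1 := ((hcomm k).inv_left.mul_left h').mul_left (hcomm k)
    rwa [show (k : G)⁻¹ * ((k : G) * v * (k : G)⁻¹) * (k : G) = v by group] at h1
  let M := {v : G // v ∈ V ∧ v ∉ C}
  letI act : MulAction ↥K M :=
    { smul := fun k v => ⟨(k : G) * v.1 * (k : G)⁻¹, hmove k v.1 v.2⟩
      one_smul := fun v => Subtype.ext (by show ((1 : ↥K) : G) * v.1 * ((1 : ↥K) : G)⁻¹ = v.1; simp)
      mul_smul := fun k l v => Subtype.ext (by
        show ((k * l : ↥K) : G) * v.1 * ((k * l : ↥K) : G)⁻¹ =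
          (k : G) * ((l : G) * v.1 * (l : G)⁻¹) * (k : G)⁻¹
        rw [Subgroup.coe_mul]; group) }
  have hfree : ∀ v : M, MulAction.stabilizer ↥K v = ⊥ := by
    intro v
    refine (Subgroup.eq_bot_iff_forall _).2 fun k hk => ?_
    by_contra hk1
    have hk' : (k : G) * v.1 * (k : G)⁻¹ = v.1 := congrArg Subtype.val hk
    have hcv : Commute (k : G) v.1 := mul_inv_eq_iff_eq_mul.1 hk'
    refine v.2.2 ⟨v.2.1, Subgroup.mem_centralizer_singleton_iff.2 ?_⟩
    -- the element of prime order is a power of `k`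
    have hdvd : orderOf (k : G) ∣ p ^ (e + 1) := by
      rw [← hg]
      exact orderOf_dvd_of_mem_zpowers k.2
    obtain ⟨i, hi, hord⟩ := (Nat.dvd_prime_pow hp).1 hdvd
    have hi0 : i ≠ 0 := by
      rintro rfl
      exact hk1 (Subtype.ext (orderOf_eq_one_iff.1 (by rw [hord, pow_zero])))
    obtain ⟨x, hx⟩ : (k : G) ∈ Subgroup.zpowers g := k.2
    have hsub : g ^ p ^ e ∈ Subgroup.zpowers (k : G) := by
      have hcard : Nat.card ↥(Subgroup.zpowers (g ^ p ^ e)) = p := by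
        rw [Nat.card_zpowers, orderOf_pow' g (pow_pos hp.pos _).ne', hg,
          Nat.gcd_eq_right (pow_dvd_pow p (Nat.le_succ e)), Nat.pow_div (Nat.le_succ e) hp.pos,
          Nat.succ_sub (le_refl e), Nat.sub_self, pow_one]
      obtain ⟨y, hy⟩ : ∃ y, y = x * (p ^ (i - 1) : ℕ) := ⟨_, rfl⟩
      have hky : (k : G) ^ p ^ (i - 1) = g ^ y := by
        rw [hy, zpow_mul, zpow_natCast, ← hx]
      have hk1' : (k : G) ^ p ^ (i - 1) ≠ 1 := fun h =>
        absurd (Nat.le_of_dvd (pow_pos hp.pos _) (hord ▸ orderOf_dvd_of_pow_eq_one h))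
          (not_le.2 (Nat.pow_lt_pow_right hp.one_lt (by omega)))
      have hkp : ((k : G) ^ p ^ (i - 1)) ^ p = 1 := by
        rw [← pow_mul, ← pow_succ, show i - 1 + 1 = i by omega, ← hord, pow_orderOf_eq_one]
      have hdy : ((p ^ e : ℕ) : ℤ) ∣ y := by
        rw [hky, ← zpow_natCast, ← zpow_mul, ← orderOf_dvd_iff_zpow_eq_one, hg, pow_succ,
          Nat.cast_mul] at hkp
        exact (mul_dvd_mul_iff_right (Int.natCast_ne_zero.2 hp.ne_zero)).1 hkp
      have hmem : (k : G) ^ p ^ (i - 1) ∈ Subgroup.zpowers (g ^ p ^ e) := by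
        obtain ⟨w, rfl⟩ := hdy
        rw [hky, zpow_mul, zpow_natCast]
        exact Subgroup.zpow_mem _ (Subgroup.mem_zpowers _) w
      haveI := Fact.mk hp
      obtain ⟨m, hm⟩ := mem_zpowers_of_prime_card (G := ↥(Subgroup.zpowers (g ^ p ^ e))) hcard
        (g := ⟨_, hmem⟩) (g' := ⟨_, Subgroup.mem_zpowers _⟩) (fun h => hk1' (congrArg Subtype.val h))
      have hm' : ((k : G) ^ p ^ (i - 1)) ^ m = g ^ p ^ e := congrArg Subtype.val hm
      rw [← hm']
      exact Subgroup.zpow_mem _ (pow_mem (Subgroup.mem_zpowers _) _) m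
    obtain ⟨j, hj⟩ := hsub
    rw [← hj]
    exact (hcv.symm.zpow_right j).eq
  have hdvdM : p ^ (e + 1) ∣ Nat.card M := by
    haveI := Fintype.ofFinite (MulAction.orbitRel.Quotient ↥K M)
    rw [Nat.card_congr (MulAction.selfEquivSigmaOrbitsQuotientStabilizer ↥K M), Nat.card_sigma]
    refine Finset.dvd_sum fun ω _ => ?_
    rw [hfree, ← Subgroup.index, Subgroup.index_bot, hK, Nat.card_zpowers, hg]
  have hMcard : Nat.card M = ℓ ^ b * (ℓ ^ (a - b) - 1) := by
    have e1 : Nat.card M = ((V : Set G) \ (C : Set G)).ncard := rfl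
    have e2 : (V : Set G).ncard = ℓ ^ a := ha
    have e3 : (C : Set G).ncard = ℓ ^ b := hb
    rw [e1, Set.ncard_sdiff (fun x hx => hCV hx) (Set.toFinite _), e2, e3, Nat.mul_sub, mul_one, ← pow_add,
      Nat.add_sub_cancel' hba.le]
  rw [hMcard] at hdvdM
  exact (Nat.Coprime.pow_right b (((Nat.coprime_primes hp hℓ.out).2 hp2).pow_left (e + 1))).dvd_of_dvd_mul_left hdvdM

/-- Conjugate elements of a group normalising `V` have fixed points of the same index. -/
theorem relIndex_conj (V H : Subgroup G) (hHV : H ≤ Subgroup.normalizer (V : Set G))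
    (s x : ↥H) : (V ⊓ Subgroup.centralizer ({((x⁻¹ * s * x : ↥H) : G)} : Set G)).relIndex V =
      (V ⊓ Subgroup.centralizer ({(s : G)} : Set G)).relIndex V := by
  set C : Subgroup G := V ⊓ Subgroup.centralizer ({(s : G)} : Set G) with hC
  set C' : Subgroup G := V ⊓ Subgroup.centralizer ({((x⁻¹ * s * x : ↥H) : G)} : Set G) with hC'
  have hxV : (x : G)⁻¹ ∈ Subgroup.normalizer (V : Set G) := hHV (inv_mem x.2)
  have e1 : C' = C.map (MulAut.conj (x : G)⁻¹).toMonoidHom := by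
    ext v
    rw [Subgroup.mem_map]
    constructor
    · rintro ⟨hv, h1⟩
      refine ⟨(x : G) * v * (x : G)⁻¹,
        ⟨(Subgroup.mem_normalizer_iff.1 (hHV x.2) v).1 hv, Subgroup.mem_centralizer_singleton_iff.2 ?_⟩, ?_⟩
      · have h1' := Subgroup.mem_centralizer_singleton_iff.1 h1
        simp only [Subgroup.coe_mul, Subgroup.coe_inv] at h1'
        calc (x : G) * v * (x : G)⁻¹ * (s : G)
            = (x : G) * (v * ((x : G)⁻¹ * s * x)) * (x : G)⁻¹ := by group
          _ = (x : G) * (((x : G)⁻¹ * s * x) * v) * (x : G)⁻¹ := by rw [h1']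
          _ = (s : G) * ((x : G) * v * (x : G)⁻¹) := by group
      · simp [MulAut.conj_apply, mul_assoc]
    · rintro ⟨w, ⟨hw, h1⟩, rfl⟩
      refine ⟨(Subgroup.mem_normalizer_iff.1 hxV w).1 hw, Subgroup.mem_centralizer_singleton_iff.2 ?_⟩
      have h1' := Subgroup.mem_centralizer_singleton_iff.1 h1
      simp only [MulEquiv.coe_toMonoidHom, MulAut.conj_apply, Subgroup.coe_mul, Subgroup.coe_inv, inv_inv]
      calc (x : G)⁻¹ * w * x * ((x : G)⁻¹ * s * x) = (x : G)⁻¹ * (w * s) * x := by group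
        _ = (x : G)⁻¹ * (s * w) * x := by rw [h1']
        _ = (x : G)⁻¹ * s * x * ((x : G)⁻¹ * w * x) := by group
  have e2 : V.map (MulAut.conj (x : G)⁻¹).toMonoidHom = V := by
    refine Subgroup.eq_of_le_of_card_ge ?_ ?_
    · rintro _ ⟨w, hw, rfl⟩
      exact (Subgroup.mem_normalizer_iff.1 hxV w).1 hw
    · rw [Subgroup.card_map_of_injective (MulAut.conj _).injective]
  conv_lhs => rw [e1, ← e2]
  exact Subgroup.relIndex_map_map_of_injective _ _ (MulAut.conj _).injective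

/-- Bounds from an involution `s` times a conjugate having image of order divisible by `p ^ (e + 1)`. -/
theorem involution_bound (V H : Subgroup G) (hV : Cfsg.IsElementaryAbelian 2 V)
    (hHV : H ≤ Subgroup.normalizer (V : Set G))
    (hf : H ⊓ Subgroup.centralizer (V : Set G) = ⊥)
    {P : Type*} [Group P] (f : ↥H →* P) (hsurj : Function.Surjective f)
    (hker : ¬ 2 ∣ Nat.card f.ker) {p e D : ℕ} (hp : p.Prime) (hp2 : p ≠ 2)
    (hD : ∀ k, 0 < k → p ^ (e + 1) ∣ 2 ^ k - 1 → D ≤ k)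
    (hP : ∀ u : P, u * u = 1 → u ≠ 1 → ∃ c : P, p ^ (e + 1) ∣ orderOf (u * (c⁻¹ * u * c)))
    (s : ↥H) (hs : s * s = 1) (hs1 : s ≠ 1) :
    2 ^ D ≤ Nat.card V ∧
      2 ^ D ≤ (V ⊓ Subgroup.centralizer ({(s : G)} : Set G)).relIndex V ^ 2 := by
  classical
  haveI : Fact (Nat.Prime 2) := ⟨Nat.prime_two⟩
  have hVp : IsPGroup 2 ↥V := fun v => ⟨1, Subtype.ext (by simpa using hV.2 v.1 v.2)⟩
  have hfs : f s ≠ 1 := by
    intro h
    refine hker ?_
    have hord : orderOf (⟨s, h⟩ : f.ker) = 2 := orderOf_eq_prime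
      (Subtype.ext (by rw [pow_two]; exact hs)) (fun h => hs1 (congrArg Subtype.val h))
    exact hord ▸ orderOf_dvd_natCard _
  obtain ⟨c, hc⟩ := hP (f s) (by rw [← map_mul, hs, map_one]) hfs
  obtain ⟨x, rfl⟩ := hsurj c
  set h : ↥H := s * (x⁻¹ * s * x) with hh
  have hN : p ^ (e + 1) ∣ orderOf h := by
    refine hc.trans ?_
    have e' : f s * ((f x)⁻¹ * f s * f x) = f h := by simp [hh]
    rw [e']
    exact orderOf_map_dvd f h
  obtain ⟨d, hd⟩ := hN
  have hd0 : d ≠ 0 := by rintro rfl; exact (orderOf_pos h).ne' (hd.trans (mul_zero _))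
  set g : ↥H := h ^ d with hg
  have hgo : orderOf g = p ^ (e + 1) := by
    rw [hg, orderOf_pow' h hd0, hd, Nat.gcd_eq_right (dvd_mul_left d _),
      Nat.mul_div_cancel _ (Nat.pos_of_ne_zero hd0)]
  have hgo' : orderOf (g : G) = p ^ (e + 1) := by rw [Subgroup.orderOf_coe, hgo]
  have hne : (g : G) ^ p ^ e ∉ Subgroup.centralizer (V : Set G) := by
    intro hmem
    have hmem' : (g : G) ^ p ^ e ∈ H ⊓ Subgroup.centralizer (V : Set G) := ⟨pow_mem g.2 _, hmem⟩
    rw [hf, Subgroup.mem_bot] at hmem'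
    have hd1 : p ^ (e + 1) ∣ p ^ e := hgo' ▸ orderOf_dvd_of_pow_eq_one hmem'
    exact absurd (Nat.le_of_dvd (pow_pos hp.pos _) hd1)
      (not_le.2 (Nat.pow_lt_pow_right hp.one_lt (Nat.lt_succ_self e)))
  have hb := index_bound V hVp hp hp2 hD (g : G) hgo' (hHV g.2) hne
  refine ⟨hb.trans (Nat.le_of_dvd Nat.card_pos ?_), hb.trans ?_⟩
  · rw [← Subgroup.relIndex_bot_left (H := V),
      ← Subgroup.relIndex_mul_relIndex ⊥ _ V bot_le inf_le_left]
    exact dvd_mul_left _ _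
  set C : Subgroup G := V ⊓ Subgroup.centralizer ({(s : G)} : Set G) with hC
  set C' : Subgroup G := V ⊓ Subgroup.centralizer ({((x⁻¹ * s * x : ↥H) : G)} : Set G) with hC'
  have hCC : C ⊓ C' ≤ V ⊓ Subgroup.centralizer ({(g : G)} : Set G) := by
    rintro v ⟨⟨hv, h1⟩, -, h2⟩
    refine ⟨hv, Subgroup.mem_centralizer_singleton_iff.2 ?_⟩
    have h1' : Commute v (s : G) := Subgroup.mem_centralizer_singleton_iff.1 h1
    have h2' : Commute v ((x⁻¹ * s * x : ↥H) : G) := Subgroup.mem_centralizer_singleton_iff.1 h2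
    rw [hg, hh, SubmonoidClass.coe_pow, Subgroup.coe_mul]
    exact ((h1'.mul_right h2').pow_right d).eq
  have hconj : C'.relIndex V = C.relIndex V := relIndex_conj V H hHV s x
  calc (V ⊓ Subgroup.centralizer ({(g : G)} : Set G)).relIndex V ≤ (C ⊓ C').relIndex V :=
        Nat.le_of_dvd (Nat.pos_of_ne_zero Subgroup.index_ne_zero_of_finite)
          (Subgroup.relIndex_dvd_of_le_left V hCC)
    _ ≤ C.relIndex V * C'.relIndex V := Subgroup.relIndex_inf_le
    _ = C.relIndex V ^ 2 := by rw [hconj, pow_two]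

/-- Bounds from an involution `s` times two conjugates having image of order divisible by `p ^ (e + 1)`. -/
theorem involution_bound_three (V H : Subgroup G) (hV : Cfsg.IsElementaryAbelian 2 V)
    (hHV : H ≤ Subgroup.normalizer (V : Set G))
    (hf : H ⊓ Subgroup.centralizer (V : Set G) = ⊥)
    {P : Type*} [Group P] (f : ↥H →* P) (hsurj : Function.Surjective f)
    (hker : ¬ 2 ∣ Nat.card f.ker) {p e D : ℕ} (hp : p.Prime) (hp2 : p ≠ 2)
    (hD : ∀ k, 0 < k → p ^ (e + 1) ∣ 2 ^ k - 1 → D ≤ k)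
    (hP : ∀ u : P, u * u = 1 → u ≠ 1 →
      ∃ c d : P, p ^ (e + 1) ∣ orderOf (u * (c⁻¹ * u * c) * (d⁻¹ * u * d)))
    (s : ↥H) (hs : s * s = 1) (hs1 : s ≠ 1) :
    2 ^ D ≤ Nat.card V ∧
      2 ^ D ≤ (V ⊓ Subgroup.centralizer ({(s : G)} : Set G)).relIndex V ^ 3 := by
  classical
  haveI : Fact (Nat.Prime 2) := ⟨Nat.prime_two⟩
  have hVp : IsPGroup 2 ↥V := fun v => ⟨1, Subtype.ext (by simpa using hV.2 v.1 v.2)⟩
  have hfs : f s ≠ 1 := by
    intro h
    refine hker ?_
    have hord : orderOf (⟨s, h⟩ : f.ker) = 2 := orderOf_eq_prime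
      (Subtype.ext (by rw [pow_two]; exact hs)) (fun h => hs1 (congrArg Subtype.val h))
    exact hord ▸ orderOf_dvd_natCard _
  obtain ⟨c, c₂, hc⟩ := hP (f s) (by rw [← map_mul, hs, map_one]) hfs
  obtain ⟨x, rfl⟩ := hsurj c
  obtain ⟨y, rfl⟩ := hsurj c₂
  set h : ↥H := s * (x⁻¹ * s * x) * (y⁻¹ * s * y) with hh
  have hN : p ^ (e + 1) ∣ orderOf h := by
    refine hc.trans ?_
    have e' : f s * ((f x)⁻¹ * f s * f x) * ((f y)⁻¹ * f s * f y) = f h := by simp [hh]
    rw [e']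
    exact orderOf_map_dvd f h
  obtain ⟨d, hd⟩ := hN
  have hd0 : d ≠ 0 := by rintro rfl; exact (orderOf_pos h).ne' (hd.trans (mul_zero _))
  set g : ↥H := h ^ d with hg
  have hgo : orderOf g = p ^ (e + 1) := by
    rw [hg, orderOf_pow' h hd0, hd, Nat.gcd_eq_right (dvd_mul_left d _),
      Nat.mul_div_cancel _ (Nat.pos_of_ne_zero hd0)]
  have hgo' : orderOf (g : G) = p ^ (e + 1) := by rw [Subgroup.orderOf_coe, hgo]
  have hne : (g : G) ^ p ^ e ∉ Subgroup.centralizer (V : Set G) := by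
    intro hmem
    have hmem' : (g : G) ^ p ^ e ∈ H ⊓ Subgroup.centralizer (V : Set G) := ⟨pow_mem g.2 _, hmem⟩
    rw [hf, Subgroup.mem_bot] at hmem'
    have hd1 : p ^ (e + 1) ∣ p ^ e := hgo' ▸ orderOf_dvd_of_pow_eq_one hmem'
    exact absurd (Nat.le_of_dvd (pow_pos hp.pos _) hd1)
      (not_le.2 (Nat.pow_lt_pow_right hp.one_lt (Nat.lt_succ_self e)))
  have hb := index_bound V hVp hp hp2 hD (g : G) hgo' (hHV g.2) hne
  refine ⟨hb.trans (Nat.le_of_dvd Nat.card_pos ?_), hb.trans ?_⟩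
  · rw [← Subgroup.relIndex_bot_left (H := V),
      ← Subgroup.relIndex_mul_relIndex ⊥ _ V bot_le inf_le_left]
    exact dvd_mul_left _ _
  set C : Subgroup G := V ⊓ Subgroup.centralizer ({(s : G)} : Set G) with hC
  set C' : Subgroup G := V ⊓ Subgroup.centralizer ({((x⁻¹ * s * x : ↥H) : G)} : Set G) with hC'
  set C'' : Subgroup G := V ⊓ Subgroup.centralizer ({((y⁻¹ * s * y : ↥H) : G)} : Set G) with hC''
  have hCC : C ⊓ C' ⊓ C'' ≤ V ⊓ Subgroup.centralizer ({(g : G)} : Set G) := by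
    rintro v ⟨⟨⟨hv, h1⟩, -, h2⟩, -, h3⟩
    refine ⟨hv, Subgroup.mem_centralizer_singleton_iff.2 ?_⟩
    have h1' : Commute v (s : G) := Subgroup.mem_centralizer_singleton_iff.1 h1
    have h2' : Commute v ((x⁻¹ * s * x : ↥H) : G) := Subgroup.mem_centralizer_singleton_iff.1 h2
    have h3' : Commute v ((y⁻¹ * s * y : ↥H) : G) := Subgroup.mem_centralizer_singleton_iff.1 h3
    rw [hg, hh, SubmonoidClass.coe_pow, Subgroup.coe_mul, Subgroup.coe_mul]
    exact (((h1'.mul_right h2').mul_right h3').pow_right d).eq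
  calc (V ⊓ Subgroup.centralizer ({(g : G)} : Set G)).relIndex V ≤ (C ⊓ C' ⊓ C'').relIndex V :=
        Nat.le_of_dvd (Nat.pos_of_ne_zero Subgroup.index_ne_zero_of_finite)
          (Subgroup.relIndex_dvd_of_le_left V hCC)
    _ ≤ (C ⊓ C').relIndex V * C''.relIndex V := Subgroup.relIndex_inf_le
    _ ≤ C.relIndex V * C'.relIndex V * C''.relIndex V := Nat.mul_le_mul_right _ Subgroup.relIndex_inf_le
    _ = C.relIndex V ^ 3 := by rw [hC', hC'', relIndex_conj V H hHV s x, relIndex_conj V H hHV s y]; ring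

/-- The bounds in the form used for the strongly embedded configurations. -/
theorem bounds (V H : Subgroup G) (hV : Cfsg.IsElementaryAbelian 2 V)
    (hHV : H ≤ Subgroup.normalizer (V : Set G))
    (hf : H ⊓ Subgroup.centralizer (V : Set G) = ⊥)
    {P : Type*} [Group P] (f : ↥H →* P) (hsurj : Function.Surjective f)
    (hker : ¬ 2 ∣ Nat.card f.ker) {p e D : ℕ} (hp : p.Prime) (hp2 : p ≠ 2)
    (hD : ∀ k, 0 < k → p ^ (e + 1) ∣ 2 ^ k - 1 → 2 * D ≤ k)
    (hP : ∀ u : P, u * u = 1 → u ≠ 1 → ∃ c : P, p ^ (e + 1) ∣ orderOf (u * (c⁻¹ * u * c)))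
    (S : Sylow 2 ↥H) (T : Subgroup G) (hT : T = ((S : Subgroup ↥H).map H.subtype))
    (A : Subgroup G) (hA : A ≤ T ⊓ Subgroup.centralizer (T : Set G)) (hA4 : Nat.card A = 4) :
    (2 ^ D) ^ 2 ≤ Nat.card V ∧
      2 ^ D ≤ (V ⊓ Subgroup.centralizer ((A : Subgroup G) : Set G)).relIndex V ∧
      ∀ s ∈ T ⊓ Subgroup.centralizer (T : Set G), s ≠ 1 →
        (2 ^ D) ^ 2 ≤ (V ⊓ Subgroup.centralizer ({s} : Set G)).relIndex V ^ 3 := by
  classical
  haveI : Fact (Nat.Prime 2) := ⟨Nat.prime_two⟩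
  have hTp : IsPGroup 2 ↥T := hT ▸ S.isPGroup'.map _
  have hTH : T ≤ H := hT ▸ Subgroup.map_subtype_le _
  have key : ∀ s ∈ T, s ≠ 1 → (2 ^ D) ^ 2 ≤ Nat.card V ∧
      2 ^ D ≤ (V ⊓ Subgroup.centralizer ({s} : Set G)).relIndex V := by
    intro s hs hs1
    obtain ⟨k, hk⟩ := hTp ⟨s, hs⟩
    have hk' : s ^ 2 ^ k = 1 := congrArg Subtype.val hk
    obtain ⟨j, hj, hj'⟩ : ∃ j, s ^ 2 ^ j ≠ 1 ∧ s ^ 2 ^ (j + 1) = 1 := by
      by_contra hcon
      push Not at hcon
      have hall : ∀ j, s ^ 2 ^ j ≠ 1 := fun j => by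
        induction j with
        | zero => simpa using hs1
        | succ j ih => exact hcon j ih
      exact hall k hk'
    set t : ↥H := ⟨s ^ 2 ^ j, pow_mem (hTH hs) _⟩ with ht
    obtain ⟨b1, b2⟩ := involution_bound V H hV hHV hf f hsurj hker hp hp2 hD hP t
      (Subtype.ext (by simp only [ht, MulMemClass.mk_mul_mk, OneMemClass.coe_one]
                       rw [← pow_two, ← pow_mul, ← pow_succ]; exact hj'))
      (fun h => hj (congrArg Subtype.val h))
    refine ⟨by rw [← pow_mul, mul_comm]; exact b1, ?_⟩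
    have hle : V ⊓ Subgroup.centralizer ({s} : Set G) ≤ V ⊓ Subgroup.centralizer ({(t : G)} : Set G) := by
      refine inf_le_inf_left V fun v hv => ?_
      rw [Subgroup.mem_centralizer_singleton_iff] at hv ⊢
      exact (Commute.pow_right (show Commute v s from hv) _).eq
    refine le_trans ?_ (Nat.le_of_dvd (Nat.pos_of_ne_zero Subgroup.index_ne_zero_of_finite)
      (Subgroup.relIndex_dvd_of_le_left V hle))
    refine (Nat.pow_le_pow_iff_left two_ne_zero).1 ?_
    rw [← pow_mul, mul_comm]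
    exact b2
  have hA1 : A ≠ ⊥ := by
    intro h
    rw [h, Subgroup.card_bot] at hA4
    omega
  obtain ⟨a, ha, ha1⟩ := (Subgroup.bot_or_exists_ne_one A).resolve_left hA1
  obtain ⟨k1, k2⟩ := key a (hA ha).1 ha1
  refine ⟨k1, k2.trans (Nat.le_of_dvd (Nat.pos_of_ne_zero Subgroup.index_ne_zero_of_finite)
    (Subgroup.relIndex_dvd_of_le_left V (inf_le_inf_left V
      (Subgroup.centralizer_le (by simpa using ha))))), fun s hs hs1 => ?_⟩
  obtain ⟨-, h2⟩ := key s hs.1 hs1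
  refine le_trans ?_ (Nat.pow_le_pow_left h2 3)
  exact Nat.pow_le_pow_right (by positivity) (by norm_num)

end Cfsg.Lib.Local.ModuleBound
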