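import Mathlib
import Cfsg.Agent.Lib.Dickson.Orders

/-!
Products of two involutions of `SL₂(q)`, `q` even, of order dividing `q + 1`.
-/

set_option autoImplicit false

namespace Cfsg.Lib.Local.ModuleBound

open Matrix

variable {F : Type*} [Field F] [Fintype F]

/-- The standard transvection. -/
def stdTrans (F : Type*) [Field F] : Matrix.SpecialLinearGroup (Fin 2) F :=
  ⟨!![1, 1; 0, 1], by simp [Matrix.det_fin_two_of]⟩

theorem exists_conj_stdTrans [CharP F 2] {g : Matrix.SpecialLinearGroup (Fin 2) F} (hg : g * g = 1)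
    (hg1 : g ≠ 1) : ∃ C : Matrix.SpecialLinearGroup (Fin 2) F, g * C = C * stdTrans F := by
  haveI := Fintype.ofFinite F
  have h2 : ∀ z : F, z + z = 0 := CharTwo.add_self_eq_zero
  have hsq : ∀ z : F, ∃ w : F, w * w = z := fun z => by
    obtain ⟨w, hw⟩ := FiniteField.isSquare_of_char_two (ringChar.eq F 2) z
    exact ⟨w, hw.symm⟩
  have hd : g.1.det = 1 := g.2
  rw [Matrix.det_fin_two] at hd
  have hm : g.1 * g.1 = 1 := congrArg Subtype.val hg
  have e00 := congrFun (congrFun hm 0) 0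
  have e11 := congrFun (congrFun hm 1) 1
  simp [Matrix.mul_apply, Fin.sum_univ_two] at e00 e11
  have had : g.1 0 0 = g.1 1 1 := by
    have h : (g.1 0 0 + g.1 1 1) * (g.1 0 0 + g.1 1 1) = 0 := by
      linear_combination e00 + e11 + h2 1 + (h2 (g.1 0 0 * g.1 1 1)) - h2 (g.1 0 1 * g.1 1 0)
    have h' : g.1 0 0 + g.1 1 1 = 0 := mul_self_eq_zero.1 h
    linear_combination h' - h2 (g.1 1 1)
  by_cases hc : g.1 1 0 = 0
  · have ha : g.1 0 0 = 1 := by
      have h : (g.1 0 0 + 1) * (g.1 0 0 + 1) = 0 := by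
        linear_combination hd + g.1 0 1 * hc + g.1 0 0 * had + h2 1 + h2 (g.1 0 0)
      have h' := mul_self_eq_zero.1 h
      linear_combination h' - h2 1
    have hb : g.1 0 1 ≠ 0 := fun hb => hg1 (Subtype.ext (by
      ext i j
      fin_cases i <;> fin_cases j <;> simp [hc, hb, ha, ← had]))
    obtain ⟨μ, hμ⟩ := hsq (g.1 0 1)
    have hμ0 : μ ≠ 0 := by rintro rfl; exact hb (by rw [← hμ, zero_mul])
    refine ⟨⟨!![μ, 0; 0, μ⁻¹], by rw [Matrix.det_fin_two_of, mul_inv_cancel₀ hμ0]; ring⟩, Subtype.ext ?_⟩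
    show g.1 * !![μ, 0; 0, μ⁻¹] = !![μ, 0; 0, μ⁻¹] * !![1, 1; 0, 1]
    ext i j
    fin_cases i <;> fin_cases j <;> simp [Matrix.mul_apply, Fin.sum_univ_two, hc, ha, ← had]
    rw [← hμ, mul_assoc, mul_inv_cancel₀ hμ0, mul_one]
  · obtain ⟨l, hl⟩ := hsq (g.1 1 0)⁻¹
    have hl' : l * l * g.1 1 0 = 1 := by rw [hl, inv_mul_cancel₀ hc]
    refine ⟨⟨!![l * (g.1 0 0 + 1), l; l * g.1 1 0, 0], by
      rw [Matrix.det_fin_two_of]; linear_combination -hl' - h2 1⟩, Subtype.ext ?_⟩
    show g.1 * !![l * (g.1 0 0 + 1), l; l * g.1 1 0, 0] =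
      !![l * (g.1 0 0 + 1), l; l * g.1 1 0, 0] * !![1, 1; 0, 1]
    ext i j
    fin_cases i <;> fin_cases j <;> simp [Matrix.mul_apply, Fin.sum_univ_two]
    · linear_combination l * e00
    · linear_combination -h2 l
    · linear_combination (-(g.1 1 0 * l)) * had + g.1 1 0 * l * h2 (g.1 0 0)
    · ring

theorem center_eq_bot [CharP F 2] : Subgroup.center (Matrix.SpecialLinearGroup (Fin 2) F) = ⊥ := by
  refine (Subgroup.eq_bot_iff_forall _).2 fun z hz => ?_
  obtain ⟨h1, h2, h3⟩ := Cfsg.Lib.Dickson.mem_center_sl hz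
  have hd : z.1.det = 1 := z.2
  rw [Matrix.det_fin_two, h1, h2, h3] at hd
  have h00 : z.1 0 0 = 1 := by
    have h : (z.1 0 0 + 1) * (z.1 0 0 + 1) = 0 := by
      linear_combination hd + CharTwo.add_self_eq_zero (1 : F) + CharTwo.add_self_eq_zero (z.1 0 0)
    have h' := mul_self_eq_zero.1 h
    linear_combination h' - CharTwo.add_self_eq_zero (1 : F)
  apply Subtype.ext
  ext i j
  fin_cases i <;> fin_cases j <;> simp [h1, h2, h3, h00]

/-- `c ∈ F` with a root of `x² + cx + 1` of multiplicative order `N`. -/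
theorem exists_trace [CharP F 2] {N : ℕ} (hodd : Odd N) (hN : N ∣ Fintype.card F + 1) :
    ∃ (c : F) (ζ : AlgebraicClosure F), IsPrimitiveRoot ζ N ∧ algebraMap F (AlgebraicClosure F) c = ζ + ζ⁻¹ := by
  classical
  haveI : CharP (AlgebraicClosure F) 2 := charP_of_injective_algebraMap (algebraMap F _).injective 2
  obtain ⟨n, -, hn⟩ := FiniteField.card F 2
  haveI : NeZero ((N : ℕ) : AlgebraicClosure F) := ⟨fun h => by
    rw [CharP.cast_eq_zero_iff (AlgebraicClosure F) 2] at h
    exact (Nat.not_even_iff_odd.2 hodd) (even_iff_two_dvd.2 h)⟩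
  obtain ⟨ζ, hζ⟩ := HasEnoughRootsOfUnity.exists_primitiveRoot (AlgebraicClosure F) N
  obtain ⟨k, hk⟩ := hN
  have hq : ζ ^ Fintype.card F = ζ⁻¹ := by
    refine eq_inv_of_mul_eq_one_left ?_
    rw [← pow_succ, hk, pow_mul, hζ.pow_eq_one, one_pow]
  have hfix : (ζ + ζ⁻¹) ^ Fintype.card F = ζ + ζ⁻¹ := by
    rw [hn, add_pow_char_pow, ← hn, inv_pow, hq, inv_inv, add_comm]
  set x := ζ + ζ⁻¹ with hx
  have hroot := FiniteField.roots_X_pow_card_sub_X F
  obtain ⟨c, hc⟩ : ∃ c : F, algebraMap F (AlgebraicClosure F) c = x := by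
    by_contra hne
    push Not at hne
    have hne0 : (Polynomial.X ^ Fintype.card F - Polynomial.X : Polynomial (AlgebraicClosure F)) ≠ 0 :=
      FiniteField.X_pow_card_sub_X_ne_zero _ Fintype.one_lt_card
    have hdeg : (Polynomial.X ^ Fintype.card F - Polynomial.X : Polynomial (AlgebraicClosure F)).natDegree =
        Fintype.card F := FiniteField.X_pow_card_sub_X_natDegree_eq _ Fintype.one_lt_card
    have hsub : insert x (Finset.univ.image (algebraMap F (AlgebraicClosure F))) ⊆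
        (Polynomial.X ^ Fintype.card F - Polynomial.X : Polynomial (AlgebraicClosure F)).roots.toFinset := by
      intro y hy
      rw [Multiset.mem_toFinset, Polynomial.mem_roots hne0]
      rcases Finset.mem_insert.1 hy with rfl | hy
      · simp [hfix]
      · obtain ⟨a, -, rfl⟩ := Finset.mem_image.1 hy
        simp [← map_pow, FiniteField.pow_card]
    have h1 := (Finset.card_le_card hsub).trans ((Multiset.toFinset_card_le _).trans (Polynomial.card_roots' _))
    rw [Finset.card_insert_of_notMem (by simpa using hne),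
      Finset.card_image_of_injective _ (algebraMap F (AlgebraicClosure F)).injective, hdeg,
      Finset.card_univ] at h1
    omega
  exact ⟨c, ζ, hζ, hc⟩

/-- Every involution times a suitable conjugate has order divisible by an odd divisor of `q + 1`. -/
theorem sl_two_real [CharP F 2] {N : ℕ} (hodd : Odd N) (h1 : 1 < N) (hN : N ∣ Fintype.card F + 1)
    (u : Matrix.SpecialLinearGroup (Fin 2) F) (hu : u * u = 1) (hu1 : u ≠ 1) :
    ∃ c : Matrix.SpecialLinearGroup (Fin 2) F, N ∣ orderOf (u * (c⁻¹ * u * c)) := by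
  classical
  haveI : CharP (AlgebraicClosure F) 2 := charP_of_injective_algebraMap (algebraMap F _).injective 2
  obtain ⟨c, ζ, hζ, hc⟩ := exists_trace hodd hN
  have hζ0 : ζ ≠ 0 := hζ.ne_zero (by omega)
  let φ := algebraMap F (AlgebraicClosure F)
  have hc0 : c ≠ 0 := by
    rintro rfl
    rw [map_zero] at hc
    have h2 : ζ * ζ = 1 := by
      linear_combination ζ * hc.symm - mul_inv_cancel₀ hζ0 - CharTwo.add_self_eq_zero (1 : AlgebraicClosure F)
    have hd : N ∣ 2 := (hζ.pow_eq_one_iff_dvd 2).1 (by rw [pow_two, h2])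
    have := Nat.le_of_dvd (by norm_num) hd
    interval_cases N
    exact absurd hodd (by decide)
  let v : Matrix.SpecialLinearGroup (Fin 2) F := ⟨!![1, 0; c, 1], by simp [Matrix.det_fin_two_of]⟩
  have hv : v * v = 1 := Subtype.ext (by
    show !![1, 0; c, 1] * !![1, 0; c, 1] = (1 : Matrix (Fin 2) (Fin 2) F)
    ext i j
    fin_cases i <;> fin_cases j <;> simp [Matrix.mul_apply, Fin.sum_univ_two, CharTwo.add_self_eq_zero])
  have hv1 : v ≠ 1 := fun h => hc0 (by
    have := congrFun (congrFun (congrArg Subtype.val h) 1) 0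
    simpa [v] using this)
  obtain ⟨A, hA⟩ := exists_conj_stdTrans hu hu1
  obtain ⟨B, hB⟩ := exists_conj_stdTrans hv hv1
  refine ⟨A * B⁻¹ * A⁻¹, ?_⟩
  have hA' : u = A * stdTrans F * A⁻¹ := eq_mul_inv_iff_mul_eq.2 hA
  have hB' : v = B * stdTrans F * B⁻¹ := eq_mul_inv_iff_mul_eq.2 hB
  have he : u * ((A * B⁻¹ * A⁻¹)⁻¹ * u * (A * B⁻¹ * A⁻¹)) = A * (stdTrans F * v) * A⁻¹ := by
    rw [hA', hB']; group
  rw [he, show A * (stdTrans F * v) * A⁻¹ = MulAut.conj A (stdTrans F * v) from rfl,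
    MulEquiv.orderOf_eq]
  set M := stdTrans F * v with hM
  let w : Fin 2 → AlgebraicClosure F := ![1, ζ - 1 - φ c]
  have hMw : (M.1.map φ) *ᵥ w = ζ • w := by
    have hM1 : M.1 = !![1 + c, 1; c, 1] := by
      show !![1, 1; 0, 1] * !![1, 0; c, 1] = _
      ext i j
      fin_cases i <;> fin_cases j <;> simp [Matrix.mul_apply, Fin.sum_univ_two]
    rw [hM1]
    have hmul := mul_inv_cancel₀ hζ0
    funext i
    fin_cases i <;>
      simp [Matrix.mulVec, dotProduct, Fin.sum_univ_two, w, φ, hc]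
    linear_combination hmul + CharTwo.add_self_eq_zero ζ
  have hpow : ∀ k : ℕ, (M.1.map φ) ^ k *ᵥ w = ζ ^ k • w := by
    intro k
    induction k with
    | zero => simp
    | succ k ih => rw [pow_succ, ← Matrix.mulVec_mulVec, hMw, Matrix.mulVec_smul, ih, smul_smul, ← pow_succ']
  have hk := hpow (orderOf M)
  rw [← Matrix.map_pow, ← Matrix.SpecialLinearGroup.coe_pow, pow_orderOf_eq_one,
    Matrix.SpecialLinearGroup.coe_one, Matrix.map_one φ (map_zero φ) (map_one φ), Matrix.one_mulVec] at hk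
  have h0 := congrFun hk 0
  simp [w] at h0
  exact (hζ.pow_eq_one_iff_dvd _).1 h0.symm

end Cfsg.Lib.Local.ModuleBound
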