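import Cfsg.Agent.Lib.Linear.Suzuki.TorusCount

/-!
Products of two involutions of `Sz(q)` of a given prime order dividing `q² + 1`.
-/

set_option autoImplicit false

namespace Cfsg.Lib.Local.ModuleBound

open Cfsg.Lib.Linear.Suz

variable {F : Type*} [Field F] [Fintype F] {m : ℕ}

theorem sz_conj_std (h : Params F m) {x : ↥(Cfsg.Sz F m)} (hx : x * x = 1) (hx1 : x ≠ 1) :
    ∃ σ : ↥(Cfsg.Sz F m), σ * x * σ⁻¹ = uS h 0 1 := by
  classical
  haveI : Fact (Nat.Prime 2) := ⟨Nat.prime_two⟩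
  have hord : orderOf x = 2 := orderOf_eq_prime (by rw [pow_two]; exact hx) hx1
  have hnf : ¬ Fpf h x := fun hf => by
    have h2 := fpf_dvd h hord hf
    have h2' : 2 ∣ (2 ^ (2 * m + 1)) ^ 2 := dvd_pow (dvd_pow_self 2 (by omega)) two_ne_zero
    omega
  rcases classify h hx1 hnf with ⟨-, σ, hσ⟩ | ⟨-, σ, hσ⟩
  · obtain ⟨a, b, hab⟩ := hσ
    have hsq : uS h a b * uS h a b = uS h (0 : F) 0 := by
      rw [← hab, uS_zero h,
        show σ * x * σ⁻¹ * (σ * x * σ⁻¹) = σ * (x * x) * σ⁻¹ by group, hx]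
      group
    rw [uS_mul h] at hsq
    obtain ⟨-, e2⟩ := uS_inj h hsq
    rw [Cfsg.Lib.Linear.Suz.add_self h, zero_add] at e2
    have ha : a = 0 := by
      rcases mul_eq_zero.1 e2 with e | e
      · exact (th_eq_zero h).1 e
      · exact e
    subst ha
    have hb : b ≠ 0 := by
      rintro rfl
      rw [uS_zero h, mul_inv_eq_one] at hab
      exact hx1 (mul_eq_left.1 hab)
    obtain ⟨l, hl⟩ := mul_th_surjective h b⁻¹
    have hl0 : l ≠ 0 := by
      rintro rfl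
      rw [zero_mul] at hl
      exact inv_ne_zero hb hl.symm
    refine ⟨dS h (Units.mk0 l hl0) * σ, ?_⟩
    calc dS h (Units.mk0 l hl0) * σ * x * (dS h (Units.mk0 l hl0) * σ)⁻¹
        = dS h (Units.mk0 l hl0) * (σ * x * σ⁻¹) * (dS h (Units.mk0 l hl0))⁻¹ := by group
      _ = uS h 0 1 := by
        rw [hab, dS_mul_uS h, mul_inv_cancel_right, Units.val_mk0, mul_zero, hl, inv_mul_cancel₀ hb]
  · exfalso
    obtain ⟨k, hk⟩ := hσ
    have hk2 : k * k = 1 := dS_injective h (by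
      rw [map_mul, hk, map_one, show σ * x * σ⁻¹ * (σ * x * σ⁻¹) = σ * (x * x) * σ⁻¹ by group, hx]
      group)
    have hk1 : k = 1 := by
      have e : ((k : F) + 1) * ((k : F) + 1) = 0 := by
        have := congrArg Units.val hk2
        rw [Units.val_mul, Units.val_one] at this
        linear_combination this + Cfsg.Lib.Linear.Suz.add_self h (k : F) + Cfsg.Lib.Linear.Suz.add_self h (1 : F)
      have e' := mul_self_eq_zero.1 e
      exact Units.ext (by rw [Units.val_one]; linear_combination e' - Cfsg.Lib.Linear.Suz.add_self h (1 : F))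
    rw [hk1, map_one] at hk
    exact hx1 (mul_eq_left.1 (mul_inv_eq_one.1 hk.symm))

theorem sz_real (h : Params F m) {r : ℕ} (hr : r.Prime) (hdvd : r ∣ (2 ^ (2 * m + 1)) ^ 2 + 1)
    (u : ↥(Cfsg.Sz F m)) (hu : u * u = 1) (hu1 : u ≠ 1) :
    ∃ c : ↥(Cfsg.Sz F m), r ∣ orderOf (u * (c⁻¹ * u * c)) := by
  classical
  haveI := Fact.mk hr
  haveI : Fact (Nat.Prime 2) := ⟨Nat.prime_two⟩
  obtain ⟨P⟩ : Nonempty (Sylow r ↥(Cfsg.Sz F m)) := inferInstance
  obtain ⟨y, hy, hyo, -⟩ := sylow_le_torus h hdvd P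
  obtain ⟨hcyc, hT, hodd, -, -⟩ := torus_data h hy
  set T := Subgroup.centralizer ({y} : Set ↥(Cfsg.Sz F m)) with hTdef
  have h4 : Nat.card ↥(Subgroup.normalizer (T : Set ↥(Cfsg.Sz F m))) = 4 * Nat.card ↥T := by
    obtain ⟨x₁, x₂, h1, h2, -, -, n1, n2, hall⟩ := tori h
    have conv : ∀ x, Fpf h x →
        y ∈ conjSet (Subgroup.centralizer ({x} : Set ↥(Cfsg.Sz F m))) →
        Nat.card ↥(Subgroup.normalizer (Subgroup.centralizer ({x} : Set ↥(Cfsg.Sz F m)) : Set ↥(Cfsg.Sz F m))) =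
          4 * Nat.card ↥(Subgroup.centralizer ({x} : Set ↥(Cfsg.Sz F m))) →
        Nat.card ↥(Subgroup.normalizer (T : Set ↥(Cfsg.Sz F m))) = 4 * Nat.card ↥T := by
      intro x hx hmem hn
      obtain ⟨hy1, σ, hσ⟩ := hmem
      have e := ((torus_data h hx).2.1 _ hσ (fun e => hy1 (by rwa [mul_inv_eq_one, mul_eq_left] at e))).2
      rw [← e, conj_centralizer h, ← hTdef] at hn
      rw [← Subgroup.map_equiv_normalizer_eq, Subgroup.card_map_of_injective (MulAut.conj σ).injective,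
        Subgroup.card_map_of_injective (MulAut.conj σ).injective] at hn
      exact hn
    rcases hall y hy with hm | hm
    · exact conv x₁ h1 hm n1
    · exact conv x₂ h2 hm n2
  obtain ⟨⟨w, hwN⟩, hwo⟩ := exists_prime_orderOf_dvd_card' 2
    (G := ↥(Subgroup.normalizer (T : Set ↥(Cfsg.Sz F m)))) (h4 ▸ Dvd.dvd.mul_right (by norm_num) _)
  rw [Subgroup.orderOf_mk] at hwo
  have hw : w * w = 1 := by rw [← pow_two, ← hwo, pow_orderOf_eq_one]
  have hw1 : w ≠ 1 := fun e => by rw [e, orderOf_one] at hwo; omega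
  have hwi : w⁻¹ = w := inv_eq_of_mul_eq_one_right hw
  have hyT : y ∈ T := Subgroup.mem_centralizer_singleton_iff.2 rfl
  have hwT : w ∉ T := fun hmem => by
    have h2 : 2 ∣ (2 ^ (2 * m + 1)) ^ 2 + 1 := (hwo ▸ Subgroup.orderOf_dvd_natCard _ hmem).trans hodd
    have h2' : 2 ∣ (2 ^ (2 * m + 1)) ^ 2 := dvd_pow (dvd_pow_self 2 (by omega)) two_ne_zero
    omega
  have hy' : w * y * w⁻¹ ∈ T := (Subgroup.mem_normalizer_iff.1 hwN y).1 hyT
  have hinv : w * y * w = y⁻¹ := by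
    by_contra hne
    have hmem : y * (w * y * w⁻¹) ∈ T := mul_mem hyT hy'
    have hne1 : y * (w * y * w⁻¹) ≠ 1 := fun e => hne (by rw [← eq_inv_of_mul_eq_one_right e, hwi])
    obtain ⟨-, hC⟩ := hT _ hmem hne1
    refine hwT (hC ▸ Subgroup.mem_centralizer_singleton_iff.2 ?_)
    letI := hcyc.commGroup
    have hcomm : y * (w * y * w⁻¹) = w * y * w⁻¹ * y :=
      congrArg Subtype.val (mul_comm (⟨y, hyT⟩ : ↥T) ⟨_, hy'⟩)
    calc w * (y * (w * y * w⁻¹)) = w * y * w⁻¹ * (w * w * (y * w⁻¹)) := by group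
      _ = w * y * w⁻¹ * (y * w⁻¹) := by rw [hw, one_mul]
      _ = (w * y * w⁻¹ * y) * w := by rw [← mul_assoc, hwi]
      _ = (y * (w * y * w⁻¹)) * w := by rw [hcomm]
  have hr2 : r ≠ 2 := by
    rintro rfl
    have h2' : 2 ∣ (2 ^ (2 * m + 1)) ^ 2 := dvd_pow (dvd_pow_self 2 (by omega)) two_ne_zero
    omega
  obtain ⟨j, hj⟩ := hr.odd_of_ne_two hr2
  obtain ⟨b, hb⟩ : ∃ b, b = y ^ (j + 1) := ⟨_, rfl⟩
  have hbb : b * b = y := by
    rw [hb, ← pow_add, show j + 1 + (j + 1) = r + 1 by omega, pow_succ, ← hyo, pow_orderOf_eq_one, one_mul]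
  have hwb : w * b⁻¹ * w = b := by
    have e : w * b * w = b⁻¹ := by
      calc w * b * w = w * b * w⁻¹ := by rw [hwi]
        _ = MulAut.conj w b := rfl
        _ = (MulAut.conj w y) ^ (j + 1) := by rw [hb, map_pow]
        _ = b⁻¹ := by
          rw [show MulAut.conj w y = w * y * w⁻¹ from rfl, hwi, hinv, inv_pow, ← hb]
    have e' := congrArg (·⁻¹) e
    simpa [mul_inv_rev, hwi, mul_assoc] using e'
  obtain ⟨σ, hσ⟩ := sz_conj_std h hu hu1
  obtain ⟨τ, hτ⟩ := sz_conj_std h hw hw1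
  obtain ⟨g, hg⟩ : ∃ g, g = τ⁻¹ * σ := ⟨_, rfl⟩
  have hgw : u = g⁻¹ * w * g := by
    have e : u = σ⁻¹ * uS h 0 1 * σ := by rw [← hσ]; group
    rw [e, ← hτ, hg]; group
  refine ⟨g⁻¹ * b * g, ?_⟩
  have he : u * ((g⁻¹ * b * g)⁻¹ * u * (g⁻¹ * b * g)) = MulAut.conj g⁻¹ y := by
    rw [MulAut.conj_apply, inv_inv, hgw, ← hbb]
    calc g⁻¹ * w * g * ((g⁻¹ * b * g)⁻¹ * (g⁻¹ * w * g) * (g⁻¹ * b * g))
        = g⁻¹ * ((w * b⁻¹ * w) * b) * g := by group
      _ = g⁻¹ * (b * b) * g := by rw [hwb]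
  rw [he, MulEquiv.orderOf_eq, hyo]

end Cfsg.Lib.Local.ModuleBound
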