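import Cfsg.Prelude.Def_LocalEven
import Cfsg.Agent.Lib.Linear.GLTwo

/-!
Coordinates for a faithful natural `SL₂(F)`-module inside a group, adapted to a Sylow subgroup.
-/

set_option autoImplicit false
set_option linter.style.haveILetI false

namespace Cfsg.Lib.Local

open Matrix Cfsg.Lib.Linear.Two
open scoped MatrixGroups Pointwise commutatorElement

variable {G : Type*} [Group G] {F : Type*} [Field F]

theorem mulVec_two (M : Matrix (Fin 2) (Fin 2) F) (x : Fin 2 → F) :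
    M *ᵥ x = ![M 0 0 * x 0 + M 0 1 * x 1, M 1 0 * x 0 + M 1 1 * x 1] := by
  ext i
  fin_cases i <;> simp [Matrix.mulVec, dotProduct, Fin.sum_univ_two]

theorem mulVec_mul_SL (A B : SL(2, F)) (x : Fin 2 → F) :
    ((A * B : SL(2, F)) : Matrix (Fin 2) (Fin 2) F) *ᵥ x =
      (A : Matrix (Fin 2) (Fin 2) F) *ᵥ ((B : Matrix (Fin 2) (Fin 2) F) *ᵥ x) :=
  (Matrix.mulVec_mulVec _ _ _).symm

theorem mulVec_one_SL (x : Fin 2 → F) :
    ((1 : SL(2, F)) : Matrix (Fin 2) (Fin 2) F) *ᵥ x = x :=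
  Matrix.one_mulVec x

/-- Coordinates on a natural module in which `T` is upper unitriangular. -/
structure NatData (F : Type*) [Field F] (V L T : Subgroup G) where
  /-- the isomorphism with `SL₂` -/
  ρ : L ≃* SL(2, F)
  /-- the vector of a module element -/
  ψ : Additive V ≃+ (Fin 2 → F)
  norm : L ≤ Subgroup.normalizer (V : Set G)
  act : ∀ (l : L) (v : V), ∃ w : V, (w : G) = (l : G) * (v : G) * (l : G)⁻¹ ∧
    ψ (Additive.ofMul w) = (ρ l : Matrix (Fin 2) (Fin 2) F) *ᵥ ψ (Additive.ofMul v)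
  hTL : T ≤ L
  hT : ∀ l : L, (l : G) ∈ T ↔ ρ l ∈ UT F

theorem exists_natData [Finite G] {p : ℕ} [Fact p.Prime] [Fintype F] (n : ℕ)
    (hF : Fintype.card F = p ^ n) {V L : Subgroup G} (hnat : Cfsg.IsNaturalSL2Module F V L)
    (hf : L ⊓ Subgroup.centralizer (V : Set G) = ⊥) (S : Sylow p L) :
    Nonempty (NatData F V L ((S : Subgroup L).map L.subtype)) := by
  classical
  obtain ⟨hLV, ρ₀, ψ₀, hsur, hker, hact⟩ := hnat
  have hinj : Function.Injective ρ₀ := by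
    refine (MonoidHom.ker_eq_bot_iff _).mp ?_
    rw [hker, Subgroup.subgroupOf_eq_bot, disjoint_iff, inf_comm, hf]
  haveI : CharP F p := by
    obtain ⟨q, hq⟩ := CharP.exists F
    haveI := hq
    obtain ⟨k, hqp, hk⟩ := FiniteField.card F q
    have h : q ∣ p ^ n := hF ▸ hk ▸ dvd_pow_self q k.ne_zero
    rwa [(Nat.prime_dvd_prime_iff_eq hqp Fact.out).mp (hqp.dvd_of_dvd_pow h)] at hq
  let e : L ≃* SL(2, F) := MulEquiv.ofBijective ρ₀ ⟨hinj, hsur⟩
  obtain ⟨g, hg⟩ := exists_conj_UT p (S.mapSurjective (f := e.toMonoidHom) e.surjective)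
  have hMg : ∀ x : Fin 2 → F, (g : Matrix (Fin 2) (Fin 2) F) *ᵥ
      (((g⁻¹ : SL(2, F)) : Matrix (Fin 2) (Fin 2) F) *ᵥ x) = x := fun x => by
    exact (mulVec_mul_SL g g⁻¹ x).symm.trans (by rw [mul_inv_cancel]; exact mulVec_one_SL x)
  have hgM : ∀ x : Fin 2 → F, ((g⁻¹ : SL(2, F)) : Matrix (Fin 2) (Fin 2) F) *ᵥ
      ((g : Matrix (Fin 2) (Fin 2) F) *ᵥ x) = x := fun x => by
    exact (mulVec_mul_SL g⁻¹ g x).symm.trans (by rw [inv_mul_cancel]; exact mulVec_one_SL x)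
  let φ : (Fin 2 → F) ≃+ (Fin 2 → F) :=
    { toFun := fun x => ((g⁻¹ : SL(2, F)) : Matrix (Fin 2) (Fin 2) F) *ᵥ x
      invFun := fun x => (g : Matrix (Fin 2) (Fin 2) F) *ᵥ x
      left_inv := hMg
      right_inv := hgM
      map_add' := fun x y => Matrix.mulVec_add _ x y }
  refine ⟨{
    ρ := e.trans (MulAut.conj g⁻¹)
    ψ := ψ₀.trans φ
    norm := hLV
    act := fun l v => ?_
    hTL := Subgroup.map_subtype_le _
    hT := fun l => ?_ }⟩
  · obtain ⟨w, hw, hwe⟩ := hact l v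
    refine ⟨w, hw, ?_⟩
    show ((g⁻¹ : SL(2, F)) : Matrix (Fin 2) (Fin 2) F) *ᵥ ψ₀ (Additive.ofMul w) =
      ((g⁻¹ * e l * g⁻¹⁻¹ : SL(2, F)) : Matrix (Fin 2) (Fin 2) F) *ᵥ
        (((g⁻¹ : SL(2, F)) : Matrix (Fin 2) (Fin 2) F) *ᵥ ψ₀ (Additive.ofMul v))
    refine Eq.trans ?_ (mulVec_mul_SL _ _ _).symm
    refine Eq.trans ?_ (mulVec_mul_SL _ _ _).symm
    rw [hwe, inv_inv, hMg]
    rfl
  · show _ ↔ g⁻¹ * e l * g⁻¹⁻¹ ∈ UT F
    rw [inv_inv]
    have h : e l ∈ (S : Subgroup L).map e.toMonoidHom ↔ g⁻¹ * e l * g ∈ UT F := by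
      rw [show (S : Subgroup L).map e.toMonoidHom = MulAut.conj g • UT F from hg,
        Subgroup.mem_pointwise_smul_iff_inv_smul_mem]
      simp [← map_inv]
    rw [← h]
    exact ⟨fun ⟨x, hx, hxe⟩ => ⟨l, Subtype.ext (a1 := x) hxe ▸ hx, rfl⟩,
      fun ⟨x, hx, hxe⟩ => ⟨x, hx, congrArg Subtype.val (e.injective hxe)⟩⟩

namespace NatData

variable {V L T : Subgroup G} (d : NatData F V L T)

/-- The module element with given vector. -/
def emb (x : Fin 2 → F) : G := ((d.ψ.symm x).toMul : G)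

theorem emb_mem (x : Fin 2 → F) : d.emb x ∈ V := SetLike.coe_mem _

theorem emb_add (x y : Fin 2 → F) : d.emb (x + y) = d.emb x * d.emb y := by
  simp [emb, map_add]

theorem emb_zero : d.emb 0 = 1 := by simp [emb]

theorem emb_neg (x : Fin 2 → F) : d.emb (-x) = (d.emb x)⁻¹ := by
  simp [emb, map_neg]

theorem emb_sub (x y : Fin 2 → F) : d.emb (x - y) = d.emb x * (d.emb y)⁻¹ := by
  rw [sub_eq_add_neg, d.emb_add, d.emb_neg]

theorem emb_injective : Function.Injective d.emb := fun x y h =>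
  d.ψ.symm.injective (Additive.toMul.injective (Subtype.ext h))

theorem exists_emb {v : G} (hv : v ∈ V) : ∃ x, d.emb x = v :=
  ⟨d.ψ (Additive.ofMul ⟨v, hv⟩), by simp [emb]⟩

theorem conj_emb (l : L) (x : Fin 2 → F) :
    (l : G) * d.emb x * (l : G)⁻¹ = d.emb ((d.ρ l : Matrix (Fin 2) (Fin 2) F) *ᵥ x) := by
  obtain ⟨w, hw, hwe⟩ := d.act l ((d.ψ.symm x).toMul)
  rw [ofMul_toMul, AddEquiv.apply_symm_apply] at hwe
  rw [← hwe]
  show (l : G) * ((d.ψ.symm x).toMul : G) * (l : G)⁻¹ = _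
  rw [← hw]
  simp [emb]

theorem commutator_emb (l : L) (x : Fin 2 → F) :
    d.emb x * (l : G) * (d.emb x)⁻¹ * (l : G)⁻¹ =
      d.emb (x - (d.ρ l : Matrix (Fin 2) (Fin 2) F) *ᵥ x) := by
  rw [d.emb_sub, ← d.conj_emb]
  group

theorem comm_emb_iff (l : L) (x : Fin 2 → F) :
    (l : G) * d.emb x = d.emb x * l ↔ (d.ρ l : Matrix (Fin 2) (Fin 2) F) *ᵥ x = x := by
  rw [← d.emb_injective.eq_iff, ← d.conj_emb, mul_inv_eq_iff_eq_mul]

/-- The element of `T` with parameter `a`. -/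
def elt (a : F) : L := d.ρ.symm (ut (Multiplicative.ofAdd a))

theorem elt_mem (a : F) : (d.elt a : G) ∈ T :=
  (d.hT _).mpr (by rw [elt, MulEquiv.apply_symm_apply]; exact ⟨_, rfl⟩)

theorem exists_elt {t : G} (ht : t ∈ T) : ∃ a : F, (d.elt a : G) = t := by
  obtain ⟨a, ha⟩ := (d.hT ⟨t, d.hTL ht⟩).mp ht
  exact ⟨a.toAdd, by rw [elt, ofAdd_toAdd, ha, MulEquiv.symm_apply_apply]⟩

theorem elt_zero : d.elt (0 : F) = 1 := by simp [elt]

theorem elt_mulVec (a : F) (x : Fin 2 → F) :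
    (d.ρ (d.elt a) : Matrix (Fin 2) (Fin 2) F) *ᵥ x = ![x 0 + a * x 1, x 1] := by
  rw [elt, MulEquiv.apply_symm_apply, mulVec_two, ut_coe]
  simp

theorem commutator_elt (a : F) (x : Fin 2 → F) :
    d.emb x * (d.elt a : G) * (d.emb x)⁻¹ * (d.elt a : G)⁻¹ = d.emb ![-(a * x 1), 0] := by
  rw [d.commutator_emb, d.elt_mulVec]
  congr 1
  ext i
  fin_cases i <;> simp

theorem comm_elt_iff {a : F} (x : Fin 2 → F) :
    (d.elt a : G) * d.emb x = d.emb x * d.elt a ↔ a * x 1 = 0 := by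
  rw [d.comm_emb_iff, d.elt_mulVec]
  constructor
  · intro h
    simpa using congrFun h 0
  · intro h
    ext i
    fin_cases i <;> simp [h]

theorem mem_fixed {x : Fin 2 → F} :
    d.emb x ∈ V ⊓ Subgroup.centralizer (T : Set G) ↔ x 1 = 0 := by
  refine ⟨fun h => ?_, fun h => ⟨d.emb_mem x, Subgroup.mem_centralizer_iff.mpr fun t ht => ?_⟩⟩
  · simpa using (d.comm_elt_iff x).mp (Subgroup.mem_centralizer_iff.mp h.2 _ (d.elt_mem 1))
  · obtain ⟨a, rfl⟩ := d.exists_elt ht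
    exact (d.comm_elt_iff x).mpr (by rw [h, mul_zero])

theorem exists_fixed {v : G} (hv : v ∈ V ⊓ Subgroup.centralizer (T : Set G)) :
    ∃ c : F, d.emb ![c, 0] = v := by
  obtain ⟨x, rfl⟩ := d.exists_emb hv.1
  refine ⟨x 0, congrArg d.emb ?_⟩
  ext i
  fin_cases i <;> simp [d.mem_fixed.mp hv]

theorem fixed_mem (c : F) : d.emb ![c, 0] ∈ V ⊓ Subgroup.centralizer (T : Set G) :=
  d.mem_fixed.mpr rfl

theorem inv_low {g : SL(2, F)} (h : g 1 0 = 0) : (g⁻¹ : SL(2, F)) 1 0 = 0 := by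
  simp [SpecialLinearGroup.coe_inv, Matrix.adjugate_fin_two, h]

theorem conj_low {g u : SL(2, F)} (hg : g 1 0 = 0) (hu : u ∈ UT F) : g * u * g⁻¹ ∈ UT F := by
  obtain ⟨h0, h1, h2⟩ := mem_UT.mp hu
  have hd : g 0 0 * g 1 1 = 1 := by
    have := g.2
    rw [det_fin_two] at this
    linear_combination this + g 0 1 * hg
  refine mem_UT.mpr ⟨?_, ?_, ?_⟩ <;>
    simp [SpecialLinearGroup.coe_mul, SpecialLinearGroup.coe_inv, Matrix.adjugate_fin_two,
      Matrix.mul_apply, Fin.sum_univ_two, hg, h0, h1, h2] <;> linear_combination hd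

theorem mem_normalizer_of_low {l : L} (h : (d.ρ l) 1 0 = 0) :
    (l : G) ∈ Subgroup.normalizer (T : Set G) := by
  refine Subgroup.mem_normalizer_iff.mpr fun t => ⟨fun ht => ?_, fun ht => ?_⟩
  · obtain ⟨a, rfl⟩ := d.exists_elt ht
    rw [← Subgroup.coe_inv, ← Subgroup.coe_mul, ← Subgroup.coe_mul, d.hT, map_mul, map_mul,
      map_inv]
    exact conj_low h ((d.hT _).mp ht)
  · obtain ⟨a, ha⟩ := d.exists_elt ht
    have e : t = ((l⁻¹ * d.elt a * l : L) : G) := by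
      push_cast [ha]
      group
    rw [e, d.hT, map_mul, map_mul, map_inv]
    have := conj_low (inv_low h) ((d.hT _).mp (d.elt_mem a))
    rwa [inv_inv] at this

end NatData

end Cfsg.Lib.Local
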