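import Cfsg.Agent.Lib.Local.SL2Involved
import Cfsg.Agent.Lib.Core.Cores

/-!
Irreducible faithful modules of groups whose Sylow `2`-subgroups are dihedral or abelian admit no
quadratic action in odd characteristic.
-/

set_option autoImplicit false
set_option linter.style.haveILetI false

universe u

namespace Cfsg.Lib.Local.NoQuadratic

open Subgroup Cfsg Cfsg.Lib.FusionSys Matrix
open scoped MatrixGroups

variable {p : ℕ} [hp : Fact p.Prime]

/-- Two non-commuting elements of a `2`-subgroup of `SL₂(p)` whose squares are not `1`. -/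
theorem exists_pair (h2 : p ≠ 2) : ∃ (D : Subgroup SL(2, ZMod p)) (i j : SL(2, ZMod p)),
    IsPGroup 2 D ∧ i ∈ D ∧ j ∈ D ∧ i * i ≠ 1 ∧ j * j ≠ 1 ∧ i * j ≠ j * i := by
  obtain ⟨a, b, hab⟩ := ZMod.sq_add_sq p (-1)
  let i : SL(2, ZMod p) := ⟨!![0, 1; -1, 0], by simp⟩
  let j : SL(2, ZMod p) := ⟨!![a, b; b, -a], by rw [det_fin_two_of]; linear_combination -(1 : ZMod p) * hab⟩
  have hi : (i : Matrix (Fin 2) (Fin 2) (ZMod p)) = !![0, 1; -1, 0] := rfl
  have hj : (j : Matrix (Fin 2) (Fin 2) (ZMod p)) = !![a, b; b, -a] := rfl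
  have h20 : (2 : ZMod p) ≠ 0 := by
    intro h0
    have h0' : ((2 : ℕ) : ZMod p) = 0 := by exact_mod_cast h0
    exact h2 ((Nat.prime_dvd_prime_iff_eq hp.out Nat.prime_two).1 ((ZMod.natCast_eq_zero_iff _ _).1 h0'))
  have hne : (-1 : SL(2, ZMod p)) ≠ 1 := fun e => by
    have h1 := congrFun (congrFun (congrArg
      (fun X : SL(2, ZMod p) => (X : Matrix (Fin 2) (Fin 2) (ZMod p))) e) 0) 0
    simp at h1
    exact h20 (by linear_combination -h1)
  have hi4 : i ^ 2 = -1 := by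
    apply Subtype.ext
    show (i : Matrix (Fin 2) (Fin 2) (ZMod p)) ^ 2 = _
    rw [hi, QdInvolved.coeM_neg_one]
    ext r s
    fin_cases r <;> fin_cases s <;> simp [sq, Matrix.mul_apply, Fin.sum_univ_two]
  have hj4 : j ^ 2 = -1 := by
    apply Subtype.ext
    show (j : Matrix (Fin 2) (Fin 2) (ZMod p)) ^ 2 = _
    rw [hj, QdInvolved.coeM_neg_one]
    ext r s
    fin_cases r <;> fin_cases s <;>
      simp [sq, Matrix.mul_apply, Fin.sum_univ_two] <;>
      first
        | linear_combination (0 : ZMod p) * hab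
        | linear_combination hab
        | linear_combination -(1 : ZMod p) * hab
  have hji : j * i = i⁻¹ * j := by
    rw [eq_inv_mul_iff_mul_eq]
    apply Subtype.ext
    show (i : Matrix (Fin 2) (Fin 2) (ZMod p)) * ((j : Matrix (Fin 2) (Fin 2) (ZMod p)) * i) = j
    rw [hi, hj]
    ext r s
    fin_cases r <;> fin_cases s <;> simp [Matrix.mul_apply, Fin.sum_univ_two]
  have h4 : ∀ x : SL(2, ZMod p), x ^ 2 = -1 → IsPGroup 2 (zpowers x) := fun x hx => by
    have hx4 : x ^ 2 ^ 2 = 1 := by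
      rw [show (2 : ℕ) ^ 2 = 2 * 2 from rfl, pow_mul, hx]
      simp
    rintro ⟨y, m, rfl⟩
    refine ⟨2, Subtype.ext ?_⟩
    show (x ^ m) ^ 2 ^ 2 = 1
    rw [← zpow_natCast, ← _root_.zpow_mul, mul_comm, _root_.zpow_mul, zpow_natCast, hx4,
      _root_.one_zpow]
  have hN : zpowers j ≤ normalizer (zpowers i : Set SL(2, ZMod p)) := by
    rw [zpowers_le]
    refine mem_normalizer_fintype fun x hx => ?_
    obtain ⟨m, rfl⟩ := mem_zpowers_iff.1 hx
    show j * i ^ m * j⁻¹ ∈ zpowers i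
    rw [← conj_zpow, hji, mul_inv_cancel_right]
    exact zpow_mem (inv_mem (mem_zpowers i)) m
  refine ⟨zpowers j ⊔ zpowers i, i, j,
    IsPGroup.to_sup_of_normal_right' (h4 j hj4) (h4 i hi4) hN, mem_sup_right (mem_zpowers i),
    mem_sup_left (mem_zpowers j), by rw [← sq, hi4]; exact hne, by rw [← sq, hj4]; exact hne, fun h => ?_⟩
  rw [hji] at h
  have h' : i = i⁻¹ := mul_right_cancel h
  exact hne (by rw [← hi4, sq]; nth_rewrite 1 [h']; exact inv_mul_cancel i)

variable {G : Type u} [Group G] [Finite G]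

/-- No `SL₂(p)` section when each Sylow `2`-subgroup has an abelian subgroup containing every element
of order greater than two. -/
theorem not_involves_SL2 (h2 : p ≠ 2)
    (hG : ∀ T : Sylow 2 G, ∃ C : Subgroup G, IsMulCommutative C ∧ ∀ x ∈ T, x * x ≠ 1 → x ∈ C) :
    ¬ Involves SL(2, ZMod p) G := by
  intro hinv
  obtain ⟨D, i, j, hD, hiD, hjD, hi1, hj1, hij⟩ := exists_pair (p := p) h2
  obtain ⟨K, f, hf⟩ := involves_iff_exists_hom.1 hinv
  haveI : Fact (Nat.Prime 2) := ⟨Nat.prime_two⟩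
  obtain ⟨T₀⟩ : Nonempty (Sylow 2 K) := inferInstance
  obtain ⟨P, hP⟩ := hD.exists_le_sylow
  obtain ⟨g, hg⟩ := MulAction.exists_smul_eq SL(2, ZMod p) (T₀.mapSurjective hf) P
  obtain ⟨T, hT⟩ := (T₀.isPGroup'.map K.subtype).exists_le_sylow
  obtain ⟨C, hC, hTC⟩ := hG T
  have hmem : ∀ c ∈ D, c * c ≠ 1 → ∃ t : K, (t : G) ∈ C ∧ g * f t * g⁻¹ = c := fun c hc hc1 => by
    obtain ⟨_, ⟨t, ht, rfl⟩, hte⟩ := hg.symm.le (hP hc)
    refine ⟨t, hTC _ (hT ⟨t, ht, rfl⟩) fun h1 => hc1 ?_, hte⟩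
    have h1' : t * t = 1 := Subtype.ext h1
    rw [← hte]
    show g * f t * g⁻¹ * (g * f t * g⁻¹) = 1
    rw [show g * f t * g⁻¹ * (g * f t * g⁻¹) = g * (f t * f t) * g⁻¹ by group, ← map_mul, h1', map_one]
    group
  obtain ⟨s, hs, hse⟩ := hmem i hiD hi1
  obtain ⟨t, ht, hte⟩ := hmem j hjD hj1
  have hc : s * t = t * s := Subtype.ext (congrArg Subtype.val (hC.is_comm.comm ⟨_, hs⟩ ⟨_, ht⟩) :)
  refine hij ?_
  rw [← hse, ← hte]
  calc g * f s * g⁻¹ * (g * f t * g⁻¹) = g * f (s * t) * g⁻¹ := by rw [map_mul]; group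
    _ = g * f (t * s) * g⁻¹ := by rw [hc]
    _ = _ := by rw [map_mul]; group

/-- Transport of the hypothesis of `not_involves_SL2` along an isomorphism. -/
theorem not_involves_SL2_of_equiv {P : Type*} [Group P] [Finite P] (e : G ≃* P) (h2 : p ≠ 2)
    (hP : ∀ T : Sylow 2 P, ∃ C : Subgroup P, IsMulCommutative C ∧ ∀ x ∈ T, x * x ≠ 1 → x ∈ C) :
    ¬ Involves SL(2, ZMod p) G := by
  haveI : Fact (Nat.Prime 2) := ⟨Nat.prime_two⟩
  refine not_involves_SL2 h2 fun T => ?_
  obtain ⟨C, hC, hTC⟩ := hP (T.mapSurjective (f := e.toMonoidHom) e.surjective)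
  refine ⟨C.comap e.toMonoidHom, ⟨⟨fun a b => Subtype.ext (e.injective ?_)⟩⟩, fun x hx hx1 => ?_⟩
  · show e (a.1 * b.1) = e (b.1 * a.1)
    rw [map_mul, map_mul]
    exact congrArg Subtype.val (hC.is_comm.comm ⟨_, a.2⟩ ⟨_, b.2⟩)
  · refine hTC (e x) ⟨x, hx, rfl⟩ fun h => hx1 (e.injective ?_)
    rw [map_mul, map_one, h]

/-- A quadratically acting subgroup acts trivially on an irreducible module of a group without
`SL₂(p)` sections. -/
theorem quadratic_trivial (h2 : p ≠ 2) (V H : Subgroup G) (hV : Cfsg.IsElementaryAbelian p V)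
    (hHV : H ≤ normalizer (V : Set G))
    (hirr : ∀ U : Subgroup G, U ≤ V → H ≤ normalizer (U : Set G) → U = ⊥ ∨ U = V)
    [hn : ((centralizer (V : Set G)).subgroupOf H).Normal]
    (hsl : ¬ Involves SL(2, ZMod p) (↥H ⧸ (centralizer (V : Set G)).subgroupOf H))
    (A : Subgroup G) (hA : A ≤ H) (hquad : ⁅⁅V, A⁆, A⁆ = ⊥) : ⁅V, A⁆ = ⊥ := by
  classical
  by_contra hne
  set C₀ := (centralizer (V : Set G)).subgroupOf H with hC₀
  let φ₀ : ↥H →* MulAut ↥V := V.normalizerMonoidHom.comp (Subgroup.inclusion hHV)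
  have happ : ∀ (y : ↥H) (v : ↥V), ((φ₀ y v : ↥V) : G) = y * v * (y : G)⁻¹ := fun y v => rfl
  have hker : φ₀.ker = C₀ := by
    ext y
    rw [MonoidHom.mem_ker, hC₀, mem_subgroupOf, mem_centralizer_iff]
    constructor
    · intro h v hv
      have h' := congrArg (fun σ : MulAut ↥V => ((σ ⟨v, hv⟩ : ↥V) : G)) h
      simp only [happ, MulAut.one_apply] at h'
      exact (mul_inv_eq_iff_eq_mul.1 h').symm
    · intro h
      refine MulEquiv.ext fun v => Subtype.ext ?_
      rw [happ, MulAut.one_apply, ← h v.1 v.2, mul_inv_cancel_right]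
  let φ : (↥H ⧸ C₀) →* MulAut ↥V := QuotientGroup.lift C₀ φ₀ hker.ge
  have hφmk : ∀ y : ↥H, φ (QuotientGroup.mk y) = φ₀ y := fun y => rfl
  have hφinj : Function.Injective φ := by
    rw [← MonoidHom.ker_eq_bot_iff, Subgroup.eq_bot_iff_forall]
    intro y hy
    obtain ⟨y, rfl⟩ := QuotientGroup.mk_surjective y
    rw [MonoidHom.mem_ker, hφmk, ← MonoidHom.mem_ker, hker] at hy
    exact (QuotientGroup.eq_one_iff _).2 hy
  have hVp : IsPGroup p ↥V := fun v => ⟨1, Subtype.ext (by simpa using hV.2 v.1 v.2)⟩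
  haveI := hV.1
  -- the quotient has no normal `p`-subgroup
  have hcore : pCore p (↥H ⧸ C₀) = ⊥ := by
    set P := pCore p (↥H ⧸ C₀) with hP
    have hPp : IsPGroup p ↥P := Cfsg.Lib.Core.pCore_isPGroup p _
    let U : Subgroup G :=
      { carrier := {g | ∃ hg : g ∈ V, ∀ y ∈ P, φ y ⟨g, hg⟩ = ⟨g, hg⟩}
        one_mem' := ⟨one_mem V, fun y _ => map_one (φ y)⟩
        mul_mem' := fun {a b} ⟨ha, ha'⟩ ⟨hb, hb'⟩ => ⟨mul_mem ha hb, fun y hy => by
          rw [show (⟨a * b, mul_mem ha hb⟩ : ↥V) = ⟨a, ha⟩ * ⟨b, hb⟩ from rfl, map_mul, ha' y hy, hb' y hy]⟩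
        inv_mem' := fun {a} ⟨ha, ha'⟩ => ⟨inv_mem ha, fun y hy => by
          rw [show (⟨a⁻¹, inv_mem ha⟩ : ↥V) = (⟨a, ha⟩ : ↥V)⁻¹ from rfl, map_inv, ha' y hy]⟩ }
    have hUV : U ≤ V := fun g hg => hg.1
    have hHU : H ≤ normalizer (U : Set G) := fun x hx => mem_normalizer_fintype fun g hg => by
      obtain ⟨hgV, hg'⟩ := hg
      have hmem : x * g * x⁻¹ ∈ V := (mem_normalizer_iff.1 (hHV hx) g).1 hgV
      refine ⟨hmem, fun y hy => ?_⟩
      have hx' : (⟨x * g * x⁻¹, hmem⟩ : ↥V) = φ (QuotientGroup.mk ⟨x, hx⟩) ⟨g, hgV⟩ := Subtype.ext rfl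
      rw [hx', ← MulAut.mul_apply, ← map_mul]
      have hy' : (QuotientGroup.mk (⟨x, hx⟩ : ↥H))⁻¹ * y * QuotientGroup.mk (⟨x, hx⟩ : ↥H) ∈ P := by
        simpa using (inferInstance : (pCore p (↥H ⧸ C₀)).Normal).conj_mem y hy
          (QuotientGroup.mk (⟨x, hx⟩ : ↥H))⁻¹
      rw [show y * QuotientGroup.mk (⟨x, hx⟩ : ↥H) = QuotientGroup.mk (⟨x, hx⟩ : ↥H) *
        ((QuotientGroup.mk (⟨x, hx⟩ : ↥H))⁻¹ * y * QuotientGroup.mk (⟨x, hx⟩ : ↥H)) by group, map_mul,
        MulAut.mul_apply, hg' _ hy']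
    have hVne : V ≠ ⊥ := fun h => hne (by rw [h, Subgroup.commutator_bot_left])
    letI act : MulAction ↥P ↥V := MulAction.compHom ↥V ((φ.comp P.subtype))
    have hact : ∀ (y : ↥P) (v : ↥V), y • v = φ y.1 v := fun y v => rfl
    have hU0 : U ≠ ⊥ := by
      intro hU
      have hdvd : p ∣ Nat.card ↥V := by
        haveI : Nontrivial ↥V := (nontrivial_iff_ne_bot V).2 hVne
        obtain ⟨k, hk0, hk⟩ := hVp.nontrivial_iff_card.1 inferInstance
        rw [hk]
        exact dvd_pow_self p hk0.ne'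
      obtain ⟨b, hb, hb1⟩ := hPp.exists_fixed_point_of_prime_dvd_card_of_fixed_point ↥V hdvd
        (a := 1) (fun y => by rw [hact, map_one])
      refine hb1 (Subtype.ext (Subgroup.mem_bot.1 (hU.le ⟨b.2, fun y hy => ?_⟩)).symm)
      exact hb ⟨y, hy⟩
    refine (Subgroup.eq_bot_iff_forall _).2 fun y hy => hφinj ?_
    rw [map_one]
    refine MulEquiv.ext fun v => ?_
    rcases hirr U hUV hHU with h | h
    · exact absurd h hU0
    · exact (h.ge v.2).2 y hy
  -- an element acting nontrivially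
  obtain ⟨a, haA, ha⟩ : ∃ a ∈ A, a ∉ centralizer (V : Set G) := by
    by_contra hall
    push Not at hall
    refine hne ?_
    rw [Subgroup.commutator_eq_bot_iff_le_centralizer]
    exact Subgroup.le_centralizer_iff.1 fun x hx => hall x hx
  set x : ↥H ⧸ C₀ := QuotientGroup.mk ⟨a, hA haA⟩ with hxdef
  let G' := ↥V ⋊[φ] (↥H ⧸ C₀)
  haveI : Finite G' := Finite.of_equiv _ SemidirectProduct.equivProd.symm
  set V' : Subgroup G' := (SemidirectProduct.inl : ↥V →* G').range with hV'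
  set H' : Subgroup G' := (SemidirectProduct.inr : (↥H ⧸ C₀) →* G').range with hH'
  have hV'p : IsPGroup p ↥V' := by
    rintro ⟨_, v, rfl⟩
    obtain ⟨k, hk⟩ := hVp v
    exact ⟨k, Subtype.ext (by rw [SubgroupClass.coe_pow, Subgroup.coe_one]; rw [← map_pow, hk, map_one])⟩
  have hV'c : IsMulCommutative ↥V' := ⟨⟨fun u w => Subtype.ext (by
    obtain ⟨_, v, rfl⟩ := u
    obtain ⟨_, v', rfl⟩ := w
    show SemidirectProduct.inl v * SemidirectProduct.inl v' = SemidirectProduct.inl v' * SemidirectProduct.inl v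
    rw [← map_mul, ← map_mul, show v * v' = v' * v from hV.1.is_comm.comm v v'])⟩⟩
  have hconjV : ∀ (g : G') (v : ↥V), ∃ w : ↥V, g * SemidirectProduct.inl v * g⁻¹ = SemidirectProduct.inl w := by
    intro g v
    obtain ⟨a, b, rfl⟩ : ∃ a b, g = SemidirectProduct.inl a * SemidirectProduct.inr b :=
      ⟨_, _, (SemidirectProduct.inl_left_mul_inr_right g).symm⟩
    refine ⟨a * φ b v * a⁻¹, ?_⟩
    rw [map_mul, map_mul, SemidirectProduct.inl_aut, map_inv, map_inv]
    simp only [_root_.mul_inv_rev, mul_assoc]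
  have hH'N : H' ≤ normalizer (V' : Set G') := fun g _ => mem_normalizer_fintype fun y hy => by
    obtain ⟨v, rfl⟩ := hy
    obtain ⟨w, hw⟩ := hconjV g v
    exact ⟨w, hw.symm⟩
  have hf' : H' ⊓ centralizer (V' : Set G') = ⊥ := by
    refine (Subgroup.eq_bot_iff_forall _).2 ?_
    rintro _ ⟨⟨y, rfl⟩, hy⟩
    have hcomm : ∀ v : ↥V, SemidirectProduct.inl v * (SemidirectProduct.inr y : G') =
        SemidirectProduct.inr y * SemidirectProduct.inl v :=
      fun v => Subgroup.mem_centralizer_iff.1 hy _ ⟨v, rfl⟩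
    have hfix : ∀ v : ↥V, φ y v = v := fun v => SemidirectProduct.inl_injective (by
      rw [SemidirectProduct.inl_aut, ← hcomm, map_inv, mul_inv_cancel_right])
    have hy1 : y = 1 := hφinj ((MulEquiv.ext fun v => hfix v).trans φ.map_one.symm)
    rw [hy1, map_one]
  -- the image acts quadratically
  set W : Subgroup G' := (⁅V, A⁆.subgroupOf V).map SemidirectProduct.inl with hW
  have hxW : ⁅V', zpowers (SemidirectProduct.inr x : G')⁆ ≤ W := by
    refine Subgroup.commutator_le.2 ?_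
    rintro _ ⟨v, rfl⟩ w hw
    obtain ⟨k, rfl⟩ := mem_zpowers_iff.1 hw
    refine ⟨v * (φ (x ^ k) v)⁻¹, ?_, ?_⟩
    · show ((v * (φ (x ^ k) v)⁻¹ : ↥V) : G) ∈ ⁅V, A⁆
      rw [hxdef, ← QuotientGroup.mk_zpow, hφmk, Subgroup.coe_mul, Subgroup.coe_inv, happ]
      have h := Subgroup.commutator_mem_commutator v.2 (zpow_mem haA k)
      rw [commutatorElement_def] at h
      simpa [mul_assoc] using h
    · rw [← map_zpow, commutatorElement_def, map_mul, map_inv, SemidirectProduct.inl_aut, map_inv]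
      group
  have hquad' : ⁅⁅V', zpowers (SemidirectProduct.inr x : G')⁆, zpowers (SemidirectProduct.inr x : G')⁆ = ⊥ := by
    refine le_bot_iff.1 (le_trans (Subgroup.commutator_mono hxW le_rfl) (le_of_eq ?_))
    rw [Subgroup.commutator_eq_bot_iff_le_centralizer]
    rintro _ ⟨w, hw, rfl⟩
    rw [Subgroup.mem_centralizer_iff]
    intro u hu
    obtain ⟨k, rfl⟩ := mem_zpowers_iff.1 hu
    have hfix : φ (x ^ k) w = w := by
      rw [hxdef, ← QuotientGroup.mk_zpow, hφmk]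
      refine Subtype.ext ?_
      rw [happ]
      have h := Subgroup.mem_centralizer_iff.1 ((Subgroup.commutator_eq_bot_iff_le_centralizer.1 hquad) hw)
        _ (zpow_mem haA k)
      rw [mul_inv_eq_iff_eq_mul]
      exact h
    rw [← map_zpow]
    calc SemidirectProduct.inr (x ^ k) * SemidirectProduct.inl w
        = SemidirectProduct.inl (φ (x ^ k) w) * SemidirectProduct.inr (x ^ k) := by
          rw [SemidirectProduct.inl_aut, map_inv, inv_mul_cancel_right]
      _ = _ := by rw [hfix]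
  have hx' : (SemidirectProduct.inr x : G') ∉ (pCore p ↥H').map H'.subtype := by
    intro h
    obtain ⟨y, hy, hye⟩ := h
    let e : (↥H ⧸ C₀) ≃* ↥H' := MonoidHom.ofInjective SemidirectProduct.inr_injective
    rw [← Cfsg.Lib.Core.map_pCore_equiv (p := p) e, hcore, Subgroup.map_bot, SetLike.mem_coe,
      Subgroup.mem_bot] at hy
    rw [hy, Subgroup.coe_subtype, Subgroup.coe_one] at hye
    refine ha ?_
    have hx1 : x = 1 := SemidirectProduct.inr_injective (hye.symm.trans (map_one _).symm)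
    exact mem_subgroupOf.1 ((QuotientGroup.eq_one_iff _).1 hx1)
  have hinv := SL2Involved.involves_SL2_of_action h2 V' H' hV'p hV'c hH'N hf' _ ⟨x, rfl⟩ hquad' hx'
  let e : (↥H ⧸ C₀) ≃* ↥H' := MonoidHom.ofInjective SemidirectProduct.inr_injective
  exact hsl (involves_of_injective (f := e.symm.toMonoidHom) e.symm.injective hinv)

end Cfsg.Lib.Local.NoQuadratic
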