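import Cfsg.Agent.S1464
import Cfsg.Agent.Lib.Core.PSolvable
import Cfsg.Agent.Lib.Core.Cores
import Cfsg.Agent.Lib.Coprime.Action

/-!
# Stability consequences in solvable groups of odd order
-/

set_option autoImplicit false
set_option linter.style.haveILetI false

namespace Cfsg.Lib.Local.OddStability

open Subgroup

variable {G : Type*} [Group G] [Finite G] [Group.IsSolvable G] {p : ℕ} [Fact p.Prime]

theorem eq_bot_of_two (hodd : Odd (Nat.card G)) (hp : p = 2) {A : Subgroup G} (hA : IsPGroup p A) :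
    A = ⊥ := by
  obtain ⟨k, hk⟩ := IsPGroup.iff_card.mp hA
  rcases k with _ | k
  · exact eq_bot_of_card_eq _ (by rw [hk, pow_zero])
  · exfalso
    have h2 : 2 ∣ Nat.card G :=
      (dvd_pow_self 2 (Nat.succ_ne_zero k)).trans ((hp ▸ hk) ▸ card_subgroup_dvd_card A)
    exact (Nat.not_even_iff_odd.2 hodd) (even_iff_two_dvd.2 h2)

/-- An element group acting quadratically on a normal `p`-subgroup lies in the core modulo the
centralizer. -/
theorem map_le_pCore (hodd : Odd (Nat.card G)) (hp : p ≠ 2) (P A : Subgroup G) [P.Normal]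
    (hP : IsPGroup p P) (hA : IsPGroup p A) (hq : ⁅⁅P, A⁆, A⁆ = ⊥) :
    A.map (QuotientGroup.mk' (centralizer (P : Set G))) ≤ pCore p (G ⧸ centralizer (P : Set G)) := by
  have hAN : A ≤ normalizer (P : Set G) := by rw [normalizer_eq_top]; exact le_top
  have hs := Cfsg.Agent.S1464.result hodd p hp P A hP inferInstance hA hAN hq
  set N := normalizer (P : Set G)
  set CN := (centralizer (P : Set G)).subgroupOf N
  let φ : N ⧸ CN →* G ⧸ centralizer (P : Set G) :=
    QuotientGroup.map CN (centralizer (P : Set G)) N.subtype le_rfl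
  have hφ : Function.Surjective φ := fun x => by
    obtain ⟨g, rfl⟩ := QuotientGroup.mk_surjective x
    exact ⟨QuotientGroup.mk (⟨g, by rw [show N = ⊤ from normalizer_eq_top_iff.mpr inferInstance]; trivial⟩ : N), rfl⟩
  rintro _ ⟨a, ha, rfl⟩
  exact Cfsg.Lib.Core.map_pCore_le φ hφ
    ⟨_, hs (mem_map_of_mem _ (show (⟨a, hAN ha⟩ : N) ∈ A.subgroupOf N from ha)), rfl⟩

/-- The second step: with trivial `p'`-core, what acts as a `p`-group on a self-centralizing normal
`p`-subgroup is in the `p`-core. -/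
theorem le_pCore_of_image (hO : pPrimeCore p G = ⊥) (P X : Subgroup G) [P.Normal]
    (hC : pCore p G ⊓ centralizer (P : Set G) ≤ P)
    (hX : X.map (QuotientGroup.mk' (centralizer (P : Set G))) ≤ pCore p (G ⧸ centralizer (P : Set G))) :
    X ≤ pCore p G := by
  set C := centralizer (P : Set G) with hCdef
  have hCp : IsPGroup p C := by
    have h1 : (pCore p C).map C.subtype ≤ pCore p G :=
      Cfsg.Lib.Core.le_pCore (N := (pCore p C).map C.subtype) ((Cfsg.Lib.Core.pCore_isPGroup p C).map _)
    have hcent : ∀ y ∈ pCore p C, ∀ c : C, c * y = y * c := fun y hy c => by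
      have hyP : (y : G) ∈ P := hC ⟨h1 (mem_map_of_mem _ hy), y.2⟩
      exact Subtype.ext (mem_centralizer_iff.mp c.2 _ hyP).symm
    have hO' : pPrimeCore p C = ⊥ := by
      have hle : (pPrimeCore p C).map C.subtype ≤ pPrimeCore p G :=
        Cfsg.Lib.Core.le_pPrimeCore' inferInstance (by
          rw [card_map_of_injective C.subtype_injective]
          exact Cfsg.Lib.Core.pPrimeCore_coprime p C)
      rw [hO, le_bot_iff, map_eq_bot_iff_of_injective _ C.subtype_injective] at hle
      exact hle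
    have htop : pCore p C = ⊤ := top_le_iff.mp fun c _ =>
      Cfsg.Lib.Core.centralizer_pCore_le_of_isPSolvable Cfsg.Lib.Core.isPSolvable_of_isSolvable hO'
        (mem_centralizer_iff.mpr fun y hy => (hcent y hy c).symm)
    exact (Cfsg.Lib.Core.pCore_isPGroup p C).of_equiv ((MulEquiv.subgroupCongr htop).trans topEquiv)
  set K := (pCore p (G ⧸ C)).comap (QuotientGroup.mk' C) with hK
  have hKp : IsPGroup p K :=
    (Cfsg.Lib.Core.pCore_isPGroup p (G ⧸ C)).comap_of_ker_isPGroup _ (by
      rw [QuotientGroup.ker_mk']; exact hCp)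
  exact (map_le_iff_le_comap.mp hX).trans (Cfsg.Lib.Core.le_pCore hKp)

theorem quadratic {P B : Subgroup G} (hBc : IsMulCommutative B) (hPB : P ≤ normalizer (B : Set G)) :
    ⁅⁅P, B⁆, B⁆ = ⊥ := by
  have h1 : ⁅P, B⁆ ≤ B := by
    rw [commutator_le]
    intro x hx b hb
    rw [commutatorElement_def]
    exact mul_mem ((mem_normalizer_iff.mp (hPB hx) b).mp hb) (inv_mem hb)
  rw [eq_bot_iff, commutator_le]
  intro x hx b hb
  rw [mem_bot, commutatorElement_eq_one_iff_commute]
  exact congrArg Subtype.val (hBc.is_comm.comm ⟨x, h1 hx⟩ ⟨b, hb⟩)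

theorem le_pCore_of_abelian (hodd : Odd (Nat.card G)) (hp : p ≠ 2) (hO : pPrimeCore p G = ⊥)
    (P : Subgroup G) [P.Normal] (hP : IsPGroup p P) (hC : pCore p G ⊓ centralizer (P : Set G) ≤ P)
    {B : Subgroup G} (hBc : IsMulCommutative B) (hB : IsPGroup p B)
    (hPB : P ≤ normalizer (B : Set G)) : B ≤ pCore p G :=
  le_pCore_of_image hO P B hC (map_le_pCore hodd hp P B hP hB (quadratic hBc hPB))
end Cfsg.Lib.Local.OddStability
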