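import Cfsg.Prelude.Def_OddOrder
import Cfsg.Prelude.Def_OddOrderLocal
import Cfsg.Prelude.Def_CaseTheorems
import Cfsg.Agent.Lib.Local.CNMinimal
import Cfsg.Agent.Lib.Core.Cores
import Cfsg.Agent.Lib.Coprime.Action
import Cfsg.Agent.Lib.Coprime.Generation
import Cfsg.Agent.Lib.Sig.Transitivity

/-!
The transitivity of `O_{π(A)'}(C(A))` on maximal `A`-invariant `q`-subgroups of a minimal simple group
of odd order.
-/

set_option autoImplicit false

namespace Cfsg.Lib.Local.OddTransitivity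

open Subgroup
open scoped commutatorElement

universe u

variable {G : Type u} [Group G] [Finite G] {A : Subgroup G} {π : Set ℕ}

theorem piCoreOf_le (X : Subgroup G) : Cfsg.piCoreOf π X ≤ X := map_subtype_le _

theorem piCoreOf_isPiSub (X : Subgroup G) : Core.IsPiSub π (Cfsg.piCoreOf π X) :=
  (Core.piCore_isPiSub π X).map X.subtype

theorem le_normalizer_piCoreOf (X : Subgroup G) :
    X ≤ normalizer (Cfsg.piCoreOf π X : Set G) := by
  refine Cfsg.Lib.Sig.le_normalizer_of_invariant fun x hx u hu => ?_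
  obtain ⟨v, hv, rfl⟩ := hu
  exact ⟨⟨x, hx⟩ * v * ⟨x, hx⟩⁻¹, (inferInstance : (Cfsg.piCore π X).Normal).conj_mem v hv _, rfl⟩

theorem le_piCoreOf {N X : Subgroup G} (hNX : N ≤ X) (hn : X ≤ normalizer (N : Set G))
    (hN : Core.IsPiSub π N) : N ≤ Cfsg.piCoreOf π X := by
  rw [← map_subgroupOf_eq_of_le hNX]
  refine map_mono (Core.le_piCore' ((normal_subgroupOf_iff_le_normalizer hNX).mpr hn) ?_)
  intro r hr hd
  rw [Nat.card_congr (subgroupOfEquivOfLe hNX).toEquiv] at hd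
  exact hN r hr hd

omit [Finite G] in
theorem coprime_of_isPiSub {Y : Subgroup G} (h : Core.IsPiSub (Cfsg.primesNotDvd (Nat.card A)) Y) :
    (Nat.card A).Coprime (Nat.card Y) :=
  Nat.coprime_of_dvd fun r hr h1 h2 => (h r hr h2).2 h1

theorem le_core_of_inv (hA : Cfsg.TransitivityHypothesis A) {X : Subgroup G} (hX : X ≠ ⊤) (hAX : A ≤ X)
    {Y : Subgroup G} (hY : Y ∈ Cfsg.invSubgroups X A (Cfsg.primesNotDvd (Nat.card A))) :
    Y ≤ Cfsg.piCoreOf (Cfsg.primesNotDvd (Nat.card A)) X :=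
  (le_sSup hY).trans (hA.2.2 X hX hAX).le

theorem normalizer_ne_top_of (hG : Cfsg.IsMinSimpleOddOrder G) {N : Subgroup G} (h1 : N ≠ ⊥)
    (h2 : N ≠ ⊤) : normalizer (N : Set G) ≠ ⊤ := fun e => by
  haveI := normalizer_eq_top_iff.mp e
  exact h2 ((CN.eq_bot_or_top hG N).resolve_left h1)

/-- `π(A)'`-subgroups of `C (A)` lie in `K = O_{π(A)'}(C (A))`. -/
theorem le_K (hG : Cfsg.IsMinSimpleOddOrder G) (hA : Cfsg.TransitivityHypothesis A) {Y : Subgroup G}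
    (hY : Y ≤ centralizer (A : Set G))
    (hπ : Core.IsPiSub (Cfsg.primesNotDvd (Nat.card A)) Y) :
    Y ≤ Cfsg.piCoreOf (Cfsg.primesNotDvd (Nat.card A)) (centralizer (A : Set G)) := by
  set X := A ⊔ centralizer (A : Set G) with hXdef
  have hXN : X ≤ normalizer (A : Set G) := sup_le le_normalizer (centralizer_le_normalizer _)
  have hXtop : X ≠ ⊤ := fun e => normalizer_ne_top_of hG hA.1 hA.2.1 (top_le_iff.mp (e ▸ hXN))
  set O := Cfsg.piCoreOf (Cfsg.primesNotDvd (Nat.card A)) X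
  have h1 : Y ≤ O := le_core_of_inv hA hXtop le_sup_left
    ⟨hY.trans le_sup_right, hπ, (le_centralizer_iff.mp hY).trans (centralizer_le_normalizer _)⟩
  have hOX : O ≤ X := piCoreOf_le X
  have hdisj : A ⊓ O = ⊥ := eq_bot_of_card_eq _ (Nat.eq_one_of_dvd_coprimes
    (coprime_of_isPiSub (piCoreOf_isPiSub X)) (card_dvd_of_le inf_le_left) (card_dvd_of_le inf_le_right))
  have hOC : O ≤ centralizer (A : Set G) := by
    intro o ho
    refine mem_centralizer_iff.mpr fun a ha => ?_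
    have hm : ⁅a, o⁆ ∈ A ⊓ O := by
      refine mem_inf.mpr ⟨?_, ?_⟩
      · rw [show ⁅a, o⁆ = a * (o * a⁻¹ * o⁻¹) by simp [commutatorElement_def, mul_assoc]]
        exact mul_mem ha ((mem_normalizer_iff.mp (hXN (hOX ho)) _).mp (inv_mem ha))
      · rw [show ⁅a, o⁆ = (a * o * a⁻¹) * o⁻¹ by simp [commutatorElement_def, mul_assoc]]
        exact mul_mem ((mem_normalizer_iff.mp (le_normalizer_piCoreOf X (mem_sup_left ha)) _).mp ho)
          (inv_mem ho)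
    rw [hdisj, mem_bot, commutatorElement_eq_one_iff_mul_comm] at hm
    exact hm
  exact h1.trans (le_piCoreOf hOC (le_sup_right.trans (le_normalizer_piCoreOf X)) (piCoreOf_isPiSub X))

theorem exists_max {H : Subgroup G} {U : Subgroup G} (hU : U ∈ Cfsg.invSubgroups H A π) :
    ∃ Q ∈ Cfsg.maxInvSubgroups H A π, U ≤ Q := by
  obtain ⟨Q, hUQ, hQ, hmax⟩ := (Set.toFinite (Cfsg.invSubgroups H A π)).exists_le_maximal hU
  exact ⟨Q, ⟨hQ, fun R hR hQR => le_antisymm (hmax hR hQR) hQR⟩, hUQ⟩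

theorem map_mem_inv {Q : Subgroup G} {k : G} (hk : k ∈ centralizer (A : Set G))
    (hQ : Q ∈ Cfsg.invSubgroups ⊤ A π) :
    Q.map (MulAut.conj k).toMonoidHom ∈ Cfsg.invSubgroups ⊤ A π := by
  refine ⟨le_top, (show Core.IsPiSub π Q from hQ.2.1).map _, ?_⟩
  refine Cfsg.Lib.Sig.le_normalizer_of_invariant fun a ha u hu => ?_
  obtain ⟨v, hv, rfl⟩ := hu
  refine ⟨a * v * a⁻¹, Cfsg.Lib.Sig.invariant_of_le_normalizer hQ.2.2 a ha v hv, ?_⟩
  simp only [MulEquiv.coe_toMonoidHom, MulAut.conj_apply]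
  have hc : k * a = a * k := (mem_centralizer_iff.mp hk a ha).symm
  have hc' : a⁻¹ * k⁻¹ = k⁻¹ * a⁻¹ := by rw [← mul_inv_rev, ← mul_inv_rev, hc]
  calc k * (a * v * a⁻¹) * k⁻¹ = (k * a) * v * (a⁻¹ * k⁻¹) := by group
    _ = (a * k) * v * (k⁻¹ * a⁻¹) := by rw [hc, hc']
    _ = a * (k * v * k⁻¹) * a⁻¹ := by group

theorem map_conj_conj (Q : Subgroup G) (k l : G) :
    (Q.map (MulAut.conj k).toMonoidHom).map (MulAut.conj l).toMonoidHom =
      Q.map (MulAut.conj (l * k)).toMonoidHom := by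
  rw [map_map]
  congr 1
  ext x
  simp [mul_assoc]

theorem map_mem_max {Q : Subgroup G} {k : G} (hk : k ∈ centralizer (A : Set G))
    (hQ : Q ∈ Cfsg.maxInvSubgroups ⊤ A π) :
    Q.map (MulAut.conj k).toMonoidHom ∈ Cfsg.maxInvSubgroups ⊤ A π := by
  refine ⟨map_mem_inv hk hQ.1, fun R hR hle => ?_⟩
  have hback : (R.map (MulAut.conj k⁻¹).toMonoidHom).map (MulAut.conj k).toMonoidHom = R := by
    rw [map_conj_conj, mul_inv_cancel, map_one]
    exact map_id R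
  have hfwd : (Q.map (MulAut.conj k).toMonoidHom).map (MulAut.conj k⁻¹).toMonoidHom = Q := by
    rw [map_conj_conj, inv_mul_cancel, map_one]
    exact map_id Q
  have h := hQ.2 _ (map_mem_inv (inv_mem hk) hR) (hfwd ▸ map_mono hle)
  rw [← hback, h]

theorem isPGroup_of_inv {q : ℕ} (hq : q.Prime) {H Q : Subgroup G}
    (hQ : Q ∈ Cfsg.invSubgroups H A {q}) : IsPGroup q Q := by
  haveI : Fact q.Prime := ⟨hq⟩
  rw [IsPGroup.iff_card]
  exact ⟨_, Nat.eq_prime_pow_of_unique_prime_dvd Nat.card_pos.ne' fun {d} hd hdvd => hQ.2.1 d hd hdvd⟩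

theorem piSub_singleton {q : ℕ} (hq : q.Prime) (hqA : ¬ q ∣ Nat.card A) {H Q : Subgroup G}
    (hQ : Q ∈ Cfsg.invSubgroups H A {q}) : Core.IsPiSub (Cfsg.primesNotDvd (Nat.card A)) Q :=
  fun r hr hd => by
    have : r = q := hQ.2.1 r hr hd
    subst this
    exact ⟨hr, hqA⟩

/-- The relation of being conjugate under `K`. -/
def Rel (A Q₁ Q₂ : Subgroup G) : Prop :=
  ∃ k ∈ Cfsg.piCoreOf (Cfsg.primesNotDvd (Nat.card A)) (centralizer (A : Set G)),
    Q₂ = Q₁.map (MulAut.conj k).toMonoidHom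

theorem Rel.refl (Q : Subgroup G) : Rel A Q Q :=
  ⟨1, one_mem _, by rw [map_one]; exact (map_id Q).symm⟩

theorem Rel.trans {Q₁ Q₂ Q₃ : Subgroup G} (h : Rel A Q₁ Q₂) (h' : Rel A Q₂ Q₃) : Rel A Q₁ Q₃ := by
  obtain ⟨k, hk, rfl⟩ := h
  obtain ⟨l, hl, rfl⟩ := h'
  exact ⟨l * k, mul_mem hl hk, map_conj_conj _ _ _⟩

theorem Rel.symm {Q₁ Q₂ : Subgroup G} (h : Rel A Q₁ Q₂) : Rel A Q₂ Q₁ := by
  obtain ⟨k, hk, rfl⟩ := h
  exact ⟨k⁻¹, inv_mem hk, by rw [map_conj_conj, inv_mul_cancel, map_one]; exact (map_id _).symm⟩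

/-- Two invariant `q`-subgroups of a proper overgroup of `A` lie in `K`-conjugate maximal ones. -/
theorem exists_joint (hG : Cfsg.IsMinSimpleOddOrder G) (hA : Cfsg.TransitivityHypothesis A)
    {q : ℕ} (hq : q.Prime) (hqA : ¬ q ∣ Nat.card A) {X : Subgroup G} (hX : X ≠ ⊤) (hAX : A ≤ X)
    {U₁ U₂ : Subgroup G} (h₁ : U₁ ∈ Cfsg.invSubgroups X A {q}) (h₂ : U₂ ∈ Cfsg.invSubgroups X A {q}) :
    ∃ Q ∈ Cfsg.maxInvSubgroups ⊤ A {q}, U₁ ≤ Q ∧
      ∃ k ∈ Cfsg.piCoreOf (Cfsg.primesNotDvd (Nat.card A)) (centralizer (A : Set G)),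
        U₂ ≤ Q.map (MulAut.conj k).toMonoidHom := by
  haveI : Fact q.Prime := ⟨hq⟩
  set O := Cfsg.piCoreOf (Cfsg.primesNotDvd (Nat.card A)) X
  have hOX : O ≤ X := piCoreOf_le X
  have hsol : Group.IsSolvable A ∨ Group.IsSolvable O :=
    Or.inr (Core.isSolvable_of_le hOX (hG.2.2.2 X hX))
  have hAO : A ≤ normalizer (O : Set G) := hAX.trans (le_normalizer_piCoreOf X)
  have hcop : (Nat.card A).Coprime (Nat.card O) := coprime_of_isPiSub (piCoreOf_isPiSub X)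
  have hU : ∀ U ∈ Cfsg.invSubgroups X A {q}, U ≤ O := fun U hU =>
    le_core_of_inv hA hX hAX ⟨hU.1, piSub_singleton hq hqA hU, hU.2.2⟩
  obtain ⟨S₁, hS₁, hS₁A⟩ := Cfsg.Lib.Coprime.exists_invariant_sylow_ge hAO hcop hsol (hU _ h₁)
    (isPGroup_of_inv hq h₁) h₁.2.2
  obtain ⟨S₂, hS₂, hS₂A⟩ := Cfsg.Lib.Coprime.exists_invariant_sylow_ge hAO hcop hsol (hU _ h₂)
    (isPGroup_of_inv hq h₂) h₂.2.2
  obtain ⟨c, hc, hcS⟩ := Cfsg.Lib.Coprime.exists_centralizer_conj_sylow hAO hcop hsol S₁ S₂ hS₁A hS₂A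
  have hSinv : (S₁ : Subgroup O).map O.subtype ∈ Cfsg.invSubgroups ⊤ A {q} := by
    refine ⟨le_top, fun r hr hd => ?_, hS₁A⟩
    obtain ⟨i, hi⟩ := IsPGroup.iff_card.mp (S₁.isPGroup'.map O.subtype)
    rw [hi] at hd
    exact (Nat.prime_dvd_prime_iff_eq hr hq).mp (hr.dvd_of_dvd_pow hd)
  obtain ⟨Q, hQ, hSQ⟩ := exists_max hSinv
  refine ⟨Q, hQ, hS₁.trans hSQ, c, ?_, hS₂.trans (hcS.le.trans (map_mono hSQ))⟩
  exact le_K hG hA inf_le_right ((piCoreOf_isPiSub X).mono inf_le_left) hc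

theorem exists_gt_inf_normalizer {q : ℕ} [Fact q.Prime] {Q R : Subgroup G} (hQ : IsPGroup q Q)
    (h : R < Q) : R < Q ⊓ normalizer (R : Set G) := by
  refine lt_of_le_of_ne (le_inf h.le le_normalizer) fun e => ?_
  haveI : Group.IsNilpotent Q := hQ.isNilpotent
  have hlt : R.subgroupOf Q < ⊤ := lt_top_iff_ne_top.mpr fun e' =>
    h.not_ge (subgroupOf_eq_top.mp e')
  obtain ⟨w, hwn, hw⟩ := Set.exists_of_ssubset (Group.normalizerCondition_of_isNilpotent _ hlt)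
  refine hw ?_
  show (w : G) ∈ R
  rw [e]
  refine ⟨w.2, mem_normalizer_iff.mpr fun r => ⟨fun hr => ?_, fun hr => ?_⟩⟩
  · exact (mem_normalizer_iff.mp hwn ⟨r, h.le hr⟩).mp hr
  · have hrQ : r ∈ Q := by
      have := mul_mem (mul_mem (inv_mem w.2) (h.le hr)) w.2
      simpa [mul_assoc] using this
    exact (mem_normalizer_iff.mp hwn ⟨r, hrQ⟩).mpr hr

/-- Two maximal invariant `q`-subgroups meeting a proper overgroup of `A` are `K`-conjugate. -/
theorem rel_of_meet (hG : Cfsg.IsMinSimpleOddOrder G) (hA : Cfsg.TransitivityHypothesis A)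
    {q : ℕ} (hq : q.Prime) (hqA : ¬ q ∣ Nat.card A) :
    ∀ (n : ℕ) (Q₁ Q₂ H : Subgroup G), Nat.card G - Nat.card (Q₁ ⊓ Q₂ : Subgroup G) < n →
      Q₁ ∈ Cfsg.maxInvSubgroups ⊤ A {q} → Q₂ ∈ Cfsg.maxInvSubgroups ⊤ A {q} →
      H ≠ ⊤ → A ≤ H → H ⊓ Q₁ ≠ ⊥ → H ⊓ Q₂ ≠ ⊥ → Rel A Q₁ Q₂ := by
  haveI : Fact q.Prime := ⟨hq⟩
  intro n
  induction n with
  | zero => intro _ _ _ h; exact absurd h (Nat.not_lt_zero _)
  | succ n IH =>
    intro Q₁ Q₂ H hn h₁ h₂ hH hAH hm₁ hm₂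
    set R := Q₁ ⊓ Q₂ with hRdef
    by_cases hR₁ : R = Q₁
    · rw [h₁.2 Q₂ h₂.1 (hR₁ ▸ inf_le_right)]; exact Rel.refl _
    by_cases hR₂ : R = Q₂
    · rw [← h₂.2 Q₁ h₁.1 (hR₂ ▸ inf_le_left)]; exact Rel.refl _
    have hRA : A ≤ normalizer (R : Set G) :=
      (le_inf h₁.1.2.2 h₂.1.2.2).trans inf_normalizer_le_normalizer_inf
    -- a proper overgroup meeting both in more than the intersection
    obtain ⟨X, hX, hAX, hX₁, hX₂⟩ : ∃ X : Subgroup G, X ≠ ⊤ ∧ A ≤ X ∧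
        Nat.card R < Nat.card (X ⊓ Q₁ : Subgroup G) ∧ Nat.card R < Nat.card (X ⊓ Q₂ : Subgroup G) := by
      by_cases hR : R = ⊥
      · refine ⟨H, hH, hAH, ?_, ?_⟩ <;>
          (rw [hR, card_bot]; exact one_lt_card_iff_ne_bot _ |>.mpr (by assumption))
      · have hRp : IsPGroup q R := (isPGroup_of_inv hq h₁.1).to_le inf_le_left
        refine ⟨normalizer (R : Set G), CN.normalizer_ne_top hG hR
          (CN.isSolvable_of_nilpotent hRp.isNilpotent), hRA, ?_, ?_⟩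
        · have hlt := exists_gt_inf_normalizer (isPGroup_of_inv hq h₁.1)
            (lt_of_le_of_ne (inf_le_left : R ≤ Q₁) hR₁)
          rw [inf_comm (normalizer (R : Set G))]
          exact lt_of_le_of_ne (card_le_of_le hlt.le) fun e => hlt.ne (eq_of_le_of_card_ge hlt.le e.ge)
        · have hlt := exists_gt_inf_normalizer (isPGroup_of_inv hq h₂.1)
            (lt_of_le_of_ne (inf_le_right : R ≤ Q₂) hR₂)
          rw [inf_comm (normalizer (R : Set G))]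
          exact lt_of_le_of_ne (card_le_of_le hlt.le) fun e => hlt.ne (eq_of_le_of_card_ge hlt.le e.ge)
    have hinv : ∀ Q, Q ∈ Cfsg.maxInvSubgroups ⊤ A {q} → X ⊓ Q ∈ Cfsg.invSubgroups X A {q} := fun Q hQ =>
      ⟨inf_le_left, fun r hr hd => hQ.1.2.1 r hr (hd.trans (card_dvd_of_le inf_le_right)),
        (le_inf (hAX.trans le_normalizer) hQ.1.2.2).trans inf_normalizer_le_normalizer_inf⟩
    obtain ⟨Q, hQ, hUQ, k, hk, hUk⟩ := exists_joint hG hA hq hqA hX hAX (hinv _ h₁) (hinv _ h₂)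
    have hkC := piCoreOf_le _ hk
    have hQk := map_mem_max hkC hQ
    have hne₁ : X ⊓ Q₁ ≠ ⊥ := fun e => by
      rw [e, card_bot] at hX₁
      exact absurd hX₁ (not_lt.mpr Nat.card_pos)
    have hne₂ : X ⊓ Q₂ ≠ ⊥ := fun e => by
      rw [e, card_bot] at hX₂
      exact absurd hX₂ (not_lt.mpr Nat.card_pos)
    have hGle : ∀ S : Subgroup G, Nat.card S ≤ Nat.card G := fun S => S.card_le_card_group
    have r₁ : Rel A Q₁ Q := by
      refine IH Q₁ Q X ?_ h₁ hQ hX hAX hne₁ (ne_bot_of_le_ne_bot hne₁ (le_inf inf_le_left hUQ))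
      have := card_le_of_le (le_inf inf_le_right hUQ : X ⊓ Q₁ ≤ Q₁ ⊓ Q)
      have := hGle (Q₁ ⊓ Q)
      omega
    have r₂ : Rel A (Q.map (MulAut.conj k).toMonoidHom) Q₂ := by
      refine IH _ Q₂ X ?_ hQk h₂ hX hAX (ne_bot_of_le_ne_bot hne₂ (le_inf inf_le_left hUk)) hne₂
      have := card_le_of_le (le_inf hUk inf_le_right : X ⊓ Q₂ ≤ Q.map (MulAut.conj k).toMonoidHom ⊓ Q₂)
      have := hGle (Q.map (MulAut.conj k).toMonoidHom ⊓ Q₂)
      omega
    exact (r₁.trans ⟨k, hk, rfl⟩).trans r₂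

/-- An elementary abelian `r`-subgroup from a rank lower bound. -/
theorem exists_elementary {H : Subgroup G} {k : ℕ} (h : ¬ Cfsg.RankLE k H) :
    ∃ r : ℕ, r.Prime ∧ ∃ E : Subgroup G, E ≤ H ∧ Cfsg.IsElementaryAbelian r E ∧
      r ^ (k + 1) ≤ Nat.card E := by
  simp only [Cfsg.RankLE, Cfsg.PRankLE, not_forall, not_le] at h
  obtain ⟨r, hr, E, hEc, hEp, hcard⟩ := h
  haveI : Fact r.Prime := ⟨hr⟩
  refine ⟨r, hr, E.map H.subtype, map_subtype_le _, ⟨inferInstance, ?_⟩, ?_⟩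
  · rintro _ ⟨e, he, rfl⟩
    rw [← map_pow, hEp e he, map_one]
  · rw [card_map_of_injective H.subtype_injective]
    have hE : IsPGroup r E := fun a => ⟨1, Subtype.ext (by simpa using hEp a a.2)⟩
    obtain ⟨i, hi⟩ := IsPGroup.iff_card.mp hE
    rw [hi] at hcard ⊢
    exact Nat.pow_le_pow_right hr.pos ((Nat.pow_lt_pow_iff_right hr.one_lt).mp hcard)

/-- The centralizer of a nontrivial element is proper. -/
theorem centralizer_ne_top (hG : Cfsg.IsMinSimpleOddOrder G) {e : G} (he : e ≠ 1) :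
    centralizer ({e} : Set G) ≠ ⊤ := fun h => by
  haveI : (zpowers e).Normal := ⟨fun x hx g => by
    obtain ⟨i, rfl⟩ := mem_zpowers_iff.mp hx
    have hc : Commute g e := mem_centralizer_singleton_iff.mp (h ▸ mem_top g)
    rw [(hc.zpow_right i).eq, mul_inv_cancel_right]
    exact zpow_mem (mem_zpowers e) i⟩
  rcases CN.eq_bot_or_top hG (zpowers e) with h1 | h1
  · exact he (zpowers_eq_bot.mp h1)
  · exact CN.ne_top_of_isSolvable hG
      (Group.isSolvable_of_comm (G := zpowers e) fun a b => mul_comm' a b) h1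

end Cfsg.Lib.Local.OddTransitivity
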