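import Cfsg.Agent.Lib.Local.TimmesfeldReplacement
import Cfsg.Agent.Lib.Local.Sylow
import Cfsg.Agent.Lib.PGroup.Basic
import Cfsg.Agent.Lib.Core.Basic

/-!
# A strict minimal offender generating with each conjugate outside a maximal subgroup

`A ≤ T ≤ M < P` act faithfully on the elementary abelian `V`, `|V/C_V(A)| ≤ |A|`, no nontrivial proper
subgroup of `A` does as well, some vector fixed by `A` and `R` is moved by `P` and `P = ⟨A, A^x⟩` for every `x ∈ P \ M`.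
Then `|C_V(A)/C_V(P)| = |A| = |V/C_V(A)|`, `V = C_V(A) C_V(A^x)`, every nontrivial element of `A` maps
`C_V(A^x)/C_V(P)` onto `C_V(A)/C_V(P)`, `M` stabilizes `C_V(A)`, and `P` has no nontrivial normal
`p`-subgroup.
-/

set_option autoImplicit false
set_option linter.style.haveILetI false

namespace Cfsg.Lib.Local.OffenderPair

open Subgroup
open scoped commutatorElement Pointwise

variable {G : Type*} [Group G] {p : ℕ}

local notation:max "cj" g:max K:max => Subgroup.map (MulEquiv.toMonoidHom (MulAut.conj g)) K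

/-- The fixed space. -/
abbrev fx (V A : Subgroup G) : Subgroup G := V ⊓ centralizer (A : Set G)

/-- The hypotheses. `R` is the intersection of `T` with the core of `M`. -/
structure Data (p : ℕ) (V P A M T R : Subgroup G) : Prop where
  hV : Cfsg.IsElementaryAbelian p V
  hPV : P ≤ normalizer (V : Set G)
  hfaith : P ⊓ centralizer (V : Set G) = ⊥
  hMP : M < P
  hTM : T ≤ M
  hAT : A ≤ T
  hA : Cfsg.IsElementaryAbelian p A
  hbound : Nat.card ↥V ≤ Nat.card ↥A * Nat.card ↥(fx V A)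
  hstrict : ∀ A₀ : Subgroup G, A₀ ≤ A → A₀ ≠ ⊥ → A₀ ≠ A →
    Nat.card ↥A₀ * Nat.card ↥(fx V A₀) < Nat.card ↥A * Nat.card ↥(fx V A)
  hfix : ∃ v₀ ∈ fx V A, v₀ ∈ centralizer (R : Set G) ∧ v₀ ∉ fx V P
  hgen : ∀ x ∈ P, x ∉ M → A ⊔ cj x A = P
  hRT : R ≤ T
  hRN : P ≤ normalizer (R : Set G)
  hR : ∀ a ∈ T, (∀ y ∈ P, y ∉ M → y⁻¹ * a * y ∈ M) → a ∈ R

variable {V P A M T R : Subgroup G}

/-- A minimal offender with strict minimality acts quadratically (Timmesfeld). -/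
theorem quadratic_of [Finite G] [Fact p.Prime] (hV : Cfsg.IsElementaryAbelian p V)
    (hAV : A ≤ normalizer (V : Set G)) (hfA : A ⊓ centralizer (V : Set G) = ⊥)
    (hA : Cfsg.IsElementaryAbelian p A) (hA0 : A ≠ ⊥)
    (hbound : Nat.card ↥V ≤ Nat.card ↥A * Nat.card ↥(fx V A))
    (hstrict : ∀ A₀ : Subgroup G, A₀ ≤ A → A₀ ≠ ⊥ → A₀ ≠ A →
      Nat.card ↥A₀ * Nat.card ↥(fx V A₀) < Nat.card ↥A * Nat.card ↥(fx V A))
    {v a : G} (hv : v ∈ V) (ha : a ∈ A) : ⁅v, a⁆ ∈ fx V A := by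
  haveI := hV.1
  have hVA : ⁅V, A⁆ ≤ V := Subgroup.le_normalizer_iff_commutator_le_left.mp hAV
  have hab : ⁅A, A⁆ ≤ centralizer (V : Set G) := by
    haveI := hA.1
    refine (commutator_le.2 fun x hx y hy => ?_).trans (bot_le : (⊥ : Subgroup G) ≤ _)
    rw [mem_bot, commutatorElement_eq_one_iff_mul_comm]
    exact congrArg Subtype.val (mul_comm' (⟨x, hx⟩ : ↥A) ⟨y, hy⟩)
  have hbest : ∀ B ≤ A, Nat.card ↥B * Nat.card ↥(fx V B) ≤ Nat.card ↥A * Nat.card ↥(fx V A) := by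
    intro B hB
    by_cases h0 : B = ⊥
    · subst h0
      rw [Subgroup.card_bot, one_mul]
      exact (card_le_of_le inf_le_left).trans hbound
    by_cases h1 : B = A
    · subst h1; exact le_rfl
    exact (hstrict B hB h0 h1).le
  obtain ⟨e1, e2⟩ := Timmesfeld.replacement V A hAV hab hbest (le_refl V)
  set B := A ⊓ centralizer ((⁅V, A⁆ : Subgroup G) : Set G) with hB
  by_cases hBA : B = A
  · refine mem_inf.2 ⟨hVA (commutator_mem_commutator hv ha), mem_centralizer_iff.2 fun b hb => ?_⟩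
    have hb' : b ∈ B := hBA.ge hb
    exact (mem_centralizer_iff.1 hb'.2 _ (commutator_mem_commutator hv ha)).symm
  exfalso
  by_cases hB0 : B = ⊥
  · rw [hB0] at e1
    have hVeq : V = ⁅V, A⁆ ⊔ fx V A := by
      refine le_antisymm ?_ (sup_le hVA inf_le_left)
      rw [← e1]
      exact le_inf le_rfl fun x _ => mem_centralizer_iff.2 fun y hy => by
        rw [Subgroup.coe_bot, Set.mem_singleton_iff] at hy
        rw [hy, one_mul, mul_one]
    have hne : ⁅V, A⁆ ≠ ⊥ := by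
      intro h0
      refine hA0 (le_bot_iff.1 fun a ha => ?_)
      rw [← hfA]
      refine mem_inf.2 ⟨ha, mem_centralizer_iff.2 fun w hw => ?_⟩
      have := commutator_mem_commutator hw ha
      rw [h0, mem_bot, commutatorElement_eq_one_iff_mul_comm] at this
      exact this
    have hAN : A ≤ normalizer ((⁅V, A⁆ : Subgroup G) : Set G) := by
      refine Subgroup.le_normalizer_iff_commutator_le_left.mpr ?_
      exact Subgroup.commutator_mono hVA le_rfl
    refine (PGroup.commutator_lt_of_isPGroup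
      ((PGroup.isPGroup_of_isElementaryAbelian hV).to_le hVA)
      (PGroup.isPGroup_of_isElementaryAbelian hA) hAN hne).not_ge (commutator_le.2 fun w hw a ha => ?_)
    have hXY : ⁅V, A⁆ ≤ normalizer ((fx V A : Subgroup G) : Set G) := le_normalizer_iff.2 fun x hx y hy => by
      rw [show x * y = y * x from congrArg Subtype.val (mul_comm' (⟨x, hVA hx⟩ : ↥V) ⟨y, hy.1⟩),
        mul_inv_cancel_right]
      exact hy
    rw [hVeq, ← SetLike.mem_coe, Subgroup.coe_mul_of_left_le_normalizer_right _ _ hXY] at hw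
    obtain ⟨u, hu, c, hc, rfl⟩ := Set.mem_mul.1 hw
    have : ⁅u * c, a⁆ = ⁅u, a⁆ := by
      have hc' := mem_centralizer_iff.1 hc.2 a ha
      rw [commutatorElement_def, commutatorElement_def, mul_inv_rev]
      calc u * c * a * (c⁻¹ * u⁻¹) * a⁻¹ = u * (c * a) * c⁻¹ * u⁻¹ * a⁻¹ := by group
        _ = _ := by rw [← hc']; group
    rw [this]
    exact commutator_mem_commutator hu ha
  · exact (hstrict B inf_le_left hB0 hBA).ne e2.symm

namespace Data

theorem hAP (h : Data p V P A M T R) : A ≤ P := (h.hAT.trans h.hTM).trans h.hMP.le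

theorem comm_V (h : Data p V P A M T R) {x y : G} (hx : x ∈ V) (hy : y ∈ V) : x * y = y * x :=
  haveI := h.hV.1
  congrArg Subtype.val (mul_comm' (⟨x, hx⟩ : ↥V) ⟨y, hy⟩)

theorem exists_not_mem (h : Data p V P A M T R) : ∃ x ∈ P, x ∉ M := SetLike.exists_of_lt h.hMP

theorem inv_not_mem (_ : Data p V P A M T R) {x : G} (hx : x ∉ M) : x⁻¹ ∉ M := fun h' => hx (by simpa using inv_mem h')

theorem A_ne_bot (h : Data p V P A M T R) : A ≠ ⊥ := by
  intro h0
  obtain ⟨x, hxP, hxM⟩ := h.exists_not_mem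
  have := h.hgen x hxP hxM
  rw [h0, Subgroup.map_bot, sup_bot_eq] at this
  exact h.hMP.not_ge (this ▸ bot_le)

theorem mem_sup_V (h : Data p V P A M T R) {X Y : Subgroup G} (hX : X ≤ V) (hY : Y ≤ V) {w : G}
    (hw : w ∈ X ⊔ Y) : ∃ u ∈ X, ∃ c ∈ Y, u * c = w := by
  have hXY : X ≤ normalizer (Y : Set G) := le_normalizer_iff.2 fun x hx y hy => by
    rw [h.comm_V (hX hx) (hY hy), mul_inv_cancel_right]
    exact hy
  have hc : ((X ⊔ Y : Subgroup G) : Set G) = (X : Set G) * (Y : Set G) :=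
    Subgroup.coe_mul_of_left_le_normalizer_right X Y hXY
  rw [← SetLike.mem_coe, hc] at hw
  exact Set.mem_mul.1 hw

theorem conj_mem_V (h : Data p V P A M T R) {g v : G} (hg : g ∈ P) (hv : v ∈ V) : g * v * g⁻¹ ∈ V :=
  (mem_normalizer_iff.1 (h.hPV hg) v).1 hv

/-- `C_V(P)`. -/
theorem mem_Z_conj (_ : Data p V P A M T R) {g v : G} (hg : g ∈ P) (hv : v ∈ fx V P) : g * v * g⁻¹ = v := by
  rw [mem_centralizer_iff.1 hv.2 g hg, mul_inv_cancel_right]

theorem mem_cj {g x : G} {K : Subgroup G} : x ∈ cj g K ↔ g⁻¹ * x * g ∈ K := by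
  rw [Subgroup.mem_map_equiv, MulAut.conj_symm_apply]

theorem mem_fx_conj (h : Data p V P A M T R) {g v : G} (hg : g ∈ P) :
    v ∈ fx V (cj g A) ↔ g⁻¹ * v * g ∈ fx V A := by
  constructor
  · intro hv
    refine mem_inf.2 ⟨by simpa using h.conj_mem_V (inv_mem hg) hv.1, mem_centralizer_iff.2 fun a ha => ?_⟩
    have := mem_centralizer_iff.1 hv.2 (g * a * g⁻¹) ⟨a, ha, rfl⟩
    calc a * (g⁻¹ * v * g) = g⁻¹ * (g * a * g⁻¹ * v) * g := by group
      _ = g⁻¹ * v * g * a := by rw [this]; group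
  · intro hv
    refine mem_inf.2 ⟨by simpa [mul_assoc] using h.conj_mem_V hg hv.1, mem_centralizer_iff.2 ?_⟩
    rintro _ ⟨a, ha, rfl⟩
    have := mem_centralizer_iff.1 hv.2 a ha
    show g * a * g⁻¹ * v = v * (g * a * g⁻¹)
    calc g * a * g⁻¹ * v = g * (a * (g⁻¹ * v * g)) * g⁻¹ := by group
      _ = v * (g * a * g⁻¹) := by rw [this]; group

theorem fx_inter (h : Data p V P A M T R) {y z v : G} (hy : y ∈ P) (hz : z ∈ P) (hyz : y⁻¹ * z ∉ M)
    (hvy : v ∈ fx V (cj y A)) (hvz : v ∈ fx V (cj z A)) : v ∈ fx V P := by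
  have hg : y⁻¹ * z ∈ P := mul_mem (inv_mem hy) hz
  have h1 := (h.mem_fx_conj hy).1 hvy
  have h2 : y⁻¹ * v * y ∈ fx V (cj (y⁻¹ * z) A) := by
    rw [h.mem_fx_conj hg]
    have := (h.mem_fx_conj hz).1 hvz
    convert this using 1
    group
  have h3 : y⁻¹ * v * y ∈ centralizer (P : Set G) := by
    suffices P ≤ centralizer (zpowers (y⁻¹ * v * y) : Set G) from
      le_centralizer_iff.1 this (mem_zpowers _)
    rw [← h.hgen _ hg hyz]
    refine sup_le ?_ ?_ <;> refine le_centralizer_iff.1 (zpowers_le.2 ?_)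
    · exact h1.2
    · exact h2.2
  have h4 := h.mem_Z_conj hy (mem_inf.2 ⟨h1.1, h3⟩)
  rw [show y * (y⁻¹ * v * y) * y⁻¹ = v by group] at h4
  exact mem_inf.2 ⟨hvy.1, h4 ▸ h3⟩

theorem conj_one : cj (1 : G) A = A := by
  ext x
  rw [mem_cj]
  simp

theorem fx_inter_one (h : Data p V P A M T R) {x v : G} (hx : x ∈ P) (hxM : x ∉ M)
    (hv : v ∈ fx V A) (hvx : v ∈ fx V (cj x A)) : v ∈ fx V P :=
  h.fx_inter (one_mem P) hx (by simpa using hxM) (by rwa [conj_one]) hvx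

variable [Finite G] [Fact p.Prime]

theorem isBest (h : Data p V P A M T R) : ∀ B ≤ A,
    Nat.card ↥B * Nat.card ↥(fx V B) ≤ Nat.card ↥A * Nat.card ↥(fx V A) := by
  intro B hB
  by_cases h0 : B = ⊥
  · subst h0
    rw [Subgroup.card_bot, one_mul]
    exact (card_le_of_le inf_le_left).trans h.hbound
  by_cases h1 : B = A
  · subst h1; exact le_rfl
  exact (h.hstrict B hB h0 h1).le

/-- `A` acts quadratically. -/
theorem quadratic (h : Data p V P A M T R) {v a : G} (hv : v ∈ V) (ha : a ∈ A) : ⁅v, a⁆ ∈ fx V A :=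
  quadratic_of h.hV (h.hAP.trans h.hPV)
    (le_bot_iff.1 ((inf_le_inf_right _ h.hAP).trans h.hfaith.le)) h.hA h.A_ne_bot h.hbound h.hstrict hv ha

theorem bracket_mul (h : Data p V P A M T R) {v a b : G} (hv : v ∈ V) (ha : a ∈ A) (hb : b ∈ A) :
    ⁅v, a * b⁆ = ⁅v, a⁆ * ⁅v, b⁆ := by
  have hab := mem_centralizer_iff.1 (h.quadratic hv hb).2 a ha
  rw [show ⁅v, a * b⁆ = ⁅v, a⁆ * (a * ⁅v, b⁆ * a⁻¹) by simp only [commutatorElement_def]; group, hab,
    mul_inv_cancel_right]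

theorem bracket_left (h : Data p V P A M T R) {c d a : G} (hc : c ∈ fx V A) (hd : d ∈ V) (ha : a ∈ A) :
    ⁅c * d, a⁆ = ⁅d, a⁆ := by
  have hca : a * c * a⁻¹ = c := by rw [mem_centralizer_iff.1 hc.2 a ha, mul_inv_cancel_right]
  calc ⁅c * d, a⁆ = c * ⁅d, a⁆ * (a * c * a⁻¹)⁻¹ := by simp only [commutatorElement_def]; group
    _ = ⁅d, a⁆ := by rw [hca, h.comm_V hc.1 (h.quadratic hd ha).1, mul_inv_cancel_right]

omit [Finite G] [Fact p.Prime] in
theorem conj_eq (d a : G) : a * d * a⁻¹ = ⁅d, a⁆⁻¹ * d := by simp only [commutatorElement_def]; group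

theorem quadratic_conj (h : Data p V P A M T R) {x v b : G} (hx : x ∈ P) (hv : v ∈ V) (hb : b ∈ cj x A) :
    ⁅v, b⁆ ∈ fx V (cj x A) := by
  rw [h.mem_fx_conj hx]
  have h1 := h.quadratic (by simpa using h.conj_mem_V (inv_mem hx) hv : x⁻¹ * v * x ∈ V) (mem_cj.1 hb)
  convert h1 using 1
  simp only [commutatorElement_def]; group

/-- A `P`-invariant subgroup of `V`. -/
abbrev Inv (V P W : Subgroup G) : Prop := W ≤ V ∧ P ≤ normalizer (W : Set G)

omit [Finite G] [Fact p.Prime] in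
theorem bracket_mem {W : Subgroup G} {v a : G} (hW : Inv V P W) (hv : v ∈ W) (ha : a ∈ P) : ⁅v, a⁆ ∈ W := by
  rw [commutatorElement_def, mul_assoc v, mul_assoc v]
  exact mul_mem hv ((mem_normalizer_iff.1 (hW.2 ha) _).1 (inv_mem hv))

omit [Finite G] [Fact p.Prime] in
theorem inv_V (h : Data p V P A M T R) : Inv V P V := ⟨le_rfl, h.hPV⟩

theorem split_invariant (h : Data p V P A M T R) {W : Subgroup G} (hW : Inv V P W) {x : G} (hx : x ∈ P)
    (hxM : x ∉ M) : P ≤ normalizer (((W ⊓ fx V A) ⊔ (W ⊓ fx V (cj x A)) : Subgroup G) : Set G) := by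
  set U := (W ⊓ fx V A) ⊔ (W ⊓ fx V (cj x A))
  have hUW : U ≤ W := sup_le inf_le_left inf_le_left
  rw [← h.hgen x hx hxM]
  refine sup_le ?_ ?_ <;> refine le_normalizer_iff.2 fun a ha u hu => ?_ <;> rw [conj_eq] <;>
    refine mul_mem (inv_mem ?_) hu
  · exact mem_sup_left (mem_inf.2 ⟨bracket_mem hW (hUW hu) (h.hAP ha), h.quadratic (hW.1 (hUW hu)) ha⟩)
  · refine mem_sup_right (mem_inf.2 ⟨bracket_mem hW (hUW hu) ?_, h.quadratic_conj hx (hW.1 (hUW hu)) ha⟩)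
    exact (le_sup_right.trans (h.hgen x hx hxM).le) ha

theorem exists_split (h : Data p V P A M T R) {W : Subgroup G} (hW : Inv V P W) {x y d : G} (hx : x ∈ P)
    (hxM : x ∉ M) (hy : y ∈ P) (hd : d ∈ W) (hdy : d ∈ fx V (cj y A)) :
    ∃ c ∈ W ⊓ fx V A, ∃ d' ∈ W ⊓ fx V (cj x A), c * d' = d := by
  refine h.mem_sup_V (inf_le_left.trans hW.1) (inf_le_left.trans hW.1) ?_
  have h1 : y⁻¹ * d * y ∈ (W ⊓ fx V A) ⊔ (W ⊓ fx V (cj x A)) := by
    refine mem_sup_left (mem_inf.2 ⟨?_, (h.mem_fx_conj hy).1 hdy⟩)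
    simpa using (mem_normalizer_iff.1 (hW.2 (inv_mem hy)) d).1 hd
  have h2 := (mem_normalizer_iff.1 (h.split_invariant hW hx hxM hy) _).1 h1
  rwa [show y * (y⁻¹ * d * y) * y⁻¹ = d by group] at h2

theorem mem_R_of_bracket (h : Data p V P A M T R) {W : Subgroup G} (hW : Inv V P W) {x v a : G}
    (hx : x ∈ P) (hxM : x ∉ M) (hvW : v ∈ W) (hv : v ∈ fx V (cj x A)) (hvZ : v ∉ fx V P) (ha : a ∈ A)
    (hva : ⁅v, a⁆ ∈ fx V P) : a ∈ R := by
  refine h.hR a (h.hAT ha) fun y hy hyM => ?_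
  by_contra hay
  obtain ⟨c, hc, d, hd, rfl⟩ := h.exists_split hW hy hyM hx hvW hv
  rw [h.bracket_left hc.2 hd.2.1 ha] at hva
  have hdy := hd.2
  have hAy : a * y ∈ P := mul_mem (h.hAP ha) hy
  have hdy' : a * d * a⁻¹ ∈ fx V (cj (a * y) A) := by
    rw [h.mem_fx_conj hAy]
    have := (h.mem_fx_conj hy).1 hdy
    convert this using 1
    group
  have hconjZ : ∀ {z : G}, z ∈ fx V P → z ∈ fx V (cj y A) := fun {z} hz => by
    refine mem_inf.2 ⟨hz.1, centralizer_le ?_ hz.2⟩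
    exact_mod_cast (le_sup_right.trans (h.hgen y hy hyM).le : cj y A ≤ P)
  have hdy'' : a * d * a⁻¹ ∈ fx V (cj y A) := by
    rw [conj_eq]
    exact mul_mem (inv_mem (hconjZ hva)) hdy
  have hZ := h.fx_inter hy hAy (by rwa [show y⁻¹ * (a * y) = y⁻¹ * a * y by group]) hdy'' hdy'
  rw [conj_eq] at hZ
  have hdZ : d ∈ fx V P := by
    have := mul_mem hva hZ
    rwa [mul_inv_cancel_left] at this
  refine hvZ (h.fx_inter_one hx hxM (mul_mem hc.2 (mem_inf.2 ⟨hdZ.1, ?_⟩)) hv)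
  exact centralizer_le (by exact_mod_cast h.hAP) hdZ.2

theorem fixed_point (h : Data p V P A M T R) : ∃ v₀ ∈ fx V R, v₀ ∈ fx V A ∧ v₀ ∉ fx V P := by
  obtain ⟨v₀, hv₀A, hv₀R, hv⟩ := h.hfix
  exact ⟨v₀, mem_inf.2 ⟨hv₀A.1, hv₀R⟩, hv₀A, hv⟩

omit [Finite G] [Fact p.Prime] in
theorem conj_mem_fx (h : Data p V P A M T R) {x v : G} (hx : x ∈ P) (hv : v ∈ fx V A) :
    x * v * x⁻¹ ∈ fx V (cj x A) := by
  rw [h.mem_fx_conj hx]
  simpa [mul_assoc] using hv

theorem card_bound (h : Data p V P A M T R) {W : Subgroup G} (hW : Inv V P W) {v₀ : G} (hv₀W : v₀ ∈ W)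
    (hv₀ : v₀ ∈ fx V A) (hv₀Z : v₀ ∉ fx V P) :
    Nat.card ↥A * Nat.card ↥(W ⊓ fx V P) ≤ Nat.card ↥(A ⊓ R : Subgroup G) * Nat.card ↥(W ⊓ fx V A) := by
  obtain ⟨x, hx, hxM⟩ := h.exists_not_mem
  set v := x * v₀ * x⁻¹
  have hvW : v ∈ W := (mem_normalizer_iff.1 (hW.2 hx) v₀).1 hv₀W
  have hv : v ∈ fx V (cj x A) := h.conj_mem_fx hx hv₀
  have hvZ : v ∉ fx V P := fun hZ => hv₀Z (by
    have := h.mem_Z_conj (inv_mem hx) hZ
    rw [show x⁻¹ * v * x⁻¹⁻¹ = v₀ by simp [v, mul_assoc]] at this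
    exact this ▸ hZ)
  set C := W ⊓ fx V A
  set Z := W ⊓ fx V P
  have hZC : Z ≤ C := inf_le_inf_left W (inf_le_inf_left V (centralizer_le (by exact_mod_cast h.hAP)))
  haveI : (Z.subgroupOf C).Normal := ⟨fun z hz g => by
    rw [mem_subgroupOf] at hz ⊢
    rw [coe_mul, coe_mul, coe_inv, h.comm_V g.2.2.1 hz.2.1, mul_inv_cancel_right]
    exact hz⟩
  let φ : ↥A →* ↥C ⧸ Z.subgroupOf C := MonoidHom.mk'
    (fun a => QuotientGroup.mk ⟨⁅v, (a : G)⁆, mem_inf.2 ⟨bracket_mem hW hvW (h.hAP a.2),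
      h.quadratic (hW.1 hvW) a.2⟩⟩)
    fun a b => by
      rw [← QuotientGroup.mk_mul]
      congr 1
      exact Subtype.ext (h.bracket_mul (hW.1 hvW) a.2 b.2)
  have hker : φ.ker.map A.subtype ≤ A ⊓ R := by
    rintro _ ⟨a, ha, rfl⟩
    refine mem_inf.2 ⟨a.2, h.mem_R_of_bracket hW hx hxM hvW hv hvZ a.2 ?_⟩
    have ha' : φ a = 1 := ha
    simp only [φ, MonoidHom.mk'_apply, QuotientGroup.eq_one_iff, mem_subgroupOf] at ha'
    exact ha'.2
  have h1 : Nat.card ↥A = Nat.card ↥φ.range * Nat.card ↥φ.ker := by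
    rw [← Nat.card_congr (QuotientGroup.quotientKerEquivRange φ).toEquiv,
      ← Subgroup.card_eq_card_quotient_mul_card_subgroup]
  have h2 : Nat.card ↥φ.ker ≤ Nat.card ↥(A ⊓ R : Subgroup G) := by
    rw [← Subgroup.card_map_of_injective A.subtype_injective]
    exact card_le_of_le hker
  have h3 : Nat.card ↥φ.range * Nat.card ↥Z ≤ Nat.card ↥C := by
    rw [← Nat.card_congr (subgroupOfEquivOfLe hZC).toEquiv,
      Subgroup.card_eq_card_quotient_mul_card_subgroup (Z.subgroupOf C)]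
    exact Nat.mul_le_mul_right _ (card_le_of_le le_top |>.trans_eq Subgroup.card_top)
  rw [h1]
  calc Nat.card ↥φ.range * Nat.card ↥φ.ker * Nat.card ↥Z
      = Nat.card ↥φ.ker * (Nat.card ↥φ.range * Nat.card ↥Z) := by ring
    _ ≤ _ := Nat.mul_le_mul h2 h3

omit [Finite G] [Fact p.Prime] in
theorem conj_fx (h : Data p V P A M T R) {x : G} {W : Subgroup G} (hW : Inv V P W) (hx : x ∈ P) :
    W ⊓ fx V (cj x A) = cj x (W ⊓ fx V A) := by
  ext w
  rw [mem_cj]
  have e : w ∈ W ↔ x⁻¹ * w * x ∈ W := by simpa using (mem_normalizer_iff.1 (hW.2 (inv_mem hx)) w)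
  exact ⟨fun hw => mem_inf.2 ⟨e.1 hw.1, (h.mem_fx_conj hx).1 hw.2⟩,
    fun hw => mem_inf.2 ⟨e.2 hw.1, (h.mem_fx_conj hx).2 hw.2⟩⟩

omit [Fact p.Prime] in
theorem card_fx_conj (h : Data p V P A M T R) {x : G} (hx : x ∈ P) :
    Nat.card ↥(fx V (cj x A)) = Nat.card ↥(fx V A) := by
  have e := congrArg (fun K : Subgroup G => Nat.card ↥K) (h.conj_fx h.inv_V hx)
  rw [Subgroup.card_map_of_injective (f := (MulAut.conj x).toMonoidHom) (MulAut.conj x).injective] at e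
  simpa [← inf_assoc] using e

omit [Fact p.Prime] in
theorem card_square (h : Data p V P A M T R) {W : Subgroup G} (hW : Inv V P W) :
    Nat.card ↥(W ⊓ fx V A) * Nat.card ↥(W ⊓ fx V A) ≤ Nat.card ↥(W ⊓ fx V P) * Nat.card ↥W := by
  obtain ⟨x, hx, hxM⟩ := h.exists_not_mem
  have hle : (W ⊓ fx V A) ⊓ (W ⊓ fx V (cj x A)) ≤ W ⊓ fx V P := fun w hw =>
    mem_inf.2 ⟨hw.1.1, h.fx_inter_one hx hxM hw.1.2 hw.2.2⟩
  have h1 := Timmesfeld.card_mul_card_le (W ⊓ fx V A) (W ⊓ fx V (cj x A))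
  have h2 : Nat.card ↥(W ⊓ fx V (cj x A)) = Nat.card ↥(W ⊓ fx V A) := by
    rw [h.conj_fx hW hx, Subgroup.card_map_of_injective (MulAut.conj x).injective]
  rw [h2] at h1
  exact h1.trans (Nat.mul_le_mul (card_le_of_le hle) (card_le_of_le (sup_le inf_le_left inf_le_left)))

/-- `R ∩ A` is trivial. -/
theorem inf_R (h : Data p V P A M T R) : A ⊓ R = ⊥ := by
  by_contra hAR
  have hne : A ⊓ R ≠ A := by
    intro he
    obtain ⟨x, hx, hxM⟩ := h.exists_not_mem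
    have hARle : A ≤ R := inf_eq_left.1 he
    have h1 : cj x A ≤ R := by
      rintro _ ⟨a, ha, rfl⟩
      exact (mem_normalizer_iff.1 (h.hRN hx) a).1 (hARle ha)
    exact h.hMP.not_ge ((h.hgen x hx hxM).ge.trans ((sup_le hARle h1).trans (h.hRT.trans h.hTM)))
  set W := fx V R
  have hW : Inv V P W := by
    refine ⟨inf_le_left, le_normalizer_iff.2 fun g hg w hw => ?_⟩
    refine mem_inf.2 ⟨h.conj_mem_V hg hw.1, mem_centralizer_iff.2 fun r hr => ?_⟩
    have hr' : g⁻¹ * r * g ∈ R := by simpa using (mem_normalizer_iff.1 (h.hRN (inv_mem hg)) r).1 hr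
    have := mem_centralizer_iff.1 hw.2 _ hr'
    calc r * (g * w * g⁻¹) = g * (g⁻¹ * r * g * w) * g⁻¹ := by group
      _ = g * w * g⁻¹ * r := by rw [this]; group
  obtain ⟨v₀, hv₀T, hv₀A, hv₀Z⟩ := h.fixed_point
  have hv₀W : v₀ ∈ W := hv₀T
  have h1 := h.card_bound hW hv₀W hv₀A hv₀Z
  have h2 := h.card_square hW
  have h3 := Timmesfeld.card_mul_card_le W (fx V A)
  have h4 : Nat.card ↥(W ⊔ fx V A : Subgroup G) ≤ Nat.card ↥(fx V (A ⊓ R)) := by
    refine card_le_of_le (sup_le ?_ ?_) <;> refine le_inf inf_le_left (inf_le_right.trans (centralizer_le ?_))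
    · exact_mod_cast (inf_le_right : A ⊓ R ≤ R)
    · exact_mod_cast (inf_le_left : A ⊓ R ≤ A)
  have h5 := h.hstrict (A ⊓ R) inf_le_left hAR hne
  set a := Nat.card ↥A
  set r := Nat.card ↥(A ⊓ R : Subgroup G)
  set z := Nat.card ↥(W ⊓ fx V P)
  set c := Nat.card ↥(W ⊓ fx V A)
  set w := Nat.card ↥W
  set C := Nat.card ↥(fx V A)
  set f := Nat.card ↥(fx V (A ⊓ R))
  have hc : 0 < c := Nat.card_pos
  have h6 : a * z * (w * C) < (c * c) * (a * C) :=
    calc a * z * (w * C) ≤ (r * c) * (c * f) :=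
          Nat.mul_le_mul h1 (h3.trans (Nat.mul_le_mul_left _ h4))
      _ = (c * c) * (r * f) := by ring
      _ < _ := by gcongr
  have h7 : (c * c) * (a * C) ≤ a * z * (w * C) := by
    calc _ ≤ (z * w) * (a * C) := Nat.mul_le_mul_right _ h2
      _ = _ := by ring
  exact absurd h7 (not_le.2 h6)

omit [Finite G] [Fact p.Prime] in
theorem Z_le (h : Data p V P A M T R) : fx V P ≤ fx V A :=
  inf_le_inf_left V (centralizer_le (by exact_mod_cast h.hAP))

theorem cards (h : Data p V P A M T R) :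
    Nat.card ↥(fx V A) = Nat.card ↥A * Nat.card ↥(fx V P) ∧
      Nat.card ↥V = Nat.card ↥A * Nat.card ↥(fx V A) := by
  obtain ⟨v₀, hv₀T, hv₀A, hv₀Z⟩ := h.fixed_point
  have h1 := h.card_bound h.inv_V hv₀T.1 hv₀A hv₀Z
  have h2 := h.card_square h.inv_V
  rw [h.inf_R, Subgroup.card_bot, one_mul, inf_eq_right.2 inf_le_left, inf_eq_right.2 inf_le_left] at h1
  rw [inf_eq_right.2 inf_le_left, inf_eq_right.2 inf_le_left] at h2
  set a := Nat.card ↥A
  set C := Nat.card ↥(fx V A)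
  set Z := Nat.card ↥(fx V P)
  set n := Nat.card ↥V
  have hb : n ≤ a * C := h.hbound
  have hC : 0 < C := Nat.card_pos
  have hZ : 0 < Z := Nat.card_pos
  have e1 : C = a * Z := le_antisymm (Nat.le_of_mul_le_mul_right
    (h2.trans ((Nat.mul_le_mul_left _ hb).trans_eq (by ring))) hC) h1
  refine ⟨e1, le_antisymm hb (Nat.le_of_mul_le_mul_left ?_ hZ)⟩
  calc Z * (a * C) = C * C := by rw [e1]; ring
    _ ≤ _ := h2

/-- `R` is trivial. -/
theorem R_eq_bot (h : Data p V P A M T R) : R = ⊥ := by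
  obtain ⟨eC, eV⟩ := h.cards
  set W := fx V R with hWdef
  have hW : Inv V P W := by
    refine ⟨inf_le_left, le_normalizer_iff.2 fun g hg w hw => ?_⟩
    refine mem_inf.2 ⟨h.conj_mem_V hg hw.1, mem_centralizer_iff.2 fun r hr => ?_⟩
    have hr' : g⁻¹ * r * g ∈ R := by simpa using (mem_normalizer_iff.1 (h.hRN (inv_mem hg)) r).1 hr
    have := mem_centralizer_iff.1 hw.2 _ hr'
    calc r * (g * w * g⁻¹) = g * (g⁻¹ * r * g * w) * g⁻¹ := by group
      _ = g * w * g⁻¹ * r := by rw [this]; group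
  obtain ⟨v₀, hv₀T, hv₀A, hv₀Z⟩ := h.fixed_point
  have hv₀W : v₀ ∈ W := hv₀T
  have h1 := h.card_bound hW hv₀W hv₀A hv₀Z
  rw [h.inf_R, Subgroup.card_bot, one_mul] at h1
  have hRP : R ≤ P := (h.hRT.trans h.hTM).trans h.hMP.le
  have hZW : fx V P ≤ W := inf_le_inf_left V (centralizer_le (by exact_mod_cast hRP))
  rw [inf_eq_right.2 hZW, ← eC] at h1
  have hCW : fx V A ≤ W := by
    rw [← Subgroup.eq_of_le_of_card_ge inf_le_right h1]
    exact inf_le_left
  obtain ⟨x, hx, hxM⟩ := h.exists_not_mem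
  have hDW : fx V (cj x A) ≤ W := by
    intro w hw
    have := hCW ((h.mem_fx_conj hx).1 hw)
    have := (mem_normalizer_iff.1 (hW.2 hx) _).1 this
    rwa [show x * (x⁻¹ * w * x) * x⁻¹ = w by group] at this
  have h2 := Timmesfeld.card_mul_card_le (fx V A) (fx V (cj x A))
  have e3 : Nat.card ↥(fx V (cj x A)) = Nat.card ↥(fx V A) := h.card_fx_conj hx
  rw [e3] at h2
  have hVW : V ≤ W := by
    refine (Subgroup.eq_of_le_of_card_ge inf_le_left ?_).ge
    refine Nat.le_of_mul_le_mul_left ?_ (Nat.card_pos (α := ↥(fx V P)))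
    calc Nat.card ↥(fx V P) * Nat.card ↥V = Nat.card ↥(fx V A) * Nat.card ↥(fx V A) := by
          rw [eV, eC]; ring
      _ ≤ _ := h2.trans (Nat.mul_le_mul
          (card_le_of_le fun w hw => h.fx_inter_one hx hxM hw.1 hw.2) (card_le_of_le (sup_le hCW hDW)))
  refine le_bot_iff.1 ?_
  rw [← h.hfaith]
  exact le_inf hRP (le_centralizer_iff.1 (hVW.trans inf_le_right))

theorem bracket_eq (h : Data p V P A M T R) {x v a : G} (hx : x ∈ P) (hxM : x ∉ M)
    (hv : v ∈ fx V (cj x A)) (ha : a ∈ A) (hva : ⁅v, a⁆ ∈ fx V P) : v ∈ fx V P ∨ a = 1 := by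
  refine or_iff_not_imp_left.2 fun hvZ => ?_
  have := h.mem_R_of_bracket h.inv_V hx hxM hv.1 hv hvZ ha hva
  rwa [h.R_eq_bot, mem_bot] at this

/-- `V = C_V(A) C_V(A^x)`. -/
theorem exists_decomp (h : Data p V P A M T R) {x w : G} (hx : x ∈ P) (hxM : x ∉ M) (hw : w ∈ V) :
    ∃ c ∈ fx V A, ∃ d ∈ fx V (cj x A), c * d = w := by
  refine h.mem_sup_V inf_le_left inf_le_left ?_
  obtain ⟨eC, eV⟩ := h.cards
  have h2 := Timmesfeld.card_mul_card_le (fx V A) (fx V (cj x A))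
  have e3 : Nat.card ↥(fx V (cj x A)) = Nat.card ↥(fx V A) := h.card_fx_conj hx
  rw [e3] at h2
  have : fx V A ⊔ fx V (cj x A) = V := by
    refine Subgroup.eq_of_le_of_card_ge (sup_le inf_le_left inf_le_left) ?_
    refine Nat.le_of_mul_le_mul_left ?_ (Nat.card_pos (α := ↥(fx V P)))
    calc Nat.card ↥(fx V P) * Nat.card ↥V = Nat.card ↥(fx V A) * Nat.card ↥(fx V A) := by
          rw [eV, eC]; ring
      _ ≤ _ := h2.trans (Nat.mul_le_mul_right _ (card_le_of_le fun w hw => h.fx_inter_one hx hxM hw.1 hw.2))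
  rw [this]; exact hw

/-- For `d` in `C_V(A^x)` outside `C_V(P)`, `[d, A]` covers `C_V(A)/C_V(P)`. -/
theorem exists_bracket (h : Data p V P A M T R) {x d : G} (hx : x ∈ P) (hxM : x ∉ M)
    (hd : d ∈ fx V (cj x A)) (hdZ : d ∉ fx V P) {c : G} (hc : c ∈ fx V A) :
    ∃ a ∈ A, c * ⁅d, a⁆⁻¹ ∈ fx V P := by
  haveI : ((fx V P).subgroupOf (fx V A)).Normal := ⟨fun z hz g => by
    rw [mem_subgroupOf] at hz ⊢
    rw [coe_mul, coe_mul, coe_inv, h.comm_V g.2.1 hz.1, mul_inv_cancel_right]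
    exact hz⟩
  let φ : ↥A →* ↥(fx V A) ⧸ (fx V P).subgroupOf (fx V A) := MonoidHom.mk'
    (fun a => QuotientGroup.mk ⟨⁅d, (a : G)⁆, h.quadratic hd.1 a.2⟩)
    fun a b => by
      rw [← QuotientGroup.mk_mul]
      congr 1
      exact Subtype.ext (h.bracket_mul hd.1 a.2 b.2)
  have hinj : Function.Injective φ := by
    rw [injective_iff_map_eq_one]
    intro a ha
    simp only [φ, MonoidHom.mk'_apply, QuotientGroup.eq_one_iff, mem_subgroupOf] at ha
    exact Subtype.ext ((h.bracket_eq hx hxM hd a.2 ha).resolve_left hdZ)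
  have hbij : Function.Bijective φ := by
    refine (Nat.bijective_iff_injective_and_card _).2 ⟨hinj, ?_⟩
    have e := Subgroup.card_eq_card_quotient_mul_card_subgroup ((fx V P).subgroupOf (fx V A))
    rw [Nat.card_congr (subgroupOfEquivOfLe h.Z_le).toEquiv, h.cards.1] at e
    exact Nat.eq_of_mul_eq_mul_right Nat.card_pos e
  obtain ⟨a, ha⟩ := hbij.2 (QuotientGroup.mk ⟨c, hc⟩)
  refine ⟨a, a.2, ?_⟩
  simp only [φ, MonoidHom.mk'_apply, QuotientGroup.eq, mem_subgroupOf] at ha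
  rw [h.comm_V hc.1 (inv_mem (h.quadratic hd.1 a.2).1)]
  exact ha

/-- `M` stabilizes `C_V(A)`. -/
theorem stab (h : Data p V P A M T R) {m w : G} (hm : m ∈ M) (hw : w ∈ fx V A) :
    m * w * m⁻¹ ∈ fx V A := by
  have hmP := h.hMP.le hm
  obtain ⟨x, hx, hxM⟩ := h.exists_not_mem
  obtain ⟨c, hc, d, hd, hcd⟩ := h.exists_decomp hx hxM (h.conj_mem_V hmP hw.1)
  rw [← hcd]
  by_cases hdZ : d ∈ fx V P
  · exact mul_mem hc (h.Z_le hdZ)
  exfalso
  obtain ⟨a, ha, hz⟩ := h.exists_bracket hx hxM hd hdZ (inv_mem hc)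
  have hax : a * x ∈ P := mul_mem (h.hAP ha) hx
  have hcdz : c * d * (c⁻¹ * ⁅d, a⁆⁻¹) = a * d * a⁻¹ := by
    rw [conj_eq, h.comm_V hc.1 hd.1, h.comm_V (inv_mem (h.quadratic hd.1 ha).1) hd.1]
    group
  have hz' : c * d = a * d * a⁻¹ * (c⁻¹ * ⁅d, a⁆⁻¹)⁻¹ := by rw [← hcdz]; group
  have hside : c * d ∈ fx V (cj (a * x) A) := by
    rw [hz']
    refine mul_mem ?_ (inv_mem (mem_inf.2 ⟨hz.1, centralizer_le ?_ hz.2⟩))
    · rw [h.mem_fx_conj hax]
      have := (h.mem_fx_conj hx).1 hd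
      convert this using 1
      group
    · exact_mod_cast (map_le_iff_le_comap.2 fun b hb =>
        mul_mem (mul_mem hax (h.hAP hb)) (inv_mem hax) : cj (a * x) A ≤ P)
  have hm' : c * d ∈ fx V (cj m A) := hcd ▸ h.conj_mem_fx hmP hw
  have hnot : m⁻¹ * (a * x) ∉ M := fun h' => hxM (by
    have := mul_mem (inv_mem (h.hTM (h.hAT ha))) (mul_mem hm h')
    simpa using this)
  have hcdZ := h.fx_inter hmP hax hnot hm' hside
  refine hdZ (h.fx_inter_one hx hxM ?_ hd)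
  simpa using mul_mem (inv_mem hc) (h.Z_le hcdZ)

end Data

end Cfsg.Lib.Local.OffenderPair
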