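import Cfsg.Agent.Lib.Linear.JordanDivision
import Cfsg.Agent.Lib.Linear.SLTwoNatural
import Cfsg.Agent.Lib.Local.PushingUp.Spread

/-!
# A pair of quadratic groups regular on a spread

Let `Γ` act faithfully on the finite `F_p`-space `M = L ⊕ t L`, generated by `A` and `A^t`, where
`A` fixes `L`, moves `M` into `L`, has order `|L|`, no nontrivial element of `A` fixes a nonzero vector of
`t L`, and a translate of `L` meeting `L` nontrivially lies in `L`. Then `Γ ≅ SL₂(|A|)` and `M` is the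
natural module.
-/

set_option autoImplicit false
set_option linter.style.haveILetI false

namespace Cfsg.Lib.Local.SpreadSet

open Matrix
open Cfsg.Lib.Local.PushingUp (act_mul act_cancel end_add_apply end_neg_apply end_mul_apply end_one_apply)
open Cfsg.Lib.Linear.SLTwoNatural (u l w d)

/-- Hua's identity: an inverse closed additive set of units is closed under the triple product. -/
theorem triple_mem {R : Type*} [Ring R] {S : AddSubgroup R}
    (hinv : ∀ x ∈ S, x ≠ 0 → ∃ y ∈ S, y * x = 1 ∧ x * y = 1) :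
    ∀ x ∈ S, ∀ y ∈ S, x * y * x ∈ S := by
  intro x hx y hy
  by_cases hx0 : x = 0
  · simpa [hx0] using S.zero_mem
  by_cases hy0 : y = 0
  · simpa [hy0] using S.zero_mem
  obtain ⟨x', hx', hx'x, hxx'⟩ := hinv x hx hx0
  obtain ⟨y', hy', hy'y, hyy'⟩ := hinv y hy hy0
  by_cases hd : y' - x = 0
  · rw [← sub_eq_zero.1 hd, hy'y, one_mul]
    exact hy'
  obtain ⟨d', hd', hd'd, hdd'⟩ := hinv _ (S.sub_mem hy' hx) hd
  have key : (x' + d') * (x - x * y * x) = 1 := by
    have e1 : x - x * y * x = (y' - x) * (y * x) := by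
      rw [sub_mul, ← mul_assoc y', hy'y, one_mul, mul_assoc]
    rw [e1, ← mul_assoc (x' + d'), add_mul x', hd'd, mul_sub, hx'x, sub_add_cancel, mul_assoc,
      ← mul_assoc y', hy'y, one_mul, hx'x]
  have hne : x' + d' ≠ 0 := by
    intro h0
    rw [h0, zero_mul] at key
    exact hx0 (by rw [← one_mul x, ← key, zero_mul])
  obtain ⟨s, hs, hs1, -⟩ := hinv _ (S.add_mem hx' hd') hne
  have : s = x - x * y * x := left_inv_eq_right_inv hs1 key
  have h2 := S.sub_mem hx hs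
  rwa [this, sub_sub_cancel] at h2

variable {Γ : Type*} [Group Γ] [Finite Γ] {M : Type*} [AddCommGroup M] [Finite M]

/-- The data. -/
structure Pair (p : ℕ) (σ : Γ →* AddMonoid.End M) (A : Subgroup Γ) (t : Γ) (L : AddSubgroup M) : Prop where
  exp : ∀ m : M, p • m = 0
  gen : A ⊔ A.map (MulAut.conj t).toMonoidHom = ⊤
  fix : ∀ a ∈ A, ∀ v ∈ L, σ a v = v
  quad : ∀ a ∈ A, ∀ m, σ a m - m ∈ L
  disj : ∀ v ∈ L, ∀ v' ∈ L, v = σ t v' → v = 0
  cover : ∀ m, ∃ v ∈ L, ∃ v' ∈ L, m = v + σ t v'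
  inj : ∀ a ∈ A, a ≠ 1 → ∀ v ∈ L, σ a (σ t v) = σ t v → v = 0
  card : Nat.card ↥L = Nat.card ↥A
  line : ∀ g : Γ, ∀ v ∈ L, v ≠ 0 → σ g v ∈ L → ∀ v' ∈ L, σ g v' ∈ L
  faith : ∀ g : Γ, (∀ m, σ g m = m) → g = 1
  nontriv : A ≠ ⊥

theorem Pair.exists_natural {p : ℕ} [Fact p.Prime] {σ : Γ →* AddMonoid.End M} {A : Subgroup Γ} {t : Γ}
    {L : AddSubgroup M} (h : Pair p σ A t L) :
    ∃ (F : Type) (_ : Field F) (_ : Fintype F) (ρ : Γ ≃* Matrix.SpecialLinearGroup (Fin 2) F)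
      (ψ : M ≃+ (Fin 2 → F)), Fintype.card F = Nat.card ↥A ∧
        ∀ (g : Γ) (m : M), ψ (σ g m) = ((ρ g : Matrix.SpecialLinearGroup (Fin 2) F) :
          Matrix (Fin 2) (Fin 2) F) *ᵥ ψ m := by
  classical
  -- the opposite line
  let L' : AddSubgroup M :=
    { carrier := {v | ∃ c ∈ L, σ t c = v}
      zero_mem' := ⟨0, zero_mem L, map_zero _⟩
      add_mem' := by
        rintro _ _ ⟨a, ha, rfl⟩ ⟨c, hc, rfl⟩
        exact ⟨a + c, add_mem ha hc, map_add _ _ _⟩
      neg_mem' := by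
        rintro _ ⟨a, ha, rfl⟩
        exact ⟨-a, neg_mem ha, map_neg _ _⟩ }
  have hdisj : ∀ v, v ∈ L → v ∈ L' → v = 0 := fun v hv ⟨c, hc, e⟩ => h.disj v hv c hc e.symm
  have hcov : ∀ m, ∃ v ∈ L, ∃ v' ∈ L', m = v + v' := fun m => by
    obtain ⟨v, hv, c, hc, e⟩ := h.cover m
    exact ⟨v, hv, _, ⟨c, hc, rfl⟩, e⟩
  have hσinj : ∀ g : Γ, Function.Injective (σ g) := fun g a b e => by
    simpa [act_cancel] using congrArg (σ g⁻¹) e
  have hcard' : Nat.card ↥L' = Nat.card ↥L := by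
    refine (Nat.card_congr (Equiv.ofBijective (fun c : ↥L => (⟨σ t c, c, c.2, rfl⟩ : ↥L'))
      ⟨fun a b e => Subtype.ext (hσinj t (congrArg Subtype.val e)), ?_⟩)).symm
    rintro ⟨_, c, hc, rfl⟩
    exact ⟨⟨c, hc⟩, rfl⟩
  -- the displacements of `A`
  let δ : ↥A → ↥L' →+ ↥L := fun a =>
    AddMonoidHom.mk' (fun v => ⟨σ (a : Γ) (v : M) - v, h.quad _ a.2 _⟩) fun v w =>
      Subtype.ext (by simp only [AddSubgroup.coe_add, map_add]; abel)
  have hδ : ∀ (a : ↥A) (v : ↥L'), σ (a : Γ) (v : M) = v + δ a v := fun a v => by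
    show σ (a : Γ) (v : M) = v + (σ (a : Γ) (v : M) - v); abel
  have hδbij : ∀ a : ↥A, a ≠ 1 → Function.Bijective (δ a) := by
    intro a ha
    refine (Nat.bijective_iff_injective_and_card _).2 ⟨?_, hcard'⟩
    rw [injective_iff_map_eq_zero]
    intro v hv
    obtain ⟨c, hc, hcv⟩ := v.2
    have h0 : σ (a : Γ) (v : M) = v := by rw [hδ, hv]; simp
    apply Subtype.ext
    show (v : M) = 0
    rw [← hcv, h.inj _ a.2 (fun e => ha (Subtype.ext e)) c hc (by rw [hcv]; exact h0), map_zero]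
  have hδmul : ∀ a b : ↥A, δ (a * b) = δ a + δ b := by
    intro a b
    ext v
    show σ ((a : Γ) * b) (v : M) - v = (δ a v : M) + δ b v
    rw [act_mul, hδ b, map_add, hδ a, h.fix _ a.2 _ (δ b v).2]
    abel
  obtain ⟨a₁, ha₁⟩ : ∃ a : ↥A, a ≠ 1 := by
    haveI := (A.nontrivial_iff_ne_bot).2 h.nontriv
    exact exists_ne 1
  let D₁ : ↥L' ≃+ ↥L := AddEquiv.ofBijective (δ a₁) (hδbij a₁ ha₁)
  let E : Additive ↥A →+ AddMonoid.End ↥L' :=
    AddMonoidHom.mk' (fun a => D₁.symm.toAddMonoidHom.comp (δ a.toMul)) fun a b => by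
      rw [toMul_add, hδmul]
      exact AddMonoidHom.ext fun v => map_add D₁.symm _ _
  have hE : ∀ (a : ↥A) (v : ↥L'), δ a₁ (E (Additive.ofMul a) v) = δ a v := fun a v =>
    D₁.apply_symm_apply (δ a v)
  have hD : ∀ {x y : ↥L'}, δ a₁ x = δ a₁ y → x = y := fun e => (hδbij a₁ ha₁).1 e
  have hE1 : E (Additive.ofMul a₁) = 1 := AddMonoidHom.ext fun v => hD (hE a₁ v)
  have hEinj : Function.Injective E := by
    rw [injective_iff_map_eq_zero]
    intro a ha
    by_contra hne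
    obtain ⟨v, hv⟩ : ∃ v : ↥L', v ≠ 0 := by
      haveI : Nontrivial ↥L' := Finite.one_lt_card_iff_nontrivial.1 (by
        rw [hcard', h.card]
        exact (Subgroup.one_lt_card_iff_ne_bot A).2 h.nontriv)
      exact exists_ne 0
    refine hv ((hδbij a.toMul hne).1 ?_)
    rw [← hE, ofMul_toMul, ha, map_zero]
    exact map_zero _
  -- the opposite group
  let bb : ↥A → Γ := fun a => t * a * t⁻¹
  have hbfix : ∀ a v, v ∈ L' → σ (bb a) v = v := by
    rintro a _ ⟨c, hc, rfl⟩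
    rw [← act_mul, show bb a * t = t * a by simp [bb], act_mul, h.fix _ a.2 _ hc]
  let ε : ↥A → ↥L →+ ↥L' := fun a =>
    AddMonoidHom.mk' (fun v => ⟨σ (bb a) (v : M) - v, ⟨σ (a : Γ) (σ t⁻¹ (v : M)) - σ t⁻¹ (v : M),
        h.quad _ a.2 _, by
          rw [map_sub, ← act_mul t t⁻¹, mul_inv_cancel, map_one, end_one_apply]
          simp only [← act_mul, bb, mul_assoc]⟩⟩) fun v w =>
      Subtype.ext (by simp only [AddSubgroup.coe_add, map_add]; abel)
  have hε : ∀ (a : ↥A) (v : ↥L), σ (bb a) (v : M) = v + ε a v := fun a v => by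
    show σ (bb a) (v : M) = v + (σ (bb a) (v : M) - v); abel
  have hεinj : ∀ a₂ : ↥A, ∀ a : ↥A, ε a₂ = ε a → a₂ = a := by
    intro a₂ a e
    apply Subtype.ext
    have key : ∀ m, σ (bb a₂) m = σ (bb a) m := by
      intro m
      obtain ⟨v, hv, v', hv', rfl⟩ := hcov m
      rw [map_add, map_add, hbfix _ _ hv', hbfix _ _ hv', hε a₂ ⟨v, hv⟩, hε a ⟨v, hv⟩, e]
    have := h.faith ((bb a)⁻¹ * bb a₂) fun m => by rw [act_mul, key, act_cancel]
    have h' : bb a₂ = bb a := (inv_mul_eq_one.1 this).symm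
    simpa [bb] using h'
  have hεne : ∀ a : ↥A, a ≠ 1 → ε a ≠ 0 := fun a ha e => ha (hεinj a 1 (by
    rw [e]
    refine AddMonoidHom.ext fun v => Subtype.ext ?_
    show (0 : M) = σ (bb 1) (v : M) - v
    simp [bb]))
  -- translates of `L`
  have hlines : ∀ (g : Γ) (v : M), v ∈ L → σ g v ∉ L → ∃ a : ↥A, ∀ v' ∈ L, ∃ w : ↥L',
      σ g v' = (w : M) + δ a w := by
    intro g v hv hgv
    obtain ⟨c, hc, c', hc', e⟩ := hcov (σ g v)
    have hc'0 : (⟨c', hc'⟩ : ↥L') ≠ 0 := fun e0 => hgv (by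
      rw [e, show c' = 0 from congrArg Subtype.val e0, add_zero]; exact hc)
    have hbij : Function.Bijective fun a : ↥A => δ a ⟨c', hc'⟩ := by
      refine (Nat.bijective_iff_injective_and_card _).2 ⟨fun a b e0 => ?_, h.card.symm⟩
      by_contra hne
      refine hc'0 ((hδbij (a * b⁻¹) (fun e1 => hne (mul_inv_eq_one.1 e1))).1 ?_)
      have e2 : δ (a * b⁻¹) + δ b = δ a := by rw [← hδmul, inv_mul_cancel_right]
      have e3 := DFunLike.congr_fun e2 ⟨c', hc'⟩
      rw [AddMonoidHom.add_apply, ← show δ a ⟨c', hc'⟩ = δ b ⟨c', hc'⟩ from e0, add_eq_right] at e3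
      rw [e3, map_zero]
    obtain ⟨a, ha⟩ := hbij.2 ⟨c, hc⟩
    refine ⟨a, fun v' hv' => ?_⟩
    have hgv' : σ g v = σ ((a : Γ) * t) (σ t⁻¹ c') := by
      rw [← act_mul, mul_assoc, mul_inv_cancel, mul_one, hδ a ⟨c', hc'⟩,
        show δ a ⟨c', hc'⟩ = ⟨c, hc⟩ from ha, e, add_comm]
    obtain ⟨c₀, hc₀, hc₀e⟩ := hc'
    have hmem := h.line (((a : Γ) * t)⁻¹ * g) v hv
      (fun h0 => hgv (by rw [h0, map_zero]; exact zero_mem L))
      (by rw [act_mul, hgv', act_cancel, ← hc₀e, act_cancel]; exact hc₀) v' hv'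
    refine ⟨⟨σ t (σ (((a : Γ) * t)⁻¹ * g) v'), _, hmem, rfl⟩, ?_⟩
    rw [← hδ a]
    show _ = σ (a : Γ) (σ t (σ (((a : Γ) * t)⁻¹ * g) v'))
    simp only [← act_mul]
    congr 2
    group
  obtain ⟨v₁, hv₁⟩ : ∃ v : ↥L, v ≠ 0 := by
    haveI : Nontrivial ↥L := Finite.one_lt_card_iff_nontrivial.1 (by
      rw [h.card]; exact (Subgroup.one_lt_card_iff_ne_bot A).2 h.nontriv)
    exact exists_ne 0
  have hεδ : ∀ a : ↥A, a ≠ 1 → ∃ a' : ↥A, a' ≠ 1 ∧ ∀ v, δ a' (ε a v) = v := by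
    intro a ha
    have hex : ∃ v : ↥L, ε a v ≠ 0 := by
      by_contra hall
      push Not at hall
      exact hεne a ha (AddMonoidHom.ext hall)
    obtain ⟨v, hv⟩ := hex
    have hnot : σ (bb a) (v : M) ∉ L := by
      intro hmem
      rw [hε] at hmem
      refine hv (Subtype.ext (hdisj _ ?_ (ε a v).2))
      simpa using sub_mem hmem v.2
    obtain ⟨a', ha'⟩ := hlines _ _ v.2 hnot
    have key : ∀ v : ↥L, δ a' (ε a v) = v := by
      intro v
      obtain ⟨w, hw⟩ := ha' (v : M) v.2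
      rw [hε] at hw
      have e2 : (ε a v : M) - w = (δ a' w : M) - v := by
        rw [sub_eq_sub_iff_add_eq_add, add_comm (δ a' w : M), ← hw, add_comm]
      have e1 : ε a v = w := Subtype.ext (sub_eq_zero.1
        (hdisj _ (e2 ▸ sub_mem (δ a' w).2 v.2) (sub_mem (ε a v).2 w.2)))
      apply Subtype.ext
      rw [e1] at hw ⊢
      rw [add_comm] at hw
      exact (add_left_cancel hw).symm
    refine ⟨a', fun e => hv₁ ?_, key⟩
    have h1 : δ a' + δ a' = δ a' := by rw [← hδmul, e, one_mul]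
    rw [← key v₁, add_eq_right.1 h1]
    rfl
  have hex : ∀ a' : ↥A, a' ≠ 1 → ∃ a : ↥A, ∀ v, δ a' (ε a v) = v := by
    intro a' ha'
    choose f hf1 hf using hεδ
    let g : {a : ↥A // a ≠ 1} → {a : ↥A // a ≠ 1} := fun a => ⟨f a.1 a.2, hf1 a.1 a.2⟩
    have hg : Function.Surjective g := by
      refine Finite.injective_iff_surjective.1 fun a b e => Subtype.ext (hεinj _ _ ?_)
      refine AddMonoidHom.ext fun v => (hδbij _ (hf1 a.1 a.2)).1 ?_
      rw [hf, show f a.1 a.2 = f b.1 b.2 from congrArg Subtype.val e, hf]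
    obtain ⟨a, ha⟩ := hg ⟨a', ha'⟩
    exact ⟨a.1, fun v => by rw [← show f a.1 a.2 = a' from congrArg Subtype.val ha]; exact hf a.1 a.2 v⟩
  -- the braid
  obtain ⟨c₁, hc₁⟩ := hex a₁⁻¹ (by simpa using ha₁)
  have hneg : ∀ (a : ↥A) (v : ↥L'), δ a⁻¹ v = -δ a v := fun a v => by
    have e1 : δ a⁻¹ + δ a = δ 1 := by rw [← hδmul, inv_mul_cancel]
    have e2 : δ (1 : ↥A) = 0 := by
      have : δ (1 : ↥A) + δ 1 = δ 1 := by rw [← hδmul, one_mul]
      exact add_eq_right.1 this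
    exact eq_neg_of_add_eq_zero_left (DFunLike.congr_fun (e1.trans e2) v)
  have hc₁' : ∀ v : ↥L', ε c₁ (δ a₁ v) = -v := fun v => hD (by
    have := hc₁ (δ a₁ v)
    rw [hneg] at this
    rw [map_neg, ← this, neg_neg, this])
  set W : Γ := (a₁ : Γ) * bb c₁ * a₁ with hW
  have hWact : ∀ v : ↥L', σ W (v : M) = δ a₁ v ∧ σ W (δ a₁ v : M) = -(v : M) := by
    intro v
    have hbb : σ (bb c₁) (δ a₁ v : M) = (δ a₁ v : M) - v := by
      rw [hε, hc₁', AddSubgroup.coe_neg, sub_eq_add_neg]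
    constructor
    · rw [hW, act_mul, act_mul, hδ, map_add, hbfix _ _ v.2, hbb, add_sub_cancel,
        h.fix _ a₁.2 _ (δ a₁ v).2]
    · rw [hW, act_mul, act_mul, h.fix _ a₁.2 _ (δ a₁ v).2, hbb, map_sub, h.fix _ a₁.2 _ (δ a₁ v).2, hδ]
      abel
  -- inverses
  set S : AddSubgroup (AddMonoid.End ↥L') := E.range with hS
  have hSinv : ∀ x ∈ S, x ≠ 0 → ∃ y ∈ S, y * x = 1 ∧ x * y = 1 := by
    rintro _ ⟨a, rfl⟩ hne
    obtain ⟨a, rfl⟩ : ∃ b, Additive.ofMul b = a := ⟨a.toMul, rfl⟩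
    have ha : a ≠ 1 := fun e => hne (by rw [e, ofMul_one, map_zero])
    obtain ⟨v, hv⟩ : ∃ v : ↥L', v ≠ 0 := ⟨D₁.symm v₁, fun e => hv₁ (by simpa using congrArg D₁ e)⟩
    have himg : ∀ v : ↥L', σ (W * a) (v : M) = (δ a₁ v : M) - E (Additive.ofMul a) v := by
      intro v
      rw [act_mul, hδ, map_add, ← hE, (hWact _).1, (hWact _).2, sub_eq_add_neg]
    obtain ⟨c, hc, hcv⟩ := v.2
    have hnot : σ (W * a * t) c ∉ L := by
      rw [act_mul, hcv, himg]
      intro hmem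
      refine hv ((hδbij a ha).1 ?_)
      have h0 : E (Additive.ofMul a) v = 0 := Subtype.ext (hdisj _ (by
        simpa using sub_mem (δ a₁ v).2 hmem) (E _ v).2)
      rw [← hE, h0]
      simp
    obtain ⟨b, hb⟩ := hlines _ c hc hnot
    have key : ∀ v : ↥L', E (Additive.ofMul b⁻¹) (E (Additive.ofMul a) v) = v := by
      intro v
      obtain ⟨c, hc, hcv⟩ := v.2
      obtain ⟨w, hw⟩ := hb c hc
      rw [act_mul, hcv, himg] at hw
      have e2 : -(E (Additive.ofMul a) v : M) - w = (δ b w : M) - δ a₁ v := by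
        rw [sub_eq_sub_iff_add_eq_add, add_comm (δ b w : M), ← hw]
        abel
      have e1 : -(E (Additive.ofMul a) v) = w := Subtype.ext (sub_eq_zero.1
        (hdisj _ (by rw [AddSubgroup.coe_neg, e2]; exact sub_mem (δ b w).2 (δ a₁ v).2)
          (sub_mem (neg_mem (E _ v).2) w.2)))
      refine hD (Subtype.ext ?_)
      rw [hE, hneg]
      rw [← e1, map_neg, AddSubgroup.coe_neg, AddSubgroup.coe_neg] at hw
      rw [AddSubgroup.coe_neg]
      rw [sub_eq_add_neg, add_comm] at hw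
      exact (add_left_cancel hw).symm
    refine ⟨_, ⟨Additive.ofMul b⁻¹, rfl⟩, AddMonoidHom.ext key, ?_⟩
    refine AddMonoidHom.ext fun v => ?_
    have hsurj : Function.Surjective (E (Additive.ofMul a)) :=
      D₁.symm.surjective.comp (hδbij a ha).2
    obtain ⟨v, rfl⟩ := hsurj v
    show E (Additive.ofMul a) (E (Additive.ofMul b⁻¹) (E (Additive.ofMul a) v)) = _
    rw [key]
    rfl
  have hS1 : (1 : AddMonoid.End ↥L') ∈ S := ⟨_, hE1⟩
  have haba := triple_mem hSinv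
  -- matrices
  letI : Module (ZMod p) ↥L' := AddCommGroup.zmodModule fun v => Subtype.ext (h.exp v)
  haveI instFin : Module.Finite (ZMod p) ↥L' := Module.Finite.of_finite
  let β : Module.Basis (Fin (Module.finrank (ZMod p) ↥L')) (ZMod p) ↥L' :=
    by exact Module.finBasis (ZMod p) ↥L'
  let Ψ : AddMonoid.End ↥L' →+* Matrix (Fin (Module.finrank (ZMod p) ↥L')) (Fin (Module.finrank (ZMod p) ↥L')) (ZMod p) :=
    { toFun := fun f => LinearMap.toMatrixAlgEquiv β (AddMonoidHom.toZModLinearMap p f)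
      map_one' := by
        rw [← map_one (LinearMap.toMatrixAlgEquiv β)]
        exact congrArg _ (LinearMap.ext fun _ => rfl)
      map_mul' := fun f g => by
        rw [← map_mul]
        exact congrArg _ (LinearMap.ext fun _ => rfl)
      map_zero' := by
        rw [← map_zero (LinearMap.toMatrixAlgEquiv β)]
        exact congrArg _ (LinearMap.ext fun _ => rfl)
      map_add' := fun f g => by
        rw [← map_add]
        exact congrArg _ (LinearMap.ext fun _ => rfl) }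
  have hΨ : Function.Injective Ψ := by
    intro f g e
    refine AddMonoidHom.ext fun v => ?_
    have e' : LinearMap.toMatrixAlgEquiv β (AddMonoidHom.toZModLinearMap p f) =
        LinearMap.toMatrixAlgEquiv β (AddMonoidHom.toZModLinearMap p g) := e
    exact LinearMap.congr_fun (EquivLike.injective _ e') v
  let S' := AddSubgroup.toZModSubmodule p (S.map Ψ.toAddMonoidHom)
  have hS'mem : ∀ X, X ∈ S' ↔ ∃ x ∈ S, Ψ x = X := fun X => Iff.rfl
  have h1' : 1 ∈ S' := (hS'mem _).2 ⟨1, hS1, map_one Ψ⟩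
  have haba' : ∀ X ∈ S', ∀ Y ∈ S', X * Y * X ∈ S' := by
    intro X hX Y hY
    obtain ⟨x, hx, rfl⟩ := (hS'mem X).1 hX
    obtain ⟨y, hy, rfl⟩ := (hS'mem Y).1 hY
    exact (hS'mem _).2 ⟨_, haba x hx y hy, by rw [map_mul, map_mul]⟩
  have hunit' : ∀ X ∈ S', X ≠ 0 → IsUnit X := by
    intro X hX hX0
    obtain ⟨x, hx, rfl⟩ := (hS'mem X).1 hX
    obtain ⟨y, -, h1, h2⟩ := hSinv x hx (fun e => hX0 (by rw [e, map_zero]))
    exact (IsUnit.map Ψ ⟨⟨x, y, h2, h1⟩, rfl⟩)
  have hcomm' := Linear.JordanDivision.commute_of_triple_closed S' h1' haba' hunit'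
  have hScomm : ∀ x ∈ S, ∀ y ∈ S, x * y = y * x := fun x hx y hy => hΨ (by
    rw [map_mul, map_mul]; exact hcomm' _ ((hS'mem _).2 ⟨x, hx, rfl⟩) _ ((hS'mem _).2 ⟨y, hy, rfl⟩))
  have hSmul : ∀ x ∈ S, ∀ y ∈ S, x * y ∈ S := fun x hx y hy => by
    obtain ⟨z, hz, e⟩ := (hS'mem _).1 (Linear.JordanDivision.mul_mem_of_commute h1' haba' hunit' hcomm'
      ((hS'mem _).2 ⟨x, hx, rfl⟩) ((hS'mem _).2 ⟨y, hy, rfl⟩))
    rwa [← hΨ (e.trans (map_mul Ψ x y).symm)]
  -- the field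
  let K : Subring (AddMonoid.End ↥L') :=
    { S with one_mem' := hS1, mul_mem' := fun hx hy => hSmul _ hx _ hy }
  let instK : CommRing ↥K :=
    { (inferInstance : Ring ↥K) with mul_comm := fun a b => Subtype.ext (hScomm _ a.2 _ b.2) }
  letI : CommRing ↥K := instK
  haveI : Finite (AddMonoid.End ↥L') := Finite.of_injective (fun f => (f : ↥L' → ↥L')) DFunLike.coe_injective
  have hKfield : IsField ↥K :=
    { exists_pair_ne := ⟨0, 1, fun e => by
        have e1 : (0 : AddMonoid.End ↥L') = 1 := congrArg Subtype.val e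
        exact hv₁ (D₁.symm.injective (by
          rw [map_zero]; exact (DFunLike.congr_fun e1 (D₁.symm v₁)).symm))⟩
      mul_comm := mul_comm
      mul_inv_cancel := fun {a} ha => by
        obtain ⟨y, hy, -, h2⟩ := hSinv _ a.2 (fun e => ha (Subtype.ext e))
        exact ⟨⟨y, hy⟩, Subtype.ext h2⟩ }
  letI : Field ↥K := hKfield.toField
  haveI : Finite ↥K := Subtype.finite
  haveI : Fintype ↥K := Fintype.ofFinite _
  haveI : CharP ↥K p := by
    refine CharP.charP_iff_prime_eq_zero (Fact.out : p.Prime) |>.2 (Subtype.ext ?_)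
    rw [Subring.coe_natCast]
    exact AddMonoidHom.ext fun v => Subtype.ext (h.exp (v : M))
  obtain ⟨k, -, hk⟩ := FiniteField.card ↥K p
  haveI : NeZero (k : ℕ) := ⟨k.ne_zero⟩
  let F := GaloisField p (k : ℕ)
  letI : Fintype F := Fintype.ofFinite F
  have hFcard : Fintype.card F = Fintype.card ↥K := by
    rw [hk, ← Nat.card_eq_fintype_card, GaloisField.card p _ k.ne_zero]
  let θ : F ≃+* ↥K := FiniteField.ringEquivOfCardEq hFcard
  let E₀ : F →+* AddMonoid.End ↥L' := K.subtype.comp θ.toRingHom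
  have hKcard : Fintype.card ↥K = Nat.card ↥A := by
    rw [← Nat.card_eq_fintype_card]
    exact (Nat.card_congr (AddMonoidHom.ofInjective hEinj).toEquiv).symm.trans
      (Nat.card_congr Additive.toMul)
  have hE₀inj : Function.Injective E₀ := Subtype.val_injective.comp θ.injective
  have hE₀surj : ∀ a : ↥A, ∃ s : F, E₀ s = E (Additive.ofMul a) := fun a =>
    ⟨θ.symm ⟨E (Additive.ofMul a), _, rfl⟩, congrArg Subtype.val (θ.apply_symm_apply _)⟩
  have hE₀surj' : ∀ s : F, ∃ a : ↥A, E₀ s = E (Additive.ofMul a) := fun s => by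
    obtain ⟨a, ha⟩ := (θ s).2
    exact ⟨a.toMul, by rw [ofMul_toMul, ha]; rfl⟩
  -- coordinates
  set v₀ := D₁.symm v₁ with hv₀def
  have hv₀ : v₀ ≠ 0 := fun e => hv₁ (by simpa [hv₀def] using congrArg D₁ e)
  have hbij : Function.Bijective fun s : F => E₀ s v₀ := by
    refine (Nat.bijective_iff_injective_and_card _).2 ⟨fun s s' e => ?_, ?_⟩
    · by_contra hne
      have h0 : E₀ (s - s') v₀ = 0 := by
        rw [map_sub]; exact sub_eq_zero.2 e
      have h1 := congrArg (fun f : AddMonoid.End ↥L' => f v₀)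
        ((map_mul E₀ (s - s')⁻¹ (s - s')).symm.trans (by rw [inv_mul_cancel₀ (sub_ne_zero.2 hne), map_one]))
      simp only [end_mul_apply, end_one_apply, h0, map_zero] at h1
      exact hv₀ h1.symm
    · rw [Nat.card_eq_fintype_card, hFcard, hKcard, hcard', h.card]
  let φ : (Fin 2 → F) →+ M :=
    AddMonoidHom.mk' (fun f => (δ a₁ (E₀ (f 0) v₀) : M) + (E₀ (f 1) v₀ : M)) fun f f' => by
      simp only [Pi.add_apply, map_add, end_add_apply, AddSubgroup.coe_add]
      abel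
  have hφ : Function.Bijective φ := by
    refine ⟨?_, fun m => ?_⟩
    · rw [injective_iff_map_eq_zero]
      intro f hf
      have h0 : (δ a₁ (E₀ (f 0) v₀) : M) + (E₀ (f 1) v₀ : M) = 0 := hf
      have h1 : (E₀ (f 1) v₀ : M) = 0 := by
        refine hdisj _ ?_ (E₀ (f 1) v₀).2
        rw [eq_neg_of_add_eq_zero_right h0]
        exact neg_mem (δ a₁ _).2
      rw [h1, add_zero] at h0
      have h2 : E₀ (f 0) v₀ = 0 := hD (by rw [map_zero]; exact Subtype.ext h0)
      have hz : ∀ s : F, E₀ s v₀ = 0 → s = 0 := fun s hs => hbij.1 (by simp [hs])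
      funext i
      fin_cases i
      · exact hz _ h2
      · exact hz _ (Subtype.ext h1)
    · obtain ⟨v, hv, v', hv', rfl⟩ := hcov m
      obtain ⟨x, hx⟩ := (hδbij a₁ ha₁).2 ⟨v, hv⟩
      obtain ⟨i, hi⟩ := hbij.2 x
      obtain ⟨j, hj⟩ := hbij.2 ⟨v', hv'⟩
      refine ⟨![i, j], ?_⟩
      show (δ a₁ (E₀ i v₀) : M) + (E₀ j v₀ : M) = v + v'
      rw [show E₀ i v₀ = x from hi, hx, show E₀ j v₀ = _ from hj]
  let Ok : Γ → Matrix.SpecialLinearGroup (Fin 2) F → Prop := fun g m =>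
    ∀ f, σ g (φ f) = φ ((m : Matrix (Fin 2) (Fin 2) F) *ᵥ f)
  have hmulOk : ∀ g g' m m', Ok g m → Ok g' m' → Ok (g * g') (m * m') := fun g g' m m' hg hg' f => by
    rw [act_mul, hg', hg, Matrix.SpecialLinearGroup.coe_mul, Matrix.mulVec_mulVec]
  have hAOk : ∀ (a : ↥A) (s : F), E₀ s = E (Additive.ofMul a) → Ok (a : Γ) (u s) := by
    intro a s hs f
    show σ (a : Γ) ((δ a₁ (E₀ (f 0) v₀) : M) + (E₀ (f 1) v₀ : M)) =
      (δ a₁ (E₀ _ v₀) : M) + (E₀ _ v₀ : M)
    rw [map_add, h.fix _ a.2 _ (δ a₁ _).2, hδ, ← hE a (E₀ (f 1) v₀), ← hs]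
    simp [Cfsg.Lib.Linear.SLTwoNatural.u_coe, Matrix.mulVec, dotProduct, Fin.sum_univ_two, end_add_apply,
      end_mul_apply]
    abel
  have hBOk : ∀ a : ↥A, ∃ s : F, Ok (bb a) (l s) := by
    intro a
    by_cases ha : a = 1
    · exact ⟨0, fun f => by
        simp [ha, bb, Cfsg.Lib.Linear.SLTwoNatural.l_coe, Matrix.one_fin_two.symm, end_one_apply]⟩
    obtain ⟨a', ha'1, ha'⟩ := hεδ a ha
    obtain ⟨s, hs⟩ := hE₀surj a'
    have hs0 : s ≠ 0 := fun e => by
      rw [e, map_zero] at hs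
      exact ha'1 (hEinj (by rw [← hs, map_zero] : E (Additive.ofMul a') = E 0))
    refine ⟨s⁻¹, fun f => ?_⟩
    have key : ∀ y : ↥L', ε a (δ a₁ y) = E₀ s⁻¹ y := fun y => by
      refine (hδbij a' ha'1).1 ?_
      rw [ha', ← hE a', ← hs, ← end_mul_apply, ← map_mul, mul_inv_cancel₀ hs0, map_one, end_one_apply]
    show σ (bb a) ((δ a₁ (E₀ (f 0) v₀) : M) + (E₀ (f 1) v₀ : M)) =
      (δ a₁ (E₀ _ v₀) : M) + (E₀ _ v₀ : M)
    rw [map_add, hbfix _ _ (E₀ (f 1) v₀).2, hε, key]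
    simp [Cfsg.Lib.Linear.SLTwoNatural.l_coe, Matrix.mulVec, dotProduct, Fin.sum_univ_two, end_add_apply,
      end_mul_apply]
    abel
  have hall : ∀ g : Γ, ∃ m, Ok g m := by
    let H : Subgroup Γ :=
      { carrier := {g | ∃ m, Ok g m}
        one_mem' := ⟨1, fun f => by simp [end_one_apply]⟩
        mul_mem' := fun {a b} ⟨m, hm⟩ ⟨m', hm'⟩ => ⟨m * m', hmulOk a b m m' hm hm'⟩
        inv_mem' := by
          rintro a ⟨m, hm⟩
          refine ⟨m⁻¹, fun f => ?_⟩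
          have := congrArg (σ a⁻¹) (hm (((m⁻¹ : Matrix.SpecialLinearGroup (Fin 2) F) :
            Matrix (Fin 2) (Fin 2) F) *ᵥ f))
          rw [act_cancel, Matrix.mulVec_mulVec, ← Matrix.SpecialLinearGroup.coe_mul, mul_inv_cancel,
            Matrix.SpecialLinearGroup.coe_one, Matrix.one_mulVec] at this
          exact this.symm }
    intro g
    refine (h.gen.ge.trans (sup_le (c := H) ?_ ?_)) (Subgroup.mem_top g)
    · intro a ha
      obtain ⟨s, hs⟩ := hE₀surj ⟨a, ha⟩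
      exact ⟨u s, hAOk ⟨a, ha⟩ s hs⟩
    · rintro _ ⟨a, ha, rfl⟩
      obtain ⟨s, hs⟩ := hBOk ⟨a, ha⟩
      exact ⟨l s, hs⟩
  choose r hr using hall
  have huniq : ∀ g m, Ok g m → r g = m := fun g m hm => by
    apply Subtype.ext
    refine Matrix.ext_of_mulVec_single fun i => hφ.1 ?_
    rw [← hr, hm]
  let ρ : Γ →* Matrix.SpecialLinearGroup (Fin 2) F :=
    MonoidHom.mk' r fun a b => huniq _ _ (hmulOk _ _ _ _ (hr a) (hr b))
  have hρinj : Function.Injective ρ := by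
    rw [injective_iff_map_eq_one]
    intro g hg
    refine h.faith g fun m => ?_
    obtain ⟨f, rfl⟩ := hφ.2 m
    rw [hr g f, show r g = 1 from hg, Matrix.SpecialLinearGroup.coe_one, Matrix.one_mulVec]
  have hu : ∀ s : F, ∃ g, ρ g = u s := fun s => by
    obtain ⟨a, ha⟩ := hE₀surj' s
    exact ⟨a, huniq _ _ (hAOk a s ha)⟩
  have hρsurj : Function.Surjective ρ := by
    refine Cfsg.Lib.Linear.SLTwoNatural.gen_induction hu ⟨W, huniq _ _ fun f => ?_⟩ ?_
    · show σ W ((δ a₁ (E₀ (f 0) v₀) : M) + (E₀ (f 1) v₀ : M)) =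
        (δ a₁ (E₀ _ v₀) : M) + (E₀ _ v₀ : M)
      rw [map_add, (hWact _).1, (hWact _).2]
      simp [Cfsg.Lib.Linear.SLTwoNatural.w_coe, Matrix.mulVec, dotProduct, Fin.sum_univ_two, end_neg_apply]
      abel
    · rintro g g' ⟨a, rfl⟩ ⟨b, rfl⟩
      exact ⟨a * b, map_mul ρ a b⟩
  let φe : (Fin 2 → F) ≃+ M := AddEquiv.ofBijective φ hφ
  refine ⟨F, inferInstance, inferInstance, MulEquiv.ofBijective ρ ⟨hρinj, hρsurj⟩, φe.symm,
    hFcard.trans hKcard, fun g m => ?_⟩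
  obtain ⟨f, rfl⟩ := hφ.2 m
  rw [hr g f]
  exact (φe.symm_apply_apply _).trans (congrArg _ (φe.symm_apply_apply f).symm)

end Cfsg.Lib.Local.SpreadSet
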