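import Cfsg.Agent.Lib.Local.OffenderPair
import Cfsg.Agent.Lib.Local.SpreadSetNatural
import Cfsg.Prelude.Def_BaumannBlocks

/-!
# A strict minimal offender pair gives `SL₂(q)` on its natural module
-/

set_option autoImplicit false
set_option linter.style.haveILetI false

namespace Cfsg.Lib.Local.OffenderPair

open Subgroup
open scoped commutatorElement

variable {G : Type*} [Group G] [Finite G] {p : ℕ} [Fact p.Prime] {V P A M T R : Subgroup G}

set_option maxHeartbeats 800000 in
theorem Data.exists_natural (h : Data p V P A M T R)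
    (hnp : ∀ N : Subgroup ↥P, N.Normal → IsPGroup p ↥N → N.map P.subtype ≤ T) :
    ∃ (F : Type) (_ : Field F) (_ : Fintype F), Fintype.card F = Nat.card ↥A ∧
      Nonempty (↥P ≃* Matrix.SpecialLinearGroup (Fin 2) F) ∧
      fx V A = ⁅V, A⁆ ⊔ fx V P ∧ Cfsg.ActsAsSL2OnSection F ⊤ P V (fx V P) := by
  classical
  letI instV : CommGroup ↥V :=
    { (inferInstance : Group ↥V) with mul_comm := fun a b => Subtype.ext (h.comm_V a.2 b.2) }
  obtain ⟨x, hx, hxM⟩ := h.exists_not_mem
  set Zs := (fx V P).subgroupOf V with hZs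
  set mk := QuotientGroup.mk' Zs with hmk
  let cnj : ↥P → (↥V →* ↥V) := fun e =>
    MonoidHom.mk' (fun v => ⟨(e : G) * v * (e : G)⁻¹, h.conj_mem_V e.2 v.2⟩) fun v w => Subtype.ext (by
      show (e : G) * (v * w : G) * (e : G)⁻¹ = (e : G) * v * (e : G)⁻¹ * ((e : G) * w * (e : G)⁻¹)
      group)
  have hcnjZ : ∀ e : ↥P, Zs ≤ Zs.comap (cnj e) := fun e v hv => by
    rw [Subgroup.mem_comap, hZs, mem_subgroupOf]
    rw [hZs, mem_subgroupOf] at hv
    show (e : G) * v * (e : G)⁻¹ ∈ fx V P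
    rw [h.mem_Z_conj e.2 hv]
    exact hv
  let act : ↥P → (↥V ⧸ Zs →* ↥V ⧸ Zs) := fun e => QuotientGroup.map Zs Zs (cnj e) (hcnjZ e)
  have hact : ∀ (e : ↥P) (v : ↥V), act e (mk v) = mk (cnj e v) := fun e v => rfl
  let σ : ↥P →* AddMonoid.End (Additive (↥V ⧸ Zs)) :=
    { toFun := fun e => (act e).toAdditive
      map_one' := by
        refine AddMonoidHom.ext fun q => ?_
        obtain ⟨v, hv⟩ := QuotientGroup.mk'_surjective Zs q.toMul
        show Additive.ofMul (act 1 q.toMul) = q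
        rw [← hv, hact, show cnj 1 v = v from Subtype.ext (by simp [cnj]), hv, ofMul_toMul]
      map_mul' := fun a b => by
        refine AddMonoidHom.ext fun q => ?_
        obtain ⟨v, hv⟩ := QuotientGroup.mk'_surjective Zs q.toMul
        show Additive.ofMul (act (a * b) q.toMul) = Additive.ofMul (act a (act b q.toMul))
        rw [← hv, hact, hact, hact]
        congr 2
        exact Subtype.ext (by simp [cnj, mul_assoc]) }
  have hσ : ∀ (e : ↥P) (v : ↥V), σ e (Additive.ofMul (mk v)) = Additive.ofMul (mk (cnj e v)) :=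
    fun e v => rfl
  have hsurj : ∀ q : Additive (↥V ⧸ Zs), ∃ v : ↥V, Additive.ofMul (mk v) = q := fun q => by
    obtain ⟨v, hv⟩ := QuotientGroup.mk'_surjective Zs q.toMul
    exact ⟨v, by rw [hmk, hv, ofMul_toMul]⟩
  have heq : ∀ v w : ↥V, Additive.ofMul (mk v) = Additive.ofMul (mk w) ↔ (v : G)⁻¹ * w ∈ fx V P :=
    fun v w => by
      rw [Additive.ofMul.injective.eq_iff, hmk, QuotientGroup.mk'_apply, QuotientGroup.mk'_apply,
        QuotientGroup.eq, hZs, mem_subgroupOf]
      rfl
  have hzero : ∀ v : ↥V, Additive.ofMul (mk v) = 0 ↔ (v : G) ∈ fx V P := fun v => by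
    rw [← ofMul_one, Additive.ofMul.injective.eq_iff, hmk, QuotientGroup.mk'_apply,
      QuotientGroup.eq_one_iff, hZs, mem_subgroupOf]
  let L : AddSubgroup (Additive (↥V ⧸ Zs)) := Subgroup.toAddSubgroup (((fx V A).subgroupOf V).map mk)
  have hL : ∀ v : ↥V, Additive.ofMul (mk v) ∈ L ↔ (v : G) ∈ fx V A := by
    intro v
    constructor
    · rintro ⟨c, hc, hcv⟩
      have := (heq c v).1 (congrArg Additive.ofMul hcv)
      have hc' : (c : G) ∈ fx V A := hc
      simpa using mul_mem hc' (h.Z_le this)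
    · exact fun hv => ⟨v, hv, rfl⟩
  set A' := A.subgroupOf P with hA'
  set t : ↥P := ⟨x, hx⟩ with ht
  have hcnjA : ∀ (a : ↥P) (v : ↥V), (cnj a v : G) * (v : G)⁻¹ = ⁅(a : G), (v : G)⁆ := fun a v => by
    simp [cnj, commutatorElement_def]
  have hD : ∀ v : ↥V, (v : G) ∈ fx V A → (cnj t v : G) ∈ fx V (Subgroup.map (MulAut.conj x).toMonoidHom A) :=
    fun v hv => h.conj_mem_fx hx hv
  have hpair : SpreadSet.Pair p σ A' t L := by
    refine ⟨?_, ?_, ?_, ?_, ?_, ?_, ?_, ?_, ?_, ?_, ?_⟩
    · intro q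
      obtain ⟨v, rfl⟩ := hsurj q
      rw [← ofMul_pow, ← map_pow, hzero]
      rw [SubmonoidClass.coe_pow, h.hV.2 _ v.2]
      exact one_mem _
    · apply Subgroup.map_injective P.subtype_injective
      rw [Subgroup.map_sup, hA', map_subgroupOf_eq_of_le h.hAP, Subgroup.map_map,
        show P.subtype.comp (MulAut.conj t).toMonoidHom = (MulAut.conj x).toMonoidHom.comp P.subtype from
          MonoidHom.ext fun g => by simp [ht],
        ← Subgroup.map_map, map_subgroupOf_eq_of_le h.hAP, h.hgen x hx hxM,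
        ← MonoidHom.range_eq_map, Subgroup.range_subtype]
    · intro a ha q hq
      obtain ⟨v, rfl⟩ := hsurj q
      rw [hσ, show cnj a v = v from Subtype.ext (by
        show (a : G) * v * (a : G)⁻¹ = v
        rw [mem_centralizer_iff.1 ((hL v).1 hq).2 (a : G) ha, mul_inv_cancel_right])]
    · intro a ha q
      obtain ⟨v, rfl⟩ := hsurj q
      rw [hσ, ← ofMul_div, ← map_div, hL]
      rw [div_eq_mul_inv, Subgroup.coe_mul, Subgroup.coe_inv, hcnjA, ← commutatorElement_inv]
      exact inv_mem (h.quadratic v.2 ha)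
    · intro q hq q' hq' e
      obtain ⟨v, rfl⟩ := hsurj q
      obtain ⟨w, rfl⟩ := hsurj q'
      rw [hσ, heq] at e
      have hv := (hL v).1 hq
      have hw := hD w ((hL w).1 hq')
      rw [hzero]
      refine h.fx_inter_one hx hxM hv ?_
      have hz : (v : G)⁻¹ * cnj t w ∈ fx V (Subgroup.map (MulAut.conj x).toMonoidHom A) := by
        refine mem_inf.2 ⟨e.1, centralizer_le ?_ e.2⟩
        exact_mod_cast (le_sup_right.trans (h.hgen x hx hxM).le :
          Subgroup.map (MulAut.conj x).toMonoidHom A ≤ P)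
      have := mul_mem hw (inv_mem hz)
      simpa using this
    · intro q
      obtain ⟨v, rfl⟩ := hsurj q
      obtain ⟨c, hc, d, hd, hcd⟩ := h.exists_decomp hx hxM v.2
      have hd' := (h.mem_fx_conj hx).1 hd
      refine ⟨Additive.ofMul (mk ⟨c, hc.1⟩), (hL _).2 hc, Additive.ofMul (mk ⟨x⁻¹ * d * x, hd'.1⟩),
        (hL _).2 hd', ?_⟩
      rw [hσ, ← ofMul_mul, ← map_mul]
      congr 2
      apply Subtype.ext
      show (v : G) = c * (x * (x⁻¹ * d * x) * x⁻¹)
      rw [← hcd]
      group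
    · intro a ha ha1 q hq e
      obtain ⟨v, rfl⟩ := hsurj q
      rw [hσ, hσ, heq] at e
      rw [hzero]
      set d : G := (cnj t v : G) with hd
      have hdD := hD v ((hL v).1 hq)
      have hbr : ⁅d, (a : G)⁆ ∈ fx V P := by
        have e' : ((a : G) * d * (a : G)⁻¹)⁻¹ * d ∈ fx V P := e
        have hdV : d ∈ V := hdD.1
        rw [h.comm_V (inv_mem (h.conj_mem_V a.2 hdV)) hdV] at e'
        convert e' using 1
        simp only [commutatorElement_def]; group
      rcases h.bracket_eq hx hxM hdD ha hbr with h1 | h1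
      · have := h.mem_Z_conj (inv_mem hx) h1
        rw [show x⁻¹ * d * x⁻¹⁻¹ = (v : G) by simp [hd, cnj, ht, mul_assoc]] at this
        exact this ▸ h1
      · exact absurd (Subtype.ext h1) ha1
    · rw [hA', Nat.card_congr (subgroupOfEquivOfLe h.hAP).toEquiv]
      let φ : ↥(fx V A) →* ↥V ⧸ Zs := mk.comp (inclusion inf_le_left)
      have h1 : φ.range = ((fx V A).subgroupOf V).map mk := by
        ext q
        constructor
        · rintro ⟨c, rfl⟩; exact ⟨_, c.2, rfl⟩
        · rintro ⟨c, hc, rfl⟩; exact ⟨⟨c, hc⟩, rfl⟩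
      have h2 : φ.ker = (fx V P).subgroupOf (fx V A) := by
        ext c
        rw [MonoidHom.mem_ker, mem_subgroupOf]
        exact QuotientGroup.eq_one_iff _
      have e := Subgroup.card_eq_card_quotient_mul_card_subgroup φ.ker
      rw [Nat.card_congr (QuotientGroup.quotientKerEquivRange φ).toEquiv, h1, h2,
        Nat.card_congr (subgroupOfEquivOfLe h.Z_le).toEquiv, h.cards.1] at e
      refine (Nat.card_congr ?_).trans (Nat.eq_of_mul_eq_mul_right Nat.card_pos e).symm
      exact (Additive.toMul.subtypeEquiv fun _ => Iff.rfl)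
    · intro g q hq hq0 hgq q' hq'
      obtain ⟨v, rfl⟩ := hsurj q
      obtain ⟨w, rfl⟩ := hsurj q'
      rw [hσ, hL] at hgq
      rw [hσ, hL]
      have hgM : (g : G) ∈ M := by
        by_contra hgM
        have h1 := h.fx_inter_one g.2 hgM hgq (h.conj_mem_fx g.2 ((hL v).1 hq))
        refine hq0 ((hzero v).2 ?_)
        have h2 := h.mem_Z_conj (inv_mem g.2) h1
        rw [show (g : G)⁻¹ * (cnj g v : G) * (g : G)⁻¹⁻¹ = (v : G) by simp [cnj, mul_assoc]] at h2
        exact h2 ▸ h1
      exact h.stab hgM ((hL w).1 hq')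
    · have hker : ∀ g ∈ σ.ker, ∀ v : ↥V, ⁅(g : G), (v : G)⁆ ∈ fx V P := by
        intro g hg v
        have e : σ g (Additive.ofMul (mk v)) = Additive.ofMul (mk v) := by
          rw [MonoidHom.mem_ker.1 hg]; rfl
        rw [hσ, heq] at e
        rw [← hcnjA]
        rw [h.comm_V (inv_mem (cnj g v).2) v.2] at e
        simpa using inv_mem e
      have hpg : IsPGroup p ↥σ.ker := by
        rintro ⟨g, hg⟩
        refine ⟨1, Subtype.ext (Subtype.ext ?_)⟩
        rw [pow_one]
        show ((g ^ p : ↥P) : G) = 1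
        rw [SubmonoidClass.coe_pow, ← mem_bot, ← h.hfaith]
        refine mem_inf.2 ⟨pow_mem g.2 p, mem_centralizer_iff.2 fun v hv => ?_⟩
        set z := ⁅(g : G), v⁆ with hz
        have hzZ : z ∈ fx V P := hker g hg ⟨v, hv⟩
        have hpow : ∀ k : ℕ, (g : G) ^ k * v * ((g : G) ^ k)⁻¹ = z ^ k * v := by
          intro k
          induction k with
          | zero => simp
          | succ k ih =>
            rw [pow_succ' (g : G) k, _root_.mul_inv_rev,
              show (g : G) * (g : G) ^ k * v * (((g : G) ^ k)⁻¹ * (g : G)⁻¹) =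
                (g : G) * ((g : G) ^ k * v * ((g : G) ^ k)⁻¹) * (g : G)⁻¹ by group, ih,
              show (g : G) * (z ^ k * v) * (g : G)⁻¹ = ((g : G) * z ^ k * (g : G)⁻¹) * ((g : G) * v * (g : G)⁻¹) by
                group,
              h.mem_Z_conj g.2 (pow_mem hzZ k), show (g : G) * v * (g : G)⁻¹ = z * v by
                rw [hz, commutatorElement_def]; group, pow_succ, mul_assoc]
        have := hpow p
        rw [h.hV.2 z hzZ.1, one_mul] at this
        exact (mul_inv_eq_iff_eq_mul.1 this).symm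
      have hle := hnp σ.ker inferInstance hpg
      intro g hg
      have hgk : g ∈ σ.ker := MonoidHom.mem_ker.2 (AddMonoidHom.ext hg)
      have : (g : G) ∈ R := by
        refine h.hR _ (hle ⟨g, hgk, rfl⟩) fun y hy _ => h.hTM (hle ⟨⟨y, hy⟩⁻¹ * g * ⟨y, hy⟩, ?_, by simp⟩)
        simpa using (inferInstance : σ.ker.Normal).conj_mem g hgk (⟨y, hy⟩ : ↥P)⁻¹
      rw [h.R_eq_bot, mem_bot] at this
      exact Subtype.ext this
    · intro e
      rw [hA', subgroupOf_eq_bot, disjoint_iff, inf_eq_left.2 h.hAP] at e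
      exact h.A_ne_bot e
  obtain ⟨F, _, _, ρ, ψ, hcard, hψ⟩ := hpair.exists_natural
  refine ⟨F, inferInstance, inferInstance, ?_, ⟨ρ⟩, ?_, h.hPV, inf_le_left, ρ.toMonoidHom, ?_⟩
  · rw [hcard, hA', Nat.card_congr (subgroupOfEquivOfLe h.hAP).toEquiv]
  · refine le_antisymm (fun c hc => ?_) (sup_le (commutator_le.2 fun v hv a ha => h.quadratic hv ha) h.Z_le)
    obtain ⟨v₀, -, hv₀A, hv₀Z⟩ := h.fixed_point
    have hdD := h.conj_mem_fx hx hv₀A
    have hdZ : x * v₀ * x⁻¹ ∉ fx V P := fun h1 => hv₀Z (by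
      have := h.mem_Z_conj (inv_mem hx) h1
      rw [show x⁻¹ * (x * v₀ * x⁻¹) * x⁻¹⁻¹ = v₀ by group] at this
      exact this ▸ h1)
    obtain ⟨a, ha, hz⟩ := h.exists_bracket hx hxM hdD hdZ hc
    have := mul_mem_sup hz (commutator_mem_commutator hdD.1 ha)
    rw [inv_mul_cancel_right, sup_comm] at this
    exact this
  refine ⟨MonoidHom.mk' (fun v => Multiplicative.ofAdd (ψ (Additive.ofMul (mk v))))
      (fun v w => by rw [map_mul, ofMul_mul, map_add, ofAdd_add]), ?_, ?_, ?_, ?_⟩
  · exact MonoidHom.range_eq_top.2 ρ.surjective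
  · intro q
    obtain ⟨v, hv⟩ := hsurj (ψ.symm q.toAdd)
    exact ⟨v, by simpa using congrArg (fun r => Multiplicative.ofAdd (ψ r)) hv⟩
  · intro v
    rw [← hzero]
    show Multiplicative.ofAdd (ψ (Additive.ofMul (mk v))) = 1 ↔ _
    rw [ofAdd_eq_one, map_eq_zero_iff _ ψ.injective]
  · intro e u
    refine ⟨cnj e u, rfl, ?_⟩
    exact (congrArg ψ (hσ e u).symm).trans (hψ e _)

end Cfsg.Lib.Local.OffenderPair
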