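import Cfsg.Agent.Lib.Local.FixedFreeOperator
import Cfsg.Agent.Lib.Local.Uniq.Core
import Cfsg.Prelude.Def_OddOrderLocal

/-!
Prime action without fixed points on the Fitting subgroup (BG 3.8): if every element of `R#` has the fixed points
of `R` in `K` and `R` fixes only `1` in `F (K)`, then `[K, R] ≤ F (K)`.
-/

set_option autoImplicit false
set_option linter.style.haveILetI false

namespace Cfsg.Lib.Local

open Subgroup Uniq
open scoped commutatorElement

universe u

variable {G : Type u} [Group G] [Finite G]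

/-- An operator of prime order without fixed points on `F (K)` centralizes `K` modulo `F (K)`. -/
theorem commutator_le_fitting_of_fixedFree [Group.IsSolvable G] {K : Subgroup G} [hK : K.Normal]
    (hodd : Odd (Nat.card K)) {r : ℕ} [hr : Fact r.Prime] {x : G} (hxr : x ^ r = 1)
    (hrK : ¬ r ∣ Nat.card K) (hC : Cfsg.fittingOf K ⊓ centralizer ({x} : Set G) = ⊥) :
    ⁅K, zpowers x⁆ ≤ Cfsg.fittingOf K := by
  set F := Cfsg.fittingOf K
  have hFn : F.Normal := by
    change ((Cfsg.fittingSubgroup K).map K.subtype).Normal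
    infer_instance
  have hFK : F ≤ K := Uniq.fitting_le K
  set f := QuotientGroup.mk' F
  have hf : ∀ y, f y = 1 ↔ y ∈ F := fun y => QuotientGroup.eq_one_iff y
  have hfs : Function.Surjective f := QuotientGroup.mk'_surjective F
  have hox : (orderOf x).Coprime (Nat.card K) :=
    Nat.Coprime.coprime_dvd_left (orderOf_dvd_of_pow_eq_one hxr) (hr.out.coprime_iff_not_dvd.2 hrK)
  set Kb := K.map f
  haveI hKb : Kb.Normal := hK.map f hfs
  set A := zpowers (f x)
  have hAKb : A ≤ normalizer (Kb : Set (G ⧸ F)) := le_normalizer_of_normal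
  have hKbd : Nat.card Kb ∣ Nat.card K := card_map_dvd (H := K) f
  have hcopA : (Nat.card A).Coprime (Nat.card Kb) := by
    rw [Nat.card_zpowers]
    exact (hox.coprime_dvd_left (orderOf_map_dvd f x)).coprime_dvd_right hKbd
  -- `x` centralizes the cores of `K / F`
  have hcore : ∀ (q : ℕ) [Fact q.Prime], q ∣ Nat.card (Cfsg.fittingOf Kb) →
      f x ∈ centralizer (core q Kb : Set (G ⧸ F)) := by
    intro q hq hqd
    have hqK : q ∣ Nat.card K :=
      (hqd.trans (card_dvd_of_le (Uniq.fitting_le Kb))).trans hKbd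
    have hq2 : q ≠ 2 := fun e => (Nat.not_even_iff_odd.2 hodd) (even_iff_two_dvd.2 (e ▸ hqK))
    haveI hCq : (core q Kb).Normal := by
      change ((Cfsg.pCore q Kb).map Kb.subtype).Normal
      infer_instance
    set T := K ⊓ (core q Kb).comap f
    haveI hT : T.Normal := inferInstance
    have hxT : zpowers x ≤ normalizer (T : Set G) := le_normalizer_of_normal
    have hcopT : (Nat.card (zpowers x)).Coprime (Nat.card T) := by
      rw [Nat.card_zpowers]
      exact hox.coprime_dvd_right (card_dvd_of_le inf_le_left)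
    obtain ⟨P, hP⟩ := Coprime.exists_invariant_sylow hxT hcopT (Or.inr inferInstance) q
    set Q := (P : Subgroup T).map T.subtype
    have hQT : Q ≤ T := map_subtype_le _
    set Y := ⁅Q, zpowers x⁆
    have hYQ : Y ≤ Q := Coprime.commutator_le_of_le_normalizer hP
    have hYs : ∀ (s : ℕ) [Fact s.Prime], s ≠ q → Y ≤ centralizer (core s K : Set G) := by
      intro s hs hsq
      by_cases h0 : core s K = ⊥
      · intro y _
        rw [mem_centralizer_iff, h0]
        intro z hz
        rw [(mem_bot.mp hz : z = 1), one_mul, mul_one]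
      · have hsK : s ∣ Nat.card K :=
          (Uniq.dvd_of_core_ne_bot h0).trans (card_dvd_of_le (Uniq.fitting_le K))
        haveI : (core s K).Normal := by
          change ((Cfsg.pCore s K).map K.subtype).Normal
          infer_instance
        refine commutator_le_centralizer_of_fixedFree (r := r) hq2 hsq (fun e => hrK (e ▸ hsK))
          (fun e => hrK (e ▸ hqK)) (Uniq.core_isPGroup s K) (P.2.map _) le_normalizer_of_normal
          (by rw [normalizer_eq_top]; exact mem_top x) (hP (mem_zpowers x)) hxr ?_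
        exact eq_bot_iff.2 ((inf_le_inf_right _ (Uniq.core_le_fitting s K)).trans hC.le)
    -- the elements of `T` centralizing the other cores form a nilpotent normal subgroup
    set Tc := T ⊓ ⨅ (s : ℕ), ⨅ (_ : s.Prime), ⨅ (_ : s ≠ q), centralizer (core s K : Set G) with hTc
    haveI hTcn : Tc.Normal := by
      refine normalizer_eq_top_iff.mp (top_le_iff.mp (Cfsg.Lib.Sig.le_normalizer_of_invariant
        fun g _ y hy => ?_))
      simp only [hTc, Subgroup.mem_inf, mem_iInf] at hy ⊢
      refine ⟨hT.conj_mem y hy.1 g, fun s h1 h2 => ?_⟩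
      haveI : (core s K).Normal := by
        change ((Cfsg.pCore s K).map K.subtype).Normal
        infer_instance
      exact (Subgroup.normal_centralizer (H := core s K)).conj_mem y (hy.2 s h1 h2) g
    have hcent : ∀ y : Tc, ∃ k : ℕ, y ^ q ^ k ∈ center Tc := by
      intro y
      obtain ⟨k, hk⟩ := (Uniq.core_isPGroup q Kb) ⟨f y, y.2.1.2⟩
      have hkF : (y : G) ^ q ^ k ∈ F := by
        rw [← hf, map_pow]
        simpa using congrArg Subtype.val hk
      set m := (orderOf (y : G)).factorization q
      refine ⟨k + m, mem_center_iff.mpr fun t => Subtype.ext ?_⟩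
      have hzF : (y : G) ^ q ^ (k + m) ∈ F := by
        rw [pow_add, pow_mul]
        exact pow_mem hkF _
      have hzo : ¬ q ∣ orderOf ((y : G) ^ q ^ (k + m)) := by
        intro h
        have hd : orderOf ((y : G) ^ q ^ (k + m)) ∣ orderOf (y : G) / q ^ m := by
          refine orderOf_dvd_of_pow_eq_one ?_
          rw [← pow_mul, show q ^ (k + m) * (orderOf (y : G) / q ^ m) =
            q ^ k * (q ^ m * (orderOf (y : G) / q ^ m)) by ring,
            Nat.mul_div_cancel' (Nat.ordProj_dvd _ _), mul_comm, pow_mul, pow_orderOf_eq_one, one_pow]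
        exact Nat.not_dvd_ordCompl hq.out (orderOf_pos _).ne' (h.trans hd)
      show (t : G) * ((y ^ q ^ (k + m) : Tc) : G) = ((y ^ q ^ (k + m) : Tc) : G) * (t : G)
      rw [SubgroupClass.coe_pow]
      have hz : (y : G) ^ q ^ (k + m) ∈ centralizer ({(t : G)} : Set G) := by
        refine PGroup.mem_of_ordCompl_pow_mem fun s hs hsd => ?_
        haveI : Fact s.Prime := ⟨hs⟩
        have hsq : s ≠ q := fun e => hzo (e ▸ hsd)
        have h1 := t.2
        simp only [hTc, Subgroup.mem_inf, mem_iInf] at h1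
        exact mem_centralizer_singleton_iff.mpr (mem_centralizer_iff.mp (h1.2 s hs hsq) _
          (Uniq.mem_core_of_fitting (pow_mem hzF _) _ (PGroup.orderOf_ordCompl_pow hs)))
      exact (mem_centralizer_singleton_iff.mp hz).symm
    have hTcF : Tc ≤ F := by
      have hq' : IsPGroup q (Tc ⧸ center Tc) := by
        intro z
        obtain ⟨y, rfl⟩ := QuotientGroup.mk'_surjective _ z
        obtain ⟨k, hk⟩ := hcent y
        exact ⟨k, by rw [← map_pow]; exact (QuotientGroup.eq_one_iff _).mpr hk⟩
      haveI := hq'.isNilpotent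
      have hnil : Group.IsNilpotent Tc :=
        Subgroup.isNilpotent_of_ker_le_center (QuotientGroup.mk' (center Tc)) (QuotientGroup.ker_mk' _).le
      have hTcK : Tc ≤ K := inf_le_left.trans inf_le_left
      rw [← map_subgroupOf_eq_of_le hTcK]
      refine map_mono (Core.le_fittingSubgroup' inferInstance
        (Group.nilpotent_of_mulEquiv (subgroupOfEquivOfLe hTcK).symm))
    have hYF : Y ≤ F :=
      (le_inf (hYQ.trans hQT) (le_iInf fun s => le_iInf fun h1 => le_iInf fun h2 =>
        @hYs s ⟨h1⟩ h2)).trans hTcF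
    -- every element of the core comes from `Q`
    refine mem_centralizer_iff.mpr fun z hz => ?_
    obtain ⟨y, rfl⟩ := hfs z
    have hyK : y ∈ K := by
      obtain ⟨k, hk, hky⟩ := Uniq.core_le q Kb hz
      have : k⁻¹ * y ∈ K := hFK ((hf _).mp (by rw [map_mul, map_inv, hky, inv_mul_cancel]))
      simpa using mul_mem hk this
    have hTb : IsPGroup q (T.map f) :=
      (Uniq.core_isPGroup q Kb).to_le ((map_mono inf_le_right).trans (map_comap_le _ _))
    set P' := P.mapSurjective (f.subgroupMap_surjective T)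
    have hP' : (P' : Subgroup (T.map f)) = ⊤ :=
      (P'.is_maximal' (hTb.to_subgroup ⊤) le_top).symm
    have h2 : (⟨f y, mem_map_of_mem f ⟨hyK, hz⟩⟩ : T.map f) ∈ (P' : Subgroup (T.map f)) := by
      rw [hP']; exact mem_top _
    rw [Sylow.coe_mapSurjective] at h2
    obtain ⟨w, hw, hwy⟩ := h2
    have hwy' : f (w : G) = f y := congrArg Subtype.val hwy
    rw [← hwy', ← commutatorElement_eq_one_iff_mul_comm, ← map_commutatorElement, hf]
    exact hYF (commutator_mem_commutator (mem_map_of_mem _ hw) (mem_zpowers x))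
  -- hence `x` centralizes `K / F`
  set Fb := Cfsg.fittingOf Kb
  haveI hFb : Fb.Normal := by
    change ((Cfsg.fittingSubgroup Kb).map Kb.subtype).Normal
    infer_instance
  have hAF : ⁅A, Fb⁆ = ⊥ := commutator_eq_bot_iff_le_centralizer.2
    (zpowers_le.2 (Uniq.mem_centralizer_fitting fun q hq h => hcore q h))
  have hKF : ⁅⁅Kb, A⁆, Fb⁆ = ⊥ := by
    refine commutator_commutator_eq_bot_of_rotate ?_ ?_
    · rw [hAF, commutator_bot_left]
    · rw [← le_bot_iff, ← hAF, commutator_comm A Fb]
      exact commutator_mono (commutator_le_left _ _) le_rfl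
  have hKA : ⁅Kb, A⁆ ≤ Fb := by
    intro z hz
    haveI : Group.IsSolvable Kb := inferInstance
    have hzK : z ∈ Kb := Coprime.commutator_le_of_le_normalizer hAKb hz
    refine ⟨⟨z, hzK⟩, Core.centralizer_fitting_le_of_isSolvable (mem_centralizer_iff.mpr fun w hw =>
      Subtype.ext (mem_centralizer_iff.mp (commutator_eq_bot_iff_le_centralizer.1 hKF hz) _
        (mem_map_of_mem _ hw))), rfl⟩
  have hKA0 : ⁅Kb, A⁆ = ⊥ := Coprime.commutator_eq_bot_of_stabilizes hAKb hcopA
    (Or.inr inferInstance) hKA (by rw [commutator_comm]; exact hAF)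
  refine commutator_le.2 fun k hk a ha => (hf _).mp ?_
  rw [map_commutatorElement, ← mem_bot, ← hKA0]
  refine commutator_mem_commutator (mem_map_of_mem f hk) ?_
  have := mem_map_of_mem f ha
  rwa [MonoidHom.map_zpowers] at this

/-- BG 3.8. -/
theorem prime_action_commutator_le_fitting [Group.IsSolvable G] (hodd : Odd (Nat.card G)) {K R : Subgroup G}
    [hK : K.Normal] (hcop : (Nat.card K).Coprime (Nat.card R))
    (hprime : ∀ x ∈ R, x ≠ 1 → K ⊓ centralizer ({x} : Set G) = K ⊓ centralizer (R : Set G))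
    (hF : Cfsg.fittingOf K ⊓ centralizer (R : Set G) = ⊥) :
    ⁅K, R⁆ ≤ Cfsg.fittingOf K := by
  rcases eq_or_ne R ⊥ with rfl | hR
  · rw [commutator_bot_right]; exact bot_le
  obtain ⟨r, hr, hrd⟩ := Nat.exists_prime_and_dvd (n := Nat.card R)
    (fun e => hR (eq_bot_of_card_eq _ e))
  haveI : Fact r.Prime := ⟨hr⟩
  obtain ⟨x, hx⟩ := exists_prime_orderOf_dvd_card' r hrd
  have hx1 : (x : G) ≠ 1 := fun e => hr.ne_one (by rw [← hx, ← orderOf_coe, e, orderOf_one])
  have hxr : (x : G) ^ r = 1 := by rw [← hx, ← orderOf_coe]; exact pow_orderOf_eq_one _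
  have hCK := hprime x x.2 hx1
  have hrK : ¬ r ∣ Nat.card K := fun h => hr.ne_one (Nat.eq_one_of_dvd_coprimes hcop h hrd)
  have hC : Cfsg.fittingOf K ⊓ centralizer ({(x : G)} : Set G) = ⊥ := by
    refine eq_bot_iff.2 (le_trans ?_ hF.le)
    refine le_inf inf_le_left (le_trans ?_ (inf_le_right (a := K)))
    rw [← hCK]
    exact inf_le_inf_right _ (Uniq.fitting_le K)
  have h1 := commutator_le_fitting_of_fixedFree (hodd.of_dvd_nat (card_subgroup_dvd_card K)) hxr hrK hC
  have hFn : (Cfsg.fittingOf K).Normal := by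
    change ((Cfsg.fittingSubgroup K).map K.subtype).Normal
    infer_instance
  refine commutator_le.2 fun k hk a ha => ?_
  obtain ⟨n, hn, c, hc, rfl⟩ := Coprime.exists_mul_centralizer_of_commutator_mem
    (A := zpowers (x : G)) (G := K) le_normalizer_of_normal
    (by rw [Nat.card_zpowers, orderOf_coe, hx]; exact hr.coprime_iff_not_dvd.2 hrK)
    (Or.inr inferInstance) (Uniq.fitting_le K) le_normalizer_of_normal hk
    (fun b hb => h1 (commutator_mem_commutator hk hb))
  have hcR : c ∈ centralizer (R : Set G) := by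
    have : c ∈ K ⊓ centralizer ({(x : G)} : Set G) := Subgroup.mem_inf.mpr ⟨hc.1,
      mem_centralizer_singleton_iff.mpr (mem_centralizer_iff.mp hc.2 _ (mem_zpowers _)).symm⟩
    rw [hCK] at this
    exact this.2
  have hca : c * a = a * c := (mem_centralizer_iff.mp hcR a ha).symm
  have e : ⁅n * c, a⁆ = n * (a * n⁻¹ * a⁻¹) := by
    rw [commutatorElement_def]
    calc n * c * a * (n * c)⁻¹ * a⁻¹ = n * (c * a) * c⁻¹ * n⁻¹ * a⁻¹ := by group
      _ = n * (a * c) * c⁻¹ * n⁻¹ * a⁻¹ := by rw [hca]
      _ = n * (a * n⁻¹ * a⁻¹) := by group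
  rw [e]
  exact mul_mem hn (hFn.conj_mem _ (inv_mem hn) a)

end Cfsg.Lib.Local
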