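import Mathlib
import Cfsg.Prelude.Def_LocalEven
import Cfsg.Agent.Lib.Linear.GLTwo
import Cfsg.Agent.Lib.Core.Cores

/-!
# `Qd` over a finite field as an extension of the plane by `SL₂`
-/

set_option autoImplicit false
set_option linter.style.haveILetI false

namespace Cfsg.Lib.Local.QdOver

open Cfsg Matrix
open scoped MatrixGroups

variable (F : Type*) [Field F]

theorem row_two {M : SpecialLinearGroup (Fin 3) (F)} (h : M ∈ qdOver F) :
    (M : Matrix (Fin 3) (Fin 3) (F)) 2 0 = 0 ∧ (M : Matrix (Fin 3) (Fin 3) (F)) 2 1 = 0 ∧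
      (M : Matrix (Fin 3) (Fin 3) (F)) 2 2 = 1 := by
  induction h using Subgroup.closure_induction with
  | mem M hM => exact hM
  | one => simp
  | mul A B _ _ hA hB =>
    simp [SpecialLinearGroup.coe_mul, Matrix.mul_apply, Fin.sum_univ_three, hA.1, hA.2.1, hA.2.2,
      hB.1, hB.2.1, hB.2.2]
  | inv A _ hA =>
    have h : ∀ j, ((A⁻¹ : SpecialLinearGroup (Fin 3) (F)) : Matrix (Fin 3) (Fin 3) (F)) 2 j
        = (1 : Matrix (Fin 3) (Fin 3) (F)) 2 j := by
      intro j
      have h1 := congrArg (fun X : SpecialLinearGroup (Fin 3) (F) =>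
        (X : Matrix (Fin 3) (Fin 3) (F)) 2 j) (mul_inv_cancel A)
      simpa [-mul_inv_cancel, -SpecialLinearGroup.coe_inv, SpecialLinearGroup.coe_mul,
        SpecialLinearGroup.coe_one, Matrix.mul_apply, Fin.sum_univ_three, hA.1, hA.2.1, hA.2.2] using h1
    refine ⟨?_, ?_, ?_⟩ <;> rw [h] <;> simp

theorem det_block {M : SpecialLinearGroup (Fin 3) (F)} (h : M ∈ qdOver F) :
    (!![(M : Matrix (Fin 3) (Fin 3) (F)) 0 0, (M : Matrix (Fin 3) (Fin 3) (F)) 0 1;
        (M : Matrix (Fin 3) (Fin 3) (F)) 1 0, (M : Matrix (Fin 3) (Fin 3) (F)) 1 1]).det = 1 := by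
  obtain ⟨h0, h1, h2⟩ := row_two F h
  have hd := M.2
  rw [det_fin_three, h0, h1, h2] at hd
  rw [det_fin_two_of]
  linear_combination hd

/-- The upper left block. -/
def block : qdOver F →* SL(2, F) where
  toFun M := ⟨!![(M.1 : Matrix (Fin 3) (Fin 3) (F)) 0 0, (M.1 : Matrix (Fin 3) (Fin 3) (F)) 0 1;
        (M.1 : Matrix (Fin 3) (Fin 3) (F)) 1 0, (M.1 : Matrix (Fin 3) (Fin 3) (F)) 1 1],
      det_block F M.2⟩
  map_one' := by
    apply Subtype.ext
    ext i j
    fin_cases i <;> fin_cases j <;> simp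
  map_mul' A B := by
    apply Subtype.ext
    obtain ⟨h0, h1, h2⟩ := row_two F B.2
    change _ = (!![(A.1 : Matrix (Fin 3) (Fin 3) (F)) 0 0, (A.1 : Matrix (Fin 3) (Fin 3) (F)) 0 1;
        (A.1 : Matrix (Fin 3) (Fin 3) (F)) 1 0, (A.1 : Matrix (Fin 3) (Fin 3) (F)) 1 1] *
      !![(B.1 : Matrix (Fin 3) (Fin 3) (F)) 0 0, (B.1 : Matrix (Fin 3) (Fin 3) (F)) 0 1;
        (B.1 : Matrix (Fin 3) (Fin 3) (F)) 1 0, (B.1 : Matrix (Fin 3) (Fin 3) (F)) 1 1])
    ext i j
    fin_cases i <;> fin_cases j <;>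
      simp [SpecialLinearGroup.coe_mul, Matrix.mul_apply, Fin.sum_univ_three, Fin.sum_univ_two, h0, h1]

/-- The matrix `[A v; 0 1]`. -/
def affine (A : SL(2, F)) (v : F × F) : qdOver F :=
  ⟨⟨!![(A : Matrix (Fin 2) (Fin 2) (F)) 0 0, (A : Matrix (Fin 2) (Fin 2) (F)) 0 1, v.1;
      (A : Matrix (Fin 2) (Fin 2) (F)) 1 0, (A : Matrix (Fin 2) (Fin 2) (F)) 1 1, v.2;
      0, 0, 1], by
      have hd := A.2
      rw [det_fin_two] at hd
      simp only [det_fin_three, Matrix.cons_val', Matrix.cons_val_zero, Matrix.cons_val_one,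
        Matrix.cons_val, Matrix.of_apply]
      linear_combination hd⟩,
    Subgroup.subset_closure ⟨rfl, rfl, rfl⟩⟩

theorem block_coe (M : qdOver F) : (block F M : Matrix (Fin 2) (Fin 2) (F)) =
    !![(M.1 : Matrix (Fin 3) (Fin 3) (F)) 0 0, (M.1 : Matrix (Fin 3) (Fin 3) (F)) 0 1;
      (M.1 : Matrix (Fin 3) (Fin 3) (F)) 1 0, (M.1 : Matrix (Fin 3) (Fin 3) (F)) 1 1] := rfl

theorem affine_coe (A : SL(2, F)) (v : F × F) :
    ((affine F A v).1 : Matrix (Fin 3) (Fin 3) (F)) =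
    !![(A : Matrix (Fin 2) (Fin 2) (F)) 0 0, (A : Matrix (Fin 2) (Fin 2) (F)) 0 1, v.1;
      (A : Matrix (Fin 2) (Fin 2) (F)) 1 0, (A : Matrix (Fin 2) (Fin 2) (F)) 1 1, v.2;
      0, 0, 1] := rfl

theorem block_affine (A : SL(2, F)) (v : F × F) : block F (affine F A v) = A := by
  apply Subtype.ext
  ext i j
  fin_cases i <;> fin_cases j <;> simp [block_coe, affine_coe]

theorem block_surjective : Function.Surjective (block F) := fun A => ⟨affine F A 0, block_affine F A 0⟩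

theorem affine_mul (A B : SL(2, F)) (v w : F × F) :
    affine F A v * affine F B w = affine F (A * B)
      ((A : Matrix (Fin 2) (Fin 2) (F)) 0 0 * w.1 + (A : Matrix (Fin 2) (Fin 2) (F)) 0 1 * w.2 + v.1,
       (A : Matrix (Fin 2) (Fin 2) (F)) 1 0 * w.1 + (A : Matrix (Fin 2) (Fin 2) (F)) 1 1 * w.2 + v.2) := by
  apply Subtype.ext
  apply Subtype.ext
  ext i j
  fin_cases i <;> fin_cases j <;>
    simp [affine_coe, SpecialLinearGroup.coe_mul, Matrix.mul_apply, Fin.sum_univ_three, Fin.sum_univ_two]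

theorem affine_one : affine F 1 0 = 1 := by
  apply Subtype.ext
  apply Subtype.ext
  ext i j
  fin_cases i <;> fin_cases j <;> simp [affine_coe]

theorem eq_affine (M : qdOver F) : M = affine F (block F M)
    ((M.1 : Matrix (Fin 3) (Fin 3) F) 0 2, (M.1 : Matrix (Fin 3) (Fin 3) F) 1 2) := by
  apply Subtype.ext
  apply Subtype.ext
  obtain ⟨h0, h1, h2⟩ := row_two F M.2
  ext i j
  fin_cases i <;> fin_cases j <;> simp [affine_coe, block_coe, h0, h1, h2]

theorem affine_inj {A B : SL(2, F)} {v w : F × F} (h : affine F A v = affine F B w) : A = B ∧ v = w := by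
  refine ⟨by rw [← block_affine F A v, h, block_affine], ?_⟩
  have h' : ((affine F A v).1 : Matrix (Fin 3) (Fin 3) F) = (affine F B w).1 := by rw [h]
  exact Prod.ext (by simpa [affine_coe] using congrFun (congrFun h' 0) 2)
    (by simpa [affine_coe] using congrFun (congrFun h' 1) 2)

theorem mem_ker_iff (M : qdOver F) : M ∈ (block F).ker ↔
    (M.1 : Matrix (Fin 3) (Fin 3) F) 0 0 = 1 ∧ (M.1 : Matrix (Fin 3) (Fin 3) F) 0 1 = 0 ∧
      (M.1 : Matrix (Fin 3) (Fin 3) F) 1 0 = 0 ∧ (M.1 : Matrix (Fin 3) (Fin 3) F) 1 1 = 1 := by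
  rw [MonoidHom.mem_ker]
  constructor
  · intro h
    have h' : ((block F M : SL(2, F)) : Matrix (Fin 2) (Fin 2) F) = 1 := by rw [h]; rfl
    rw [block_coe] at h'
    exact ⟨by simpa using congrFun (congrFun h' 0) 0, by simpa using congrFun (congrFun h' 0) 1,
      by simpa using congrFun (congrFun h' 1) 0, by simpa using congrFun (congrFun h' 1) 1⟩
  · rintro ⟨a, b, c, d⟩
    apply Subtype.ext
    rw [block_coe]
    ext i j
    fin_cases i <;> fin_cases j <;> simp [a, b, c, d]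

variable [Fintype F] (p : ℕ) [Fact p.Prime] [CharP F p]

omit [Fintype F] [Fact p.Prime] in
theorem affine_pow_p (v : F × F) : affine F 1 v ^ p = 1 := by
  have key : ∀ k : ℕ, affine F 1 v ^ k = affine F 1 ((k : F) * v.1, (k : F) * v.2) := by
    intro k
    induction k with
    | zero => rw [pow_zero, ← affine_one F]; congr 1; simp [Prod.zero_eq_mk]
    | succ k ih =>
      rw [pow_succ, ih, affine_mul, one_mul]
      congr 1
      have e : ((1 : SL(2, F)) : Matrix (Fin 2) (Fin 2) F) = 1 := rfl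
      rw [e]
      simp [add_mul, add_comm]
  rw [key, CharP.cast_eq_zero, zero_mul, zero_mul]
  exact affine_one F

omit [Fintype F] [Fact p.Prime] in
theorem pow_p_of_mem_ker {M : qdOver F} (h : M ∈ (block F).ker) : M ^ p = 1 := by
  rw [eq_affine F M, MonoidHom.mem_ker.mp h]
  exact affine_pow_p F p _

theorem pCore_eq_ker : Cfsg.pCore p (qdOver F) = (block F).ker := by
  classical
  refine le_antisymm ?_ (Cfsg.Lib.Core.le_pCore fun M => ⟨1, Subtype.ext (by
    rw [SubmonoidClass.coe_pow, pow_one, pow_p_of_mem_ker F p M.2, OneMemClass.coe_one])⟩)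
  rw [← MonoidHom.comap_bot, ← Subgroup.map_le_iff_le_comap]
  have hn0 : (Cfsg.pCore p (qdOver F)).Normal := inferInstance
  have hn : ((Cfsg.pCore p (qdOver F)).map (block F)).Normal := hn0.map _ (block_surjective F)
  have hp := (Cfsg.Lib.Core.pCore_isPGroup p (qdOver F)).map (block F)
  obtain ⟨P, hP⟩ : ∃ P : Sylow p SL(2, F), (P : Subgroup SL(2, F)) = Linear.Two.UT F :=
    ⟨(Linear.Two.isPGroup_UT p).toSylow (Linear.Two.not_dvd_index_UT p), rfl⟩
  have hle := hP ▸ IsPGroup.le_sylow_of_normal hp P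
  refine fun g hg => Subgroup.mem_bot.mpr ?_
  let w : SL(2, F) := ⟨!![0, -1; 1, 0], by simp [Matrix.det_fin_two]⟩
  obtain ⟨h0, h1, h2⟩ := Linear.Two.mem_UT.mp (hle hg)
  obtain ⟨-, -, h3⟩ := Linear.Two.mem_UT.mp (hle (hn.conj_mem g hg w))
  change (w.1 * g.1 * Matrix.adjugate w.1) 1 0 = 0 at h3
  simp [w, Matrix.adjugate_fin_two, Matrix.mul_apply, Fin.sum_univ_two, Matrix.vecMul, dotProduct, h0, h1, h2] at h3
  ext i j
  fin_cases i <;> fin_cases j <;> simp [h0, h1, h2, h3]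

end Cfsg.Lib.Local.QdOver
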