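import Mathlib
import Cfsg.Prelude.Def_PLocal
import Cfsg.Agent.Lib.Core.Cores
import Cfsg.Agent.Lib.Local.Sylow

/-!
# Groups generated by the centralizer of central `p`-th powers and a local subgroup

`W` is a rule assigning a subgroup to every Sylow subgroup such that, whenever it is not normal,
some element of the Sylow subgroup outside `O_p` acts quadratically on `Z(O_p)`. Then conjugations
between subgroups of a Sylow subgroup `T` are composed of conjugations by the centralizer of
given `p`-th powers of central elements and by the normalizer of `W T`.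
-/

set_option autoImplicit false
set_option linter.style.haveILetI false

universe u

namespace Cfsg.Lib.Local.QuadraticGen

open Subgroup

variable {p : ℕ} [hp : Fact p.Prime]

/-- The centre of `O_p(G)`, inside `G`. -/
def zCore (p : ℕ) (G : Type u) [Group G] : Subgroup G :=
  (center ↥(Cfsg.pCore p G)).map (Cfsg.pCore p G).subtype

/-- The condition on `W` in one group and one Sylow subgroup. -/
def QuadCond (p : ℕ) (G : Type u) [Group G] (T W : Subgroup G) : Prop :=
  ¬ W.Normal → ∃ g : G, g ∈ T ∧ g ∉ Cfsg.pCore p G ∧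
    ⁅⁅zCore p G, zpowers g⁆, zpowers g⁆ = ⊥

theorem commute_of_mem_zCore {G : Type u} [Group G] {a : G} (ha : a ∈ zCore p G) {b : G}
    (hb : b ∈ Cfsg.pCore p G) : Commute a b := by
  obtain ⟨a, ha', rfl⟩ := ha
  exact Commute.map (show Commute a ⟨b, hb⟩ from (mem_center_iff.1 ha' ⟨b, hb⟩).symm)
    (Cfsg.pCore p G).subtype

/-- An element with a quadratic action and `p`-th power in `O_p` centralizes `p`-th powers. -/
theorem commute_pow_of_quadratic {G : Type u} [Group G] {g : G}
    (hgp : g ^ p ∈ Cfsg.pCore p G) (hq : ⁅⁅zCore p G, zpowers g⁆, zpowers g⁆ = ⊥) {u : G}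
    (hu : u ∈ zCore p G) : Commute (u ^ p) g := by
  haveI : (zCore p G).Normal := Cfsg.Lib.Core.normal_map_char_of_normal _
  set e := u * g * u⁻¹ * g⁻¹ with he
  have heZ : e ∈ zCore p G := by
    have h1 := (inferInstance : (zCore p G).Normal).conj_mem _ (inv_mem hu) g
    rw [he, show u * g * u⁻¹ * g⁻¹ = u * (g * u⁻¹ * g⁻¹) by group]
    exact mul_mem hu h1
  have heg : Commute e g := by
    have hmem : e ∈ ⁅zCore p G, zpowers g⁆ :=
      commutator_mem_commutator hu (mem_zpowers g)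
    have h1 := commutator_mem_commutator hmem (mem_zpowers g)
    rw [hq, mem_bot] at h1
    exact commutatorElement_eq_one_iff_mul_comm.1 h1
  have hconj : u * g * u⁻¹ = e * g := by rw [he]; group
  have hup : e ^ p = 1 := by
    have h1 : u * g ^ p * u⁻¹ = (e * g) ^ p := by rw [← conj_pow, hconj]
    rw [(commute_of_mem_zCore hu hgp).eq, mul_inv_cancel_right, heg.mul_pow] at h1
    exact mul_eq_right.1 h1.symm
  have hiter : ∀ j : ℕ, u ^ j * g * (u ^ j)⁻¹ = e ^ j * g := by
    intro j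
    induction j with
    | zero => simp
    | succ j ih =>
      have hcomm : Commute u (e ^ j) :=
        (commute_of_mem_zCore hu (map_subtype_le _ (pow_mem heZ j)))
      calc u ^ (j + 1) * g * (u ^ (j + 1))⁻¹ = u * (u ^ j * g * (u ^ j)⁻¹) * u⁻¹ := by
            rw [pow_succ' u j, mul_inv_rev]; simp only [mul_assoc]
        _ = e ^ j * (u * g * u⁻¹) := by rw [ih, ← mul_assoc u, hcomm.eq]; simp only [mul_assoc]
        _ = e ^ (j + 1) * g := by rw [hconj, ← mul_assoc, ← pow_succ]
  have h1 := hiter p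
  rw [hup, one_mul] at h1
  exact mul_inv_eq_iff_eq_mul.1 h1

theorem generated (W : ∀ (G : Type u) [Group G], Subgroup G → Subgroup G)
    (hmap : ∀ (G H : Type u) [Group G] [Group H] [Finite G] [Finite H] (f : G →* H),
      Function.Injective f → ∀ T : Subgroup G, IsPGroup p T → (W G T).map f = W H (T.map f))
    (hquad : ∀ (G : Type u) [Group G] [Finite G] (T : Sylow p G), QuadCond p G T (W G T)) :
    ∀ (m : ℕ) (G : Type u) [Group G] [Finite G], Nat.card G ≤ m → ∀ (T : Sylow p G) (V : Subgroup G),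
      (∀ v ∈ V, ∃ z ∈ Cfsg.pCore p G, (∀ t ∈ (T : Subgroup G), Commute t z) ∧ v = z ^ p) →
      ∀ P : Subgroup G → G → Prop,
        (∀ X a b, X ≤ (T : Subgroup G) → X.map (MulAut.conj a).toMonoidHom ≤ T →
          X.map (MulAut.conj (b * a)).toMonoidHom ≤ T → P X a →
          P (X.map (MulAut.conj a).toMonoidHom) b → P X (b * a)) →
        (∀ X a, X ≤ (T : Subgroup G) → X.map (MulAut.conj a).toMonoidHom ≤ T →
          a ∈ centralizer (V : Set G) → P X a) →
        (∀ X a, X ≤ (T : Subgroup G) → X.map (MulAut.conj a).toMonoidHom ≤ T →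
          a ∈ normalizer (W G T : Set G) → P X a) →
        ∀ X a, X ≤ (T : Subgroup G) → X.map (MulAut.conj a).toMonoidHom ≤ T → P X a := by
  intro m
  induction m with
  | zero => intro G _ _ hG; exact absurd (Nat.card_pos (α := G)) (by omega)
  | succ m ih =>
    intro G _ _ hG T V hV P hcomp hC hN X a hX haX
    by_cases hWn : (W G T).Normal
    · exact hN X a hX haX ((normalizer_eq_top_iff.2 hWn).ge (mem_top a))
    obtain ⟨g, hgT, hgQ, hgq⟩ := hquad G T hWn
    set Q := Cfsg.pCore p G with hQdef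
    classical
    obtain ⟨k₀, hk₀⟩ := T.isPGroup' ⟨g, hgT⟩
    have hex : ∃ k, g ^ p ^ k ∈ Q := ⟨k₀, by
      have h1 := congrArg Subtype.val hk₀
      simp only [SubgroupClass.coe_pow, OneMemClass.coe_one] at h1
      rw [h1]; exact one_mem _⟩
    obtain ⟨k, hk⟩ : ∃ k, Nat.find hex = k + 1 := by
      refine Nat.exists_eq_succ_of_ne_zero fun h => hgQ ?_
      simpa [h] using Nat.find_spec hex
    set g' := g ^ p ^ k with hg'
    have hg'Q : g' ∉ Q := Nat.find_min hex (by omega)
    have hg'p : g' ^ p ∈ Q := by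
      rw [hg', ← pow_mul, ← pow_succ, ← hk]; exact Nat.find_spec hex
    have hg'q : ⁅⁅zCore p G, zpowers g'⁆, zpowers g'⁆ = ⊥ := by
      have hle : zpowers g' ≤ zpowers g := zpowers_le.2 (pow_mem (mem_zpowers g) _)
      exact le_bot_iff.1 ((commutator_mono (commutator_mono le_rfl hle) hle).trans hgq.le)
    set K := centralizer ((fun u : G => u ^ p) '' (zCore p G : Set G)) with hKdef
    haveI hKn : K.Normal := ⟨fun c hc y => mem_centralizer_iff.2 (by
      rintro _ ⟨u, hu, rfl⟩
      haveI : (zCore p G).Normal := Cfsg.Lib.Core.normal_map_char_of_normal _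
      have h1 := mem_centralizer_iff.1 hc _
        ⟨y⁻¹ * u * y, by simpa using (inferInstance : (zCore p G).Normal).conj_mem u hu y⁻¹, rfl⟩
      have h2 : (y⁻¹ * u * y) ^ p = y⁻¹ * u ^ p * y := by
        simpa using (conj_pow (a := y⁻¹) (b := u) (i := p))
      simp only at h1 ⊢
      rw [h2] at h1
      calc u ^ p * (y * c * y⁻¹) = y * ((y⁻¹ * u ^ p * y) * c) * y⁻¹ := by group
        _ = y * (c * (y⁻¹ * u ^ p * y)) * y⁻¹ := by rw [h1]
        _ = y * c * y⁻¹ * u ^ p := by group)⟩
    have hQT : Q ≤ (T : Subgroup G) := Cfsg.Lib.Core.pCore_le_sylow T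
    have hKV : K ≤ centralizer (V : Set G) := fun c hc => mem_centralizer_iff.2 fun v hv => by
      obtain ⟨z, hzQ, hzT, rfl⟩ := hV v hv
      refine mem_centralizer_iff.1 hc _ ⟨z, ?_, rfl⟩
      exact ⟨⟨z, hzQ⟩, mem_center_iff.2 fun b => Subtype.ext (hzT _ (hQT b.2)).eq, rfl⟩
    set R := (T : Subgroup G) ⊓ K with hRdef
    have hgR : g' ∈ R := ⟨pow_mem hgT _, mem_centralizer_iff.2 (by
      rintro _ ⟨u, hu, rfl⟩
      exact commute_pow_of_quadratic hg'p hg'q hu)⟩
    set N := normalizer (R : Set G) with hNdef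
    have hTN : (T : Subgroup G) ≤ N := fun t ht => mem_normalizer_iff.2 fun x => by
      have h1 := mem_normalizer_iff.1 (le_normalizer ht : t ∈ normalizer ((T : Subgroup G) : Set G)) x
      have h2 := mem_normalizer_iff.1 ((normalizer_eq_top_iff.2 hKn).ge (mem_top t)) x
      rw [hRdef, mem_inf, mem_inf, ← h1, ← h2]
    have hlt : Nat.card N ≤ m := by
      have hne : N ≠ ⊤ := fun h => hg'Q (by
        haveI : R.Normal := normalizer_eq_top_iff.1 h
        exact Cfsg.Lib.Core.le_pCore (T.isPGroup'.to_le inf_le_left) hgR)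
      have := Cfsg.Lib.Core.lt_card_of_ne_top hne
      omega
    have htop : (⊤ : Subgroup G) = N ⊔ K := by
      obtain ⟨PK, hPK⟩ := Cfsg.Lib.Local.exists_sylow_inf T K
      have hPKR : (PK : Subgroup K).map K.subtype = R := by rw [hPK, subgroupOf_map_subtype]
      rw [hNdef, ← hPKR]
      exact (Sylow.normalizer_sup_eq_top PK).symm
    -- the statement inside `N`
    have hinN : ∀ Y n, Y ≤ (T : Subgroup G) → Y.map (MulAut.conj n).toMonoidHom ≤ T → n ∈ N → P Y n := by
      intro Y n hY hnY hn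
      have hVN : ∀ v ∈ V.subgroupOf N, ∃ z ∈ Cfsg.pCore p N,
          (∀ t ∈ ((T.subtype hTN : Sylow p N) : Subgroup N), Commute t z) ∧ v = z ^ p := by
        intro v hv
        obtain ⟨z, hzQ, hzT, hvz⟩ := hV (v : G) (mem_subgroupOf.1 hv)
        refine ⟨⟨z, hTN (hQT hzQ)⟩, Cfsg.Lib.Core.le_pCore
          ((Cfsg.Lib.Core.pCore_isPGroup p G).comap_of_injective N.subtype N.subtype_injective) hzQ,
          fun t ht => Subtype.ext (hzT _ (by rw [Sylow.coe_subtype, mem_subgroupOf] at ht; exact ht)).eq,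
          Subtype.ext hvz⟩
      have hconj : ∀ (Y' : Subgroup N) (b : N), (Y'.map (MulAut.conj b).toMonoidHom).map N.subtype =
          (Y'.map N.subtype).map (MulAut.conj (b : G)).toMonoidHom := fun Y' b => by
        rw [Subgroup.map_map, Subgroup.map_map]; rfl
      have hTmap : ((T.subtype hTN : Sylow p N) : Subgroup N).map N.subtype = (T : Subgroup G) := by
        rw [Sylow.coe_subtype, subgroupOf_map_subtype, inf_eq_left.2 hTN]
      have hleT : ∀ Y' : Subgroup N, Y' ≤ (T.subtype hTN : Sylow p N) →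
          Y'.map N.subtype ≤ (T : Subgroup G) := fun Y' h => (map_mono h).trans hTmap.le
      have h := ih N hlt (T.subtype hTN) (V.subgroupOf N) hVN
        (fun Y' b => P (Y'.map N.subtype) (b : G)) ?_ ?_ ?_ (Y.subgroupOf N) ⟨n, hn⟩ ?_ ?_
      · simpa [map_subgroupOf_eq_of_le (hY.trans hTN)] using h
      · intro Y' b c h1 h2 h3 hb hc
        have hc' : P ((Y'.map N.subtype).map (MulAut.conj (b : G)).toMonoidHom) (c : G) := by
          rw [← hconj]; exact hc
        exact hcomp _ _ _ (hleT _ h1) (by rw [← hconj]; exact hleT _ h2)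
          (by rw [← coe_mul, ← hconj]; exact hleT _ h3) hb hc'
      · intro Y' b h1 h2 hb
        refine hC _ _ (hleT _ h1) (by rw [← hconj]; exact hleT _ h2) (mem_centralizer_iff.2 fun v hv => ?_)
        obtain ⟨z, hzQ, -, rfl⟩ := hV v hv
        exact congrArg Subtype.val (mem_centralizer_iff.1 hb ⟨z ^ p, pow_mem (hTN (hQT hzQ)) p⟩ hv)
      · intro Y' b h1 h2 hb
        refine hN _ _ (hleT _ h1) (by rw [← hconj]; exact hleT _ h2) ?_
        have h4 := le_normalizer_map N.subtype (mem_map_of_mem N.subtype hb)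
        rwa [hmap N G N.subtype N.subtype_injective _ (T.subtype hTN).isPGroup', hTmap] at h4
      · rw [Sylow.coe_subtype]
        exact comap_mono hY
      · rw [Sylow.coe_subtype]
        refine map_le_iff_le_comap.2 fun y hy => ?_
        exact hnY ⟨(y : G), mem_subgroupOf.1 hy, rfl⟩
    obtain ⟨n, hn, c, hc, hnc⟩ := mem_sup_of_normal_right.1 (htop.le (mem_top a))
    -- `a = c' * n` with `c' = n * c * n⁻¹ ∈ K`
    set c' := n * c * n⁻¹ with hc'
    have hc'K : c' ∈ K := hKn.conj_mem c hc n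
    have ha : a = c' * n := by rw [hc', ← hnc]; group
    -- move `X ^ n` into `T` inside `N ⊓ (K ⊔ T)`
    set M := N ⊓ (K ⊔ (T : Subgroup G)) with hMdef
    have hTM : (T : Subgroup G) ≤ M := le_inf hTN le_sup_right
    have hXn : X.map (MulAut.conj n).toMonoidHom ≤ M := by
      rintro _ ⟨x, hx, rfl⟩
      refine ⟨N.mul_mem (N.mul_mem hn (hTN (hX hx))) (N.inv_mem hn), ?_⟩
      have h1 : c' * (n * x * n⁻¹) * c'⁻¹ ∈ (T : Subgroup G) := by
        have := haX ⟨x, hx, rfl⟩
        simpa [ha, mul_assoc] using this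
      have h2 : c'⁻¹ * (c' * (n * x * n⁻¹) * c'⁻¹) * c' ∈ K ⊔ (T : Subgroup G) :=
        mul_mem (mul_mem (mem_sup_left (inv_mem hc'K)) (mem_sup_right h1)) (mem_sup_left hc'K)
      have h3 : c'⁻¹ * (c' * (n * x * n⁻¹) * c'⁻¹) * c' = n * x * n⁻¹ := by group
      rw [h3] at h2
      exact h2
    obtain ⟨T₁, hT₁⟩ : ∃ T₁ : Sylow p M, (X.map (MulAut.conj n).toMonoidHom).subgroupOf M ≤ T₁ :=
      (((T.isPGroup'.to_le hX).map _).comap_of_injective M.subtype M.subtype_injective).exists_le_sylow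
    obtain ⟨d, hd⟩ := MulAction.exists_smul_eq M T₁ (T.subtype hTM)
    obtain ⟨d₁, hd₁, t, ht, hdt⟩ : ∃ d₁ ∈ K, ∃ t ∈ (T : Subgroup G), t * d₁ = (d : G) := by
      have h1 : (d : G) ∈ (T : Subgroup G) ⊔ K := by rw [sup_comm]; exact d.2.2
      obtain ⟨t, ht, d₁, hd₁, h⟩ := mem_sup_of_normal_right.1 h1
      exact ⟨d₁, hd₁, t, ht, h⟩
    have hd₁N : d₁ ∈ N := by
      have : d₁ = t⁻¹ * (d : G) := by rw [← hdt]; group
      rw [this]
      exact mul_mem (inv_mem (hTN ht)) d.2.1
    have hstep : X.map (MulAut.conj (d₁ * n)).toMonoidHom ≤ (T : Subgroup G) := by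
      rintro _ ⟨x, hx, rfl⟩
      have hm : (⟨n * x * n⁻¹, hXn ⟨x, hx, rfl⟩⟩ : M) ∈ (T₁ : Subgroup M) := hT₁ ⟨x, hx, rfl⟩
      have h1 : d * ⟨n * x * n⁻¹, hXn ⟨x, hx, rfl⟩⟩ * d⁻¹ ∈ ((T.subtype hTM : Sylow p M) : Subgroup M) := by
        rw [← hd, Sylow.coe_subgroup_smul]
        exact smul_mem_pointwise_smul _ (MulAut.conj d) _ hm
      rw [Sylow.coe_subtype, mem_subgroupOf] at h1
      have h2 : t⁻¹ * ((d : G) * (n * x * n⁻¹) * (d : G)⁻¹) * t ∈ (T : Subgroup G) :=
        mul_mem (mul_mem (inv_mem ht) h1) ht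
      have h3 : t⁻¹ * ((d : G) * (n * x * n⁻¹) * (d : G)⁻¹) * t = (d₁ * n) * x * (d₁ * n)⁻¹ := by
        rw [← hdt]; group
      rw [h3] at h2
      exact h2
    have ha' : a = (c' * d₁⁻¹) * (d₁ * n) := by rw [ha]; group
    rw [ha'] at haX ⊢
    refine hcomp X _ _ hX hstep haX (hinN X _ hX hstep (mul_mem hd₁N hn))
      (hC _ _ hstep ?_ (hKV (mul_mem hc'K (inv_mem hd₁))))
    rw [Subgroup.map_map]
    refine le_trans (le_of_eq ?_) haX
    congr 1
    ext y
    simp [mul_assoc]

end Cfsg.Lib.Local.QuadraticGen
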