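import Mathlib
import Cfsg.Agent.Lib.Linear.DicksonTwo

/-!
# Two quadratic elements acting irreducibly

* `exists_natural_data`: the same, with the embedding of `SL₂(p)` sending `-1` to `-1`.
* `exists_natural_plane`: if two elements acting quadratically generate an irreducible group of
  automorphisms of an `F_p`-space which is not a `p`-group (`p` odd), then some plane carries
  all of `SL₂(p)` inside that group.
-/

set_option autoImplicit false
set_option linter.style.haveILetI false
set_option linter.unusedSectionVars false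

namespace Cfsg.Lib.Local.QuadraticPair

open Matrix Cfsg.Lib.Linear.Dickson
open scoped MatrixGroups

variable {p : ℕ} [hp : Fact p.Prime] {W : Type*} [AddCommGroup W] [Module (ZMod p) W] [Finite W]

theorem exists_natural_data (h2 : p ≠ 2) (a b : W ≃ₗ[ZMod p] W)
    (ha : ∀ w, a (a w - w) = a w - w) (hb : ∀ w, b (b w - w) = b w - w)
    (hirr : ∀ U : Submodule (ZMod p) W, (∀ u ∈ U, a u ∈ U) → (∀ u ∈ U, b u ∈ U) → U = ⊥ ∨ U = ⊤)
    (hX : ¬ IsPGroup p (Subgroup.closure ({a, b} : Set (W ≃ₗ[ZMod p] W)))) :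
    ∃ θ : (Fin 2 → ZMod p) →ₗ[ZMod p] W, Function.Injective θ ∧
      (∀ M : SL(2, ZMod p), ∃ g ∈ Subgroup.closure ({a, b} : Set (W ≃ₗ[ZMod p] W)),
        ∀ v, g (θ v) = θ ((M : Matrix (Fin 2) (Fin 2) (ZMod p)) *ᵥ v)) ∧
      ∃ σ : SL(2, ZMod p) →* (W ≃ₗ[ZMod p] W), Function.Injective σ ∧
        (∀ M, σ M ∈ Subgroup.closure ({a, b} : Set (W ≃ₗ[ZMod p] W))) ∧
        (∀ w, σ (-1) w = -w) ∧
        ∀ r w, σ (tU r) (σ (tU r) w - w) = σ (tU r) w - w := by
  classical
  set A : Module.End (ZMod p) W := a.toLinearMap - 1 with hA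
  set B : Module.End (ZMod p) W := b.toLinearMap - 1 with hB
  have hAe : ∀ w, a w = w + A w := fun w => by simp [hA]
  have hBe : ∀ w, b w = w + B w := fun w => by simp [hB]
  have hA2 : ∀ w, A (A w) = 0 := fun w => by simp [hA, ha w]
  have hB2 : ∀ w, B (B w) = 0 := fun w => by simp [hB, hb w]
  have hirr' : ∀ U : Submodule (ZMod p) W, (∀ u ∈ U, A u ∈ U) → (∀ u ∈ U, B u ∈ U) →
      U = ⊥ ∨ U = ⊤ := fun U h1 h3 => hirr U
    (fun u hu => by rw [hAe]; exact add_mem hu (h1 u hu))
    (fun u hu => by rw [hBe]; exact add_mem hu (h3 u hu))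
  set C : Module.End (ZMod p) W := A * B + B * A with hC
  have hCA : C * A = A * C := by
    ext w; simp [hC, Module.End.mul_apply, map_add, hA2]
  have hCB : C * B = B * C := by
    ext w; simp [hC, Module.End.mul_apply, map_add, hB2]
  have hWne : Nontrivial W := by
    by_contra hcon
    haveI := not_nontrivial_iff_subsingleton.1 hcon
    exact hX (fun g => ⟨0, Subtype.ext (LinearEquiv.ext fun w => Subsingleton.elim _ _)⟩)
  -- the anticommutator is nonzero
  have hC0 : C ≠ 0 := by
    intro h0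
    have h0' : ∀ w, A (B w) + B (A w) = 0 := fun w => by
      have := congrArg (fun f : Module.End (ZMod p) W => f w) h0
      simpa [hC, Module.End.mul_apply] using this
    have key : ∀ (A B : Module.End (ZMod p) W), (∀ w, A (A w) = 0) → (∀ w, A (B w) + B (A w) = 0) →
        (∀ U : Submodule (ZMod p) W, (∀ u ∈ U, A u ∈ U) → (∀ u ∈ U, B u ∈ U) → U = ⊥ ∨ U = ⊤) →
        A = 0 := by
      intro A B hA2 h0' hirr'
      rcases hirr' (LinearMap.ker A) (fun u hu => by
          rw [LinearMap.mem_ker] at hu ⊢; rw [hu, map_zero])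
        (fun u hu => by
          rw [LinearMap.mem_ker] at hu ⊢
          have := h0' u
          rwa [hu, map_zero, add_zero] at this) with h | h
      · exfalso
        obtain ⟨w, hw⟩ := exists_ne (0 : W)
        have hAw : A w = 0 := by
          have : A w ∈ LinearMap.ker A := LinearMap.mem_ker.2 (hA2 w)
          rwa [h, Submodule.mem_bot] at this
        have : w ∈ LinearMap.ker A := LinearMap.mem_ker.2 hAw
        rw [h, Submodule.mem_bot] at this
        exact hw this
      · exact LinearMap.ker_eq_top.1 h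
    have hA0 := key A B hA2 h0' hirr'
    have hB0 := key B A hB2 (fun w => by rw [add_comm]; exact h0' w) fun U h1 h3 => hirr' U h3 h1
    refine hX ?_
    have hcl : Subgroup.closure ({a, b} : Set (W ≃ₗ[ZMod p] W)) = ⊥ := by
      rw [eq_bot_iff, Subgroup.closure_le]
      rintro g (rfl | rfl) <;> refine Subgroup.mem_bot.2 (LinearEquiv.ext fun w => ?_)
      · simp [hAe, hA0]
      · simp [hBe, hB0]
    rw [hcl]
    exact IsPGroup.of_bot
  -- the field generated by `C`
  set I : Ideal (Polynomial (ZMod p)) := RingHom.ker (Polynomial.aeval C : Polynomial (ZMod p) →ₐ[ZMod p] Module.End (ZMod p) W) with hI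
  let E := Polynomial (ZMod p) ⧸ I
  let e : E →ₐ[ZMod p] Module.End (ZMod p) W := Ideal.Quotient.liftₐ I (Polynomial.aeval C) fun f hf => hf
  have he : Function.Injective e := by
    rw [injective_iff_map_eq_zero]
    intro x
    induction x using Quotient.inductionOn' with | h f => ?_
    intro hf
    exact Ideal.Quotient.eq_zero_iff_mem.2 hf
  have hcomm : ∀ (x : E) (T : Module.End (ZMod p) W), C * T = T * C → e x * T = T * e x := by
    intro x T hT
    induction x using Quotient.inductionOn' with | h f => ?_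
    show Polynomial.aeval C f * T = T * Polynomial.aeval C f
    induction f using Polynomial.induction_on' with
    | add f g hf hg => rw [map_add, add_mul, mul_add, hf, hg]
    | monomial n r =>
      rw [Polynomial.aeval_monomial, mul_assoc, (Commute.pow_left (show Commute C T from hT) n).eq,
        ← mul_assoc, (Algebra.commutes r T), mul_assoc]
  have heinj : ∀ x : E, x ≠ 0 → ∀ w, e x w = 0 → w = 0 := by
    intro x hx w hw
    have hne : e x ≠ 0 := fun h => hx (he (by rw [h, map_zero]))
    rcases hirr' (LinearMap.ker (e x))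
      (fun u hu => by
        rw [LinearMap.mem_ker] at hu ⊢
        rw [← Module.End.mul_apply, hcomm x A hCA, Module.End.mul_apply, hu, map_zero])
      (fun u hu => by
        rw [LinearMap.mem_ker] at hu ⊢
        rw [← Module.End.mul_apply, hcomm x B hCB, Module.End.mul_apply, hu, map_zero]) with h | h
    · have : w ∈ LinearMap.ker (e x) := LinearMap.mem_ker.2 hw
      rwa [h, Submodule.mem_bot] at this
    · exact absurd (LinearMap.ker_eq_top.1 h) hne
  haveI : Finite (Module.End (ZMod p) W) := Finite.of_injective (fun f => (f : W → W)) DFunLike.coe_injective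
  haveI : Finite E := Finite.of_injective e he
  haveI : Nontrivial E := ⟨⟨0, Ideal.Quotient.mk I Polynomial.X, fun h => hC0 (by
    have := congrArg e h
    rw [map_zero] at this
    rw [this]
    exact (Polynomial.aeval_X C).symm)⟩⟩
  haveI : IsDomain E := by
    haveI : NoZeroDivisors E := ⟨fun {x y} hxy => by
      by_contra hcon
      push Not at hcon
      refine hcon.2 (he (LinearMap.ext fun w => ?_))
      have h := congrArg (fun z : E => e z w) hxy
      simp only [map_mul, map_zero, Module.End.mul_apply, LinearMap.zero_apply] at h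
      rw [map_zero]
      exact heinj x hcon.1 _ h⟩
    exact NoZeroDivisors.to_isDomain E
  haveI : I.IsMaximal := Ideal.Quotient.maximal_of_isField I (Finite.isDomain_to_isField E)
  letI : Field E := Ideal.Quotient.field I
  haveI : CharP E p := charP_of_injective_algebraMap (algebraMap (ZMod p) E).injective p
  set ℓ : E := Ideal.Quotient.mk I Polynomial.X with hℓ
  have heℓ : e ℓ = C := Polynomial.aeval_X C
  have hℓ0 : ℓ ≠ 0 := fun h => hC0 (by rw [← heℓ, h, map_zero])
  have hA0 : A ≠ 0 := fun h => hC0 (by rw [hC, h, zero_mul, mul_zero, add_zero])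
  obtain ⟨w₀, hw₀⟩ : ∃ w, A w ≠ 0 := by
    by_contra hcon
    push Not at hcon
    exact hA0 (LinearMap.ext hcon)
  set u := A w₀ with hu
  set v := B u with hv
  have hAu : A u = 0 := hA2 w₀
  have hBv : B v = 0 := hB2 u
  have hAv : A v = e ℓ u := by
    rw [heℓ, hC, LinearMap.add_apply, Module.End.mul_apply, Module.End.mul_apply, hAu, map_zero,
      add_zero]
  -- coordinates
  let Φ₀ : (Fin 2 → E) →ₗ[ZMod p] W :=
    { toFun := fun x => e (x 0) u + e (x 1) v
      map_add' := fun x y => by simp only [Pi.add_apply, map_add, LinearMap.add_apply]; abel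
      map_smul' := fun c x => by simp [map_smul, smul_add] }
  have hΦ₀A : ∀ x, A (Φ₀ x) = e (x 1 * ℓ) u := fun x => by
    show A (e (x 0) u + e (x 1) v) = _
    rw [map_add, ← Module.End.mul_apply A, ← hcomm _ A hCA, Module.End.mul_apply, hAu, map_zero,
      zero_add, ← Module.End.mul_apply A, ← hcomm _ A hCA, Module.End.mul_apply, hAv, map_mul,
      Module.End.mul_apply]
  have hΦ₀B : ∀ x, B (Φ₀ x) = e (x 0) v := fun x => by
    show B (e (x 0) u + e (x 1) v) = _
    rw [map_add, ← Module.End.mul_apply B, ← hcomm _ B hCB, Module.End.mul_apply,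
      ← Module.End.mul_apply B (e (x 1)), ← hcomm _ B hCB, Module.End.mul_apply, hBv, map_zero,
      add_zero]
  have hinj : Function.Injective Φ₀ := by
    rw [injective_iff_map_eq_zero]
    intro x hx
    have h1 : x 1 = 0 := by
      by_contra h1
      have h := congrArg A hx
      rw [hΦ₀A, map_zero] at h
      exact hw₀ (heinj _ (mul_ne_zero h1 hℓ0) _ h)
    have h0 : x 0 = 0 := by
      by_contra h0
      have hx' : e (x 0) u + e (x 1) v = 0 := hx
      rw [h1, map_zero, LinearMap.zero_apply, add_zero] at hx'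
      exact hw₀ (heinj _ h0 _ hx')
    funext i
    fin_cases i <;> assumption
  have hsurj : Function.Surjective Φ₀ := by
    rw [← LinearMap.range_eq_top]
    refine (hirr' (LinearMap.range Φ₀) ?_ ?_).resolve_left ?_
    · rintro _ ⟨x, rfl⟩
      refine ⟨![x 1 * ℓ, 0], ?_⟩
      rw [hΦ₀A]
      show e (x 1 * ℓ) u + e 0 v = _
      simp
    · rintro _ ⟨x, rfl⟩
      refine ⟨![0, x 0], ?_⟩
      rw [hΦ₀B]
      show e 0 u + e (x 0) v = _
      simp
    · intro h
      have hmem : Φ₀ ![1, 0] ∈ LinearMap.range Φ₀ := ⟨_, rfl⟩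
      rw [h, Submodule.mem_bot] at hmem
      have h' : e 1 u + e 0 v = 0 := hmem
      simp at h'
      exact hw₀ h'
  let Φ : (Fin 2 → E) ≃ₗ[ZMod p] W := LinearEquiv.ofBijective Φ₀ ⟨hinj, hsurj⟩
  let ψ : SL(2, E) →* (W ≃ₗ[ZMod p] W) :=
    { toFun := fun M => (Φ.symm.trans ((SpecialLinearGroup.toLin' M).restrictScalars (ZMod p))).trans Φ
      map_one' := by
        refine LinearEquiv.ext fun w => ?_
        simp [SpecialLinearGroup.toLin'_apply]
      map_mul' := fun M N => by
        refine LinearEquiv.ext fun w => ?_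
        simp [SpecialLinearGroup.toLin'_apply, Matrix.mulVec_mulVec] }
  have hψ : ∀ M x, ψ M (Φ x) = Φ ((M : Matrix (Fin 2) (Fin 2) E) *ᵥ x) := fun M x => by
    simp [ψ, SpecialLinearGroup.toLin'_apply]
  have hΦ : ∀ x, Φ x = e (x 0) u + e (x 1) v := fun x => rfl
  have hψa : ψ (tU ℓ) = a := by
    refine LinearEquiv.ext fun w => ?_
    obtain ⟨x, rfl⟩ := Φ.surjective w
    rw [hψ, hAe, show A (Φ x) = e (x 1 * ℓ) u from hΦ₀A x, hΦ, hΦ]
    simp [tU_coe, Matrix.mulVec, dotProduct, Fin.sum_univ_two, mul_comm ℓ, map_add]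
    abel
  have hψb : ψ (tL 1) = b := by
    refine LinearEquiv.ext fun w => ?_
    obtain ⟨x, rfl⟩ := Φ.surjective w
    rw [hψ, hBe, show B (Φ x) = e (x 0) v from hΦ₀B x, hΦ, hΦ]
    simp [tL_coe, Matrix.mulVec, dotProduct, Fin.sum_univ_two, map_add]
    abel
  set H := (Subgroup.closure ({a, b} : Set (W ≃ₗ[ZMod p] W))).comap ψ with hH
  haveI : Finite H := Finite.of_injective
    (fun x : H => ((x : SL(2, E)) : Matrix (Fin 2) (Fin 2) E)) (fun x y h => Subtype.ext (Subtype.ext h))
  have haH : tU ℓ ∈ H := by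
    rw [hH, Subgroup.mem_comap, hψa]; exact Subgroup.subset_closure (Or.inl rfl)
  have hbH : tL (1 : E) ∈ H := by
    rw [hH, Subgroup.mem_comap, hψb]; exact Subgroup.subset_closure (Or.inr rfl)
  have hne : ¬ Commute (tU ℓ) (tL (1 : E)) := fun h => by
    have := congrArg (fun z : SL(2, E) => z 0 0) h.eq
    simp [Cfsg.Lib.Linear.Dickson.mul_apply', tU_coe, tL_coe] at this
    exact hℓ0 this
  obtain ⟨g, hg⟩ := exists_SL2_map_le (p := p) h2 H haH hbH (i := 1) (j := 1)
    (by rw [pow_one, tU_pow, CharP.cast_eq_zero, zero_mul, tU_zero])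
    (by rw [pow_one, tL_pow, CharP.cast_eq_zero, zero_mul, tL_zero]) hne
  let ι := ZMod.castHom (dvd_refl p) E
  have hι : ι = algebraMap (ZMod p) E := RingHom.ext_zmod _ _
  let θ : (Fin 2 → ZMod p) →ₗ[ZMod p] W :=
    { toFun := fun x => Φ ((g : Matrix (Fin 2) (Fin 2) E) *ᵥ (ι ∘ x))
      map_add' := fun x y => by
        rw [← map_add, ← Matrix.mulVec_add]
        congr 2
        funext i
        simp
      map_smul' := fun c x => by
        have h : ι ∘ (c • x) = c • (ι ∘ x) := by
          funext i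
          simp [Pi.smul_apply, hι, Algebra.smul_def]
        simp only [RingHom.id_apply]
        rw [h, Matrix.mulVec_smul, map_smul] }
  have hψinj : Function.Injective ψ := fun M N h => by
    apply Subtype.ext
    refine Matrix.ext_of_mulVec_single fun i => Φ.injective ?_
    rw [← hψ, ← hψ, h]
  refine ⟨θ, ?_, fun M => ⟨ψ _, hg M, fun x => ?_⟩,
    ψ.comp ((conjGL g).comp (Matrix.SpecialLinearGroup.map ι)),
    hψinj.comp ((conjGL_injective g).comp fun M N h => Subtype.ext ?_), fun M => hg M, ?_, ?_⟩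
  · intro x y h
    have h1 := congrArg (fun z => ((g⁻¹ : GL (Fin 2) E) : Matrix (Fin 2) (Fin 2) E) *ᵥ z)
      (Φ.injective h)
    simp only [Matrix.mulVec_mulVec, Units.inv_mul, Matrix.one_mulVec] at h1
    funext i
    exact ι.injective (congrFun h1 i)
  · show ψ _ (Φ _) = Φ _
    rw [hψ, conjGL_coe, Matrix.mulVec_mulVec, mul_assoc, Units.inv_mul, mul_one,
      ← Matrix.mulVec_mulVec]
    congr 2
    funext i
    exact (RingHom.map_mulVec ι (M : Matrix (Fin 2) (Fin 2) (ZMod p)) x i).symm
  · exact (Matrix.map_injective ι.injective) (congrArg Subtype.val h)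
  · intro w
    obtain ⟨x, rfl⟩ := Φ.surjective w
    show ψ (conjGL g (Matrix.SpecialLinearGroup.map ι (-1))) (Φ x) = _
    have hneg : ((Matrix.SpecialLinearGroup.map ι (-1 : SL(2, ZMod p)) : SL(2, E)) :
        Matrix (Fin 2) (Fin 2) E) = -1 := by
      ext i j; fin_cases i <;> fin_cases j <;> simp
    rw [hψ, ← map_neg, conjGL_coe, hneg, mul_neg, mul_one, neg_mul, Units.mul_inv, Matrix.neg_mulVec,
      Matrix.one_mulVec]
  · intro r w
    obtain ⟨x, rfl⟩ := Φ.surjective w
    set M := conjGL g (Matrix.SpecialLinearGroup.map ι (tU r)) with hM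
    show ψ M (ψ M (Φ x) - Φ x) = ψ M (Φ x) - Φ x
    rw [hψ, ← map_sub, hψ]
    congr 1
    rw [Matrix.mulVec_sub, sub_eq_sub_iff_add_eq_add]
    have hN : ((M : Matrix (Fin 2) (Fin 2) E) - 1) * ((M : Matrix (Fin 2) (Fin 2) E) - 1) = 0 := by
      have h0 : (M : Matrix (Fin 2) (Fin 2) E) - 1 = (g : Matrix (Fin 2) (Fin 2) E) *
          !![0, ι r; 0, 0] * ((g⁻¹ : GL (Fin 2) E) : Matrix (Fin 2) (Fin 2) E) := by
        have h1 : (!![0, ι r; 0, 0] : Matrix (Fin 2) (Fin 2) E) =
            (tU (ι r) : Matrix (Fin 2) (Fin 2) E) - 1 := by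
          rw [tU_coe]; ext i j; fin_cases i <;> fin_cases j <;> simp
        have h3 : (Matrix.SpecialLinearGroup.map ι (tU r)) = tU (ι r) := by
          apply ext_two <;> simp [tU_coe]
        rw [h1, mul_sub, sub_mul, mul_one, Units.mul_inv, hM, conjGL_coe, h3]
      rw [h0, mul_assoc, ← mul_assoc ((g⁻¹ : GL (Fin 2) E) : Matrix (Fin 2) (Fin 2) E),
        ← mul_assoc ((g⁻¹ : GL (Fin 2) E) : Matrix (Fin 2) (Fin 2) E), Units.inv_mul, one_mul,
        ← mul_assoc, mul_assoc (g : Matrix (Fin 2) (Fin 2) E)]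
      have h4 : (!![0, ι r; 0, 0] : Matrix (Fin 2) (Fin 2) E) * !![0, ι r; 0, 0] = 0 := by
        ext i j; fin_cases i <;> fin_cases j <;> simp [Matrix.mul_apply, Fin.sum_univ_two]
      rw [h4, mul_zero, zero_mul]
    have h5 := congrArg (fun Q : Matrix (Fin 2) (Fin 2) E => Q *ᵥ x) hN
    simp only [sub_mul, mul_sub, mul_one, one_mul, Matrix.sub_mulVec, Matrix.zero_mulVec,
      ← Matrix.mulVec_mulVec, Matrix.one_mulVec] at h5
    rw [← sub_eq_zero]
    linear_combination (norm := abel) h5

theorem exists_natural_plane (h2 : p ≠ 2) (a b : W ≃ₗ[ZMod p] W)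
    (ha : ∀ w, a (a w - w) = a w - w) (hb : ∀ w, b (b w - w) = b w - w)
    (hirr : ∀ U : Submodule (ZMod p) W, (∀ u ∈ U, a u ∈ U) → (∀ u ∈ U, b u ∈ U) → U = ⊥ ∨ U = ⊤)
    (hX : ¬ IsPGroup p (Subgroup.closure ({a, b} : Set (W ≃ₗ[ZMod p] W)))) :
    ∃ θ : (Fin 2 → ZMod p) →ₗ[ZMod p] W, Function.Injective θ ∧
      ∀ M : SL(2, ZMod p), ∃ g ∈ Subgroup.closure ({a, b} : Set (W ≃ₗ[ZMod p] W)),
        ∀ v, g (θ v) = θ ((M : Matrix (Fin 2) (Fin 2) (ZMod p)) *ᵥ v) :=
  let ⟨θ, h, h', _⟩ := exists_natural_data h2 a b ha hb hirr hX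
  ⟨θ, h, h'⟩

end Cfsg.Lib.Local.QuadraticPair
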