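import Cfsg.Agent.Lib.Local.ExtraspecialTorus
import Cfsg.Agent.Lib.Local.EigenLines

/-!
# Bounds on `p` from the radical subgroups of `p^{1+2}_+`
-/

set_option autoImplicit false

namespace Cfsg.Lib.Local.ExtraspecialThree

open Subgroup Matrix EigenLines

variable {G : Type*} [Group G] [Finite G] {p : ℕ} [hp : Fact p.Prime] {P : Sylow p G} {z x y : G}

theorem exists_eigen {M : Matrix (Fin 2) (Fin 2) (ZMod p)} {v : Fin 2 → ZMod p} {a b : ZMod p} (hv0 : v ≠ 0)
    (hv : M *ᵥ v = a • v) (hd : M.det = a * b) (ha : a ≠ 0) (hab : a ≠ b) :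
    ∃ w, cross v w ≠ 0 ∧ M *ᵥ w = b • w := by
  obtain ⟨u, hu⟩ : ∃ u, cross v u ≠ 0 := by
    by_cases h0 : v 0 = 0
    · refine ⟨![1, 0], ?_⟩
      have h1 : v 1 ≠ 0 := fun h1 => hv0 (by funext i; fin_cases i <;> assumption)
      simp [cross, h0, h1]
    · exact ⟨![0, 1], by simp [cross, h0]⟩
  have hdec := decomp hu (M *ᵥ u)
  set c := cross (M *ᵥ u) u / cross v u
  have hb : cross v (M *ᵥ u) / cross v u = b := by
    have h := cross_mulVec M v u
    rw [hv, cross_smul_left, hd, mul_assoc] at h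
    rw [mul_left_cancel₀ ha h, mul_div_assoc, div_self hu, mul_one]
  rw [hb] at hdec
  refine ⟨u + (c / (b - a)) • v, ?_, ?_⟩
  · intro h
    apply hu
    simp [cross] at h ⊢
    linear_combination h
  · rw [mulVec_add, mulVec_smul, hv, hdec, smul_add, smul_smul, smul_smul]
    have : b - a ≠ 0 := sub_ne_zero.2 hab.symm
    rw [show b * (c / (b - a)) = c + c / (b - a) * a by field_simp; ring, add_smul]
    abel

/-- A moved centre in the direction `v`. -/
def Moved (P : Sylow p G) (z x y : G) (v : Fin 2 → ZMod p) : Prop :=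
  ∃ h : G, h * z * h⁻¹ ∈ P ∧ (∀ a : ZMod p, h * z * h⁻¹ ≠ upow z a) ∧
    (∃ e d : ZMod p, h * (h * z * h⁻¹) * h⁻¹ = upow z e * upow (h * z * h⁻¹) d) ∧
    coord z x y (h * z * h⁻¹) = v

theorem Basis.bound (hB : Basis P z x y) (h3 : 4 < p) {ι : Type*} [Finite ι] (v : ι → Fin 2 → ZMod p)
    (hv : ∀ i, Moved P z x y (v i)) (hind : ∀ i j, i ≠ j → cross (v i) (v j) ≠ 0) :
    (6 ≤ (p - 1) / Nat.gcd (p - 1) 3 → Nat.card ι ≤ 2) ∧
      ((p - 1) / Nat.gcd (p - 1) 3 = 4 → Nat.card ι ≤ 12) := by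
  obtain ⟨l, hl⟩ := IsCyclic.exists_generator (α := (ZMod p)ˣ)
  have hol : orderOf l = p - 1 := by
    rw [orderOf_eq_card_of_forall_mem_zpowers hl, Nat.card_eq_fintype_card, ZMod.card_units]
  have hol' : orderOf (l : ZMod p) = p - 1 := by rw [orderOf_units, hol]
  have hl3 : (l : ZMod p) ^ 3 ≠ 1 := fun h => by
    have := Nat.le_of_dvd (by norm_num) (orderOf_dvd_of_pow_eq_one h)
    omega
  have hl0 : (l : ZMod p) ≠ 0 := l.ne_zero
  have hab : (l : ZMod p)⁻¹ ≠ (l : ZMod p) ^ 2 := fun h => hl3 (by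
    rw [pow_succ, ← h, inv_mul_cancel₀ hl0])
  choose h h1 h2 h3' h4 using hv
  have key : ∀ i, ∃ D : Datum hB.rho.range, D.v = v i ∧ D.b / D.a = (l : ZMod p) ^ 3 := by
    intro i
    obtain ⟨n, hdet, hvec⟩ := hB.exists_torus (h1 i) (h2 i) (h3' i) hl0
    rw [h4 i] at hvec
    have hv0 : v i ≠ 0 := by
      intro e
      obtain ⟨c, hc⟩ := hB.coord_eq_zero (h1 i) ((h4 i).trans e)
      exact h2 i c hc
    obtain ⟨w, hw, hMw⟩ := exists_eigen hv0 hvec
      (show _ = (l : ZMod p)⁻¹ * (l : ZMod p) ^ 2 by rw [hdet, pow_two, inv_mul_cancel_left₀ hl0])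
      (inv_ne_zero hl0) hab
    exact ⟨⟨_, ⟨n, rfl⟩, v i, w, (l : ZMod p)⁻¹, (l : ZMod p) ^ 2, hw, hvec, hMw⟩, rfl,
      by rw [div_inv_eq_mul, ← pow_succ]⟩
  choose D hD hDord using key
  refine lines_le hB.not_dvd_card_range D (fun i => ?_) (fun i j hij => ?_)
  · rw [hDord i, orderOf_pow' _ (by norm_num), hol']
  · rw [hD i, hD j]; exact hind i j hij

/-- An element conjugate into the centre gives a moved centre in its direction. -/
theorem Basis.moved_of_conj (hB : Basis P z x y) {x0 : G} (hx0 : x0 ∈ P)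
    (hx0c : ∀ a : ZMod p, x0 ≠ upow z a) {g : G} (hg : g * x0 * g⁻¹ = z) :
    Moved P z x y (coord z x y x0) := by
  have hF := hB.toFrame
  set C := centralizer ({z} : Set G)
  have hPC : (P : Subgroup G) ≤ C := fun u hu => mem_centralizer_singleton_iff.2 (hF.central u hu)
  have hy0 : g * z * g⁻¹ ∈ C := by
    rw [mem_centralizer_singleton_iff]
    calc g * z * g⁻¹ * z = g * z * g⁻¹ * (g * x0 * g⁻¹) := by rw [hg]
      _ = g * (z * x0) * g⁻¹ := by group
      _ = g * (x0 * z) * g⁻¹ := by rw [hF.central x0 hx0]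
      _ = g * x0 * g⁻¹ * (g * z * g⁻¹) := by group
      _ = z * (g * z * g⁻¹) := by rw [hg]
  have hpg : IsPGroup p (zpowers (⟨_, hy0⟩ : C)) := by
    have hpw : (⟨g * z * g⁻¹, hy0⟩ : C) ^ p = 1 := Subtype.ext (by
      rw [SubmonoidClass.coe_pow, conj_pow, hF.z_pow]; simp)
    obtain ⟨j, -, hj⟩ := (Nat.dvd_prime_pow hp.out).1
      (show orderOf (⟨g * z * g⁻¹, hy0⟩ : C) ∣ p ^ 1 by rw [pow_one]; exact orderOf_dvd_of_pow_eq_one hpw)
    exact IsPGroup.of_card (n := j) (by rw [Nat.card_zpowers, hj])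
  obtain ⟨T, hT⟩ := hpg.exists_le_sylow
  obtain ⟨c, hc⟩ := MulAction.exists_smul_eq C T (P.subtype hPC)
  have hcP : (c : G) * (g * z * g⁻¹) * (c : G)⁻¹ ∈ P := by
    have : c * (⟨_, hy0⟩ : C) * c⁻¹ ∈ (P.subtype hPC : Subgroup C) := by
      rw [← hc, Sylow.coe_subgroup_smul]
      exact ⟨_, hT (mem_zpowers _), rfl⟩
    rw [Sylow.coe_subtype, mem_subgroupOf] at this
    exact this
  set g' := (c : G) * g
  have hg' : g' * x0 * g'⁻¹ = z := by
    rw [show g' * x0 * g'⁻¹ = (c : G) * (g * x0 * g⁻¹) * (c : G)⁻¹ by simp only [g']; group, hg,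
      mem_centralizer_singleton_iff.1 c.2, mul_inv_cancel_right]
  set y0 := g' * z * g'⁻¹
  have hy0P : y0 ∈ P := by
    rw [show y0 = (c : G) * (g * z * g⁻¹) * (c : G)⁻¹ by simp only [y0, g']; group]; exact hcP
  obtain ⟨v, hv, hv0⟩ : ∃ v ∈ P, (om z v y0 : ZMod p) ≠ 0 := by
    by_contra hno
    push Not at hno
    obtain ⟨a, ha⟩ := hF.center y0 hy0P fun v hv => by
      have := hF.om_spec hv hy0P
      rw [hno v hv, upow_zero, mul_one] at this
      exact this.symm
    by_cases ha0 : a = 0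
    · rw [ha0, upow_zero] at ha
      exact hF.z_ne (mul_left_cancel (a := g') (by
        have := mul_inv_eq_one.1 ha
        rw [this, mul_one]))
    · have h5 : y0 = g' * upow x0 a * g'⁻¹ := by rw [conj_upow, hg', ha]
      have h6 : z = upow x0 a := mul_left_cancel (mul_right_cancel h5)
      refine hx0c a⁻¹ ?_
      rw [h6, upow_mul (hF.pow_eq x0 hx0), mul_inv_cancel₀ ha0, upow_one]
  set s := upow v (om z v y0 : ZMod p)⁻¹
  have hs : s ∈ P := Frame.upow_mem hv _
  have hs1 : (om z s y0 : ZMod p) = 1 := by rw [hF.om_upow_left hv hy0P]; field_simp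
  have sy0 : s * y0 * s⁻¹ = y0 * z := by
    rw [hF.om_spec hs hy0P, hs1, upow_one, mul_assoc (y0 * s), ← hF.central _ (inv_mem hs), ← mul_assoc,
      mul_inv_cancel_right]
  set h := g'⁻¹ * s * g'
  have hz1 : h * z * h⁻¹ = z * x0 := by
    rw [show h * z * h⁻¹ = g'⁻¹ * (s * y0 * s⁻¹) * g' by simp only [h, y0]; group, sy0,
      show g'⁻¹ * (y0 * z) * g' = z * (g'⁻¹ * z * g') by simp only [y0]; group]
    conv_lhs => arg 2; rw [← hg']
    group
  have hx1 : h * x0 * h⁻¹ = x0 := by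
    rw [show h * x0 * h⁻¹ = g'⁻¹ * (s * (g' * x0 * g'⁻¹) * s⁻¹) * g' by simp only [h]; group, hg',
      hF.central s hs, mul_inv_cancel_right]
    conv_lhs => rw [← hg']
    group
  have hzx : Commute z x0 := (hF.central x0 hx0).symm
  refine ⟨h, by rw [hz1]; exact mul_mem hF.z_mem hx0, fun a ha => ?_, ⟨-1, 2, ?_⟩, ?_⟩
  · refine hx0c (a - 1) ?_
    rw [hz1] at ha
    rw [sub_eq_neg_add, upow_add hF.z_pow, ← ha, ← mul_assoc]
    have : upow z (-1 : ZMod p) * z = 1 := by
      conv_lhs => arg 2; rw [← upow_one (p := p) z]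
      rw [← upow_add hF.z_pow, neg_add_cancel, upow_zero]
    rw [this, one_mul]
  · have hp1 : (z * x0) ^ p = 1 := by rw [hzx.mul_pow, hF.z_pow, hF.pow_eq x0 hx0, one_mul]
    have h2 : upow (z * x0) (2 : ZMod p) = z * x0 * (z * x0) := by
      rw [show (2 : ZMod p) = 1 + 1 by norm_num, upow_add hp1, upow_one]
    have h1 : upow z (-1 : ZMod p) = z⁻¹ := by
      refine eq_inv_of_mul_eq_one_left ?_
      conv_lhs => arg 2; rw [← upow_one (p := p) z]
      rw [← upow_add hF.z_pow, neg_add_cancel, upow_zero]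
    rw [hz1, h1, h2, show h * (z * x0) * h⁻¹ = (h * z * h⁻¹) * (h * x0 * h⁻¹) by group, hz1, hx1, ← mul_assoc z⁻¹,
      ← mul_assoc z⁻¹, inv_mul_cancel, one_mul]
    rw [← mul_assoc, hzx.eq]
  · rw [hz1, hB.coord_mul hF.z_mem hx0]
    conv_lhs => arg 1; arg 4; rw [← upow_one (p := p) z]
    rw [hB.coord_z, zero_add]

/-- A subgroup of order `p²` with all order-`p` automorphisms induced gives a moved centre inside it. -/
theorem Basis.moved_of_automizer (hB : Basis P z x y) {A : Subgroup G} (hAP : A ≤ (P : Subgroup G))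
    (hA : Nat.card A = p ^ 2)
    (hSL : ∀ φ : MulAut ↥A, orderOf φ = p → ∃ g : G, ∀ a : ↥A, (φ a : G) = g * (a : G) * g⁻¹) :
    ∃ z1 ∈ A, Moved P z x y (coord z x y z1) ∧
      ∀ u ∈ A, ∃ a b : ZMod p, u = upow z a * upow z1 b := by
  classical
  have hF := hB.toFrame
  have hzA : z ∈ A := by
    by_contra hzA
    have hinj : Function.Injective fun u : A => (coord z x y (u : G) : Fin 2 → ZMod p) := by
      intro u v e
      have e0 : (coord z x y ((u : G) * ((v : G))⁻¹) : Fin 2 → ZMod p) = 0 := by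
        have := hB.coord_mul (mul_mem (hAP u.2) (inv_mem (hAP v.2))) (hAP v.2)
        rw [inv_mul_cancel_right] at this
        exact (add_eq_right).1 (this.symm.trans e)
      obtain ⟨c, hc⟩ := hB.coord_eq_zero (mul_mem (hAP u.2) (inv_mem (hAP v.2))) e0
      by_cases hc0 : c = 0
      · rw [hc0, upow_zero] at hc
        exact Subtype.ext (mul_inv_eq_one.1 hc)
      · exfalso
        apply hzA
        have hm : upow z c ∈ A := hc ▸ mul_mem u.2 (inv_mem v.2)
        have := A.pow_mem hm (c⁻¹).val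
        change upow (upow z c) c⁻¹ ∈ A at this
        rwa [upow_mul hF.z_pow, mul_inv_cancel₀ hc0, upow_one] at this
    have hbij := hinj.bijective_of_nat_card_le (by
      rw [hA, Nat.card_fun, Nat.card_zmod, Nat.card_fin])
    obtain ⟨a, ha⟩ := hbij.2 ![1, 0]
    obtain ⟨b, hb⟩ := hbij.2 ![0, 1]
    have hom1 : (om z (a : G) (b : G) : ZMod p) = 1 := by
      rw [hB.om_eq_det (hAP a.2) (hAP b.2)]
      simp [show coord z x y (a : G) = ![1, 0] from ha, show coord z x y (b : G) = ![0, 1] from hb]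
    have hs := hF.om_spec (hAP a.2) (hAP b.2)
    rw [hom1, upow_one] at hs
    apply hzA
    have : z = ((b : G) * a)⁻¹ * ((a : G) * b) := by rw [hs]; group
    rw [this]
    exact mul_mem (inv_mem (mul_mem b.2 a.2)) (mul_mem a.2 b.2)
  obtain ⟨x0, hx0, hx0c⟩ : ∃ x0 ∈ A, ∀ a : ZMod p, x0 ≠ upow z a := by
    by_contra h
    push Not at h
    have h1 : Function.Surjective (fun a : ZMod p => (⟨upow z a, A.pow_mem hzA _⟩ : A)) := fun u => by
      obtain ⟨a, ha⟩ := h u u.2
      exact ⟨a, Subtype.ext ha.symm⟩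
    have := Nat.card_le_card_of_surjective _ h1
    rw [hA, Nat.card_zmod] at this
    have h2 : p ^ 1 < p ^ 2 := Nat.pow_lt_pow_right hp.out.one_lt (by norm_num)
    rw [pow_one] at h2
    omega
  have hx0p : x0 ^ p = 1 := hF.pow_eq x0 (hAP hx0)
  have hzx : Commute z x0 := (hF.central x0 (hAP hx0)).symm
  let f : Multiplicative (ZMod p × ZMod p) →* A := MonoidHom.mk'
    (fun w => ⟨upow z w.toAdd.1 * upow x0 w.toAdd.2, mul_mem (A.pow_mem hzA _) (A.pow_mem hx0 _)⟩)
    (fun u w => Subtype.ext (by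
      show upow z (u.toAdd.1 + w.toAdd.1) * upow x0 (u.toAdd.2 + w.toAdd.2) = _
      rw [upow_add hF.z_pow, upow_add hx0p]
      exact (commute_upow hzx w.toAdd.1 u.toAdd.2).mul_mul_mul_comm _ _))
  have finj : Function.Injective f := by
    rw [injective_iff_map_eq_one]
    intro w hw
    have hw' : upow z w.toAdd.1 * upow x0 w.toAdd.2 = 1 := congrArg Subtype.val hw
    have h2 : w.toAdd.2 = 0 := by
      by_contra h
      refine hx0c (-w.toAdd.1 * w.toAdd.2⁻¹) ?_
      have e : upow x0 w.toAdd.2 = upow z (-w.toAdd.1) := by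
        refine mul_left_cancel (hw'.trans ?_)
        rw [← upow_add hF.z_pow, add_neg_cancel, upow_zero]
      rw [← upow_mul hF.z_pow, ← e, upow_mul hx0p, mul_inv_cancel₀ h, upow_one]
    rw [h2, upow_zero, mul_one] at hw'
    have h1 : w.toAdd.1 = 0 := hF.upow_z_injective (hw'.trans (upow_zero z).symm)
    exact Multiplicative.toAdd.injective (Prod.ext h1 h2)
  let e := MulEquiv.ofBijective f (finj.bijective_of_nat_card_le (by
    rw [hA, Nat.card_congr Multiplicative.toAdd, Nat.card_prod, Nat.card_zmod, pow_two]))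
  let σ : (ZMod p × ZMod p) ≃+ (ZMod p × ZMod p) :=
    { toFun := fun v => (v.1, v.2 + v.1)
      invFun := fun v => (v.1, v.2 - v.1)
      left_inv := fun v => by simp
      right_inv := fun v => by simp
      map_add' := fun u v => by ext <;> simp; ring }
  let φ : MulAut A := e.symm.trans ((AddEquiv.toMultiplicative σ).trans e)
  have hφe : ∀ w, φ (e w) = e (Multiplicative.ofAdd (σ w.toAdd)) := fun w => by
    show e ((AddEquiv.toMultiplicative σ) (e.symm (e w))) = _
    rw [MulEquiv.symm_apply_apply]; rfl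
  have hpow : ∀ (k : ℕ) (a b : ZMod p), (φ ^ k) (e (Multiplicative.ofAdd (a, b))) =
      e (Multiplicative.ofAdd (a, b + (k : ZMod p) * a)) := by
    intro k
    induction k with
    | zero => intro a b; simp
    | succ k ih =>
      intro a b
      rw [pow_succ', MulAut.mul_apply, ih, hφe]
      show e (Multiplicative.ofAdd ((a, b + (k : ZMod p) * a + a))) = _
      congr 2
      push_cast
      ring_nf
  have hφ : orderOf φ = p := by
    refine orderOf_eq_prime ?_ ?_
    · ext u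
      obtain ⟨w, rfl⟩ := e.surjective u
      have := hpow p w.toAdd.1 w.toAdd.2
      simp only [CharP.cast_eq_zero, zero_mul, add_zero] at this
      exact congrArg Subtype.val this
    · intro h
      have := hpow 1 1 0
      rw [pow_one, h, MulAut.one_apply] at this
      simpa using congrArg (fun w => (Multiplicative.toAdd w).2) (e.injective this)
  obtain ⟨g, hg⟩ := hSL φ hφ
  have gz : g * z * g⁻¹ = z * x0 := by
    have h := hg (e (Multiplicative.ofAdd (1, 0)))
    rw [hφe] at h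
    have h' : upow z (1 : ZMod p) * upow x0 ((0 : ZMod p) + 1) =
        g * (upow z (1 : ZMod p) * upow x0 (0 : ZMod p)) * g⁻¹ := h
    rw [zero_add, upow_one, upow_one, upow_zero, mul_one] at h'
    exact h'.symm
  have hz1A : z * x0 ∈ A := mul_mem hzA hx0
  have hspan : ∀ u ∈ A, ∃ a b : ZMod p, u = upow z a * upow (z * x0) b := by
    intro u hu
    obtain ⟨w, hw⟩ := e.surjective ⟨u, hu⟩
    have hw' : upow z w.toAdd.1 * upow x0 w.toAdd.2 = u := congrArg Subtype.val hw
    refine ⟨w.toAdd.1 - w.toAdd.2, w.toAdd.2, ?_⟩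
    rw [← hw', show upow (z * x0) w.toAdd.2 = upow z w.toAdd.2 * upow x0 w.toAdd.2 from hzx.mul_pow _,
      ← mul_assoc, ← upow_add hF.z_pow, sub_add_cancel]
  refine ⟨z * x0, hz1A, ⟨g, by rw [gz]; exact hAP hz1A, fun a ha => ?_, ?_, by rw [gz]⟩, hspan⟩
  · rw [gz] at ha
    refine hx0c (a - 1) (mul_left_cancel (a := z) ?_)
    conv_rhs => arg 1; rw [← upow_one (p := p) z]
    rw [ha, ← upow_add hF.z_pow, add_sub_cancel]
  · rw [gz]
    refine hspan _ ?_
    rw [← hg ⟨z * x0, hz1A⟩]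
    exact (φ ⟨z * x0, hz1A⟩).2

end Cfsg.Lib.Local.ExtraspecialThree
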