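import Cfsg.Prelude.Def_CaseTheorems
import Cfsg.Agent.Lib.Local.StronglyEmbedded

/-!
Subgroups containing the normalizers of a family of their `p`-subgroups.
-/

set_option autoImplicit false
set_option linter.style.haveILetI false

namespace Cfsg.Lib.Local

open Subgroup

variable {G : Type*} [Group G] [Finite G] {p : ℕ} [Fact p.Prime] {Fam : Subgroup G → Prop}

/-- It suffices to test the normalizer condition inside one Sylow subgroup. -/
theorem family_normalizers_of_sylow {Y : Subgroup G} (P : Sylow p Y)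
    (hconj : ∀ (A : Subgroup G) (g : G), Fam A → Fam (A.map (MulAut.conj g).toMonoidHom))
    (h : ∀ A : Subgroup G, A ≤ (P : Subgroup Y).map Y.subtype → Fam A → normalizer (A : Set G) ≤ Y)
    {A : Subgroup G} (hAY : A ≤ Y) (hA : IsPGroup p A) (hF : Fam A) :
    normalizer (A : Set G) ≤ Y := by
  obtain ⟨y, hy⟩ := Cfsg.Lib.Invol.exists_conj_mem_sylow P (hA.comap_subtype (K := Y))
  have hle : A.map (MulAut.conj (y : G)).toMonoidHom ≤ (P : Subgroup Y).map Y.subtype := by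
    rintro _ ⟨a, ha, rfl⟩
    exact ⟨_, hy ⟨a, hAY ha⟩ ha, rfl⟩
  intro g hg
  have h1 : (y : G) * g * (y : G)⁻¹ ∈ Y :=
    h _ hle (hconj A y hF) (le_normalizer_map (MulAut.conj (y : G)).toMonoidHom ⟨g, hg, rfl⟩)
  have := Y.mul_mem (Y.mul_mem (Y.inv_mem y.2) h1) y.2
  simpa [mul_assoc] using this

/-- No member of the family lies in `Y ⊓ Y^g` for `g ∉ Y`. -/
theorem family_not_mem_inter {Y : Subgroup G}
    (hmono : ∀ A B : Subgroup G, A ≤ B → Fam A → Fam B)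
    (hconj : ∀ (A : Subgroup G) (g : G), Fam A → Fam (A.map (MulAut.conj g).toMonoidHom))
    (h : ∀ A : Subgroup G, A ≤ Y → IsPGroup p A → Fam A → normalizer (A : Set G) ≤ Y)
    {g : G} (hg : g ∉ Y) {A : Subgroup G} (hAD : A ≤ Y ⊓ Y.map (MulAut.conj g).toMonoidHom)
    (hA : IsPGroup p A) : ¬ Fam A := by
  intro hF
  set D := Y ⊓ Y.map (MulAut.conj g).toMonoidHom with hD
  obtain ⟨S, hS⟩ := (hA.comap_subtype (K := D)).exists_le_sylow
  set R := (S : Subgroup D).map D.subtype with hR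
  have hRD : R ≤ D := map_subtype_le _
  have hRp : IsPGroup p R := S.2.map _
  have hAR : A ≤ R := by rw [← map_subgroupOf_eq_of_le hAD]; exact map_mono hS
  have hFR : Fam R := hmono A R hAR hF
  have hN1 := h R (hRD.trans inf_le_left) hRp hFR
  set R' := R.map (MulAut.conj g⁻¹).toMonoidHom with hR'
  have hR'Y : R' ≤ Y := by
    rintro _ ⟨r, hr, rfl⟩
    have := Core.mem_map_conj.mp (hRD hr).2
    simpa using this
  have hN2 := h R' hR'Y (hRp.map _) (hconj R _ hFR)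
  have hN : normalizer (R : Set G) ≤ D := by
    refine le_inf hN1 fun x hx => Core.mem_map_conj.mpr ?_
    have : g⁻¹ * x * g⁻¹⁻¹ ∈ Y := hN2 (le_normalizer_map (MulAut.conj g⁻¹).toMonoidHom ⟨x, hx, rfl⟩)
    simpa using this
  obtain ⟨P, hP⟩ := hRp.exists_le_sylow
  have hPR : (P : Subgroup G) = R := eq_of_normalizer_le (p := p) (Y := D) (K := ⊤)
    (fun Q hQD hQ hRQ => by
      have := S.3 (hQ.comap_subtype (K := D)) (fun s hs => hRQ ⟨s, hs, rfl⟩)
      rw [hR, ← this, map_comap_eq, range_subtype, inf_eq_right.mpr hQD])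
    (inf_le_right.trans hN) _ le_top P.isPGroup' hP
  have hPY : (P : Subgroup G) ≤ Y := hPR.trans_le (hRD.trans inf_le_left)
  have hgP : ((g⁻¹ • P : Sylow p G) : Subgroup G) ≤ Y := by
    rw [Sylow.coe_subgroup_smul, hPR]
    exact hR'Y
  obtain ⟨y, hy⟩ := MulAction.exists_smul_eq Y ((g⁻¹ • P).subtype hgP) (P.subtype hPY)
  have hyg : ((y : G) * g⁻¹) • P = P := by
    refine (Sylow.ext (((y : G) * g⁻¹) • P |>.3 P.isPGroup' ?_)).symm
    intro x hx
    rw [Sylow.coe_subgroup_smul] at hx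
    obtain ⟨r, hr, rfl⟩ := hx
    have hmem : (g⁻¹ * r * g⁻¹⁻¹) ∈ ((g⁻¹ • P : Sylow p G) : Subgroup G) := by
      rw [Sylow.coe_subgroup_smul]
      exact ⟨r, hr, rfl⟩
    have h2 : y * (⟨g⁻¹ * r * g⁻¹⁻¹, hgP hmem⟩ : Y) * y⁻¹ ∈
        ((P.subtype hPY : Sylow p Y) : Subgroup Y) := by
      rw [← hy, Sylow.coe_subgroup_smul]
      exact ⟨⟨g⁻¹ * r * g⁻¹⁻¹, hgP hmem⟩, hmem, rfl⟩
    rw [Sylow.coe_subtype, mem_subgroupOf] at h2
    simpa [mul_assoc] using h2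
  have h1 : (y : G) * g⁻¹ ∈ Y :=
    h P hPY P.isPGroup' (hPR ▸ hFR) (Sylow.smul_eq_iff_mem_normalizer.1 hyg)
  apply hg
  have := Y.inv_mem (Y.mul_mem (Y.inv_mem y.2) h1)
  simpa using this

omit [Finite G] [Fact p.Prime] in
theorem not_pRankLE_subgroup_iff {k : ℕ} (H : Subgroup G) :
    ¬ Cfsg.PRankLE p k ↥H ↔ ∃ A : Subgroup G, A ≤ H ∧ IsMulCommutative A ∧
      (∀ a ∈ A, a ^ p = 1) ∧ p ^ k < Nat.card A := by
  rw [Cfsg.PRankLE]
  push Not
  constructor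
  · rintro ⟨A, hA, hp, hc⟩
    refine ⟨A.map H.subtype, map_subtype_le _, ⟨⟨?_⟩⟩, ?_, ?_⟩
    · rintro ⟨_, a, ha, rfl⟩ ⟨_, b, hb, rfl⟩
      exact Subtype.ext (congrArg (fun z : A => ((z : H) : G)) (hA.is_comm.comm ⟨a, ha⟩ ⟨b, hb⟩) :)
    · rintro _ ⟨a, ha, rfl⟩
      rw [← map_pow, hp a ha, map_one]
    · rwa [card_map_of_injective H.subtype_injective]
  · rintro ⟨A, hle, hA, hp, hc⟩
    refine ⟨A.subgroupOf H, ⟨⟨?_⟩⟩, ?_, ?_⟩
    · rintro ⟨⟨a, haH⟩, ha⟩ ⟨⟨b, hbH⟩, hb⟩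
      exact Subtype.ext (Subtype.ext
        (congrArg Subtype.val (hA.is_comm.comm ⟨a, ha⟩ ⟨b, hb⟩) :))
    · rintro ⟨a, haH⟩ ha
      exact Subtype.ext (hp a ha)
    · rwa [Nat.card_congr (subgroupOfEquivOfLe hle).toEquiv]

end Cfsg.Lib.Local
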