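import Cfsg.Agent.Lib.Local.RankTwoOperator
import Cfsg.Agent.Lib.Local.MetacyclicOperator
import Mathlib.GroupTheory.Exponent
import Mathlib.Data.ZMod.Basic

/-!
A `p`-group of rank two without trivial quotient under a coprime operator group of odd order is abelian
or the central product of a group of order `p ^ 3` and exponent `p` with its cyclic centre.
-/

set_option autoImplicit false

namespace Cfsg.Lib.Local.RankTwoCentralProduct

open Subgroup RankTwoAut NarrowAut RankTwoOperator
open scoped commutatorElement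

universe u v

variable {p : ℕ} [Fact p.Prime] {R : Type u} [Group R] [Finite R]

/-- A section of order `p` is generated by any of its nontrivial elements. -/
theorem exists_pow_mul_mem (X N : Subgroup R) [(N.subgroupOf X).Normal] (hi : N.relIndex X = p)
    {g : R} (hg : g ∈ X) (hgN : g ∉ N) {y : R} (hy : y ∈ X) : ∃ i : ℕ, (g ^ i)⁻¹ * y ∈ N := by
  let M : Subgroup X := N.subgroupOf X
  haveI : M.Normal := inferInstanceAs (N.subgroupOf X).Normal
  have hcard : Nat.card (X ⧸ M) = p := by rw [← index_eq_card]; exact hi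
  have hne : QuotientGroup.mk' M (⟨g, hg⟩ : X) ≠ 1 := fun h =>
    hgN (mem_subgroupOf.mp ((QuotientGroup.eq_one_iff _).mp h))
  obtain ⟨i, hi'⟩ := mem_powers_iff_mem_zpowers.mpr
    (mem_zpowers_of_prime_card (g' := QuotientGroup.mk' M (⟨y, hy⟩ : X)) hcard hne)
  refine ⟨i, ?_⟩
  have h : QuotientGroup.mk' M ((⟨g, hg⟩ : X) ^ i) = QuotientGroup.mk' M ⟨y, hy⟩ := by
    rw [map_pow]; exact hi'
  exact mem_subgroupOf.mp (QuotientGroup.eq.mp h)

omit [Finite R] in
/-- Exponents are determined modulo `p`. -/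
theorem cast_eq_of_mem (N : Subgroup R) [N.Normal] {u : R} (hu : u ∉ N) (hup : u ^ p ∈ N)
    {i j : ℕ} (h : (u ^ i)⁻¹ * u ^ j ∈ N) : (i : ZMod p) = (j : ZMod p) := by
  have ho : orderOf (u : R ⧸ N) = p := by
    refine orderOf_eq_prime ?_ fun h1 => hu ((QuotientGroup.eq_one_iff u).mp h1)
    rw [← QuotientGroup.mk_pow]
    exact (QuotientGroup.eq_one_iff _).mpr hup
  have e : (u : R ⧸ N) ^ i = (u : R ⧸ N) ^ j := by
    rw [← QuotientGroup.mk_pow, ← QuotientGroup.mk_pow]
    exact QuotientGroup.eq.mpr h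
  rw [pow_eq_pow_iff_modEq, ho] at e
  exact (ZMod.natCast_eq_natCast_iff _ _ _).mpr e

/-- A cyclic invariant normal subgroup is central when there is no trivial quotient. -/
theorem le_center_of_cyclic {A : Type v} [Group A] (φ : A →* MulAut R)
    (hgen : ∀ N : Subgroup R, N.Normal → (∀ (a : A) (x : R), x⁻¹ * φ a x ∈ N) → N = ⊤)
    (D : Subgroup R) [D.Normal] [IsCyclic D] (hinv : ∀ (a : A), ∀ x ∈ D, φ a x ∈ D) :
    D ≤ center R := by
  let ρ : R →* MulAut D := MulAut.conjNormal
  have hcomm : ∀ s t : MulAut D, s * t = t * s := fun s t =>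
    (IsCyclic.mulAutMulEquiv D).injective (by rw [map_mul, map_mul, mul_comm])
  have htop : ρ.ker = ⊤ := hgen _ inferInstance fun a x => by
    let σ : MulAut D :=
      { toFun := fun d => ⟨φ a d, hinv a d d.2⟩
        invFun := fun d => ⟨(φ a).symm d, by
          have h := hinv a⁻¹ d d.2
          rw [map_inv] at h
          exact h⟩
        left_inv := fun d => Subtype.ext ((φ a).symm_apply_apply d)
        right_inv := fun d => Subtype.ext ((φ a).apply_symm_apply d)
        map_mul' := fun d e => Subtype.ext (map_mul (φ a) (d : R) (e : R)) }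
    have e : ρ (φ a x) * σ = σ * ρ x := MulEquiv.ext fun d => Subtype.ext (by
      show φ a x * φ a d * (φ a x)⁻¹ = φ a ((ρ x d : D) : R)
      rw [MulAut.conjNormal_apply, map_mul, map_mul, map_inv])
    rw [hcomm σ (ρ x)] at e
    rw [MonoidHom.mem_ker, map_mul, map_inv, mul_right_cancel e, inv_mul_cancel]
  intro d hd
  rw [mem_center_iff]
  intro x
  have e := congrArg Subtype.val (DFunLike.congr_fun (MonoidHom.mem_ker.mp (htop.ge (mem_top x)))
    (⟨d, hd⟩ : D))
  rw [MulAut.conjNormal_apply, MulAut.one_apply] at e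
  exact mul_inv_eq_iff_eq_mul.mp e

/-- The prime is at least five. -/
theorem three_lt (hp : p ≠ 2) (hR : IsPGroup p R) (hr : Cfsg.PRankLE p 2 R) [Nontrivial R]
    {A : Type v} [Group A] [Finite A] (φ : A →* MulAut R) (hcop : (Nat.card A).Coprime p)
    (hodd : Odd (Nat.card A))
    (hgen : ∀ N : Subgroup R, N.Normal → (∀ (a : A) (x : R), x⁻¹ * φ a x ∈ N) → N = ⊤) : 3 < p := by
  have hpp : p.Prime := Fact.out
  by_contra hle
  haveI : Finite φ.range := Finite.of_surjective φ.rangeRestrict φ.rangeRestrict_surjective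
  obtain ⟨f, hf⟩ := exists_hom hp hR hr
  have hker : IsPGroup p (f.comp φ.range.subtype).ker := by
    rintro ⟨g, hg⟩
    obtain ⟨k, hk⟩ := hf ⟨g, hg⟩
    exact ⟨k, Subtype.ext (Subtype.ext (by simpa using congrArg Subtype.val hk))⟩
  have hone : Nat.card φ.range = 1 := by
    by_contra hne
    obtain ⟨q, hq, hqd⟩ := Nat.exists_prime_and_dvd hne
    have hqA : q ∣ Nat.card A := hqd.trans (card_range_dvd φ)
    have hqp : q ≠ p := by
      rintro rfl
      exact hq.coprime_iff_not_dvd.mp hcop.symm hqA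
    have := (RankTwoAut.prime_dvd hp (f.comp φ.range.subtype) hker hq hqp hqd).2
    have h2 : q ≠ 2 := by
      rintro rfl
      exact Nat.not_even_iff_odd.mpr hodd (even_iff_two_dvd.mpr hqA)
    have := hq.two_le
    omega
  have hbot := card_eq_one.mp hone
  have h1 : ∀ a, φ a = 1 := fun a => mem_bot.mp (hbot.le (φ.mem_range.mpr ⟨a, rfl⟩))
  exact bot_ne_top (hgen ⊥ inferInstance fun a x => by rw [h1, MulAut.one_apply, inv_mul_cancel]; exact one_mem _)

/-- The central product structure. -/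
theorem structure_thm (hp : 3 < p) (hR : IsPGroup p R) (hr : Cfsg.PRankLE p 2 R)
    {A : Type v} [Group A] [Finite A] (φ : A →* MulAut R) (hcop : (Nat.card A).Coprime p)
    (hodd : Odd (Nat.card A))
    (hgen : ∀ N : Subgroup R, N.Normal → (∀ (a : A) (x : R), x⁻¹ * φ a x ∈ N) → N = ⊤) :
    IsMulCommutative R ∨ ∃ W : Subgroup R, W ⊔ center R = ⊤ ∧ ¬ IsMulCommutative W ∧
      Nat.card W = p ^ 3 ∧ Monoid.exponent W = p ∧ IsCyclic (center R) ∧
      closure {x : R | x ∈ center R ∧ x ^ p = 1} = ⁅W, W⁆ := by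
  classical
  refine or_iff_not_imp_left.mpr fun hnab => ?_
  have hpp : p.Prime := Fact.out
  have hp2 : p ≠ 2 := by omega
  have hrk : ∀ E : Subgroup R, Cfsg.IsElementaryAbelian p E → Nat.card E ≤ p ^ 2 :=
    fun E hE => hr E hE.1 hE.2
  have hne : commutator R ≠ ⊥ := by
    intro h
    refine hnab ⟨⟨fun x y => ?_⟩⟩
    have hm : ⁅x, y⁆ ∈ commutator R := commutator_mem_commutator (mem_top x) (mem_top y)
    rwa [h, mem_bot, commutatorElement_eq_one_iff_mul_comm] at hm
  let W : Subgroup R :=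
    { carrier := {x | x ^ p = 1}
      one_mem' := one_pow _
      mul_mem' := fun {x y} hx hy => Cfsg.Agent.S0128.result hp hR hrk (x * y)
        (mul_mem (subset_closure hx) (subset_closure hy))
      inv_mem' := fun {x} (hx : x ^ p = 1) => by
        show x⁻¹ ^ p = 1
        rw [inv_pow, hx, inv_one] }
  have hWp : IsPGroup p W := hR.to_subgroup W
  have haW : ∀ (a : A), ∀ x ∈ W, φ a x ∈ W := fun a x hx => by
    show φ a x ^ p = 1
    rw [← map_pow, show x ^ p = 1 from hx, map_one]
  haveI hWn : W.Normal := ⟨fun w hw g => by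
    show (g * w * g⁻¹) ^ p = 1
    rw [conj_pow, show w ^ p = 1 from hw, mul_one, mul_inv_cancel]⟩
  obtain ⟨k, hk⟩ := IsPGroup.iff_card.mp hWp
  have hk3 : k = 3 := by
    have h := Cfsg.Agent.S3771.result hWp (pRankLE_subgroup hr W) (fun x => Subtype.ext x.2)
    rw [hk] at h
    have hle := (Nat.pow_le_pow_iff_right hpp.one_lt).mp h
    by_contra h3
    have hO : Nat.card ↥(Cfsg.omegaOne p (⊤ : Subgroup R)) ≤ p ^ 2 := by
      refine (card_le_of_le (show Cfsg.omegaOne p (⊤ : Subgroup R) ≤ W from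
        (closure_le _).mpr fun x hx => hx.2)).trans ?_
      rw [hk]
      exact Nat.pow_le_pow_right hpp.pos (by omega)
    have hm := Cfsg.Lib.PGroup.Huppert.metacyclic_of_omega_aux hp _ R le_rfl hR hO
    haveI := Cfsg.Lib.PGroup.Huppert.isCyclic_commutator_of_metacyclic hR hm
    have hc := le_center_of_cyclic φ hgen (commutator R) fun a x hx =>
      apply_mem_of_char inferInstance (φ a) x hx
    exact hne (MetacyclicOperator.class_two hp2 hR hm φ hcop hgen hc)
  subst hk3
  -- the centre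
  let D := centralizer (W : Set R)
  have haD : ∀ (a : A), ∀ x ∈ D, φ a x ∈ D := fun a x hx => mem_centralizer_iff.mpr fun w hw => by
    obtain ⟨v, hv⟩ := (φ a).surjective w
    have hvW : v ∈ W := by
      show v ^ p = 1
      apply (φ a).injective
      rw [map_pow, hv, map_one]
      exact hw
    rw [← hv, ← map_mul, ← map_mul, mem_centralizer_iff.mp hx v hvW]
  haveI : D.Normal := inferInstanceAs (centralizer (W : Set R)).Normal
  let Z := W ⊓ D
  haveI : Z.Normal := inferInstanceAs (W ⊓ D).Normal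
  have hZlt : Z < W := by
    refine lt_of_le_of_ne inf_le_left fun h => ?_
    have := hr W ⟨⟨fun x y => Subtype.ext (mem_centralizer_iff.mp (h.ge y.2).2 x x.2)⟩⟩ (fun x hx => hx)
    rw [hk] at this
    exact absurd ((Nat.pow_le_pow_iff_right hpp.one_lt).mp this) (by norm_num)
  have hclt : ∀ {X Y : Subgroup R}, X < Y → Nat.card X < Nat.card Y := fun {X Y} h =>
    lt_of_le_of_ne (card_le_of_le h.le) fun e => h.ne (eq_of_le_of_card_ge h.le e.ge)
  have hZcard : Nat.card Z = p := by
    obtain ⟨i, hi⟩ := IsPGroup.iff_card.mp (hR.to_subgroup Z)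
    have h3 := hclt hZlt
    rw [hi, hk] at h3
    have hi3 := (Nat.pow_lt_pow_iff_right hpp.one_lt).mp h3
    have hi2 : i ≠ 2 := by
      intro h2
      obtain ⟨w, hw, hwZ⟩ := SetLike.exists_of_lt hZlt
      let C := W ⊓ centralizer ({w} : Set R)
      have hlt : Z < C := lt_of_le_of_ne (le_inf inf_le_left fun z hz =>
        mem_centralizer_singleton_iff.mpr (mem_centralizer_iff.mp hz.2 w hw).symm)
        fun e => hwZ (e ▸ ⟨hw, mem_centralizer_singleton_iff.mpr rfl⟩)
      have h4 := hclt hlt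
      obtain ⟨j, hj⟩ := IsPGroup.iff_card.mp (hR.to_subgroup C)
      rw [hi, hj] at h4
      have := (Nat.pow_lt_pow_iff_right hpp.one_lt).mp h4
      have hCW : C = W := eq_of_le_of_card_ge inf_le_left (by
        rw [hk, hj]; exact Nat.pow_le_pow_right hpp.pos (by omega))
      exact hwZ ⟨hw, mem_centralizer_iff.mpr fun v hv =>
        mem_centralizer_singleton_iff.mp (hCW.ge hv).2⟩
    have hi0 : i ≠ 0 := by
      intro h0
      have hne' : W ≠ ⊥ := by
        intro e
        rw [e, card_bot] at hk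
        exact absurd hk (Nat.one_lt_pow (by norm_num) hpp.one_lt).ne
      obtain ⟨z, hz, hzc, hzo⟩ := Cfsg.Lib.PGroup.exists_mem_center_orderOf_eq hR hne'
      have hzZ : z ∈ Z := ⟨hz, mem_centralizer_iff.mpr fun v _ => mem_center_iff.mp hzc v⟩
      have := Subgroup.orderOf_dvd_natCard Z hzZ
      rw [hzo, hi, h0, pow_zero] at this
      exact hpp.one_lt.ne' (Nat.dvd_one.mp this)
    rw [hi, show i = 1 by omega, pow_one]
  obtain ⟨⟨z₀, hz₀⟩, hz₀o⟩ := exists_prime_orderOf_dvd_card' p (dvd_of_eq hZcard.symm)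
  rw [Subgroup.orderOf_mk] at hz₀o
  have hZzp : zpowers z₀ = Z := eq_of_le_of_card_ge (zpowers_le.mpr hz₀)
    (by rw [Nat.card_zpowers, hz₀o, hZcard])
  haveI hDcyc : IsCyclic D := Cfsg.Lib.Local.QdRankTwo.isCyclic_of_unique hp2 D (hR.to_subgroup D)
    (show z₀ ^ p = 1 by rw [← hz₀o, pow_orderOf_eq_one]) fun x hx hxp => hZzp.ge ⟨hxp, hx⟩
  have hDc : D ≤ center R := le_center_of_cyclic φ hgen D haD
  have hDeq : D = center R := le_antisymm hDc (center_le_centralizer _)
  have hZc : Z ≤ center R := inf_le_right.trans hDc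
  -- sections of `Ω`
  have hcW : ∀ x ∈ W, ∀ y ∈ W, ⁅x, y⁆ ∈ Z := by
    intro x hx y hy
    let M : Subgroup W := Z.subgroupOf W
    haveI : M.Normal := inferInstanceAs (Z.subgroupOf W).Normal
    have hc : Nat.card (W ⧸ M) ≤ p ^ 2 := by
      rw [← index_eq_card]
      have e := Cfsg.Lib.Core.card_mul_relIndex hZlt.le
      rw [hZcard, hk] at e
      refine Nat.le_of_mul_le_mul_left ?_ hpp.pos
      exact e.le.trans (by rw [pow_succ' p 2])
    have := Cfsg.Lib.PGroup.Huppert.isMulCommutative_of_card_le_sq (hWp.to_quotient M) hc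
    have h1 : QuotientGroup.mk' M ⁅(⟨x, hx⟩ : W), ⟨y, hy⟩⁆ = 1 := by
      rw [map_commutatorElement, commutatorElement_eq_one_iff_mul_comm]
      exact this.is_comm.comm _ _
    exact mem_subgroupOf.mp ((QuotientGroup.eq_one_iff _).mp h1)
  let cz : R → Subgroup R := fun r =>
    (centralizer ({QuotientGroup.mk' Z r} : Set (R ⧸ Z))).comap (QuotientGroup.mk' Z)
  have hcz : ∀ {r w}, w ∈ cz r ↔ ⁅w, r⁆ ∈ Z := by
    intro r w
    show QuotientGroup.mk' Z w ∈ centralizer ({QuotientGroup.mk' Z r} : Set (R ⧸ Z)) ↔ _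
    rw [mem_centralizer_singleton_iff, ← commutatorElement_eq_one_iff_mul_comm, ← map_commutatorElement]
    exact QuotientGroup.eq_one_iff _
  have hrev : ∀ {u v : R}, ⁅u, v⁆ ∈ Z → ⁅v, u⁆ ∈ Z := fun {u v} h => by
    rw [← commutatorElement_inv]; exact inv_mem h
  let R1 : Subgroup R :=
    { carrier := {r | ∀ w ∈ W, r ∈ cz w}
      one_mem' := fun w _ => one_mem _
      mul_mem' := fun {a b} ha hb w hw => mul_mem (ha w hw) (hb w hw)
      inv_mem' := fun {a} ha w hw => inv_mem (ha w hw) }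
  have hR1 : ∀ {r}, r ∈ R1 ↔ ∀ w ∈ W, ⁅w, r⁆ ∈ Z :=
    ⟨fun h w hw => hrev (hcz.mp (h w hw)), fun h w hw => hcz.mpr (hrev (h w hw))⟩
  -- two generators of `Ω` over `Z`
  obtain ⟨g1, hg1, hg1Z⟩ := SetLike.exists_of_lt hZlt
  let A1 := Z ⊔ zpowers g1
  have hA1W : A1 ≤ W := sup_le hZlt.le (zpowers_le.mpr hg1)
  have hA1C : A1 ≤ centralizer ({g1} : Set R) :=
    sup_le (fun z hz => mem_centralizer_singleton_iff.mpr (mem_centralizer_iff.mp hz.2 g1 hg1).symm)
      (zpowers_le.mpr (mem_centralizer_singleton_iff.mpr rfl))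
  have hA1lt : A1 < W := lt_of_le_of_ne hA1W fun e => hg1Z ⟨hg1, mem_centralizer_iff.mpr fun v hv =>
    mem_centralizer_singleton_iff.mp (hA1C (e.ge hv))⟩
  obtain ⟨g2, hg2, hg2A⟩ := SetLike.exists_of_lt hA1lt
  have hA2W : A1 ⊔ zpowers g2 = W := by
    refine eq_of_le_of_card_ge (sup_le hA1W (zpowers_le.mpr hg2)) ?_
    obtain ⟨i, hi⟩ := IsPGroup.iff_card.mp (hR.to_subgroup A1)
    obtain ⟨j, hj⟩ := IsPGroup.iff_card.mp (hR.to_subgroup (A1 ⊔ zpowers g2))
    have h1 := hclt (lt_of_le_of_ne (le_sup_left : Z ≤ A1) fun e =>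
      hg1Z (e.ge (mem_sup_right (mem_zpowers g1))))
    have h2 := hclt (lt_of_le_of_ne (le_sup_left : A1 ≤ A1 ⊔ zpowers g2) fun e =>
      hg2A (e.ge (mem_sup_right (mem_zpowers g2))))
    rw [hZcard, hi] at h1
    rw [hi, hj] at h2
    rw [hk, hj]
    refine Nat.pow_le_pow_right hpp.pos ?_
    have := (Nat.pow_lt_pow_iff_right hpp.one_lt).mp h2
    have : 1 < i := by
      by_contra h
      exact absurd ((Nat.pow_le_pow_right hpp.pos (show i ≤ 1 by omega)).trans (pow_one p).le) (by omega)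
    omega
  have hWD : W ⊔ D ≤ R1 := sup_le (fun r hr' => hR1.mpr fun w hw => hcW w hw r hr')
    fun r hr' => hR1.mpr fun w _ => by
      rw [commutatorElement_eq_one_iff_mul_comm.mpr (mem_center_iff.mp (hDc hr') w)]
      exact one_mem _
  have hR1le : R1 ≤ W ⊔ D := by
    let Dr : Subgroup R1 := D.subgroupOf R1
    let ψ : R1 ⧸ Dr → Z × Z := fun q =>
      (⟨⁅g1, (q.out : R)⁆, hR1.mp q.out.2 g1 hg1⟩, ⟨⁅g2, (q.out : R)⁆, hR1.mp q.out.2 g2 hg2⟩)
    have hψ : Function.Injective ψ := by
      intro q q' h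
      obtain ⟨e1, e2⟩ := Prod.ext_iff.mp h
      rw [← QuotientGroup.out_eq' q, ← QuotientGroup.out_eq' q', QuotientGroup.eq, mem_subgroupOf]
      have key : ∀ g, ⁅g, (q.out : R)⁆ = ⁅g, (q'.out : R)⁆ →
          g ∈ centralizer ({(q.out : R)⁻¹ * q'.out} : Set R) := by
        intro g he
        rw [mem_centralizer_singleton_iff]
        simp only [commutatorElement_def, mul_assoc, mul_right_inj] at he
        have h2 := congrArg (fun u => (q.out : R)⁻¹ * u * q'.out) he
        simp only [mul_assoc, inv_mul_cancel, mul_one, inv_mul_cancel_left] at h2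
        exact (Commute.inv_left_iff.mp (show Commute g⁻¹ ((q.out : R)⁻¹ * q'.out) by
          simpa [Commute, SemiconjBy, mul_assoc] using h2)).eq
      refine mem_centralizer_iff.mpr fun w hw => ?_
      have hall : A1 ⊔ zpowers g2 ≤ centralizer ({(q.out : R)⁻¹ * q'.out} : Set R) :=
        sup_le (sup_le (hZc.trans (center_le_centralizer _))
          (zpowers_le.mpr (key g1 (congrArg Subtype.val e1))))
          (zpowers_le.mpr (key g2 (congrArg Subtype.val e2)))
      exact mem_centralizer_singleton_iff.mp (hall (hA2W.ge hw))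
    have h := Nat.card_le_card_of_injective ψ hψ
    rw [Nat.card_prod, hZcard, ← index_eq_card] at h
    refine (eq_of_le_of_card_ge hWD ?_).ge
    have e1 := Cfsg.Lib.Core.card_mul_relIndex (le_sup_right : D ≤ W ⊔ D)
    have e2 := Cfsg.Lib.Core.card_mul_relIndex (inf_le_left : Z ≤ W)
    rw [relIndex_sup_right] at e1
    rw [inf_relIndex_left, hZcard, hk] at e2
    have e3 := Cfsg.Lib.Core.card_mul_relIndex (le_sup_right.trans hWD : D ≤ R1)
    rw [← e1, ← e3]
    refine Nat.mul_le_mul_left _ ?_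
    have e4 : D.relIndex W = p * p := Nat.eq_of_mul_eq_mul_left hpp.pos (by rw [e2]; ring)
    rw [e4]
    exact h
  have hWtop : W ⊔ D = ⊤ := by
    by_contra hcon
    -- the invariant line
    let L : Subgroup R := W ⊓ ((center (R ⧸ Z)).comap (QuotientGroup.mk' Z))
    have hLdef : ∀ {w}, w ∈ L ↔ w ∈ W ∧ ∀ g, ⁅w, g⁆ ∈ Z := by
      intro w
      refine and_congr Iff.rfl ?_
      constructor
      · intro h g
        refine (QuotientGroup.eq_one_iff _).mp ?_
        show QuotientGroup.mk' Z ⁅w, g⁆ = 1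
        rw [map_commutatorElement, commutatorElement_eq_one_iff_mul_comm]
        exact (mem_center_iff.mp h _).symm
      · intro h
        refine mem_center_iff.mpr fun q => ?_
        obtain ⟨g, rfl⟩ := QuotientGroup.mk'_surjective Z q
        have := (QuotientGroup.eq_one_iff _).mpr (h g)
        change QuotientGroup.mk' Z ⁅w, g⁆ = 1 at this
        rw [map_commutatorElement, commutatorElement_eq_one_iff_mul_comm] at this
        exact this.symm
    haveI : L.Normal := inferInstanceAs (W ⊓ ((center (R ⧸ Z)).comap (QuotientGroup.mk' Z))).Normal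
    have hZL : Z < L := by
      have hne' : W.map (QuotientGroup.mk' Z) ≠ ⊥ := by
        intro e
        rw [Subgroup.map_eq_bot_iff, QuotientGroup.ker_mk'] at e
        exact hZlt.not_ge e
      haveI : (W.map (QuotientGroup.mk' Z)).Normal := hWn.map _ (QuotientGroup.mk'_surjective Z)
      obtain ⟨q, ⟨w, hw, rfl⟩, hqc, hqo⟩ :=
        Cfsg.Lib.PGroup.exists_mem_center_orderOf_eq (hR.to_quotient Z) hne'
      refine lt_of_le_of_ne (fun z hz => ⟨hz.1, ?_⟩) fun e => ?_
      · show QuotientGroup.mk' Z z ∈ center (R ⧸ Z)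
        rw [show QuotientGroup.mk' Z z = 1 from (QuotientGroup.eq_one_iff z).mpr hz]
        exact one_mem _
      · have hwZ : w ∈ Z := e ▸ ⟨hw, hqc⟩
        rw [show QuotientGroup.mk' Z w = 1 from (QuotientGroup.eq_one_iff w).mpr hwZ, orderOf_one] at hqo
        exact hpp.one_lt.ne hqo
    have hLW : L < W := lt_of_le_of_ne inf_le_left fun e => hcon (top_le_iff.mp
      ((show (⊤ : Subgroup R) ≤ R1 from fun r _ => hR1.mpr fun w hw => (hLdef.mp (e.ge hw)).2 r).trans hR1le))
    have hL2 : Nat.card L = p ^ 2 := by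
      obtain ⟨i, hi⟩ := IsPGroup.iff_card.mp (hR.to_subgroup L)
      have h1 := hclt hZL
      have h2 := hclt hLW
      rw [hZcard, hi] at h1
      rw [hk, hi] at h2
      have := (Nat.pow_lt_pow_iff_right hpp.one_lt).mp h2
      have : 1 < i := by
        by_contra h
        exact absurd ((Nat.pow_le_pow_right hpp.pos (show i ≤ 1 by omega)).trans (pow_one p).le) (by omega)
      rw [hi, show i = 2 by omega]
    have hLW' : L.relIndex W = p := by
      have e := Cfsg.Lib.Core.card_mul_relIndex hLW.le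
      rw [hL2, hk, pow_succ p 2] at e
      exact Nat.eq_of_mul_eq_mul_left (pow_pos hpp.pos 2) e
    have hZL' : Z.relIndex L = p := by
      have e := Cfsg.Lib.Core.card_mul_relIndex hZL.le
      rw [hZcard, hL2, sq] at e
      exact Nat.eq_of_mul_eq_mul_left hpp.pos e
    have haZ : ∀ (a : A), ∀ x ∈ Z, φ a x ∈ Z := fun a x hx => ⟨haW a x hx.1, haD a x hx.2⟩
    have haL : ∀ (a : A), ∀ x ∈ L, φ a x ∈ L := fun a x hx => hLdef.mpr ⟨haW a x (hLdef.mp hx).1,
      fun g => by
        obtain ⟨g', rfl⟩ := (φ a).surjective g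
        rw [← map_commutatorElement]
        exact haZ a _ ((hLdef.mp hx).2 g')⟩
    obtain ⟨w₀, hw₀, hw₀L⟩ := SetLike.exists_of_lt hLW
    obtain ⟨u₀, hu₀, hu₀Z⟩ := SetLike.exists_of_lt hZL
    have hw0p : w₀ ^ p = 1 := hw₀
    have hu0p : u₀ ^ p = 1 := (hLdef.mp hu₀).1
    have hWL : ∀ w ∈ W, ∀ r : R, ⁅w, r⁆ ∈ L := by
      intro w hw r
      haveI : Finite (MulAut R) := Finite.of_injective (fun f => (f : R → R)) DFunLike.coe_injective
      have hcr : (orderOf (MulAut.conj r)).Coprime (p - 1) := by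
        obtain ⟨j, hj⟩ := IsPGroup.iff_orderOf.mp hR r
        refine Nat.Coprime.coprime_dvd_left (hj ▸ orderOf_map_dvd MulAut.conj r) (Nat.Coprime.pow_left _ ?_)
        rw [hpp.coprime_iff_not_dvd]
        exact fun h => absurd (Nat.le_of_dvd (by omega) h) (by omega)
      have h := sec_trivial hR hcr W L (fun x hx => hWn.conj_mem x hx r)
        (fun x hx => (inferInstance : L.Normal).conj_mem x hx r) hLW'.le w hw
      rw [MulAut.conj_apply] at h
      have e : ⁅w, r⁆ = (w * (w⁻¹ * (r * w * r⁻¹)) * w⁻¹)⁻¹ := by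
        simp [commutatorElement_def, mul_assoc]
      rw [e]
      exact inv_mem ((inferInstance : L.Normal).conj_mem _ h w)
    let T := centralizer (L : Set R)
    haveI : T.Normal := inferInstanceAs (centralizer (L : Set R)).Normal
    have hTW : ∀ t ∈ T, t ∈ W → t ∈ L := by
      intro t ht htW
      by_contra htL
      apply hu₀Z
      refine ⟨(hLdef.mp hu₀).1, mem_centralizer_iff.mpr fun v hv => ?_⟩
      obtain ⟨i, hi⟩ := exists_pow_mul_mem W L hLW' htW htL hv
      have hLab : ∀ y ∈ L, Commute u₀ y := by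
        have h0 : Z ⊔ zpowers u₀ = L := by
          refine eq_of_le_of_card_ge (sup_le hZL.le (zpowers_le.mpr hu₀)) ?_
          obtain ⟨j, hj⟩ := IsPGroup.iff_card.mp (hR.to_subgroup (Z ⊔ zpowers u₀))
          have h1 := hclt (lt_of_le_of_ne (le_sup_left : Z ≤ Z ⊔ zpowers u₀) fun e =>
            hu₀Z (e.ge (mem_sup_right (mem_zpowers u₀))))
          rw [hZcard, hj] at h1
          rw [hL2, hj]
          refine Nat.pow_le_pow_right hpp.pos ?_
          by_contra h
          exact absurd ((Nat.pow_le_pow_right hpp.pos (show j ≤ 1 by omega)).trans (pow_one p).le) (by omega)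
        intro y hy
        have hle : Z ⊔ zpowers u₀ ≤ centralizer ({u₀} : Set R) :=
          sup_le (hZc.trans (center_le_centralizer _)) (zpowers_le.mpr (mem_centralizer_singleton_iff.mpr rfl))
        exact (mem_centralizer_singleton_iff.mp (hle (h0.ge hy))).symm
      have h1 : Commute u₀ (t ^ i) :=
        Commute.pow_right (mem_centralizer_iff.mp ht u₀ hu₀ : u₀ * t = t * u₀) i
      have h2 := h1.mul_right (hLab _ hi)
      rw [mul_inv_cancel_left] at h2
      exact h2.symm.eq
    have hw₀T : w₀ ∉ T := fun h => hw₀L (hTW w₀ h hw₀)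
    have hz1 : ⁅u₀, w₀⁆ ∈ Z := (hLdef.mp hu₀).2 w₀
    have hLgen : ∀ y ∈ L, ∃ i : ℕ, (u₀ ^ i)⁻¹ * y ∈ Z := fun y hy =>
      exists_pow_mul_mem L Z hZL' hu₀ hu₀Z hy
    have hTmem : ∀ r : R, ⁅u₀, r⁆ = 1 → r ∈ T := by
      intro r h
      refine mem_centralizer_iff.mpr fun y hy => ?_
      obtain ⟨i, hi⟩ := hLgen y hy
      have h1 : Commute (u₀ ^ i) r := Commute.pow_left (commutatorElement_eq_one_iff_mul_comm.mp h) i
      have h2 := h1.mul_left (show Commute ((u₀ ^ i)⁻¹ * y) r from (mem_center_iff.mp (hZc hi) r).symm)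
      rw [mul_inv_cancel_left] at h2
      exact h2.eq
    have hz1ne : ⁅u₀, w₀⁆ ≠ 1 := fun h => hw₀T (hTmem w₀ h)
    -- `R = W T`
    have hsplit : ∀ r : R, ∃ i : ℕ, r * w₀ ^ i ∈ T := by
      intro r
      have hc : ∀ g, ⁅u₀, g⁆ ∈ center R := fun g => hZc ((hLdef.mp hu₀).2 g)
      have hmul : ∀ a b : R, ⁅u₀, a * b⁆ = ⁅u₀, a⁆ * ⁅u₀, b⁆ := by
        intro a b
        rw [commutatorElement_mul_right_eq_mul_conj, mul_assoc ⁅u₀, a⁆, mul_assoc ⁅u₀, a⁆,
          mem_center_iff.mp (hc b) a, mul_inv_cancel_right]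
      obtain ⟨i, hi⟩ := mem_powers_iff_mem_zpowers.mpr (mem_zpowers_of_prime_card (g := (⟨_, hz1⟩ : Z))
        (g' := (⟨_, inv_mem ((hLdef.mp hu₀).2 r)⟩ : Z)) hZcard fun e => hz1ne (congrArg Subtype.val e))
      have hi' : ⁅u₀, w₀⁆ ^ i = ⁅u₀, r⁆⁻¹ := congrArg Subtype.val hi
      refine ⟨i, hTmem _ ?_⟩
      have hp' : ∀ n : ℕ, ⁅u₀, w₀ ^ n⁆ = ⁅u₀, w₀⁆ ^ n := by
        intro n
        induction n with
        | zero => simp
        | succ n ih => rw [pow_succ, hmul, ih, pow_succ]
      rw [hmul, hp', hi', mul_inv_cancel]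
    have hTR1 : ∀ t ∈ T, t ∈ R1 → ∃ u ∈ L, ∃ d ∈ D, u * d = t := by
      intro t ht ht1
      obtain ⟨w, hw, d, hd, rfl⟩ := mem_sup_of_normal_right.mp (hR1le ht1)
      refine ⟨w, hTW w ?_ hw, d, hd, rfl⟩
      have hdT : d ∈ T := mem_centralizer_iff.mpr fun y _ => mem_center_iff.mp (hDc hd) y
      simpa using mul_mem ht (inv_mem hdT)
    have hxR1 : ∀ x ∈ T, x ∉ R1 → ⁅w₀, x⁆ ∉ Z := by
      intro x hx hx1 h
      refine hx1 (hR1.mpr fun w hw => ?_)
      obtain ⟨i, hi⟩ := exists_pow_mul_mem W L hLW' hw₀ hw₀L hw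
      have h1 : w₀ ^ i ∈ cz x := pow_mem (hcz.mpr h) i
      have h2 : (w₀ ^ i)⁻¹ * w ∈ cz x := hcz.mpr (by
        rw [commutatorElement_eq_one_iff_mul_comm.mpr (mem_centralizer_iff.mp hx _ hi)]
        exact one_mem _)
      have h3 := mul_mem h1 h2
      rw [mul_inv_cancel_left] at h3
      exact hcz.mp h3
    obtain ⟨x₀, hx₀, hx₀1⟩ : ∃ x ∈ T, x ∉ R1 := by
      by_contra h
      push Not at h
      refine hcon (top_le_iff.mp fun r _ => ?_)
      obtain ⟨i, hi⟩ := hsplit r
      have h1 := mul_mem (hR1le (h _ hi)) (inv_mem (pow_mem (mem_sup_left hw₀ : w₀ ∈ W ⊔ D) i))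
      rwa [mul_inv_cancel_right] at h1
    have hrelR1 : ∀ x ∈ T, x ∉ R1 → ∀ t ∈ T, ∃ i : ℕ, (x ^ i)⁻¹ * t ∈ R1 := by
      intro x hx hx1 t ht
      let cL : T →* R ⧸ Z := MonoidHom.mk' (fun t => QuotientGroup.mk' Z ⁅w₀, (t : R)⁆) (by
        intro s t
        rw [← map_mul]
        refine congrArg _ ?_
        rw [Subgroup.coe_mul, commutatorElement_mul_right_eq_mul_conj, mul_assoc ⁅w₀, (s : R)⁆,
          mul_assoc ⁅w₀, (s : R)⁆, ← mem_centralizer_iff.mp s.2 _ (hWL w₀ hw₀ t), mul_inv_cancel_right])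
      obtain ⟨i, hi⟩ := exists_pow_mul_mem L Z hZL' (hWL w₀ hw₀ x) (hxR1 x hx hx1) (hWL w₀ hw₀ t)
      refine ⟨i, ?_⟩
      by_contra h
      apply hxR1 _ (mul_mem (inv_mem (pow_mem hx i)) ht) h
      have e : cL ((⟨x, hx⟩ : T) ^ i)⁻¹ * cL ⟨t, ht⟩ = 1 := by
        rw [map_inv, map_pow, inv_mul_eq_one]
        show QuotientGroup.mk' Z ⁅w₀, x⁆ ^ i = QuotientGroup.mk' Z ⁅w₀, t⁆
        rw [← map_pow]
        exact QuotientGroup.eq.mpr hi
      rw [← map_mul] at e
      exact (QuotientGroup.eq_one_iff _).mp e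
    have hTab : ∀ s ∈ T, ∀ t ∈ T, Commute s t := by
      intro s hs t ht
      have hkey : ∀ y ∈ T, y ∈ R1 → ∀ z ∈ T, Commute y z := by
        intro y hy hy1 z hz
        obtain ⟨u, hu, d, hd, rfl⟩ := hTR1 y hy hy1
        exact (show Commute u z from mem_centralizer_iff.mp hz u hu).mul_left (mem_center_iff.mp (hDc hd) z).symm
      obtain ⟨i, hi⟩ := hrelR1 x₀ hx₀ hx₀1 s hs
      obtain ⟨j, hj⟩ := hrelR1 x₀ hx₀ hx₀1 t ht
      have hs' := hkey _ (mul_mem (inv_mem (pow_mem hx₀ i)) hs) hi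
      have ht' := hkey _ (mul_mem (inv_mem (pow_mem hx₀ j)) ht) hj
      have e := ((Commute.pow_pow_self x₀ i j).mul_right (ht' _ (pow_mem hx₀ i)).symm).mul_left
        ((hs' _ (pow_mem hx₀ j)).mul_right (hs' _ (mul_mem (inv_mem (pow_mem hx₀ j)) ht)))
      rwa [mul_inv_cancel_left, mul_inv_cancel_left] at e
    -- every operator centralizes `W / L`
    have hfixW : ∀ a : A, w₀⁻¹ * φ a w₀ ∈ L := by
      intro a
      obtain ⟨l, hl⟩ := exists_pow_mul_mem W L hLW' hw₀ hw₀L (haW a w₀ hw₀)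
      obtain ⟨k', hk'⟩ := hLgen _ (haL a u₀ hu₀)
      have haT : ∀ t ∈ T, φ a t ∈ T := fun t ht => mem_centralizer_iff.mpr fun y hy => by
        obtain ⟨y', rfl⟩ := (φ a).surjective y
        have hy' : y' ∈ L := by
          have h := haL a⁻¹ _ hy
          rwa [map_inv, MulAut.inv_apply, MulEquiv.symm_apply_apply] at h
        rw [← map_mul, ← map_mul, mem_centralizer_iff.mp ht y' hy']
      have hal : ∀ n : ℕ, (w₀ ^ (l ^ n))⁻¹ * ((φ a) ^ n) w₀ ∈ L := by
        intro n
        induction n with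
        | zero => simp [one_mem]
        | succ n ih =>
          rw [pow_succ' (φ a), MulAut.mul_apply]
          have h1 := haL a _ ih
          rw [map_mul, map_inv, map_pow] at h1
          have h2 : QuotientGroup.mk' L (φ a w₀) = QuotientGroup.mk' L (w₀ ^ l) :=
            (QuotientGroup.eq.mpr hl).symm
          have h3 : QuotientGroup.mk' L (φ a w₀ ^ l ^ n) = QuotientGroup.mk' L (φ a ((φ a ^ n) w₀)) :=
            QuotientGroup.eq.mpr h1
          rw [map_pow, h2, ← map_pow, ← pow_mul, ← pow_succ'] at h3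
          exact QuotientGroup.eq.mp h3
      have hlodd : (l : ZMod p) ^ Nat.card A = 1 := by
        have h := hal (Nat.card A)
        rw [← map_pow, pow_card_eq_one', map_one, MulAut.one_apply] at h
        have := cast_eq_of_mem (p := p) L hw₀L (by rw [hw0p]; exact one_mem _)
          (i := l ^ Nat.card A) (j := 1) (by rw [pow_one]; exact h)
        exact_mod_cast this
      -- the exponent on `Z` and on `L / Z`
      have hzpow : ∀ z ∈ Z, φ a z = z ^ (k' * l) := by
        have hbil : φ a ⁅u₀, w₀⁆ = ⁅u₀, w₀⁆ ^ (k' * l) := by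
          rw [map_commutatorElement]
          have h1 : ∀ g, ⁅φ a u₀, g⁆ = ⁅u₀ ^ k', g⁆ := fun g => by
            have e : φ a u₀ = u₀ ^ k' * ((u₀ ^ k')⁻¹ * φ a u₀) := by group
            rw [e, commutatorElement_mul_left_eq_conj_mul,
              commutatorElement_eq_one_iff_mul_comm.mpr (mem_center_iff.mp (hZc hk') g).symm]
            group
          rw [h1]
          have hu' : u₀ ^ k' ∈ L := pow_mem hu₀ _
          have e2 : φ a w₀ = w₀ ^ l * ((w₀ ^ l)⁻¹ * φ a w₀) := by group
          have hLab : ⁅u₀ ^ k', (w₀ ^ l)⁻¹ * φ a w₀⁆ = 1 := by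
            obtain ⟨i, hi⟩ := hLgen _ hl
            rw [commutatorElement_eq_one_iff_mul_comm]
            have h := ((Commute.pow_pow_self u₀ k' i).mul_right
              (show Commute (u₀ ^ k') ((u₀ ^ i)⁻¹ * ((w₀ ^ l)⁻¹ * φ a w₀)) from
                mem_center_iff.mp (hZc hi) _))
            rw [mul_inv_cancel_left] at h
            exact h.eq
          rw [e2, commutatorElement_mul_right_eq_mul_conj, hLab, mul_one, mul_inv_cancel_right]
          have hc : ∀ g, ⁅u₀, g⁆ ∈ center R := fun g => hZc ((hLdef.mp hu₀).2 g)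
          have hright : ∀ n : ℕ, ⁅u₀, w₀ ^ n⁆ = ⁅u₀, w₀⁆ ^ n := by
            intro n
            induction n with
            | zero => simp
            | succ n ih =>
              rw [pow_succ, commutatorElement_mul_right_eq_mul_conj, ih, pow_succ,
                mul_assoc (⁅u₀, w₀⁆ ^ n), mul_assoc (⁅u₀, w₀⁆ ^ n), mem_center_iff.mp (hc w₀) (w₀ ^ n),
                mul_inv_cancel_right]
          have hleft : ∀ n : ℕ, ⁅u₀ ^ n, w₀ ^ l⁆ = ⁅u₀, w₀ ^ l⁆ ^ n := by
            intro n
            induction n with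
            | zero => simp
            | succ n ih =>
              rw [pow_succ, commutatorElement_mul_left_eq_conj_mul, ih,
                mem_center_iff.mp (hc (w₀ ^ l)) (u₀ ^ n), mul_inv_cancel_right, pow_succ']
          rw [hleft, hright, ← pow_mul, mul_comm l k']
        intro z hz
        obtain ⟨i, hi⟩ := mem_powers_iff_mem_zpowers.mpr (mem_zpowers_of_prime_card (g := (⟨_, hz1⟩ : Z))
          (g' := (⟨z, hz⟩ : Z)) hZcard fun e => hz1ne (congrArg Subtype.val e))
        have hi' : ⁅u₀, w₀⁆ ^ i = z := congrArg Subtype.val hi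
        rw [← hi', map_pow, hbil, ← pow_mul, ← pow_mul, mul_comm]
      have hkl : ∀ x ∈ T, x ∉ R1 → ∀ j : ℕ, (x ^ j)⁻¹ * φ a x ∈ R1 → (k' : ZMod p) = (l : ZMod p) * j := by
        intro x hx hx1 j hj
        set u₁ := ⁅w₀, x⁆ with hu₁
        have hu₁L : u₁ ∈ L := hWL w₀ hw₀ x
        have hu₁Z : u₁ ∉ Z := hxR1 x hx hx1
        let f := QuotientGroup.mk' Z
        have hcenL : ∀ y ∈ L, ∀ g, Commute (f y) (f g) := fun y hy g => by
          rw [← commutatorElement_eq_one_iff_commute, ← map_commutatorElement]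
          exact (QuotientGroup.eq_one_iff _).mpr ((hLdef.mp hy).2 g)
        have hright : ∀ n : ℕ, f ⁅w₀, x ^ n⁆ = f u₁ ^ n := by
          intro n
          induction n with
          | zero => simp
          | succ n ih =>
            rw [pow_succ, commutatorElement_mul_right_eq_mul_conj, map_mul, map_mul, map_mul, ih,
              map_inv, mul_assoc (f u₁ ^ n), mul_assoc (f u₁ ^ n), ← (hcenL _ (hWL w₀ hw₀ x) _).eq,
              mul_inv_cancel_right, pow_succ]
        have hleft : ∀ (n : ℕ) (g : R), f ⁅w₀ ^ n, g⁆ = f ⁅w₀, g⁆ ^ n := by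
          intro n g
          induction n with
          | zero => simp
          | succ n ih =>
            rw [pow_succ, commutatorElement_mul_left_eq_conj_mul, map_mul, map_mul, map_mul, ih,
              map_inv, ← (hcenL _ (hWL w₀ hw₀ g) _).eq, mul_inv_cancel_right, pow_succ']
        have hlhs : f (φ a u₁) = f u₁ ^ k' := by
          obtain ⟨e, he⟩ := hLgen u₁ hu₁L
          have h1 := haZ a _ he
          rw [map_mul, map_inv, map_pow] at h1
          have h2 : f (φ a u₁) = f (φ a u₀) ^ e := by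
            rw [← map_pow]; exact (QuotientGroup.eq.mpr h1).symm
          have h3 : f (φ a u₀) = f u₀ ^ k' := by
            rw [← map_pow]; exact (QuotientGroup.eq.mpr hk').symm
          have h4 : f u₁ = f u₀ ^ e := by
            rw [← map_pow]; exact (QuotientGroup.eq.mpr he).symm
          rw [h2, h3, h4, ← pow_mul, ← pow_mul, mul_comm]
        have hrhs : f (φ a u₁) = f u₁ ^ (l * j) := by
          rw [hu₁, map_commutatorElement]
          have e2 : φ a w₀ = w₀ ^ l * ((w₀ ^ l)⁻¹ * φ a w₀) := by group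
          rw [e2, commutatorElement_mul_left_eq_conj_mul,
            commutatorElement_eq_one_iff_mul_comm.mpr
              (mem_centralizer_iff.mp (haT x hx) _ hl), mul_one, mul_inv_cancel, one_mul, hleft]
          have e3 : φ a x = x ^ j * ((x ^ j)⁻¹ * φ a x) := by group
          rw [e3, commutatorElement_mul_right_eq_mul_conj, map_mul, map_mul, map_mul, map_inv,
            show f ⁅w₀, (x ^ j)⁻¹ * φ a x⁆ = 1 from
              (QuotientGroup.eq_one_iff _).mpr (hR1.mp hj w₀ hw₀), mul_one, mul_inv_cancel_right,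
            hright, ← pow_mul, mul_comm j l]
        have h5 : (u₁ ^ k')⁻¹ * u₁ ^ (l * j) ∈ Z := by
          refine QuotientGroup.eq.mp ?_
          show f (u₁ ^ k') = f (u₁ ^ (l * j))
          rw [map_pow, map_pow, ← hlhs, hrhs]
        have := cast_eq_of_mem (p := p) Z hu₁Z (by
          have h6 : u₁ ^ p = 1 := (hLdef.mp hu₁L).1
          rw [h6]; exact one_mem _) h5
        rwa [Nat.cast_mul] at this
      have hk0 : (k' : ZMod p) ≠ 0 := by
        intro h
        obtain ⟨m, hm⟩ := (ZMod.natCast_eq_zero_iff k' p).mp h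
        have h1 : φ a u₀ ∈ Z := by
          have h2 := hk'
          rw [hm, pow_mul, hu0p, one_pow, inv_one, one_mul] at h2
          exact h2
        have h3 := haZ a⁻¹ _ h1
        rw [map_inv, MulAut.inv_apply, MulEquiv.symm_apply_apply] at h3
        exact hu₀Z h3
      suffices hl1 : (l : ZMod p) = 1 by
        have h : QuotientGroup.mk' L (w₀ ^ l) = QuotientGroup.mk' L w₀ := by
          have he : l ≡ 1 [MOD p] := (ZMod.natCast_eq_natCast_iff _ _ _).mp (by rw [hl1, Nat.cast_one])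
          have ho : orderOf w₀ = p := orderOf_eq_prime hw0p fun e => hw₀L (e ▸ one_mem _)
          rw [pow_eq_pow_iff_modEq.mpr (ho.symm ▸ he : l ≡ 1 [MOD orderOf w₀]), pow_one]
        exact QuotientGroup.eq.mp (h.symm.trans (QuotientGroup.eq.mpr hl))
      have hTR1' : ∀ t ∈ T, t ∈ R1 → ∃ u ∈ L, ∃ d ∈ D, u * d = t ∧ t ^ p = d ^ p := by
        intro t ht ht1
        obtain ⟨u, hu, d, hd, rfl⟩ := hTR1 t ht ht1
        refine ⟨u, hu, d, hd, rfl, ?_⟩
        rw [(show Commute u d from mem_center_iff.mp (hDc hd) u).mul_pow,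
          show u ^ p = 1 from (hLdef.mp hu).1, one_mul]
      by_cases hroot : ∃ t ∈ T, t ^ p ∈ L ∧ t ^ p ∉ Z
      · -- a root of a noncentral element of `L`
        obtain ⟨x, hx, hxL, hxZ⟩ := hroot
        have hx1 : x ∉ R1 := fun h => by
          obtain ⟨u, hu, d, hd, -, he⟩ := hTR1' x hx h
          exact hxZ ⟨(hLdef.mp hxL).1, he ▸ pow_mem hd p⟩
        obtain ⟨j, hj⟩ := hrelR1 x hx hx1 _ (haT x hx)
        have hkl' := hkl x hx hx1 j hj
        have hjk : (k' : ZMod p) = j := by
          obtain ⟨u, hu, d, hd, -, he⟩ := hTR1' _ (mul_mem (inv_mem (pow_mem hx j)) (haT x hx)) hj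
          rw [((hTab _ (inv_mem (pow_mem hx j)) _ (haT x hx))).mul_pow, inv_pow, ← pow_mul,
            mul_comm j p, pow_mul, ← map_pow] at he
          have hmem : ((x ^ p) ^ j)⁻¹ * φ a (x ^ p) ∈ Z := by
            refine ⟨?_, ?_⟩
            · exact W.mul_mem (inv_mem (pow_mem (hLdef.mp hxL).1 j)) (haW a _ (hLdef.mp hxL).1)
            · rw [he]; exact pow_mem hd p
          obtain ⟨e, hee⟩ := hLgen (x ^ p) hxL
          have h1 := haZ a _ hee
          rw [map_mul, map_inv, map_pow] at h1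
          let f := QuotientGroup.mk' Z
          have h2 : f (φ a (x ^ p)) = f (φ a u₀) ^ e := by
            rw [← map_pow]; exact (QuotientGroup.eq.mpr h1).symm
          have h3 : f (φ a u₀) = f u₀ ^ k' := by
            rw [← map_pow]; exact (QuotientGroup.eq.mpr hk').symm
          have h4 : f (x ^ p) = f u₀ ^ e := by
            rw [← map_pow]; exact (QuotientGroup.eq.mpr hee).symm
          have h5 : f (φ a (x ^ p)) = f (x ^ p) ^ j := by
            rw [← map_pow]; exact (QuotientGroup.eq.mpr hmem).symm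
          refine cast_eq_of_mem (p := p) Z hxZ (u := x ^ p) ?_ ?_
          · rw [show (x ^ p) ^ p = 1 from (hLdef.mp hxL).1]; exact one_mem _
          · refine QuotientGroup.eq.mp ?_
            show f ((x ^ p) ^ k') = f ((x ^ p) ^ j)
            rw [map_pow f _ j, ← h5, h2, h3, map_pow f _ k', h4, ← pow_mul, ← pow_mul, mul_comm]
        have h6 : (l : ZMod p) * k' = 1 * k' := by rw [one_mul]; rw [← hjk] at hkl'; exact hkl'.symm
        exact mul_right_cancel₀ hk0 h6
      · push Not at hroot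
        -- `T / L` is cyclic
        let π : T →* R := MonoidHom.mk' (fun t => (t : R) ^ p) fun s t => by
          rw [Subgroup.coe_mul]; exact (hTab s s.2 t t.2).mul_pow p
        haveI hcyc : IsCyclic π.range := by
          refine Cfsg.Lib.Local.QdRankTwo.isCyclic_of_unique hp2 π.range (hR.to_subgroup _)
            (show z₀ ^ p = 1 by rw [← hz₀o, pow_orderOf_eq_one]) ?_
          rintro _ ⟨⟨t, ht⟩, rfl⟩ htp
          refine hZzp.ge (hroot t ht (hTW _ (pow_mem ht p) ?_))
          exact htp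
        obtain ⟨⟨_, ⟨⟨x, hx⟩, rfl⟩⟩, hgenπ⟩ := IsCyclic.exists_generator (α := π.range)
        have hTgen : ∀ t ∈ T, ∃ i : ℕ, (x ^ i)⁻¹ * t ∈ L := by
          intro t ht
          obtain ⟨i, hi⟩ := mem_powers_iff_mem_zpowers.mpr
            (hgenπ ⟨π ⟨t, ht⟩, ⟨⟨t, ht⟩, rfl⟩⟩)
          have hi' : (x ^ p) ^ i = t ^ p := congrArg Subtype.val hi
          refine ⟨i, hTW _ (mul_mem (inv_mem (pow_mem hx i)) ht) ?_⟩
          show ((x ^ i)⁻¹ * t) ^ p = 1
          rw [(hTab _ (inv_mem (pow_mem hx i)) t ht).mul_pow, inv_pow, ← pow_mul, mul_comm i p,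
            pow_mul, hi', inv_mul_cancel]
        have hLR1 : ∀ y ∈ L, y ∈ R1 := fun y hy => hWD (mem_sup_left (hLdef.mp hy).1)
        have hx1 : x ∉ R1 := fun h => hx₀1 (by
          obtain ⟨i, hi⟩ := hTgen x₀ hx₀
          have h' := mul_mem (pow_mem h i) (hLR1 _ hi)
          rwa [mul_inv_cancel_left] at h')
        obtain ⟨j, hj⟩ := hTgen _ (haT x hx)
        have hkl' := hkl x hx hx1 j (hLR1 _ hj)
        obtain ⟨i, hi⟩ := IsPGroup.iff_orderOf.mp hR x
        obtain ⟨i', rfl⟩ : ∃ i', i = i' + 2 := by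
          rcases i with - | i
          · rw [pow_zero, orderOf_eq_one_iff] at hi
            exact absurd (hi ▸ one_mem R1) hx1
          rcases i with - | i
          · refine absurd (hLR1 _ (hTW x hx ?_)) hx1
            show x ^ p = 1
            have h := pow_orderOf_eq_one x
            rwa [hi, pow_one] at h
          exact ⟨i, rfl⟩
        set z1 := x ^ p ^ (i' + 1) with hz1def
        have hz1p : z1 ^ p = 1 := by
          rw [hz1def, ← pow_mul, ← pow_succ, ← hi, pow_orderOf_eq_one]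
        have hz1ne' : z1 ≠ 1 := fun h => by
          have := Nat.le_of_dvd (pow_pos hpp.pos _) (hi ▸ orderOf_dvd_of_pow_eq_one h)
          exact absurd this (not_le.mpr (Nat.pow_lt_pow_right hpp.one_lt (by omega)))
        have hpi : p ^ (i' + 1) = p ^ i' * p := pow_succ p i'
        have hz1Z : z1 ∈ Z := by
          rw [hz1def, hpi, pow_mul]
          refine hroot _ (pow_mem hx _) (hTW _ (pow_mem (pow_mem hx _) p) ?_)
          show ((x ^ p ^ i') ^ p) ^ p = 1
          rw [← pow_mul x, ← hpi]; exact hz1p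
        have hz1a : φ a z1 = z1 ^ j := by
          have hu : ((x ^ j)⁻¹ * φ a x) ^ p = 1 := (hLdef.mp hj).1
          have hu' : ((x ^ j)⁻¹ * φ a x) ^ p ^ (i' + 1) = 1 := by
            rw [pow_succ', pow_mul, hu, one_pow]
          rw [(hTab _ (inv_mem (pow_mem hx j)) _ (haT x hx)).mul_pow, inv_pow, inv_mul_eq_one] at hu'
          rw [hz1def, map_pow, ← hu', ← pow_mul, ← pow_mul, mul_comm]
        have hjkl : (j : ZMod p) = (k' : ZMod p) * l := by
          have h := hzpow z1 hz1Z
          rw [hz1a, pow_eq_pow_iff_modEq, orderOf_eq_prime hz1p hz1ne'] at h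
          have := (ZMod.natCast_eq_natCast_iff _ _ _).mpr h
          rwa [Nat.cast_mul] at this
        have hl2 : (l : ZMod p) ^ 2 = 1 := by
          refine mul_right_cancel₀ hk0 ?_
          rw [one_mul]
          calc (l : ZMod p) ^ 2 * k' = (l : ZMod p) * ((k' : ZMod p) * l) := by ring
            _ = k' := by rw [← hjkl, ← hkl']
        obtain ⟨m, hm⟩ := hodd
        rw [hm, pow_succ, pow_mul, hl2, one_pow, one_mul] at hlodd
        exact hlodd
    -- hence the quotient by `T` is a trivial quotient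
    have hTtop : T = ⊤ := hgen T inferInstance fun a r => by
      obtain ⟨i, hi⟩ := hsplit r
      have haT : φ a (r * w₀ ^ i) ∈ T := mem_centralizer_iff.mpr fun y hy => by
        obtain ⟨y', rfl⟩ := (φ a).surjective y
        have hy' : y' ∈ L := by
          have h := haL a⁻¹ _ hy
          rwa [map_inv, MulAut.inv_apply, MulEquiv.symm_apply_apply] at h
        rw [← map_mul (φ a), ← map_mul (φ a), mem_centralizer_iff.mp hi y' hy']
      let f := QuotientGroup.mk' T
      have h1 : f (φ a w₀) = f w₀ := by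
        refine (QuotientGroup.eq.mpr ?_).symm
        refine mem_centralizer_iff.mpr fun y hy => ?_
        obtain ⟨e, he⟩ := hLgen _ (hfixW a)
        obtain ⟨e', he'⟩ := hLgen y hy
        have hc1 : Commute (u₀ ^ e') (w₀⁻¹ * φ a w₀) := by
          have h := (Commute.pow_pow_self u₀ e' e).mul_right
            (show Commute (u₀ ^ e') _ from mem_center_iff.mp (hZc he) _)
          rwa [mul_inv_cancel_left] at h
        have h2 := hc1.mul_left (show Commute ((u₀ ^ e')⁻¹ * y) (w₀⁻¹ * φ a w₀) from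
          (mem_center_iff.mp (hZc he') _).symm)
        rw [mul_inv_cancel_left] at h2
        exact h2.eq
      have h2 : f (r * w₀ ^ i) = 1 := (QuotientGroup.eq_one_iff _).mpr hi
      have h3 : f (φ a (r * w₀ ^ i)) = 1 := (QuotientGroup.eq_one_iff _).mpr haT
      rw [map_mul, map_mul, map_pow, map_pow, h1] at h3
      rw [map_mul, map_pow] at h2
      exact QuotientGroup.eq.mp (mul_right_cancel (h2.trans h3.symm))
    exact hw₀T (hTtop.ge (mem_top w₀))
  have hWnab : ¬ IsMulCommutative W := fun h => hZlt.not_ge (fun w hw => ⟨hw,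
    mem_centralizer_iff.mpr fun v hv => congrArg Subtype.val (h.is_comm.comm ⟨v, hv⟩ ⟨w, hw⟩)⟩)
  refine ⟨W, by rw [← hDeq]; exact hWtop, hWnab, hk, ?_, by rw [← hDeq]; exact hDcyc, ?_⟩
  · have h : Monoid.exponent W ∣ p :=
      Monoid.exponent_dvd_of_forall_pow_eq_one fun w => Subtype.ext w.2
    refine ((Nat.dvd_prime hpp).mp h).resolve_left fun h1 => hWnab ⟨⟨fun a b => ?_⟩⟩
    haveI := Monoid.exp_eq_one_iff.mp h1
    exact Subsingleton.elim _ _
  · have e : {x : R | x ∈ center R ∧ x ^ p = 1} = (Z : Set R) := by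
      ext x
      exact ⟨fun h => ⟨h.2, hDeq ▸ h.1⟩, fun h => ⟨hZc h, h.1⟩⟩
    rw [e, closure_eq]
    have hle : ⁅W, W⁆ ≤ Z := commutator_le.mpr hcW
    refine (eq_of_le_of_card_ge hle ?_).symm
    obtain ⟨i, hi⟩ := IsPGroup.iff_card.mp (hR.to_subgroup ⁅W, W⁆)
    rw [hZcard, hi]
    refine Nat.le_self_pow (fun h0 => hWnab ⟨⟨fun a b => Subtype.ext ?_⟩⟩) p
    have hb : ⁅W, W⁆ = ⊥ := eq_bot_of_card_eq _ (by rw [hi, h0, pow_zero])
    have hm : ⁅(a : R), (b : R)⁆ ∈ ⁅W, W⁆ := commutator_mem_commutator a.2 b.2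
    rw [hb, mem_bot, commutatorElement_eq_one_iff_mul_comm] at hm
    exact hm

end Cfsg.Lib.Local.RankTwoCentralProduct
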