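import Cfsg.Agent.Lib.Local.NarrowAut
import Cfsg.Agent.Lib.Local.QdRankTwo
import Cfsg.Agent.Lib.PGroup.Huppert
import Cfsg.Agent.Lib.Invol.Quaternion
import Cfsg.Agent.S0128

/-!
An automorphism of prime order `q ∤ p - 1` of a non-abelian `p`-group `R` of rank two with no trivial
quotient: `R` has order `p ^ 3`.
-/

set_option autoImplicit false

namespace Cfsg.Lib.Local.RankTwoOperator

open Subgroup RankTwoAut NarrowAut
open scoped commutatorElement

universe u

variable {p : ℕ} [Fact p.Prime] {R : Type u} [Group R] [Finite R]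

/-- An automorphism of order prime to `p - 1` is trivial on invariant sections of order at most `p`. -/
theorem sec_trivial (hR : IsPGroup p R) {a : MulAut R} (ha : (orderOf a).Coprime (p - 1))
    (X N : Subgroup R) [(N.subgroupOf X).Normal] (hX : ∀ x ∈ X, a x ∈ X) (hN : ∀ x ∈ N, a x ∈ N)
    (hi : N.relIndex X ≤ p) : ∀ x ∈ X, x⁻¹ * a x ∈ N := by
  classical
  intro x hx
  haveI : Finite (MulAut R) := Finite.of_injective (fun f => (f : R → R)) DFunLike.coe_injective
  let M : Subgroup X := N.subgroupOf X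
  haveI : M.Normal := inferInstanceAs (N.subgroupOf X).Normal
  let r₀ : X →* X :=
    { toFun := fun z => ⟨a z, hX z z.2⟩
      map_one' := Subtype.ext (map_one a)
      map_mul' := fun z w => Subtype.ext (map_mul a (z : R) (w : R)) }
  have hrb : Function.Bijective r₀ := Finite.injective_iff_bijective.mp
    fun z w h => Subtype.ext (a.injective (congrArg Subtype.val h))
  let r : X ≃* X := MulEquiv.ofBijective r₀ hrb
  have hM : M.map (r : X →* X) = M := by
    refine eq_of_le_of_card_ge ?_ (card_map_of_injective r.injective).ge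
    rintro _ ⟨z, hz, rfl⟩
    exact mem_subgroupOf.mpr (hN _ (mem_subgroupOf.mp hz))
  let b : MulAut (X ⧸ M) := QuotientGroup.congr M M r hM
  have hb : ∀ (n : ℕ) (z : X), ∃ w : X, (b ^ n) (QuotientGroup.mk' M z) = QuotientGroup.mk' M w ∧
      (w : R) = (a ^ n) z := by
    intro n
    induction n with
    | zero => exact fun z => ⟨z, rfl, rfl⟩
    | succ n ih =>
      intro z
      obtain ⟨w, hw, hw'⟩ := ih z
      refine ⟨r w, ?_, ?_⟩
      · rw [pow_succ', MulAut.mul_apply, hw]; rfl
      · rw [pow_succ', MulAut.mul_apply, ← hw']; rfl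
  have hbn : b ^ orderOf a = 1 := by
    refine MulEquiv.ext fun z => ?_
    obtain ⟨z, rfl⟩ := QuotientGroup.mk'_surjective _ z
    obtain ⟨w, hw, hw'⟩ := hb (orderOf a) z
    rw [pow_orderOf_eq_one, MulAut.one_apply] at hw'
    rw [hw, MulAut.one_apply, Subtype.ext hw']
  have hb1 : b = 1 := by
    have hcard : Nat.card (X ⧸ M) ≤ p := by rw [← index_eq_card]; exact hi
    obtain ⟨i, hi'⟩ := IsPGroup.iff_card.mp ((hR.to_subgroup X).to_quotient M)
    rcases Nat.eq_zero_or_pos i with rfl | hipos
    · rw [pow_zero] at hi'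
      haveI : Subsingleton (X ⧸ M) := (Nat.card_eq_one_iff_unique.mp hi').1
      exact MulEquiv.ext fun z => Subsingleton.elim _ _
    have hp1 : Nat.card (X ⧸ M) = p := le_antisymm hcard (hi' ▸ Nat.le_self_pow hipos.ne' p)
    haveI : IsCyclic (X ⧸ M) := isCyclic_of_prime_card hp1
    have h1 : b ^ (p - 1) = 1 := by
      apply (IsCyclic.mulAutMulEquiv (X ⧸ M)).injective
      rw [map_pow, map_one]
      have hpow : ∀ u : (ZMod (Nat.card (X ⧸ M)))ˣ, u ^ (p - 1) = 1 := by
        rw [hp1]; exact ZMod.units_pow_card_sub_one_eq_one p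
      exact hpow _
    exact orderOf_eq_one_iff.mp (Nat.eq_one_of_dvd_coprimes ha
      (orderOf_dvd_of_pow_eq_one hbn) (orderOf_dvd_of_pow_eq_one h1))
  exact mem_subgroupOf.mp (QuotientGroup.eq.mp
    (DFunLike.congr_fun hb1 (QuotientGroup.mk' M ⟨x, hx⟩)).symm)

/-- The only possible order of a non-abelian group with such an operator is `p ^ 3`. -/
theorem card_eq_cube (hp : 3 < p) (hR : IsPGroup p R) (hr : Cfsg.PRankLE p 2 R) {a : MulAut R}
    (hap : (orderOf a).Coprime p) (hap1 : (orderOf a).Coprime (p - 1)) (ha : a ≠ 1)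
    (hgen : ∀ N : Subgroup R, (∀ x, x⁻¹ * a x ∈ N) → N = ⊤) (hnab : ¬ IsMulCommutative R) :
    Nat.card R = p ^ 3 := by
  classical
  have hpp : p.Prime := Fact.out
  have hp2 : p ≠ 2 := by omega
  haveI : Finite (MulAut R) := Finite.of_injective (fun f => (f : R → R)) DFunLike.coe_injective
  have hrk : ∀ E : Subgroup R, Cfsg.IsElementaryAbelian p E → Nat.card E ≤ p ^ 2 :=
    fun E hE => hr E hE.1 hE.2
  let W : Subgroup R :=
    { carrier := {x | x ^ p = 1}
      one_mem' := one_pow _
      mul_mem' := fun {x y} hx hy => Cfsg.Agent.S0128.result hp hR hrk (x * y)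
        (mul_mem (subset_closure hx) (subset_closure hy))
      inv_mem' := fun {x} (hx : x ^ p = 1) => by
        show x⁻¹ ^ p = 1
        rw [inv_pow, hx, inv_one] }
  have hWp : IsPGroup p W := hR.to_subgroup W
  have haW : ∀ x ∈ W, a x ∈ W := fun x hx => by
    show a x ^ p = 1
    rw [← map_pow, show x ^ p = 1 from hx, map_one]
  haveI hWn : W.Normal := ⟨fun w hw g => by
    show (g * w * g⁻¹) ^ p = 1
    rw [conj_pow, show w ^ p = 1 from hw, mul_one, mul_inv_cancel]⟩
  have hWfix : ¬ ∀ x ∈ W, a x = x := fun h =>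
    ha (Cfsg.Agent.S0120.result hp2 hR a hap fun x hx => h x hx)
  obtain ⟨k, hk⟩ := IsPGroup.iff_card.mp hWp
  have hW3 : k ≤ 3 := by
    have h := Cfsg.Agent.S3771.result hWp (pRankLE_subgroup hr W) (fun x => Subtype.ext x.2)
    rw [hk] at h
    exact (Nat.pow_le_pow_iff_right hpp.one_lt).mp h
  have hne : commutator R ≠ ⊥ := by
    intro h
    refine hnab ⟨⟨fun x y => ?_⟩⟩
    have hm : ⁅x, y⁆ ∈ commutator R := commutator_mem_commutator (mem_top x) (mem_top y)
    rwa [h, mem_bot, commutatorElement_eq_one_iff_mul_comm] at hm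
  -- `Ω` has order `p ^ 3`
  have hW : k = 3 := by
    by_contra hk3
    have hO : Nat.card ↥(Cfsg.omegaOne p (⊤ : Subgroup R)) ≤ p ^ 2 := by
      refine (card_le_of_le (show Cfsg.omegaOne p (⊤ : Subgroup R) ≤ W from
        (closure_le _).mpr fun x hx => hx.2)).trans ?_
      rw [hk]
      exact Nat.pow_le_pow_right hpp.pos (by omega)
    haveI hcyc := Cfsg.Lib.PGroup.Huppert.isCyclic_commutator_of_metacyclic hR
      (Cfsg.Lib.PGroup.Huppert.metacyclic_of_omega_aux hp _ R le_rfl hR hO)
    obtain ⟨z, hzR, hzc, hzo⟩ := Cfsg.Lib.PGroup.exists_mem_center_orderOf_eq hR hne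
    have hzW : zpowers z ≤ W := zpowers_le.mpr (show z ^ p = 1 by rw [← hzo, pow_orderOf_eq_one])
    haveI : (zpowers z).Normal := ⟨fun w hw g => by
      obtain ⟨i, rfl⟩ := mem_zpowers_iff.mp hw
      rw [mem_center_iff.mp (zpow_mem hzc i) g, mul_inv_cancel_right]
      exact hw⟩
    have haz : ∀ x ∈ zpowers z, a x ∈ zpowers z := by
      intro x hx
      have hz' : a z ∈ commutator R := apply_mem_of_char (by infer_instance) a z hzR
      have heq := Cfsg.Lib.Invol.zpowers_eq_of_cyclic (x := (⟨a z, hz'⟩ : commutator R))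
        (y := ⟨z, hzR⟩) (by rw [Subgroup.orderOf_mk, Subgroup.orderOf_mk, MulEquiv.orderOf_eq])
      obtain ⟨i, hi⟩ := mem_zpowers_iff.mp (heq ▸ mem_zpowers (⟨a z, hz'⟩ : commutator R))
      obtain ⟨j, rfl⟩ := mem_zpowers_iff.mp hx
      rw [map_zpow]
      exact zpow_mem (mem_zpowers_iff.mpr ⟨i, congrArg Subtype.val hi⟩) j
    have hz : ∀ x ∈ zpowers z, a x = x := by
      intro x hx
      have h := sec_trivial hR hap1 (zpowers z) ⊥ haz (fun x hx => by
          rw [mem_bot] at hx ⊢; rw [hx, map_one])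
        (by rw [relIndex_bot_left, Nat.card_zpowers, hzo]) x hx
      rw [mem_bot, inv_mul_eq_one] at h
      exact h.symm
    have hi : (zpowers z).relIndex W ≤ p := by
      have e := Cfsg.Lib.Core.card_mul_relIndex hzW
      rw [Nat.card_zpowers, hzo, hk] at e
      refine Nat.le_of_mul_le_mul_left ?_ hpp.pos
      calc p * (zpowers z).relIndex W = p ^ k := e
        _ ≤ p ^ 2 := Nat.pow_le_pow_right hpp.pos (by omega)
        _ = p * p := sq p
    exact hWfix (fix_step hR hap (sec_trivial hR hap1 W (zpowers z) haW haz hi) hz)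
  subst hW
  -- the centre of `Ω`
  let D := centralizer (W : Set R)
  have haD : ∀ x ∈ D, a x ∈ D := fun x hx => mem_centralizer_iff.mpr fun w hw => by
    obtain ⟨v, hv⟩ := a.surjective w
    have hvW : v ∈ W := by
      show v ^ p = 1
      apply a.injective
      rw [map_pow, hv, map_one]
      exact hw
    rw [← hv, ← map_mul, ← map_mul, mem_centralizer_iff.mp hx v hvW]
  let Z := W ⊓ D
  haveI : D.Normal := inferInstanceAs (centralizer (W : Set R)).Normal
  haveI : Z.Normal := inferInstanceAs (W ⊓ D).Normal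
  have hZlt : Z < W := by
    refine lt_of_le_of_ne inf_le_left fun h => ?_
    have := hr W ⟨⟨fun x y => Subtype.ext (mem_centralizer_iff.mp (h.ge y.2).2 x x.2)⟩⟩
      (fun x hx => hx)
    rw [hk] at this
    exact absurd ((Nat.pow_le_pow_iff_right hpp.one_lt).mp this) (by norm_num)
  have hZcard : Nat.card Z = p := by
    obtain ⟨i, hi⟩ := IsPGroup.iff_card.mp (hR.to_subgroup Z)
    have h3 : Nat.card Z < Nat.card W :=
      lt_of_le_of_ne (card_le_of_le hZlt.le) fun e => hZlt.ne (eq_of_le_of_card_ge hZlt.le e.ge)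
    rw [hi, hk] at h3
    have hi3 := (Nat.pow_lt_pow_iff_right hpp.one_lt).mp h3
    have hi2 : i ≠ 2 := by
      intro h2
      -- a central subgroup of index `p` makes `W` abelian
      obtain ⟨w, hw, hwZ⟩ := SetLike.exists_of_lt hZlt
      let C := W ⊓ centralizer ({w} : Set R)
      have hlt : Z < C := lt_of_le_of_ne (le_inf inf_le_left fun z hz =>
        mem_centralizer_singleton_iff.mpr (mem_centralizer_iff.mp hz.2 w hw).symm)
        fun e => hwZ (e ▸ ⟨hw, mem_centralizer_singleton_iff.mpr rfl⟩)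
      have h4 : Nat.card Z < Nat.card C :=
        lt_of_le_of_ne (card_le_of_le hlt.le) fun e => hlt.ne (eq_of_le_of_card_ge hlt.le e.ge)
      obtain ⟨j, hj⟩ := IsPGroup.iff_card.mp (hR.to_subgroup C)
      rw [hi, hj] at h4
      have := (Nat.pow_lt_pow_iff_right hpp.one_lt).mp h4
      have hCW : C = W := eq_of_le_of_card_ge inf_le_left (by
        rw [hk, hj]; exact Nat.pow_le_pow_right hpp.pos (by omega))
      exact hwZ ⟨hw, mem_centralizer_iff.mpr fun v hv =>
        mem_centralizer_singleton_iff.mp (hCW.ge hv).2⟩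
    have hi0 : i ≠ 0 := by
      intro h0
      have hne' : W ≠ ⊥ := by
        intro e
        rw [e, card_bot] at hk
        exact absurd hk (Nat.one_lt_pow (by norm_num) hpp.one_lt).ne
      obtain ⟨z, hz, hzc, hzo⟩ := Cfsg.Lib.PGroup.exists_mem_center_orderOf_eq hR hne'
      have hzZ : z ∈ Z := ⟨hz, mem_centralizer_iff.mpr fun v _ => mem_center_iff.mp hzc v⟩
      have := Subgroup.orderOf_dvd_natCard Z hzZ
      rw [hzo, hi, h0, pow_zero] at this
      exact hpp.one_lt.ne' (Nat.dvd_one.mp this)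
    rw [hi, show i = 1 by omega, pow_one]
  have haZ : ∀ x ∈ Z, a x ∈ Z := fun x hx => ⟨haW x hx.1, haD x hx.2⟩
  have hZfix : ∀ x ∈ Z, a x = x := by
    intro x hx
    have h := sec_trivial hR hap1 Z ⊥ haZ (fun x hx => by
        rw [mem_bot] at hx ⊢; rw [hx, map_one])
      (by rw [relIndex_bot_left, hZcard]) x hx
    rw [mem_bot, inv_mul_eq_one] at h
    exact h.symm
  -- the automorphism centralizes the centralizer of `Ω`
  have hDfix : ∀ x ∈ D, a x = x := by
    intro x hx
    let r₀ : D →* D :=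
      { toFun := fun z => ⟨a z, haD z z.2⟩
        map_one' := Subtype.ext (map_one a)
        map_mul' := fun z w => Subtype.ext (map_mul a (z : R) (w : R)) }
    let r : MulAut D := MulEquiv.ofBijective r₀ (Finite.injective_iff_bijective.mp
      fun z w h => Subtype.ext (a.injective (congrArg Subtype.val h)))
    have hpow : ∀ (n : ℕ) (z : D), (((r ^ n) z : D) : R) = (a ^ n) z := by
      intro n
      induction n with
      | zero => intro z; rfl
      | succ n ih => intro z; rw [pow_succ', MulAut.mul_apply, pow_succ', MulAut.mul_apply, ← ih]; rfl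
    have hord : orderOf r ∣ orderOf a := orderOf_dvd_of_pow_eq_one (MulEquiv.ext fun z => Subtype.ext (by
      rw [hpow, pow_orderOf_eq_one]; rfl))
    have := Cfsg.Agent.S0120.result hp2 (hR.to_subgroup D) r (hap.coprime_dvd_left hord)
      (fun z hz => Subtype.ext (hZfix z ⟨congrArg Subtype.val hz, z.2⟩))
    exact congrArg Subtype.val (DFunLike.congr_fun this ⟨x, hx⟩)
  -- invariant subgroups between `Z` and `Ω`
  have hcW : ∀ x ∈ W, ∀ y ∈ W, ⁅x, y⁆ ∈ Z := by
    intro x hx y hy
    let M : Subgroup W := Z.subgroupOf W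
    haveI : M.Normal := inferInstanceAs (Z.subgroupOf W).Normal
    have hc : Nat.card (W ⧸ M) ≤ p ^ 2 := by
      rw [← index_eq_card]
      have e := Cfsg.Lib.Core.card_mul_relIndex hZlt.le
      rw [hZcard, hk] at e
      refine Nat.le_of_mul_le_mul_left ?_ hpp.pos
      exact e.le.trans (by rw [pow_succ' p 2])
    have := Cfsg.Lib.PGroup.Huppert.isMulCommutative_of_card_le_sq (hWp.to_quotient M) hc
    have h1 : QuotientGroup.mk' M ⁅(⟨x, hx⟩ : W), ⟨y, hy⟩⁆ = 1 := by
      rw [map_commutatorElement, commutatorElement_eq_one_iff_mul_comm]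
      exact this.is_comm.comm _ _
    exact mem_subgroupOf.mp ((QuotientGroup.eq_one_iff _).mp h1)
  let F : Subgroup R :=
    W ⊓ ((center (R ⧸ Z)).comap (QuotientGroup.mk' Z))
  have hFdef : ∀ {w}, w ∈ F ↔ w ∈ W ∧ ∀ g, ⁅w, g⁆ ∈ Z := by
    intro w
    refine and_congr Iff.rfl ?_
    constructor
    · intro h g
      refine (QuotientGroup.eq_one_iff _).mp ?_
      show QuotientGroup.mk' Z ⁅w, g⁆ = 1
      rw [map_commutatorElement, commutatorElement_eq_one_iff_mul_comm]
      exact (mem_center_iff.mp h _).symm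
    · intro h
      refine mem_center_iff.mpr fun q => ?_
      obtain ⟨g, rfl⟩ := QuotientGroup.mk'_surjective Z q
      have := (QuotientGroup.eq_one_iff _).mpr (h g)
      change QuotientGroup.mk' Z ⁅w, g⁆ = 1 at this
      rw [map_commutatorElement, commutatorElement_eq_one_iff_mul_comm] at this
      exact this.symm
  have hZF : Z < F := by
    have hne' : W.map (QuotientGroup.mk' Z) ≠ ⊥ := by
      intro e
      rw [Subgroup.map_eq_bot_iff, QuotientGroup.ker_mk'] at e
      exact hZlt.not_ge e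
    haveI : (W.map (QuotientGroup.mk' Z)).Normal := hWn.map _ (QuotientGroup.mk'_surjective Z)
    obtain ⟨q, ⟨w, hw, rfl⟩, hqc, hqo⟩ :=
      Cfsg.Lib.PGroup.exists_mem_center_orderOf_eq (hR.to_quotient Z) hne'
    refine lt_of_le_of_ne (fun z hz => ⟨hz.1, ?_⟩) fun e => ?_
    · show QuotientGroup.mk' Z z ∈ center (R ⧸ Z)
      rw [show QuotientGroup.mk' Z z = 1 from (QuotientGroup.eq_one_iff z).mpr hz]
      exact one_mem _
    · have hwZ : w ∈ Z := e ▸ ⟨hw, hqc⟩
      rw [show QuotientGroup.mk' Z w = 1 from (QuotientGroup.eq_one_iff w).mpr hwZ, orderOf_one] at hqo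
      exact hpp.one_lt.ne hqo
  have hfixsub : ∀ L : Subgroup R, Z < L → L ≤ W → (∀ x ∈ L, a x ∈ L) → L = W := by
    intro L hZL hLW haL
    by_contra hne'
    have hLlt : L < W := lt_of_le_of_ne hLW hne'
    obtain ⟨i, hi⟩ := IsPGroup.iff_card.mp (hR.to_subgroup L)
    have h1 : Nat.card Z < Nat.card L :=
      lt_of_le_of_ne (card_le_of_le hZL.le) fun e => hZL.ne (eq_of_le_of_card_ge hZL.le e.ge)
    have h2 : Nat.card L < Nat.card W :=
      lt_of_le_of_ne (card_le_of_le hLW) fun e => hne' (eq_of_le_of_card_ge hLW e.ge)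
    have hL2 : Nat.card L = p ^ 2 := by
      rw [hZcard, hi] at h1
      rw [hk, hi] at h2
      have := (Nat.pow_lt_pow_iff_right hpp.one_lt).mp h2
      have : 1 < i := by
        by_contra h
        exact absurd ((Nat.pow_le_pow_right hpp.pos (show i ≤ 1 by omega)).trans (pow_one p).le) (by omega)
      rw [hi, show i = 2 by omega]
    haveI : (L.subgroupOf W).Normal := Normal.of_commutator_le _ (by
      rw [_root_.commutator_def, commutator_le]
      exact fun x _ y _ => mem_subgroupOf.mpr (hZL.le (hcW x x.2 y y.2)))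
    have hi1 : L.relIndex W ≤ p := by
      have e := Cfsg.Lib.Core.card_mul_relIndex hLW
      rw [hL2, hk] at e
      refine Nat.le_of_mul_le_mul_left ?_ (pow_pos hpp.pos 2)
      exact e.le.trans (by rw [pow_succ p 2])
    haveI : (Z.subgroupOf L).Normal := inferInstance
    have hi2 : Z.relIndex L ≤ p := by
      have e := Cfsg.Lib.Core.card_mul_relIndex hZL.le
      rw [hZcard, hL2] at e
      refine Nat.le_of_mul_le_mul_left ?_ hpp.pos
      exact e.le.trans (sq p).le
    exact hWfix (fix_step hR hap (sec_trivial hR hap1 W L haW haL hi1)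
      (fix_step hR hap (sec_trivial hR hap1 L Z haL haZ hi2) hZfix))
  have hFW : F = W := hfixsub F hZF inf_le_left fun w hw => hFdef.mpr ⟨haW w (hFdef.mp hw).1, fun g => by
    obtain ⟨g', rfl⟩ := a.surjective g
    rw [← map_commutatorElement]
    exact haZ _ ((hFdef.mp hw).2 g')⟩
  -- two generators of `Ω` over `Z`
  obtain ⟨g1, hg1, hg1Z⟩ := SetLike.exists_of_lt hZlt
  let A1 := Z ⊔ zpowers g1
  have hA1W : A1 ≤ W := sup_le hZlt.le (zpowers_le.mpr hg1)
  have hA1C : A1 ≤ centralizer ({g1} : Set R) :=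
    sup_le (fun z hz => mem_centralizer_singleton_iff.mpr (mem_centralizer_iff.mp hz.2 g1 hg1).symm)
      (zpowers_le.mpr (mem_centralizer_singleton_iff.mpr rfl))
  have hA1lt : A1 < W := lt_of_le_of_ne hA1W fun e => hg1Z ⟨hg1, mem_centralizer_iff.mpr fun v hv =>
    mem_centralizer_singleton_iff.mp (hA1C (e.ge hv))⟩
  obtain ⟨g2, hg2, hg2A⟩ := SetLike.exists_of_lt hA1lt
  let A2 := A1 ⊔ zpowers g2
  have hA2W : A2 = W := by
    refine eq_of_le_of_card_ge (sup_le hA1W (zpowers_le.mpr hg2)) ?_
    obtain ⟨i, hi⟩ := IsPGroup.iff_card.mp (hR.to_subgroup A1)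
    obtain ⟨j, hj⟩ := IsPGroup.iff_card.mp (hR.to_subgroup A2)
    have l1 : Z < A1 := lt_of_le_of_ne le_sup_left fun e =>
      hg1Z (e.ge (mem_sup_right (mem_zpowers g1)))
    have l2 : A1 < A2 := lt_of_le_of_ne le_sup_left fun e =>
      hg2A (e.ge (mem_sup_right (mem_zpowers g2)))
    have h1 : Nat.card Z < Nat.card A1 :=
      lt_of_le_of_ne (card_le_of_le l1.le) fun e => l1.ne (eq_of_le_of_card_ge l1.le e.ge)
    have h2 : Nat.card A1 < Nat.card A2 :=
      lt_of_le_of_ne (card_le_of_le l2.le) fun e => l2.ne (eq_of_le_of_card_ge l2.le e.ge)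
    rw [hZcard, hi, ← pow_one p] at h1
    rw [hi, hj] at h2
    rw [pow_one] at h1
    rw [hk, hj]
    refine Nat.pow_le_pow_right hpp.pos ?_
    have := (Nat.pow_lt_pow_iff_right hpp.one_lt).mp h2
    have : 1 < i := by
      by_contra h
      exact absurd ((Nat.pow_le_pow_right hpp.pos (show i ≤ 1 by omega)).trans (pow_one p).le) (by omega)
    omega
  -- the whole group is `Ω` times its centralizer
  have htop : W ⊔ D = ⊤ := by
    have hkey : ∀ g : R, ∀ w ∈ W, ⁅w, g⁆ ∈ Z := fun g w hw => (hFdef.mp (hFW.ge hw)).2 g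
    have hcard : D.index ≤ p ^ 2 := by
      let ψ : R ⧸ D → Z × Z := fun q => (⟨⁅g1, q.out⁆, hkey _ g1 hg1⟩, ⟨⁅g2, q.out⁆, hkey _ g2 hg2⟩)
      have hψ : Function.Injective ψ := by
        intro q q' h
        rw [← QuotientGroup.out_eq' q, ← QuotientGroup.out_eq' q', QuotientGroup.eq]
        obtain ⟨e1, e2⟩ := Prod.ext_iff.mp h
        have key : ∀ g, ⁅g, q.out⁆ = ⁅g, q'.out⁆ → g ∈ centralizer ({q.out⁻¹ * q'.out} : Set R) := by
          intro g he
          rw [mem_centralizer_singleton_iff]
          simp only [commutatorElement_def, mul_assoc, mul_right_inj] at he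
          have h2 := congrArg (fun u => q.out⁻¹ * u * q'.out) he
          simp only [mul_assoc, inv_mul_cancel, mul_one, inv_mul_cancel_left] at h2
          exact (Commute.inv_left_iff.mp (show Commute g⁻¹ (q.out⁻¹ * q'.out) by
            simpa [Commute, SemiconjBy, mul_assoc] using h2)).eq
        refine mem_centralizer_iff.mpr fun w hw => ?_
        have hmem : ∀ z ∈ Z, ∀ g, g ∈ ({g1, g2} : Set R) → Commute z g := by
          intro z hz g hg
          rcases hg with rfl | rfl
          · exact (mem_centralizer_iff.mp hz.2 g hg1).symm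
          · exact (mem_centralizer_iff.mp hz.2 g hg2).symm
        -- the commutator with `q.out⁻¹ * q'.out` is multiplicative on `W`
        set d := q.out⁻¹ * q'.out with hd
        have hd1 : g1 ∈ centralizer ({d} : Set R) := key g1 (congrArg Subtype.val e1)
        have hd2 : g2 ∈ centralizer ({d} : Set R) := key g2 (congrArg Subtype.val e2)
        have hdZ : ∀ z ∈ Z, z ∈ centralizer ({d} : Set R) := by
          intro z hz
          have hsup : z ∈ A2 := mem_sup_left (mem_sup_left hz)
          rw [mem_centralizer_singleton_iff]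
          by_contra hne'
          -- `Z` is a normal subgroup of order `p`, hence central
          have hzc : z ∈ center R := by
            by_cases hz1 : z = 1
            · rw [hz1]; exact one_mem _
            have hZne : Z ≠ ⊥ := fun e => by
              rw [e, card_bot] at hZcard
              exact hpp.one_lt.ne hZcard
            obtain ⟨z', hz', hz'c, hz'o⟩ := Cfsg.Lib.PGroup.exists_mem_center_orderOf_eq hR hZne
            have hle' : Z ≤ zpowers z' := (eq_of_le_of_card_ge (zpowers_le.mpr hz')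
              (by rw [hZcard, Nat.card_zpowers, hz'o])).ge
            exact (zpowers_le.mpr hz'c) (hle' hz)
          exact hne' (mem_center_iff.mp hzc d).symm
        have hall : A2 ≤ centralizer ({d} : Set R) :=
          sup_le (sup_le hdZ (zpowers_le.mpr hd1)) (zpowers_le.mpr hd2)
        exact mem_centralizer_singleton_iff.mp (hall (hA2W.ge hw))
      have h := Nat.card_le_card_of_injective ψ hψ
      rw [Nat.card_prod, hZcard, ← index_eq_card, ← sq] at h
      exact h
    refine eq_top_of_le_card _ ?_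
    have h1 : Nat.card W * Nat.card D ≤ Nat.card (W ⊔ D : Subgroup R) * Nat.card Z := by
      have e1 := Cfsg.Lib.Core.card_mul_relIndex (le_sup_right : D ≤ W ⊔ D)
      have e2 := Cfsg.Lib.Core.card_mul_relIndex (inf_le_left : Z ≤ W)
      rw [relIndex_sup_right] at e1
      rw [inf_relIndex_left] at e2
      rw [← e1, ← e2]
      exact le_of_eq (by ring)
    rw [hk, hZcard] at h1
    refine Nat.le_of_mul_le_mul_right ?_ hpp.pos
    calc Nat.card R * p = Nat.card D * D.index * p := by rw [card_mul_index]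
      _ ≤ Nat.card D * p ^ 2 * p := Nat.mul_le_mul_right _ (Nat.mul_le_mul_left _ hcard)
      _ = p ^ 3 * Nat.card D := by ring
      _ ≤ _ := h1
  have hWtop : W = ⊤ := by
    refine hgen W fun x => ?_
    obtain ⟨w, hw, d, hd, rfl⟩ := mem_sup_of_normal_left.mp (htop.ge (mem_top x))
    rw [map_mul, hDfix d hd, show (w * d)⁻¹ * (a w * d) = d⁻¹ * (w⁻¹ * a w) * d by group]
    simpa using hWn.conj_mem _ (mul_mem (inv_mem hw) (haW w hw)) d⁻¹
  rw [← card_top, ← hWtop, hk]

end Cfsg.Lib.Local.RankTwoOperator
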