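import Mathlib

/-!
Thompson's replacement theorem for abelian subgroups.
-/

set_option autoImplicit false

namespace Cfsg.Lib.Local

open Subgroup
open scoped commutatorElement

variable {G : Type*} [Group G]

/-- Thompson replacement: if the abelian subgroup `A` normalizes the abelian subgroup `B` of a finite
nilpotent group and `B` does not normalize `A`, some abelian subgroup of order at least `|A|` meets `B`
in a larger subgroup and normalizes `A`. -/
theorem exists_replacement [Finite G] [Group.IsNilpotent G] {A B : Subgroup G}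
    (hA : IsMulCommutative A) (hB : IsMulCommutative B) (hAB : A ≤ normalizer (B : Set G))
    (hBA : ¬ B ≤ normalizer (A : Set G)) :
    ∃ A' : Subgroup G, IsMulCommutative A' ∧ Nat.card A ≤ Nat.card A' ∧ A ⊓ B < A' ⊓ B ∧
      A' ≤ normalizer (A : Set G) := by
  classical
  have cA : ∀ {u v : G}, u ∈ A → v ∈ A → u * v = v * u := fun hu hv =>
    congrArg Subtype.val (hA.is_comm.comm ⟨_, hu⟩ ⟨_, hv⟩)
  have cB : ∀ {u v : G}, u ∈ B → v ∈ B → u * v = v * u := fun hu hv =>
    congrArg Subtype.val (hB.is_comm.comm ⟨_, hu⟩ ⟨_, hv⟩)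
  set N := normalizer (A : Set G) with hN
  -- a suitable element `b`
  let C : ℕ → Subgroup G := fun i => Nat.rec B (fun _ X => ⁅X, A⁆) i
  have hCB : ∀ i, C i ≤ B := by
    intro i
    induction i with
    | zero => exact le_rfl
    | succ i ih =>
      refine commutator_le.mpr fun u hu a ha => ?_
      rw [commutatorElement_def, mul_assoc, mul_assoc, ← mul_assoc a]
      exact mul_mem (ih hu) ((mem_normalizer_iff.mp (hAB ha) _).mp (inv_mem (ih hu)))
  have hCl : ∀ i, C i ≤ (⊤ : Subgroup G).lowerCentralSeries i := by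
    intro i
    induction i with
    | zero => exact le_top
    | succ i ih => exact commutator_mono ih le_top
  obtain ⟨n, hn⟩ := Subgroup.nilpotent_iff_lowerCentralSeries.mp (inferInstance : Group.IsNilpotent G)
  have hex : ∃ i, C i ≤ N := ⟨n, (hCl n).trans (hn ▸ bot_le)⟩
  obtain ⟨i, hi⟩ : ∃ i, Nat.find hex = i + 1 := by
    cases hfe : Nat.find hex with
    | zero => exact absurd ((Nat.find_eq_zero hex).mp hfe) hBA
    | succ i => exact ⟨i, by omega⟩
  obtain ⟨b, hb, hbN⟩ := SetLike.not_le_iff_exists.mp (Nat.find_min hex (show i < Nat.find hex by omega))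
  have hbB : b ∈ B := hCB i hb
  let k : G → G → G := fun a v => a * v * a⁻¹ * v⁻¹
  have hkB : ∀ a ∈ A, ∀ v ∈ B, k a v ∈ B := fun a ha v hv =>
    mul_mem ((mem_normalizer_iff.mp (hAB ha) v).mp hv) (inv_mem hv)
  have hkN : ∀ a ∈ A, k a b ∈ N := fun a ha => by
    have h : ⁅b, a⁆ ∈ C (i + 1) := commutator_mem_commutator hb ha
    have := inv_mem ((hi ▸ Nat.find_spec hex : C (i + 1) ≤ N) h)
    rwa [commutatorElement_inv] at this
  -- the maps `k a` commute
  have hsym : ∀ a ∈ A, ∀ c ∈ A, ∀ v ∈ B, k a (k c v) = k c (k a v) := fun a ha c hc v hv => by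
    have hav := (mem_normalizer_iff.mp (hAB ha) v).mp hv
    have hcv := (mem_normalizer_iff.mp (hAB hc) v).mp hv
    calc k a (k c v) = (a * c) * v * (a * c)⁻¹ * ((a * v * a⁻¹)⁻¹ * v) * (c * v * c⁻¹)⁻¹ := by
          simp only [k]; group
      _ = (c * a) * v * (c * a)⁻¹ * (((a * v * a⁻¹)⁻¹ * v) * (c * v * c⁻¹)⁻¹) := by
          rw [cA ha hc, mul_assoc]
      _ = (c * a) * v * (c * a)⁻¹ * ((c * v * c⁻¹)⁻¹ * v * (a * v * a⁻¹)⁻¹) := by
          congr 1
          rw [cB (inv_mem hav) hv, cB (mul_mem hv (inv_mem hav)) (inv_mem hcv)]; group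
      _ = k c (k a v) := by simp only [k]; group
  -- `k c` kills `A` and is multiplicative on `B`
  have hkmul : ∀ c ∈ A, ∀ u ∈ A, u ∈ B → ∀ v ∈ B, k c (v * u) = k c v := fun c hc u hu hu' v hv => by
    calc k c (v * u) = c * v * c⁻¹ * (c * u * c⁻¹) * u⁻¹ * v⁻¹ := by simp only [k]; group
      _ = k c v := by rw [cA hc hu, mul_inv_cancel_right, mul_inv_cancel_right]
  set M := closure ((fun a => k a b) '' (A : Set G)) with hM
  have hMB : M ≤ B := (closure_le _).mpr (by rintro _ ⟨a, ha, rfl⟩; exact hkB a ha b hbB)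
  have hMN : M ≤ N := (closure_le _).mpr (by rintro _ ⟨a, ha, rfl⟩; exact hkN a ha)
  set D := A ⊓ centralizer (M : Set G) with hD
  have hDA : D ≤ A := inf_le_left
  set A' := M ⊔ D with hA'
  have hA'c : IsMulCommutative A' := by
    rw [hA', sup_eq_closure]
    refine Subgroup.isMulCommutative_closure fun x hx y hy => ?_
    rcases hx with hx | hx <;> rcases hy with hy | hy
    · exact cB (hMB hx) (hMB hy)
    · exact mem_centralizer_iff.mp hy.2 x hx
    · exact (mem_centralizer_iff.mp hx.2 y hy).symm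
    · exact cA hx.1 hy.1
  refine ⟨A', hA'c, ?_, ?_, sup_le hMN (hDA.trans le_normalizer)⟩
  · -- the order
    have hgen : ∀ a ∈ A, k a b ∈ A' := fun a ha =>
      mem_sup_left (Subgroup.subset_closure ⟨a, ha, rfl⟩)
    let f : ↥A ⧸ D.subgroupOf A → ↥A' ⧸ D.subgroupOf A' := fun q =>
      QuotientGroup.mk ⟨k (q.out : G) b, hgen _ q.out.2⟩
    have hf : Function.Injective f := by
      intro q q' h
      rw [← QuotientGroup.out_eq' q, ← QuotientGroup.out_eq' q', QuotientGroup.eq, mem_subgroupOf]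
      set a := q.out
      set a' := q'.out
      have hu : (k (a : G) b)⁻¹ * k (a' : G) b ∈ D := mem_subgroupOf.mp (QuotientGroup.eq.mp h)
      refine mem_inf.mpr ⟨A.mul_mem (A.inv_mem a.2) a'.2, ?_⟩
      show (a : G)⁻¹ * (a' : G) ∈ centralizer (M : Set G)
      rw [hM, centralizer_closure]
      refine mem_centralizer_iff.mpr ?_
      rintro _ ⟨c, hc, rfl⟩
      have hka := hkB a a.2 b hbB
      have hka' := hkB a' a'.2 b hbB
      have h1 : k (a : G) (k c b) = k (a' : G) (k c b) := by
        rw [hsym _ a.2 _ hc _ hbB, hsym _ a'.2 _ hc _ hbB,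
          ← hkmul c hc _ hu.1 (mul_mem (inv_mem hka) hka') _ hka, mul_inv_cancel_left]
      have h2 : (a : G) * k c b * (a : G)⁻¹ = (a' : G) * k c b * (a' : G)⁻¹ := mul_right_cancel h1
      calc k c b * ((a : G)⁻¹ * a') = (a : G)⁻¹ * ((a : G) * k c b * (a : G)⁻¹) * a' := by group
        _ = (a : G)⁻¹ * a' * k c b := by rw [h2]; group
    have h1 := (D.subgroupOf A).card_mul_index
    have h2 := (D.subgroupOf A').card_mul_index
    have h3 := Nat.card_le_card_of_injective f hf
    rw [Nat.card_congr (subgroupOfEquivOfLe hDA).toEquiv] at h1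
    rw [Nat.card_congr (subgroupOfEquivOfLe (le_sup_right : D ≤ A')).toEquiv] at h2
    rw [← h1, ← h2]
    exact Nat.mul_le_mul_left _ h3
  · -- the intersection grows
    refine lt_of_le_of_ne (le_inf ?_ inf_le_right) fun heq => hbN ?_
    · intro u hu
      exact mem_sup_right ⟨hu.1, mem_centralizer_iff.mpr fun m hm => cB (hMB hm) hu.2⟩
    · have hMA : ∀ a ∈ A, k a b ∈ A := fun a ha => by
        have : k a b ∈ A ⊓ B := heq ▸ mem_inf.mpr
          ⟨mem_sup_left (Subgroup.subset_closure ⟨a, ha, rfl⟩), hkB a ha b hbB⟩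
        exact this.1
      refine mem_normalizer_fintype fun a ha => ?_
      have h1 := mul_mem (A.inv_mem (hMA a ha)) ha
      have e : (k a b)⁻¹ * a = b * a * b⁻¹ := by simp only [k]; group
      rwa [e] at h1

end Cfsg.Lib.Local
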