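import Cfsg.Agent.Lib.Local.GlaubermanZJ

/-!
# Glauberman replacement inside a normal subgroup of a `p`-group
-/

set_option autoImplicit false
set_option linter.style.haveILetI false

namespace Cfsg.Lib.Local

open Subgroup
open scoped commutatorElement
open GlaubermanZJ

variable {S : Type*} [Group S] [Finite S] {p : ℕ} [Fact p.Prime]

/-- A family of abelian subgroups of the normal subgroup `D` that is closed under `repl` has a member
normalised by `B`. -/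
theorem exists_normalized_member (hS : IsPGroup p S) (hp : p ≠ 2) (D : Subgroup S) [D.Normal]
    (B : Subgroup S) [B.Normal] (hcl : ⁅⁅B, B⁆, B⁆ = ⊥) (𝒜 : Set (Subgroup S))
    (hab : ∀ A ∈ 𝒜, A ≤ D ∧ IsMulCommutative A)
    (hclosed : ∀ A ∈ 𝒜, ∀ b ∈ B,
      A.map (MulAut.conj b).toMonoidHom ≤ normalizer (A : Set S) →
      A ≤ normalizer ((A.map (MulAut.conj b).toMonoidHom : Subgroup S) : Set S) →
      repl A b ≤ D → IsMulCommutative (repl A b) → Nat.card A ≤ Nat.card (repl A b) →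
      repl A b ∈ 𝒜)
    (hex : ∃ U ∈ 𝒜, ⁅B, B⁆ ≤ U ∧ ¬ B ≤ U) :
    ∃ A ∈ 𝒜, ⁅B, B⁆ ≤ A ∧ ¬ B ≤ A ∧ B ≤ normalizer (A : Set S) := by
  obtain ⟨A, ⟨hA, hA', hA''⟩, hmax⟩ := Set.exists_max_image
    {A | A ∈ 𝒜 ∧ ⁅B, B⁆ ≤ A ∧ ¬ B ≤ A}
    (fun A => Nat.card (A ⊓ B : Subgroup S)) (Set.toFinite _) hex
  refine ⟨A, hA, hA', hA'', ?_⟩
  by_contra hnot
  have hcl' : ∀ x ∈ ⁅B, B⁆, ∀ y ∈ B, Commute x y := fun x hx y hy =>
    commutatorElement_eq_one_iff_mul_comm.1
      ((Subgroup.mem_bot).1 (hcl ▸ commutator_mem_commutator hx hy))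
  set N := normalizer (A : Set S) with hN
  have hNlt : N < N ⊔ B := lt_of_le_not_ge le_sup_left fun h => hnot (le_sup_right.trans h)
  obtain ⟨g, ⟨hgM, hgN⟩, hgnot⟩ := SetLike.exists_of_lt
    (Cfsg.Lib.Fusion.lt_inf_normalizer (hS.to_subgroup (N ⊔ B)) hNlt)
  obtain ⟨n, hn, b, hb, rfl⟩ := mem_sup_of_normal_right.1 hgM
  have hbN : b ∈ normalizer (N : Set S) := by
    simpa using mul_mem (inv_mem (le_normalizer hn)) hgN
  have hbA : b ∉ normalizer (A : Set S) := fun h => hgnot (mul_mem hn h)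
  have hAN : A ≤ N := le_normalizer
  have h1 : A.map (MulAut.conj b).toMonoidHom ≤ normalizer (A : Set S) := by
    rintro _ ⟨a, ha, rfl⟩
    exact (mem_normalizer_iff.1 hbN a).1 (hAN ha)
  have h2 : A ≤ normalizer ((A.map (MulAut.conj b).toMonoidHom : Subgroup S) : Set S) := fun a ha => by
    have h3 : b⁻¹ * a * b ∈ normalizer (A : Set S) := by
      have := (mem_normalizer_iff.1 (inv_mem hbN) a).1 (hAN ha)
      simpa using this
    refine mem_normalizer_fintype fun x hx => ?_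
    obtain ⟨y, hy, rfl⟩ := hx
    exact ⟨_, (mem_normalizer_iff.1 h3 y).1 hy, by simp [mul_assoc]⟩
  have hodd : ∀ x ∈ ⁅B, B⁆, b * x * b⁻¹ = x⁻¹ → x = 1 := by
    intro x hx hinv
    rw [← (hcl' x hx b hb).eq, mul_inv_cancel_right] at hinv
    have hxx : x * x = 1 := by nth_rw 2 [hinv]; exact mul_inv_cancel x
    obtain ⟨k, hk⟩ := hS x
    obtain ⟨m, hm⟩ := ((Fact.out : p.Prime).odd_of_ne_two hp).pow (n := k)
    rw [hm, pow_succ, pow_mul, sq, hxx, one_pow, one_mul] at hk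
    exact hk
  obtain ⟨r1, r2, r3, r4, r5, -⟩ := repl_spec (hab A hA).2 hA' hodd hb h1 h2 hbA
  have hrD : repl A b ≤ D := sup_le (inf_le_left.trans (hab A hA).1) ((closure_le _).2 (by
    rintro _ ⟨a, ha, rfl⟩
    exact mul_mem (‹D.Normal›.conj_mem a ((hab A hA).1 ha) b) (inv_mem ((hab A hA).1 ha))))
  have hmem : repl A b ∈ 𝒜 := hclosed A hA b hb h1 h2 hrD r1 r2
  exact absurd (hmax (repl A b) ⟨hmem, r3, fun hB => hnot (hB.trans r5)⟩)
    (not_le.2 (Set.Finite.card_lt_card (Set.toFinite _) r4))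

end Cfsg.Lib.Local
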