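import Mathlib
import Cfsg.Prelude.Def_Sz
import Cfsg.Prelude.Def_Transfer
import Cfsg.Agent.Lib.Linear.GLTwo
import Cfsg.Agent.Lib.Linear.Suzuki.Struct
import Cfsg.Agent.Lib.Linear.Suzuki.LieForm

/-!
In `SL₂(q)`, `Sz(q)` and dihedral groups of twice an odd prime order, an elementary abelian
subgroup of order `q` (resp. `2`) is the only nontrivial elementary abelian `p`-subgroup left
invariant by its normalizer.
-/

set_option autoImplicit false

namespace Cfsg.Lib.Local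

open scoped Pointwise

/-- Every nontrivial elementary abelian `p`-subgroup normalized by `N(Y)` equals `Y`. -/
def NormForces {H : Type*} [Group H] (p : ℕ) (Y : Subgroup H) : Prop :=
  ∀ W : Subgroup H, IsElementaryAbelian p W → W ≠ ⊥ →
    Subgroup.normalizer (Y : Set H) ≤ Subgroup.normalizer (W : Set H) → W = Y

theorem elementaryAbelian_map {H K : Type*} [Group H] [Group K] {p : ℕ} (f : H →* K) {A : Subgroup H}
    (hA : IsElementaryAbelian p A) : IsElementaryAbelian p (A.map f) := by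
  refine ⟨⟨⟨?_⟩⟩, ?_⟩
  · rintro ⟨_, a, ha, rfl⟩ ⟨_, b, hb, rfl⟩
    have := congrArg Subtype.val (hA.1.1.1 ⟨a, ha⟩ ⟨b, hb⟩)
    exact Subtype.ext (by
      show f a * f b = f b * f a
      rw [← map_mul, ← map_mul, show a * b = b * a from this])
  · rintro _ ⟨a, ha, rfl⟩
    rw [← map_pow, hA.2 a ha, map_one]

theorem normForces_of_equiv {H K : Type*} [Group H] [Group K] {p : ℕ} (e : H ≃* K) (Y : Subgroup H)
    (hK : NormForces p (Y.map e.toMonoidHom)) : NormForces p Y := by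
  intro W hW hne hN
  refine Subgroup.map_injective e.injective (hK _ (elementaryAbelian_map _ hW) ?_ ?_)
  · exact fun hb => hne ((Subgroup.map_eq_bot_iff_of_injective _ e.injective).1 hb)
  · rw [← Subgroup.map_equiv_normalizer_eq, ← Subgroup.map_equiv_normalizer_eq]
    exact Subgroup.map_mono hN

/-- Commuting involutions coincide. -/
def UniqueInvol (H : Type*) [Group H] : Prop :=
  ∀ a b : H, a * a = 1 → b * b = 1 → a * b = b * a → a ≠ 1 → b ≠ 1 → a = b

theorem normForces_of_uniqueInvol {H : Type*} [Group H] (hH : UniqueInvol H) (Y : Subgroup H)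
    (hY : IsElementaryAbelian 2 Y) (hY1 : Y ≠ ⊥) : NormForces 2 Y := by
  intro W hW hW1 hN
  obtain ⟨y, hy, hy1⟩ := (Subgroup.bot_or_exists_ne_one Y).resolve_left hY1
  obtain ⟨t, ht, ht1⟩ := (Subgroup.bot_or_exists_ne_one W).resolve_left hW1
  have sq : ∀ {A : Subgroup H}, IsElementaryAbelian 2 A → ∀ a ∈ A, a * a = 1 := fun hA a ha => by
    rw [← pow_two]; exact hA.2 a ha
  have key : ∀ {A : Subgroup H}, IsElementaryAbelian 2 A → ∀ a ∈ A, ∀ b ∈ A, a ≠ 1 → b ≠ 1 → a = b :=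
    fun hA a ha b hb => hH a b (sq hA a ha) (sq hA b hb)
      (congrArg Subtype.val (hA.1.1.1 ⟨a, ha⟩ ⟨b, hb⟩))
  have hconj : y * t * y⁻¹ ∈ W :=
    (Subgroup.mem_normalizer_iff.1 (hN (Subgroup.le_normalizer hy)) t).1 ht
  have heq : y * t * y⁻¹ = t := key hW _ hconj _ ht (by simpa [mul_inv_eq_one] using ht1) ht1
  have hyt : y = t := hH y t (sq hY y hy) (sq hW t ht) (mul_inv_eq_iff_eq_mul.1 heq) hy1 ht1
  ext x
  constructor
  · intro hx
    by_cases hx1 : x = 1
    · rw [hx1]; exact one_mem _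
    · rw [key hW x hx t ht hx1 ht1, ← hyt]; exact hy
  · intro hx
    by_cases hx1 : x = 1
    · rw [hx1]; exact one_mem _
    · rw [key hY x hx y hy hx1 hy1, hyt]; exact ht

theorem uniqueInvol_dihedral {r : ℕ} (hr : r.Prime) (h2 : r ≠ 2) : UniqueInvol (DihedralGroup r) := by
  haveI := Fact.mk hr
  have two : (2 : ZMod r) ≠ 0 := by
    intro h0
    have h1 : ((2 : ℕ) : ZMod r) = 0 := by exact_mod_cast h0
    rw [ZMod.natCast_eq_zero_iff] at h1
    exact h2 ((Nat.prime_dvd_prime_iff_eq hr Nat.prime_two).1 h1)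
  intro a b ha hb hab ha1 hb1
  cases a with
  | r i =>
    rw [DihedralGroup.r_mul_r, DihedralGroup.one_def, DihedralGroup.r.injEq, ← two_mul, mul_eq_zero] at ha
    exact absurd (by rw [ha.resolve_left two, DihedralGroup.one_def]) ha1
  | sr i =>
    cases b with
    | r j =>
      rw [DihedralGroup.r_mul_r, DihedralGroup.one_def, DihedralGroup.r.injEq, ← two_mul, mul_eq_zero] at hb
      exact absurd (by rw [hb.resolve_left two, DihedralGroup.one_def]) hb1
    | sr j =>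
      rw [DihedralGroup.sr_mul_sr, DihedralGroup.sr_mul_sr, DihedralGroup.r.injEq] at hab
      have : (2 : ZMod r) * (i - j) = 0 := by linear_combination -hab
      rw [mul_eq_zero, sub_eq_zero] at this
      rw [this.resolve_left two]

theorem normForces_sl_two {F : Type*} [Field F] [Fintype F] (p : ℕ) [Fact p.Prime] [CharP F p]
    (Y : Subgroup (Matrix.SpecialLinearGroup (Fin 2) F)) (hY : IsElementaryAbelian p Y)
    (hc : Nat.card Y = Fintype.card F) : NormForces p Y := by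
  obtain ⟨P, hP⟩ := IsPGroup.exists_le_sylow (P := Y) (p := p) (fun g => ⟨1, Subtype.ext (by
    rw [pow_one]; exact hY.2 g.1 g.2)⟩)
  obtain ⟨g, hg⟩ := Linear.Two.exists_conj_UT p P
  have hcg : Nat.card (P : Subgroup (Matrix.SpecialLinearGroup (Fin 2) F)) = Fintype.card F := by
    rw [hg, Subgroup.pointwise_smul_def, ← Linear.Two.card_UT (F := F)]
    exact (Nat.card_congr (Subgroup.equivMapOfInjective _ _ (MulAut.conj g).injective).toEquiv).symm
  have hYP : Y = MulAut.conj g • Linear.Two.UT F :=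
    (Subgroup.eq_of_le_of_card_ge hP (by omega)).trans hg
  refine normForces_of_equiv (MulAut.conj g)⁻¹ Y ?_
  rw [show Y.map ((MulAut.conj g)⁻¹).toMonoidHom = Linear.Two.UT F by
    rw [hYP]; exact inv_smul_smul (MulAut.conj g) _]
  intro W hW hW1 hN
  have hWle : W ≤ Linear.Two.UT F := by
    have hp2 : IsPGroup p ↥(Linear.Two.UT F ⊔ W) :=
      IsPGroup.to_sup_of_normal_right' (Linear.Two.isPGroup_UT p)
        (fun g => ⟨1, Subtype.ext (by rw [pow_one]; exact hW.2 g.1 g.2)⟩)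
        (Subgroup.le_normalizer.trans hN)
    have := ((Linear.Two.isPGroup_UT (F := F) p).toSylow (Linear.Two.not_dvd_index_UT p)).3 hp2 le_sup_left
    exact le_sup_right.trans this.le
  refine le_antisymm hWle ?_
  rintro _ ⟨x, rfl⟩
  obtain ⟨w, hw, hw1⟩ := (Subgroup.bot_or_exists_ne_one W).resolve_left hW1
  obtain ⟨x₀, hx₀⟩ := hWle hw
  obtain ⟨S, hS⟩ : ∃ S : Set F, S = {a | Linear.Two.ut (Multiplicative.ofAdd a) ∈ W} := ⟨_, rfl⟩
  have hadd : ∀ a ∈ S, ∀ b ∈ S, a + b ∈ S := by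
    intro a ha b hb
    rw [hS] at *
    show _ ∈ W
    rw [ofAdd_add, map_mul]
    exact mul_mem ha hb
  have hneg : ∀ a ∈ S, -a ∈ S := by
    intro a ha
    rw [hS] at *
    show _ ∈ W
    rw [ofAdd_neg, map_inv]
    exact inv_mem ha
  have hsq : ∀ c : F, ∀ a ∈ S, c * c * a ∈ S := by
    intro c a ha
    by_cases hc0 : c = 0
    · subst hc0
      rw [hS]
      show _ ∈ W
      rw [mul_zero, zero_mul, ofAdd_zero, map_one]
      exact one_mem _
    rw [hS] at *
    show _ ∈ W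
    obtain ⟨d, hd⟩ : ∃ d : Matrix.SpecialLinearGroup (Fin 2) F, d.1 = !![c, 0; 0, c⁻¹] :=
      ⟨⟨!![c, 0; 0, c⁻¹], by simp [Matrix.det_fin_two, hc0]⟩, rfl⟩
    have hcj : ∀ b : F, d * Linear.Two.ut (Multiplicative.ofAdd b) * d⁻¹ =
        Linear.Two.ut (Multiplicative.ofAdd (c * c * b)) := by
      intro b
      rw [mul_inv_eq_iff_eq_mul]
      refine Subtype.ext ?_
      show d.1 * _ = _ * d.1
      rw [hd, Linear.Two.ut_coe, Linear.Two.ut_coe, toAdd_ofAdd, toAdd_ofAdd, Matrix.mul_fin_two,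
        Matrix.mul_fin_two]
      ext i j
      fin_cases i <;> fin_cases j <;> simp <;> field_simp
    have hdN : d ∈ Subgroup.normalizer (Linear.Two.UT F : Set (Matrix.SpecialLinearGroup (Fin 2) F)) := by
      refine Subgroup.mem_normalizer_fintype ?_
      rintro _ ⟨b, rfl⟩
      rw [← ofAdd_toAdd b, hcj]
      exact ⟨_, rfl⟩
    rw [← hcj]
    exact (Subgroup.mem_normalizer_iff.1 (hN hdN) _).1 ha
  have hmul : ∀ c : F, ∀ a ∈ S, c * a ∈ S := by
    intro c a ha
    by_cases h2 : ringChar F = 2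
    · obtain ⟨d, rfl⟩ := FiniteField.isSquare_of_char_two h2 c
      exact hsq d a ha
    · have two : (2 : F) ≠ 0 := Ring.two_ne_zero h2
      rw [show c * a = ((c + 1) / 2) * ((c + 1) / 2) * a + -(((c - 1) / 2) * ((c - 1) / 2) * a) by
        field_simp; ring]
      exact hadd _ (hsq _ _ ha) _ (hneg _ (hsq _ _ ha))
  have hx₀S : x₀.toAdd ∈ S := by
    rw [hS]; show _ ∈ W
    rw [ofAdd_toAdd, hx₀]; exact hw
  have hx₀0 : x₀.toAdd ≠ 0 := by
    intro h0
    refine hw1 ?_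
    rw [← hx₀, ← ofAdd_toAdd x₀, h0, ofAdd_zero, map_one]
  have := hmul (x.toAdd / x₀.toAdd) _ hx₀S
  rw [div_mul_cancel₀ _ hx₀0, hS] at this
  rw [← ofAdd_toAdd x]
  exact this

theorem normForces_suzuki {F : Type*} [Field F] [Fintype F] {m : ℕ} (h : Linear.Suz.Params F m)
    (Y : Subgroup ↥(Cfsg.Sz F m)) (hY : IsElementaryAbelian 2 Y)
    (hc : Nat.card Y = Fintype.card F) : NormForces 2 Y := by
  haveI : Fact (Nat.Prime 2) := ⟨Nat.prime_two⟩
  obtain ⟨P, hP⟩ := IsPGroup.exists_le_sylow (P := Y) (p := 2) (fun g => ⟨1, Subtype.ext (by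
    rw [pow_one]; exact hY.2 g.1 g.2)⟩)
  obtain ⟨g, hg⟩ := Linear.Suz.sylow_conj h P
  refine normForces_of_equiv (MulAut.conj g)⁻¹ Y ?_
  obtain ⟨Y', hY'⟩ : ∃ Y' : Subgroup ↥(Cfsg.Sz F m), Y' = Y.map ((MulAut.conj g)⁻¹).toMonoidHom := ⟨_, rfl⟩
  rw [← hY']
  have hY'el : IsElementaryAbelian 2 Y' := hY' ▸ elementaryAbelian_map _ hY
  have hY'c : Nat.card Y' = Fintype.card F := by
    rw [hY', ← hc]
    exact (Nat.card_congr (Subgroup.equivMapOfInjective _ _ ((MulAut.conj g)⁻¹).injective).toEquiv).symm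
  have hY'U : Y' ≤ Linear.Suz.US h := by
    rw [hY']
    rintro _ ⟨y, hy, rfl⟩
    have := hP hy
    rw [hg] at this
    obtain ⟨u, hu, rfl⟩ := this
    show (MulAut.conj g)⁻¹ (MulAut.conj g u) ∈ _
    rwa [MulAut.inv_apply_self]
  -- involutions of the Sylow subgroup are central
  have invol : ∀ u ∈ Linear.Suz.US h, u * u = 1 → u ∈ Linear.Suz.ZS h := by
    rintro _ ⟨a, b, rfl⟩ e
    rw [Linear.Suz.uS_mul h, ← Linear.Suz.uS_zero h] at e
    have e2 := (Linear.Suz.uS_inj h e).2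
    rw [Linear.Suz.add_self h b, zero_add, mul_eq_zero, Linear.Suz.th_eq_zero h, or_self] at e2
    exact ⟨b, by rw [e2]⟩
  have sq : ∀ {A : Subgroup ↥(Cfsg.Sz F m)}, IsElementaryAbelian 2 A → ∀ a ∈ A, a * a = 1 := fun hA a ha => by
    rw [← pow_two]; exact hA.2 a ha
  have hY'Z : Y' = Linear.Suz.ZS h := by
    have hle : Y' ≤ Linear.Suz.ZS h := fun u hu => invol u (hY'U hu) (sq hY'el u hu)
    refine Subgroup.eq_of_le_of_card_ge hle (le_of_le_of_eq ?_ hY'c.symm)
    rw [← Nat.card_eq_fintype_card (α := F)]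
    exact Nat.card_le_card_of_surjective (fun b => (⟨Linear.Suz.uS h 0 b, b, rfl⟩ : ↥(Linear.Suz.ZS h)))
      (by rintro ⟨_, b, rfl⟩; exact ⟨b, rfl⟩)
  intro W hW hW1 hN
  rw [hY'Z] at hN ⊢
  have hUN : Linear.Suz.US h ≤ Subgroup.normalizer (Linear.Suz.ZS h : Set ↥(Cfsg.Sz F m)) := by
    rintro _ ⟨a, b, rfl⟩
    refine Subgroup.mem_normalizer_fintype ?_
    rintro _ ⟨b', rfl⟩
    refine ⟨b', ?_⟩
    rw [mul_inv_eq_iff_eq_mul, Linear.Suz.uS_mul h, Linear.Suz.uS_mul h, add_zero, zero_add, mul_zero,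
      Linear.Suz.th_zero h, zero_mul, add_comm b b']
  have hWU : W ≤ Linear.Suz.US h := by
    have hp : IsPGroup 2 ↥(Linear.Suz.US h) :=
      IsPGroup.of_card (n := (2 * m + 1) * 2) (by rw [Linear.Suz.card_US h, ← pow_mul])
    obtain ⟨Q, hQ⟩ := hp.exists_le_sylow
    obtain ⟨k, hk⟩ := Linear.Suz.sylow_conj h Q
    have hQe : Linear.Suz.US h = (Q : Subgroup ↥(Cfsg.Sz F m)) :=
      Subgroup.eq_of_le_of_card_ge hQ (by
        rw [hk]; exact (Nat.card_congr (Subgroup.equivMapOfInjective _ _ (MulAut.conj k).injective).toEquiv).ge)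
    have hp2 : IsPGroup 2 ↥(Linear.Suz.US h ⊔ W) :=
      IsPGroup.to_sup_of_normal_right' hp
        (fun g => ⟨1, Subtype.ext (by rw [pow_one]; exact hW.2 g.1 g.2)⟩) (hUN.trans hN)
    exact le_sup_right.trans ((Q.3 hp2 (hQe ▸ le_sup_left)).le.trans hQe.ge)
  have hWZ : W ≤ Linear.Suz.ZS h := fun u hu => invol u (hWU hu) (sq hW u hu)
  refine le_antisymm hWZ ?_
  obtain ⟨w, hw, hw1⟩ := (Subgroup.bot_or_exists_ne_one W).resolve_left hW1
  obtain ⟨b₀, rfl⟩ := hWZ hw
  have hb₀ : b₀ ≠ 0 := fun e => hw1 (by rw [e, Linear.Suz.uS_zero h])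
  rintro _ ⟨b, rfl⟩
  by_cases hb : b = 0
  · rw [hb, Linear.Suz.uS_zero h]; exact one_mem _
  obtain ⟨l, hl⟩ := Linear.Suz.mul_th_surjective h (b / b₀)
  have hl0 : l ≠ 0 := fun e => (div_ne_zero hb hb₀) (by rw [← hl, e, zero_mul])
  have hdN : Linear.Suz.dS h (Units.mk0 l hl0) ∈
      Subgroup.normalizer (Linear.Suz.ZS h : Set ↥(Cfsg.Sz F m)) := by
    refine Subgroup.mem_normalizer_fintype ?_
    rintro _ ⟨b', rfl⟩
    refine ⟨l * Linear.Suz.th m l * b', ?_⟩
    rw [Linear.Suz.dS_mul_uS h, mul_inv_cancel_right, mul_zero, Units.val_mk0]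
  have := (Subgroup.mem_normalizer_iff.1 (hN hdN) _).1 hw
  rw [Linear.Suz.dS_mul_uS h, mul_inv_cancel_right, mul_zero, Units.val_mk0, hl, div_mul_cancel₀ _ hb₀] at this
  exact this

end Cfsg.Lib.Local
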