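import Mathlib
import Cfsg.Prelude.Def_Transfer
import Cfsg.Prelude.Def_BaumannBlocks
import Cfsg.Agent.Lib.Linear.GLTwo
import Cfsg.Agent.Lib.Linear.SLTwoNatural

/-!
The conjugation module of a subgroup isomorphic to `SL₂` on an abelian subgroup it normalizes.
-/

set_option autoImplicit false

namespace Cfsg.Lib.Local

open scoped MatrixGroups
open Cfsg.Lib.Linear

variable {X : Type*} [Group X] {F : Type*} [Field F] (G V : Subgroup X) [IsMulCommutative V]

/-- An endomorphism of the additive group of `V`. -/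
abbrev ConjModule := Additive ↥V

instance conjModule_addCommGroup : AddCommGroup (ConjModule V) :=
  { (inferInstance : AddGroup (Additive ↥V)) with
    add_comm := fun a b => congrArg Additive.ofMul (IsMulCommutative.is_comm.comm a.toMul b.toMul) }

variable (hGV : G ≤ Subgroup.normalizer (V : Set X)) (σ : SL(2, F) →* ↥G)

/-- The conjugation representation. -/
def conjRep : SL(2, F) →* AddMonoid.End (ConjModule V) where
  toFun g := AddMonoidHom.mk'
    (fun v => Additive.ofMul ⟨(σ g : X) * (v.toMul : X) * (σ g : X)⁻¹,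
      (Subgroup.mem_normalizer_iff.1 (hGV (σ g).2) _).1 v.toMul.2⟩)
    (fun a b => congrArg Additive.ofMul (Subtype.ext (by
      show (σ g : X) * ((a.toMul : X) * (b.toMul : X)) * (σ g : X)⁻¹ =
        ((σ g : X) * (a.toMul : X) * (σ g : X)⁻¹) * ((σ g : X) * (b.toMul : X) * (σ g : X)⁻¹)
      group)))
  map_one' := AddMonoidHom.ext fun v => congrArg Additive.ofMul (Subtype.ext (by
    show (σ 1 : X) * (v.toMul : X) * (σ 1 : X)⁻¹ = (v.toMul : X)
    simp))
  map_mul' g h := AddMonoidHom.ext fun v => congrArg Additive.ofMul (Subtype.ext (by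
    show (σ (g * h) : X) * (v.toMul : X) * (σ (g * h) : X)⁻¹ =
      (σ g : X) * ((σ h : X) * (v.toMul : X) * (σ h : X)⁻¹) * (σ g : X)⁻¹
    rw [map_mul, Subgroup.coe_mul]
    group))

theorem conjRep_apply (g : SL(2, F)) (v : ConjModule V) :
    ((conjRep G V hGV σ g v).toMul : X) = (σ g : X) * (v.toMul : X) * (σ g : X)⁻¹ := rfl

/-- Vectors killed by `p`. -/
theorem conjModule_nsmul {p : ℕ} (hV : IsElementaryAbelian p V) (v : ConjModule V) : p • v = 0 :=
  Additive.toMul.injective (Subtype.ext (by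
    show ((v.toMul ^ p : ↥V) : X) = 1
    exact hV.2 _ v.toMul.2))

/-- A section on which the whole group acts naturally, from an equivariant additive map. -/
theorem actsAs_of_addEquiv (hGV : G ≤ Subgroup.normalizer (V : Set X)) (e : ↥G ≃* SL(2, F))
    (ψ : ConjModule V ≃+ (Fin 2 → F))
    (hψ : ∀ (g : SL(2, F)) z, ψ (conjRep G V hGV e.symm.toMonoidHom g z) =
      (g : Matrix (Fin 2) (Fin 2) F).mulVec (ψ z)) :
    Cfsg.ActsAsSL2OnSection F ⊤ G V ⊥ := by
  refine ⟨hGV, bot_le, e.toMonoidHom, ψ.toAddMonoidHom.toMultiplicativeRight,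
    MonoidHom.range_eq_top.2 e.surjective, ?_, ?_, ?_⟩
  · intro x
    obtain ⟨z, hz⟩ := ψ.surjective x.toAdd
    exact ⟨z.toMul, congrArg Multiplicative.ofAdd hz⟩
  · intro v
    rw [Subgroup.mem_bot, ← OneMemClass.coe_one V, Subtype.coe_inj]
    show Multiplicative.ofAdd (ψ (Additive.ofMul v)) = 1 ↔ v = 1
    rw [← ofAdd_zero, Multiplicative.ofAdd.apply_eq_iff_eq, AddEquiv.map_eq_zero_iff]
    exact ⟨fun h => congrArg Additive.toMul h, fun h => congrArg Additive.ofMul h⟩
  · intro g v
    refine ⟨(conjRep G V hGV e.symm.toMonoidHom (e g) (Additive.ofMul v)).toMul, ?_, ?_⟩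
    · rw [conjRep_apply]
      simp
    · exact hψ (e g) (Additive.ofMul v)

end Cfsg.Lib.Local
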