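import Cfsg.Agent.Lib.Local.HallHigmanTheoremB
import Mathlib.RingTheory.Polynomial.Cyclotomic.Basic
import Mathlib.NumberTheory.Multiplicity
import Mathlib.RingTheory.RootsOfUnity.AlgebraicallyClosed
import Mathlib.RingTheory.RootsOfUnity.EnoughRootsOfUnity

/-!
The coprime companion of Hall–Higman Theorem B for odd primes: an operator of `p`-power order fixing no
nontrivial element of the moved group fixes a nonzero vector.
-/

set_option autoImplicit false

namespace Cfsg.Lib.Local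

open Subgroup Polynomial
open scoped commutatorElement

/-- A permutation of prime-power order whose socle power fixes only `i1` is semiregular elsewhere. -/
theorem free_of_pow {M : Type*} {σ : Equiv.Perm M} {p f : ℕ} (hp : p.Prime) (hσ : σ ^ p ^ (f + 1) = 1)
    {i1 : M} (h : ∀ i, (σ ^ p ^ f) i = i → i = i1) : ∀ i, i ≠ i1 → ∀ t < p ^ (f + 1), t ≠ 0 → (σ ^ t) i ≠ i := by
  intro i hi t ht ht0 e
  obtain ⟨j, -, hj⟩ := (Nat.dvd_prime_pow hp).1 (Nat.gcd_dvd_right t (p ^ (f + 1)))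
  have hjf : j ≤ f := Nat.lt_succ_iff.1 ((Nat.pow_lt_pow_iff_right hp.one_lt).1
    (lt_of_le_of_lt (hj ▸ Nat.le_of_dvd (Nat.pos_of_ne_zero ht0) (Nat.gcd_dvd_left _ _)) ht))
  have hstab : zpowers (σ ^ t) ≤ MulAction.stabilizer (Equiv.Perm M) i := zpowers_le.2 e
  have h1 : (σ ^ p ^ j) ∈ zpowers (σ ^ t) := by
    refine mem_zpowers_iff.2 ⟨Nat.gcdA t (p ^ (f + 1)), ?_⟩
    have hx1 : σ ^ ((p ^ (f + 1) : ℕ) : ℤ) = 1 := by rw [zpow_natCast, hσ]
    rw [← zpow_natCast σ (p ^ j), ← hj, Nat.gcd_eq_gcd_ab, zpow_add, zpow_mul, zpow_mul, hx1, one_zpow, mul_one,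
      zpow_natCast]
  have h2 : σ ^ p ^ f ∈ MulAction.stabilizer (Equiv.Perm M) i := by
    have h3 := hstab (pow_mem h1 (p ^ (f - j)))
    rwa [← pow_mul, ← pow_add, Nat.add_sub_cancel' hjf] at h3
  exact hi (h i h2)

/-- The order of `2` modulo `p ^ (e + j)` when `p ^ e = 2 ^ m + 1`. -/
theorem mul_pow_le_of_dvd {p e j m d : ℕ} (hp : p.Prime) (he : e ≠ 0) (hm : 0 < m) (hP : p ^ e = 2 ^ m + 1)
    (hd : d ≠ 0) (h : p ^ (e + j) ∣ 2 ^ d - 1) : 2 * m * p ^ j ≤ d := by
  have hpP : p ∣ p ^ e := dvd_pow_self p he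
  have hp2 : p ≠ 2 := by
    rintro rfl
    rw [hP] at hpP
    exact (Nat.not_even_iff_odd.2 ((Nat.even_pow.2 ⟨even_two, hm.ne'⟩).add_one)) (even_iff_two_dvd.2 hpP)
  have hodd : Odd p := hp.odd_of_ne_two hp2
  set P := p ^ e with hPdef
  have hPd : P ∣ 2 ^ d - 1 := (pow_dvd_pow p (Nat.le_add_right e j)).trans h
  have h2m : 2 ^ (2 * m) - 1 = (2 ^ m - 1) * P := by
    rw [hP, two_mul, pow_add, ← Nat.sq_sub_sq (2 ^ m) 1 |>.trans (mul_comm _ _), sq, one_pow]
  have hmod : 2 ^ (2 * m) ≡ 1 [MOD P] :=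
    (Nat.modEq_iff_dvd' Nat.one_le_two_pow).2 (by rw [h2m]; exact dvd_mul_left _ _) |>.symm
  obtain ⟨i, hi⟩ : 2 * m ∣ d := by
    rw [Nat.dvd_iff_mod_eq_zero]
    set s := d % (2 * m) with hs
    have hs2 : s < 2 * m := Nat.mod_lt _ (by omega)
    have h1 : 2 ^ s ≡ 1 [MOD P] := by
      have e1 : 2 ^ d = (2 ^ (2 * m)) ^ (d / (2 * m)) * 2 ^ s := by
        rw [← pow_mul, ← pow_add, hs, Nat.div_add_mod]
      have e2 : 2 ^ d ≡ 2 ^ s [MOD P] := by
        rw [e1]
        simpa using (hmod.pow (d / (2 * m))).mul_right (2 ^ s)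
      exact e2.symm.trans ((Nat.modEq_iff_dvd' Nat.one_le_two_pow).2 hPd).symm
    by_contra hs0
    rcases Nat.lt_or_ge s m with hsm | hsm
    · have h2 : 2 ^ s - 1 < P := by
        have := Nat.pow_lt_pow_right (show 1 < 2 by norm_num) hsm
        rw [show P = 2 ^ m + 1 from hP]
        exact lt_of_le_of_lt (Nat.sub_le _ _) (this.trans (Nat.lt_succ_self _))
      have h3 := (Nat.modEq_iff_dvd' Nat.one_le_two_pow).1 h1.symm
      have h4 : 1 < 2 ^ s := Nat.one_lt_two_pow hs0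
      have := Nat.le_of_dvd (by omega) h3
      omega
    · obtain ⟨u, hu⟩ := Nat.exists_eq_add_of_le hsm
      have h3 : P ∣ 2 ^ u + 1 := by
        have e1 : 2 ^ m * 2 ^ u + 2 ^ u = P * 2 ^ u := by rw [hP]; ring
        have e2 : 2 ^ m * 2 ^ u + 2 ^ u ≡ 1 + 2 ^ u [MOD P] := by
          rw [← pow_add, ← hu]; exact h1.add_right _
        have e3 : 1 + 2 ^ u ≡ 0 [MOD P] := e2.symm.trans (by
          rw [e1]; exact Nat.modEq_zero_iff_dvd.2 (dvd_mul_right _ _))
        rw [add_comm]; exact Nat.modEq_zero_iff_dvd.1 e3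
      have := Nat.pow_lt_pow_right (show 1 < 2 by norm_num) (show u < m by omega)
      have := Nat.le_of_dvd (by positivity) h3
      omega
  have hi0 : i ≠ 0 := fun e0 => hd (by rw [hi, e0, mul_zero])
  rw [hi]
  refine Nat.mul_le_mul_left _ (Nat.le_of_dvd (Nat.pos_of_ne_zero hi0) ?_)
  have : Fact p.Prime := ⟨hp⟩
  have hp1 : p ∣ 2 ^ (2 * m) - 1 := by rw [h2m]; exact hpP.trans (dvd_mul_left _ _)
  have hnd : ¬ p ∣ 2 ^ (2 * m) := fun hd2 =>
    hp2 ((Nat.prime_dvd_prime_iff_eq hp Nat.prime_two).1 (hp.dvd_of_dvd_pow hd2))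
  have hlte := padicValNat.pow_sub_pow (p := p) hodd (x := 2 ^ (2 * m)) (y := 1)
    (Nat.one_lt_two_pow (by omega)) hp1 hnd hi0
  rw [one_pow, ← pow_mul, ← hi] at hlte
  have hval : padicValNat p (2 ^ (2 * m) - 1) = e := by
    have hmne : 2 ^ m - 1 ≠ 0 := by have := Nat.one_lt_two_pow (n := m) (by omega); omega
    have hnd' : ¬ p ∣ 2 ^ m - 1 := fun hd2 => by
      have := Nat.dvd_sub (hP ▸ hpP) hd2
      rw [show 2 ^ m + 1 - (2 ^ m - 1) = 2 by have := Nat.one_le_two_pow (n := m); omega] at this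
      exact hp2 ((Nat.prime_dvd_prime_iff_eq hp Nat.prime_two).1 this)
    rw [h2m, padicValNat.mul hmne (pow_ne_zero _ hp.ne_zero), padicValNat.eq_zero_of_not_dvd hnd', zero_add,
      padicValNat.prime_pow]
  have hne : 2 ^ d - 1 ≠ 0 := by have := Nat.one_lt_two_pow (n := d) hd; omega
  have h5 := (padicValNat_dvd_iff_le hne).1 h
  rw [hlte, hval] at h5
  exact (padicValNat_dvd_iff_le hi0).2 (by omega)

variable {H : Type*} [Group H] [Finite H] {F : Type*} [Field F] {V : Type*} [AddCommGroup V] [Module F V]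

/-- A coprime operator of odd prime-power order without fixed points on the module and on the group it moves
does not exist. -/
theorem no_fixedPointFree [IsAlgClosed F] [FiniteDimensional F V] {ρ : H →* Module.End F V}
    (hρ : Function.Injective ρ) {Q : Subgroup H} {q : ℕ} [hq : Fact q.Prime] (hQ : IsPGroup q Q)
    (hqF : (q : F) ≠ 0) {p : ℕ} [hp : Fact p.Prime] (hp2 : p ≠ 2) (hpF : (p : F) ≠ 0) (hpq : q ≠ p) {x : H}
    (hxQ : ∀ a ∈ Q, x * a * x⁻¹ ∈ Q) {n : ℕ} (hord : x ^ p ^ (n + 1) = 1)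
    (hmoved : ∃ a ∈ Q, x ^ p ^ n * a * (x ^ p ^ n)⁻¹ ≠ a)
    (hfpQ : ∀ a ∈ Q, x * a * x⁻¹ = a → a = 1)
    (hN : ∑ i ∈ Finset.range (p ^ (n + 1)), ρ x ^ i = 0) : False := by
  classical
  set y := x ^ p ^ n with hy
  have hnorm : ∀ g ∈ zpowers x, ∀ a ∈ Q, g * a * g⁻¹ ∈ Q := by
    have hx : x ∈ normalizer (Q : Set H) := by
      refine mem_normalizer_iff_map_conj_eq.2 (eq_of_le_of_card_ge ?_
        (card_map_of_injective (MulAut.conj x).injective).ge)
      rintro _ ⟨a, ha, rfl⟩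
      exact hxQ a ha
    exact fun g hg a ha => (mem_normalizer_iff.1 (zpowers_le.2 hx hg) a).1 ha
  have hcop : (orderOf y).Coprime q :=
    Nat.Coprime.coprime_dvd_left (orderOf_dvd_of_pow_eq_one (n := p) (by rw [hy, ← pow_mul, ← pow_succ, hord]))
      ((Nat.coprime_primes hp.out hq.out).2 (Ne.symm hpq))
  obtain ⟨Q0, hQ0Q, h, hmin⟩ := exists_minimalMoved' hQ hnorm hmoved (pow_mem (mem_zpowers x) _)
    (fun g hg => by
      obtain ⟨k, rfl⟩ := mem_zpowers_iff.1 hg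
      exact (((Commute.refl x).zpow_left k).pow_right _).eq) hcop
  have hxX : x ∈ zpowers x := mem_zpowers x
  have hna := nonabelian_of_norm hρ h hqF hpq hxX hy.symm hord hN
  obtain ⟨ψ, hc⟩ := exists_isComponent ρ hρ h hna hqF
  have hL : ∀ j ≤ n, ∃ L : List F, L.length = p ^ (n + 1 - j) - 1 ∧ (∑ t ∈ Finset.range (p ^ j), ρ x ^ t) *
      (L.map fun a => ρ (x ^ p ^ j) - a • (1 : Module.End F V)).prod = 0 := by
    intro j hj
    set P := p ^ (n + 1 - j) with hP
    have hPpos : 0 < P := pow_pos hp.out.pos _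
    have : NeZero (P : F) := ⟨by rw [hP, Nat.cast_pow]; exact pow_ne_zero _ hpF⟩
    obtain ⟨ζ, hζ⟩ := HasEnoughRootsOfUnity.exists_primitiveRoot F P
    set s := (nthRootsFinset P (1 : F)).erase 1 with hs
    have h1mem : (1 : F) ∈ nthRootsFinset P (1 : F) := (mem_nthRootsFinset hPpos 1).2 (one_pow _)
    refine ⟨s.toList, by rw [Finset.length_toList, hs, Finset.card_erase_of_mem h1mem, hζ.card_nthRootsFinset], ?_⟩
    have hpoly : (s.toList.map fun a => (X : F[X]) - C a).prod = ∑ i ∈ Finset.range P, X ^ i := by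
      rw [Finset.prod_map_toList]
      refine mul_right_cancel₀ (b := (X : F[X]) - C 1) (X_sub_C_ne_zero 1) ?_
      rw [mul_comm, hs, Finset.mul_prod_erase _ (fun a => (X : F[X]) - C a) h1mem,
        ← X_pow_sub_one_eq_prod hPpos hζ, C_1, geom_sum_mul]
    have h2 := congrArg (aeval (ρ (x ^ p ^ j))) hpoly
    rw [map_list_prod, List.map_map, map_sum] at h2
    simp only [Function.comp_def, map_sub, aeval_X, aeval_C, map_pow, Algebra.algebraMap_eq_smul_one] at h2
    rw [map_pow, h2, geom_mul, hP, ← pow_add, show j + (n + 1 - j) = n + 1 by omega, hN]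
  obtain ⟨j, hjn, hfix, -, m, hm, hidx, ⟨hdvd, -⟩, hle⟩ := critical_bound hρ h hqF hpq hxX hy.symm hord hN
    (fun j => p ^ (n + 1 - j) - 1) hL ψ hc
  set P := p ^ (n + 1 - j) with hP
  have hPgt : 1 < P := Nat.one_lt_pow (by omega) hp.out.one_lt
  have hqm : q ^ m + 1 = P := by
    have hq2 : q ^ (2 * m) = q ^ m * q ^ m := by rw [← pow_add, two_mul]
    rw [hq2] at hle hdvd
    obtain ⟨A, hA⟩ : ∃ A, q ^ m = A + 1 := ⟨q ^ m - 1, by have := Nat.one_le_pow m q hq.out.pos; omega⟩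
    obtain ⟨B, hB⟩ : ∃ B, P = B + 1 := ⟨P - 1, by omega⟩
    rw [hA] at hle hdvd ⊢
    rw [hB, Nat.add_sub_cancel] at hle
    have hAB : A + 1 ≤ B := by
      refine Nat.mul_self_le_mul_self_iff.1 ?_
      nlinarith
    rw [show (A + 1) * (A + 1) - 1 = A * (A + 2) by
      rw [show (A + 1) * (A + 1) = A * (A + 2) + 1 by ring, Nat.add_sub_cancel]] at hdvd
    have hA1 : 0 < A := by
      have := Nat.one_lt_pow hm.ne' hq.out.one_lt
      omega
    have hcases : P ∣ A + 2 := by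
      refine (Nat.Coprime.dvd_of_dvd_mul_left ?_ hdvd)
      refine Nat.Coprime.pow_left _ (hp.out.coprime_iff_not_dvd.2 fun hpA => ?_)
      have h1 : p ∣ A * (A + 2) := (dvd_pow_self p (by omega)).trans hdvd
      have hA2 : ¬ p ∣ A + 2 := fun hd2 => hp2 ((Nat.prime_dvd_prime_iff_eq hp.out Nat.prime_two).1
        ((Nat.dvd_add_right hpA).1 hd2))
      have hPA : P ∣ A := (Nat.Coprime.pow_left _ (hp.out.coprime_iff_not_dvd.2 hA2)).dvd_of_dvd_mul_right hdvd
      have := Nat.le_of_dvd hA1 hPA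
      omega
    have := Nat.le_of_dvd (by omega) hcases
    omega
  obtain rfl : q = 2 := by
    by_contra hq2
    have h1 : Odd (q ^ m) := (hq.out.odd_of_ne_two hq2).pow
    have h2 : Odd P := (hp.out.odd_of_ne_two hp2).pow
    rw [← hqm] at h2
    exact (Nat.not_odd_iff_even.2 h1.add_one) h2
  -- conjugation
  set Rd := radical h hc with hRd
  have hpowx : ∀ i : ℕ, x ^ i ∈ zpowers x := fun i => pow_mem hxX i
  have hconjA : ∀ (i : ℕ), ∀ a ∈ innerCenter Q0, x ^ i * a * (x ^ i)⁻¹ ∈ innerCenter Q0 := fun i a ha =>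
    h.conj_mem_center (hpowx i) ha
  have hyfix : ∀ a ∈ innerCenter Q0, y * a * y⁻¹ = a := h.center_fixed hna
  let R' := Rd.subgroupOf Q0
  haveI : R'.Normal := ⟨fun r hr d => by
    rw [mem_subgroupOf] at hr ⊢
    rw [show ((d * r * d⁻¹ : Q0) : H) = ⁅(d : H), (r : H)⁆ * r by simp [commutatorElement_def, mul_assoc]]
    exact mul_mem (center_le_radical h hc (h.commutator_mem_center d.2 hr.1)) hr⟩
  let cj : ℕ → (Q0 →* Q0) := fun i => MonoidHom.mk'
    (fun c => ⟨x ^ i * c * (x ^ i)⁻¹, h.inv _ (hpowx i) _ c.2⟩)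
    fun c d => Subtype.ext (by simp [mul_assoc])
  have hcj : ∀ i (c : Q0), ((cj i c : Q0) : H) = x ^ i * c * (x ^ i)⁻¹ := fun _ _ => rfl
  let Φ : Q0 →* (Fin (p ^ j) → Q0 ⧸ R') := Pi.monoidHom fun t => (QuotientGroup.mk' R').comp (cj t)
  have hzR : ∀ (s : ℕ), ∀ r ∈ Rd, x ^ (p ^ j * s) * r * (x ^ (p ^ j * s))⁻¹ ∈ Rd := by
    intro s
    induction s with
    | zero => intro r hr; simpa using hr
    | succ s ih =>
      intro r hr
      rw [Nat.mul_succ, add_comm, pow_add, show x ^ p ^ j * x ^ (p ^ j * s) * r * (x ^ p ^ j * x ^ (p ^ j * s))⁻¹ =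
        x ^ p ^ j * (x ^ (p ^ j * s) * r * (x ^ (p ^ j * s))⁻¹) * (x ^ p ^ j)⁻¹ by group]
      exact radical_conj_mem h hc (hpowx _) hfix (ih r hr)
  have hker : Φ.ker = (innerCenter Q0).subgroupOf Q0 := by
    apply le_antisymm
    · intro c hc'
      let K0 : Subgroup H :=
        { carrier := {d | d ∈ Q0 ∧ ∀ i : ℕ, x ^ i * d * (x ^ i)⁻¹ ∈ Rd}
          one_mem' := ⟨one_mem _, fun i => by simp⟩
          mul_mem' := fun {a b} ha hb => ⟨mul_mem ha.1 hb.1, fun i => by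
            rw [show x ^ i * (a * b) * (x ^ i)⁻¹ = (x ^ i * a * (x ^ i)⁻¹) * (x ^ i * b * (x ^ i)⁻¹) by group]
            exact mul_mem (ha.2 i) (hb.2 i)⟩
          inv_mem' := fun {a} ha => ⟨inv_mem ha.1, fun i => by
            rw [show x ^ i * a⁻¹ * (x ^ i)⁻¹ = (x ^ i * a * (x ^ i)⁻¹)⁻¹ by group]
            exact inv_mem (ha.2 i)⟩ }
      have hK0le : K0 ≤ Q0 := fun d hd => hd.1
      have hK0ne : K0 ≠ Q0 := fun e => by
        obtain ⟨a, ha, b, hb, hab⟩ := hc.ne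
        have := (e.ge ha).2 0
        rw [pow_zero, one_mul, inv_one, mul_one] at this
        exact hab (this.2 b hb)
      have hK0inv : ∀ g ∈ zpowers x, ∀ a ∈ K0, g * a * g⁻¹ ∈ K0 := by
        intro g hg a ha
        obtain ⟨k, rfl⟩ := mem_powers_iff_mem_zpowers.2 hg
        refine ⟨h.inv _ (hpowx k) a ha.1, fun i => ?_⟩
        have := ha.2 (i + k)
        rwa [pow_add, show x ^ i * x ^ k * a * (x ^ i * x ^ k)⁻¹ = x ^ i * (x ^ k * a * (x ^ k)⁻¹) * (x ^ i)⁻¹ by
          group] at this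
      refine mem_subgroupOf.2 (h.center_of_fixed c.2 (hmin K0 hK0le hK0ne hK0inv c ⟨c.2, fun i => ?_⟩))
      have h1 : (QuotientGroup.mk (cj (i % p ^ j) c) : Q0 ⧸ R') = 1 :=
        congrFun hc' ⟨i % p ^ j, Nat.mod_lt _ (pow_pos hp.out.pos j)⟩
      rw [QuotientGroup.eq_one_iff, mem_subgroupOf, hcj] at h1
      have h2 := hzR (i / p ^ j) _ h1
      rwa [show x ^ (p ^ j * (i / p ^ j)) * (x ^ (i % p ^ j) * (c : H) * (x ^ (i % p ^ j))⁻¹) *
          (x ^ (p ^ j * (i / p ^ j)))⁻¹ = x ^ i * c * (x ^ i)⁻¹ by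
        conv_rhs => rw [← Nat.div_add_mod i (p ^ j), pow_add]
        group] at h2
    · intro c hc'
      refine MonoidHom.mem_ker.2 (funext fun t => (QuotientGroup.eq_one_iff _).2 (mem_subgroupOf.2 ?_))
      exact center_le_radical h hc (hconjA _ _ hc')
  -- the semiregular action on the central quotient
  haveI : ((innerCenter Q0).subgroupOf Q0).Normal := hker ▸ MonoidHom.normal_ker Φ
  set A' := (innerCenter Q0).subgroupOf Q0 with hA'
  let xQ : MulAut Q0 :=
    { toFun := fun a => ⟨x * a * x⁻¹, h.inv x hxX _ a.2⟩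
      invFun := fun a => ⟨x⁻¹ * a * x, by simpa using h.inv x⁻¹ (inv_mem hxX) _ a.2⟩
      left_inv := fun a => Subtype.ext (by simp [mul_assoc])
      right_inv := fun a => Subtype.ext (by simp [mul_assoc])
      map_mul' := fun a b => Subtype.ext (by simp [mul_assoc]) }
  have hxA' : A'.map xQ.toMonoidHom = A' := by
    refine eq_of_le_of_card_ge ?_ (card_map_of_injective xQ.injective).ge
    rintro _ ⟨a, ha, rfl⟩
    exact h.conj_mem_center hxX ha
  let σ : Equiv.Perm (Q0 ⧸ A') := (QuotientGroup.congr A' A' xQ hxA').toEquiv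
  have hσpow : ∀ (t : ℕ) (a : Q0), (σ ^ t) (QuotientGroup.mk a) = QuotientGroup.mk (cj t a) := by
    intro t
    induction t with
    | zero => intro a; exact congrArg QuotientGroup.mk (Subtype.ext (by simp [hcj]))
    | succ t ih =>
      intro a
      rw [pow_succ', Equiv.Perm.mul_apply, ih a]
      refine congrArg QuotientGroup.mk (Subtype.ext ?_)
      show x * ((cj t a : Q0) : H) * x⁻¹ = _
      rw [hcj, hcj, pow_succ']
      group
  have hσ1 : σ ^ p ^ (n + 1) = 1 := Equiv.ext fun i => by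
    obtain ⟨a, rfl⟩ := QuotientGroup.mk_surjective i
    rw [hσpow]
    exact congrArg QuotientGroup.mk (Subtype.ext (by rw [hcj, hord]; simp))
  obtain ⟨T, -, hT, -⟩ := exists_orbit_reps σ (1 : Q0 ⧸ A') (pow_pos hp.out.pos _) hσ1
    (map_one (QuotientGroup.congr A' A' xQ hxA')) (free_of_pow hp.out hσ1 fun i hi => by
      obtain ⟨a, rfl⟩ := QuotientGroup.mk_surjective i
      rw [hσpow, QuotientGroup.eq, hA', mem_subgroupOf, Subgroup.coe_mul, InvMemClass.coe_inv, hcj] at hi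
      refine (QuotientGroup.eq_one_iff a).2 (mem_subgroupOf.2 (h.center_of_fixed_mod hna a.2 ?_))
      have h1 := inv_mem hi
      rwa [mul_inv_rev, inv_inv] at h1)
  obtain ⟨d, hd⟩ := IsPGroup.iff_card.1 (h.isP.to_quotient A')
  have hd0 : d ≠ 0 := fun e => by
    obtain ⟨a, ha, b, hb, hab⟩ := hna
    rw [e, pow_zero] at hd
    have : Subsingleton (Q0 ⧸ A') := (Nat.card_eq_one_iff_unique.1 hd).1
    exact hab ((mem_innerCenter.1 (mem_subgroupOf.1
      ((QuotientGroup.eq_one_iff (⟨a, ha⟩ : Q0)).1 (Subsingleton.elim _ _)))).2 b hb)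
  have hdge : 2 * m * p ^ j ≤ d := mul_pow_le_of_dvd hp.out (e := n + 1 - j) (by omega) hm (hqm.symm.trans rfl) hd0
    (by rw [show n + 1 - j + j = n + 1 by omega, ← hd, ← hT]; exact dvd_mul_left _ _)
  have hsurj : Function.Surjective Φ := by
    rw [← MonoidHom.range_eq_top]
    refine eq_top_of_le_card _ ?_
    have e1 : Nat.card Φ.range = 2 ^ d := by
      rw [← index_ker, hker, index_eq_card, hd]
    rw [e1, Nat.card_fun, Nat.card_fin, ← index_eq_card, show R'.index = 2 ^ (2 * m) from hidx, ← pow_mul]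
    exact Nat.pow_le_pow_right (by norm_num) hdge
  -- a commutator seen by one component only
  obtain ⟨c0, hc0, d0, hd0', hcd⟩ := hc.ne
  have hpos : 0 < p ^ j := pow_pos hp.out.pos j
  obtain ⟨c, hc'⟩ := hsurj (Pi.mulSingle (⟨0, hpos⟩ : Fin (p ^ j)) (QuotientGroup.mk (⟨c0, hc0⟩ : Q0) : Q0 ⧸ R'))
  obtain ⟨d', hd''⟩ := hsurj (Pi.mulSingle (⟨0, hpos⟩ : Fin (p ^ j)) (QuotientGroup.mk (⟨d0, hd0'⟩ : Q0) : Q0 ⧸ R'))
  set e : H := ⁅(c : H), (d' : H)⁆ with he
  have heA : e ∈ innerCenter Q0 := h.commutator_mem_center c.2 d'.2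
  have hψt : ∀ t, t < p ^ j → t ≠ 0 → ψ (x ^ t * e * (x ^ t)⁻¹) = 1 := by
    intro t ht ht0
    have h1 : (QuotientGroup.mk (cj t c) : Q0 ⧸ R') = 1 := by
      have := congrFun hc' ⟨t, ht⟩
      rw [Pi.mulSingle_eq_of_ne (fun e => ht0 (congrArg Fin.val e))] at this
      exact this
    rw [QuotientGroup.eq_one_iff, mem_subgroupOf] at h1
    rw [show x ^ t * e * (x ^ t)⁻¹ = ⁅x ^ t * (c : H) * (x ^ t)⁻¹, x ^ t * (d' : H) * (x ^ t)⁻¹⁆ by
      simp [he, commutatorElement_def, mul_assoc]]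
    exact h1.2 _ (h.inv _ (hpowx t) _ d'.2)
  have hψe : ψ e ≠ 1 := by
    have hrel : ∀ (u : Q0) (u0 : H) (hu0 : u0 ∈ Q0),
        Φ u = Pi.mulSingle (⟨0, hpos⟩ : Fin (p ^ j)) (QuotientGroup.mk (⟨u0, hu0⟩ : Q0) : Q0 ⧸ R') → ∃ r ∈ Rd, u0 = (u : H) * r := by
      intro u u0 hu0 hu
      have := congrFun hu ⟨0, hpos⟩
      rw [Pi.mulSingle_eq_same] at this
      have h2 : ((cj 0 u)⁻¹ * ⟨u0, hu0⟩ : Q0) ∈ R' := QuotientGroup.eq.1 this
      rw [mem_subgroupOf, Subgroup.coe_mul, InvMemClass.coe_inv, hcj] at h2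
      exact ⟨_, h2, by simp⟩
    obtain ⟨r, hr, hr'⟩ := hrel c c0 hc0 hc'
    obtain ⟨r2, hr2, hr2'⟩ := hrel d' d0 hd0' hd''
    intro hce
    refine hcd ?_
    rw [hr', h.commutator_mul_left c.2 hr.1 hd0', eigen_mul hc.occurs (h.commutator_mem_center c.2 hd0')
      (h.commutator_mem_center hr.1 hd0'), hr.2 _ hd0', mul_one, ← commutatorElement_inv d0,
      eigen_inv hc.occurs (h.commutator_mem_center hd0' c.2), hr2', h.commutator_mul_left d'.2 hr2.1 c.2,
      eigen_mul hc.occurs (h.commutator_mem_center d'.2 c.2) (h.commutator_mem_center hr2.1 c.2), hr2.2 _ c.2,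
      mul_one, ← eigen_inv hc.occurs (h.commutator_mem_center d'.2 c.2), commutatorElement_inv]
    exact hce
  have hψsq : ψ e * ψ e = 1 := by
    rw [← eigen_mul hc.occurs heA heA, ← pow_two, h.commutator_pow_eq_one c.2 d'.2, eigen_one hc.occurs]
  -- the norm of that commutator
  let E : ℕ → H := fun k => Nat.rec 1 (fun i u => u * (x ^ i * e * (x ^ i)⁻¹)) k
  have hE0 : E 0 = 1 := rfl
  have hEs : ∀ k, E (k + 1) = E k * (x ^ k * e * (x ^ k)⁻¹) := fun _ => rfl
  have hEA : ∀ k, E k ∈ innerCenter Q0 := by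
    intro k
    induction k with
    | zero => exact one_mem _
    | succ k ih => rw [hEs]; exact mul_mem ih (hconjA k e heA)
  have hψper : ∀ s : ℕ, ψ (E (p ^ j * s)) = ψ e ^ s := by
    have hper : ∀ (s : ℕ), ∀ a ∈ innerCenter Q0, ψ (x ^ (p ^ j * s) * a * (x ^ (p ^ j * s))⁻¹) = ψ a := by
      intro s
      induction s with
      | zero => intro a _; simp
      | succ s ih =>
        intro a ha
        rw [Nat.mul_succ, add_comm, pow_add,
          show x ^ p ^ j * x ^ (p ^ j * s) * a * (x ^ p ^ j * x ^ (p ^ j * s))⁻¹ =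
            x ^ p ^ j * (x ^ (p ^ j * s) * a * (x ^ (p ^ j * s))⁻¹) * (x ^ p ^ j)⁻¹ by group,
          hfix _ (hconjA _ a ha), ih a ha]
    have hblock : ∀ (s t : ℕ), t < p ^ j → ψ (E (p ^ j * s + t + 1)) = ψ (E (p ^ j * s)) * ψ e := by
      intro s t
      induction t with
      | zero =>
        intro _
        rw [add_zero, hEs, eigen_mul hc.occurs (hEA _) (hconjA _ e heA), hper s e heA]
      | succ t ih =>
        intro ht
        rw [show p ^ j * s + (t + 1) + 1 = (p ^ j * s + t + 1) + 1 by ring, hEs (p ^ j * s + t + 1),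
          eigen_mul hc.occurs (hEA (p ^ j * s + t + 1)) (hconjA (p ^ j * s + t + 1) e heA), ih (by omega), pow_add, pow_add,
          show x ^ (p ^ j * s) * x ^ t * x ^ 1 * e * (x ^ (p ^ j * s) * x ^ t * x ^ 1)⁻¹ =
            x ^ (p ^ j * s) * (x ^ (t + 1) * e * (x ^ (t + 1))⁻¹) * (x ^ (p ^ j * s))⁻¹ by rw [pow_add]; group,
          hper s _ (hconjA _ e heA), hψt (t + 1) ht (by omega), mul_one]
    intro s
    induction s with
    | zero => rw [mul_zero, hE0, eigen_one hc.occurs, pow_zero]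
    | succ s ih =>
      have := hblock s (p ^ j - 1) (by omega)
      rw [show p ^ j * s + (p ^ j - 1) + 1 = p ^ j * (s + 1) by rw [Nat.mul_succ]; omega] at this
      rw [this, ih, pow_succ]
  have hEQ : E (p ^ (n + 1)) = 1 := by
    refine hfpQ _ (hQ0Q (mem_innerCenter.1 (hEA _)).1) ?_
    have hshift : ∀ k, x * E k * x⁻¹ * e = E (k + 1) := by
      intro k
      induction k with
      | zero => rw [hEs, hE0]; simp
      | succ k ih =>
        rw [hEs k, show x * (E k * (x ^ k * e * (x ^ k)⁻¹)) * x⁻¹ * e =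
          (x * E k * x⁻¹) * (x ^ (k + 1) * e * (x ^ (k + 1))⁻¹ * e) by rw [pow_succ']; group,
          ← (mem_innerCenter.1 heA).2 _ (mem_innerCenter.1 (hconjA (k + 1) e heA)).1, ← mul_assoc, ih,
          hEs (k + 1)]
    have h1 := hshift (p ^ (n + 1))
    rw [hEs, hord, one_mul, inv_one, mul_one] at h1
    exact mul_right_cancel h1
  have h1 := hψper P
  rw [show p ^ j * P = p ^ (n + 1) by rw [hP, ← pow_add]; congr 1; omega, hEQ, eigen_one hc.occurs] at h1
  obtain ⟨k, hk⟩ : Odd P := (hp.out.odd_of_ne_two hp2).pow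
  rw [hk, pow_succ, pow_mul, pow_two, hψsq, one_pow, one_mul] at h1
  exact hψe h1.symm

end Cfsg.Lib.Local
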