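import Cfsg.Prelude.Def_SubgroupEmbedding
import Cfsg.Prelude.Def_Transfer
import Cfsg.Agent.Lib.Core.Layer
import Cfsg.Agent.Lib.Core.Cores
import Cfsg.Agent.S3012

/-!
# A minimal counterexample to the Sidki pair statement is almost simple
-/

set_option autoImplicit false
set_option linter.style.haveILetI false

namespace Cfsg.Lib.Local.SidkiMinimal

open Subgroup Cfsg Cfsg.Lib
open scoped commutatorElement

universe u

variable {G : Type u} [Group G] [Finite G]

theorem odd_mem_of_sq {H : Subgroup G} {x : G} (hx : Odd (orderOf x)) (h2 : x * x ∈ H) : x ∈ H := by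
  obtain ⟨m, hm⟩ := exists_pow_eq_self_of_coprime (x := x) (n := 2)
    ((Nat.prime_two.coprime_iff_not_dvd).mpr (by rw [Nat.odd_iff] at hx; omega))
  rw [← hm, pow_two]
  exact H.pow_mem h2 m

theorem odd_commute_of_sq {w x : G} (hx : Odd (orderOf x)) (h2 : Commute w (x * x)) : Commute w x := by
  have := odd_mem_of_sq (H := centralizer ({w} : Set G)) hx (mem_centralizer_singleton_iff.mpr h2.eq.symm)
  exact (mem_centralizer_singleton_iff.mp this).symm

/-- The standing hypotheses. -/
structure Setup (V : Subgroup G) : Prop where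
  elem : IsElementaryAbelian 2 V
  ne_bot : V ≠ ⊥
  pair : IsSidkiPair V
  inter : V ⊓ pCore 2 G = ⊥
  minG : ∀ (H : Type u) [Group H] [Finite H] (W : Subgroup H), Nat.card H < Nat.card G →
    IsElementaryAbelian 2 W → W ≠ ⊥ → IsSidkiPair W → W ⊓ pCore 2 H ≠ ⊥
  minV : ∀ W : Subgroup G, Nat.card W < Nat.card V → IsElementaryAbelian 2 W → W ≠ ⊥ → IsSidkiPair W →
    W ⊓ pCore 2 G ≠ ⊥

namespace Setup

variable {V : Subgroup G} (s : Setup V)
include s

theorem sq {a : G} (ha : a ∈ V) : a * a = 1 := by simpa [pow_two] using s.elem.2 a ha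

theorem comm {a b : G} (ha : a ∈ V) (hb : b ∈ V) : Commute a b :=
  haveI := s.elem.1
  setLike_mul_comm ha hb

theorem elem_of_le {W : Subgroup G} (hW : W ≤ V) : IsElementaryAbelian 2 W :=
  ⟨⟨⟨fun a b => Subtype.ext (s.comm (hW a.2) (hW b.2)).eq⟩⟩, fun a ha => s.elem.2 a (hW ha)⟩

theorem V_isPGroup : IsPGroup 2 V := IsPGroup.iff_orderOf.mpr fun g => by
  have h1 : orderOf g ∣ 2 := orderOf_dvd_of_pow_eq_one (Subtype.ext (by simpa using s.elem.2 g g.2))
  obtain ⟨k, -, hk⟩ := (Nat.dvd_prime_pow Nat.prime_two).mp (by simpa using h1 : orderOf g ∣ 2 ^ 1)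
  exact ⟨k, hk⟩

/-- Induction inside a proper subgroup. -/
theorem descend {H W : Subgroup G} (hH : H ≠ ⊤) (hWH : W ≤ H) (hWV : W ≤ V) (hW : W ≠ ⊥)
    (hp : ∀ h ∈ H, ∀ v ∈ W, Odd (orderOf h) → v * h * v⁻¹ = h⁻¹ → ∃ w ∈ W, w ≠ 1 ∧ Commute w h) :
    ∃ v ∈ W, v ≠ 1 ∧ v ∈ (pCore 2 ↥H).map H.subtype := by
  have hel : IsElementaryAbelian 2 (W.subgroupOf H) :=
    ⟨⟨⟨fun a b => Subtype.ext (Subtype.ext (s.comm (hWV a.2) (hWV b.2)).eq)⟩⟩,
      fun a ha => Subtype.ext (by simpa using s.elem.2 _ (hWV ha))⟩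
  have hne : W.subgroupOf H ≠ ⊥ := by
    rw [Ne, subgroupOf_eq_bot, disjoint_iff, inf_eq_left.mpr hWH]
    exact hW
  have hpair : IsSidkiPair (W.subgroupOf H) := by
    intro h v hv hodd hinv
    obtain ⟨w, hw, hw1, hc⟩ := hp h h.2 v hv (by rwa [orderOf_coe]) (congrArg Subtype.val hinv)
    exact ⟨⟨w, hWH hw⟩, hw, fun e => hw1 (congrArg Subtype.val e), Subtype.ext hc.eq⟩
  have := s.minG ↥H (W.subgroupOf H) (Core.lt_card_of_ne_top hH) hel hne hpair
  obtain ⟨⟨x, hx⟩, hx1⟩ := ne_bot_iff_exists_ne_one.mp this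
  exact ⟨x, hx.1, fun e => hx1 (Subtype.ext (Subtype.ext e)), mem_map_of_mem _ hx.2⟩

theorem inter_pCore {v : G} (hv : v ∈ V) (hv' : v ∈ pCore 2 G) : v = 1 :=
  mem_bot.mp (s.inter.le ⟨hv, hv'⟩)

theorem pCore_eq_bot : pCore 2 G = ⊥ := by
  by_contra hne
  set R := pCore 2 G
  haveI : R.Normal := inferInstance
  have hp := Cfsg.Agent.S3012.result V R s.elem s.ne_bot s.pair s.inter
  have hinj : ∀ v ∈ V, QuotientGroup.mk' R v = 1 → v = 1 := fun v hv e =>
    s.inter_pCore hv ((QuotientGroup.eq_one_iff v).mp e)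
  have hel : IsElementaryAbelian 2 (V.map (QuotientGroup.mk' R)) := by
    refine ⟨⟨⟨?_⟩⟩, ?_⟩
    · rintro ⟨_, a, ha, rfl⟩ ⟨_, b, hb, rfl⟩
      refine Subtype.ext ?_
      show QuotientGroup.mk' R a * QuotientGroup.mk' R b = QuotientGroup.mk' R b * QuotientGroup.mk' R a
      rw [← map_mul, ← map_mul, (s.comm ha hb).eq]
    · rintro _ ⟨a, ha, rfl⟩
      rw [← map_pow, s.elem.2 a ha, map_one]
  have hne' : V.map (QuotientGroup.mk' R) ≠ ⊥ := fun e => s.ne_bot ((eq_bot_iff_forall _).mpr fun v hv =>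
    hinj v hv (mem_bot.mp (e ▸ mem_map_of_mem _ hv)))
  have := s.minG (G ⧸ R) _ (Core.card_quotient_lt hne) hel hne' hp
  rw [Core.pCore_quotient_pCore_eq_bot, inf_bot_eq] at this
  exact this rfl

theorem eq_one_of_normal {R : Subgroup G} (hR : R.IsSubnormal) (hp : IsPGroup 2 R) : R = ⊥ :=
  le_bot_iff.mp (s.pCore_eq_bot ▸ Core.le_pCore_of_isSubnormal hR hp)

theorem normal_inter_V {N : Subgroup G} [N.Normal] (hN : N ≠ ⊥) (hab : ∀ a ∈ N, ∀ b ∈ N, Commute a b) :
    V ⊓ N = ⊥ := by
  refine (eq_bot_iff_forall _).mpr fun v hv => ?_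
  by_contra hv1
  have h1 : (zpowers v).IsSubnormal := by
    refine Core.isSubnormal_of_normal_subgroupOf (zpowers_le.mpr hv.2) (Subgroup.Normal.isSubnormal ‹_›) ?_
    refine ⟨fun a ha b => ?_⟩
    have hcomm : (b : G) * a * (b : G)⁻¹ = a := by
      rw [(hab b b.2 a a.2).eq, mul_inv_cancel_right]
    show (b : G) * a * (b : G)⁻¹ ∈ zpowers v
    rw [hcomm]
    exact ha
  have := s.eq_one_of_normal h1 (s.V_isPGroup.to_le (zpowers_le.mpr hv.1))
  exact hv1 (zpowers_eq_bot.mp this)

theorem centralizes {H N : Subgroup G} [N.Normal] (hNH : N ≤ H) {x : G}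
    (hx : x ∈ (pCore 2 ↥H).map H.subtype) : x ∈ centralizer (N : Set G) := by
  set P := (pCore 2 ↥H).map H.subtype
  have hPH : P ≤ H := map_subtype_le _
  have hPn : ∀ g ∈ H, ∀ y ∈ P, g * y * g⁻¹ ∈ P := by
    rintro g hg _ ⟨y, hy, rfl⟩
    exact ⟨⟨g, hg⟩ * y * ⟨g, hg⟩⁻¹, (inferInstance : (pCore 2 ↥H).Normal).conj_mem y hy _, rfl⟩
  have hPp : IsPGroup 2 P := (Core.pCore_isPGroup 2 ↥H).map _
  have hsub : (P ⊓ N).IsSubnormal := by
    refine Core.isSubnormal_of_normal_subgroupOf inf_le_right (Subgroup.Normal.isSubnormal ‹_›) ?_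
    exact ⟨fun a ha b => ⟨hPn b (hNH b.2) a ha.1, ‹N.Normal›.conj_mem _ ha.2 b⟩⟩
  have hbot := s.eq_one_of_normal hsub (hPp.to_le inf_le_left)
  refine mem_centralizer_iff.mpr fun n hn => ?_
  have hmem : n * x * n⁻¹ * x⁻¹ ∈ P ⊓ N := by
    refine ⟨P.mul_mem (hPn n (hNH hn) x hx) (P.inv_mem hx), ?_⟩
    rw [show n * x * n⁻¹ * x⁻¹ = n * (x * n⁻¹ * x⁻¹) by group]
    exact N.mul_mem hn (‹N.Normal›.conj_mem _ (N.inv_mem hn) x)
  rw [hbot, mem_bot, mul_inv_eq_one, mul_inv_eq_iff_eq_mul] at hmem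
  exact hmem

theorem sq_mem_sup {N : Subgroup G} [N.Normal] {W : Subgroup G} (hW : W ≤ V) {g : G} (hg : g ∈ W ⊔ N) :
    g * g ∈ N := by
  obtain ⟨w, hw, n, hn, rfl⟩ := mem_sup_of_normal_right.mp hg
  have e : w * n * (w * n) = (w * n * w⁻¹) * (w * w) * n := by group
  rw [e, s.sq (hW hw), mul_one]
  exact N.mul_mem (‹N.Normal›.conj_mem n hn w) hn

theorem sup_eq_top {N : Subgroup G} [N.Normal] (hN : N ≠ ⊥)
    (hmin : ∀ M : Subgroup G, M.Normal → M ≤ N → M = ⊥ ∨ M = N) : V ⊔ N = ⊤ := by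
  by_contra hne
  set C := centralizer (N : Set G)
  obtain ⟨v, hv, hv1, hvP⟩ := s.descend hne le_sup_left le_rfl s.ne_bot fun h _ v hv ho hi => by
    obtain ⟨w, hw, hw1, hc⟩ := s.pair h v hv ho hi
    exact ⟨w, hw, hw1, hc⟩
  have hvC : v ∈ C := s.centralizes le_sup_right hvP
  set A := V ⊓ C
  have hAne : A ≠ ⊥ := fun e => hv1 (mem_bot.mp (e ▸ (⟨hv, hvC⟩ : v ∈ A)))
  have hCn : C.Normal := inferInstance
  by_cases hAV : A = V
  · have hVC : V ≤ C := inf_eq_left.mp hAV
    by_cases hCtop : C = ⊤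
    · -- `N` is central
      have hcen : N ≤ center G := fun n hn => mem_center_iff.mpr fun g =>
        (mem_centralizer_iff.mp (hCtop.symm ▸ mem_top g : g ∈ C) n hn).symm
      have hab : ∀ a ∈ N, ∀ b ∈ N, Commute a b := fun a ha b _ => (mem_center_iff.mp (hcen ha) b).symm
      have hVN := s.normal_inter_V hN hab
      have hp := Cfsg.Agent.S3012.result V N s.elem s.ne_bot s.pair hVN
      have hel : IsElementaryAbelian 2 (V.map (QuotientGroup.mk' N)) := by
        refine ⟨⟨⟨?_⟩⟩, ?_⟩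
        · rintro ⟨_, a, ha, rfl⟩ ⟨_, b, hb, rfl⟩
          refine Subtype.ext ?_
          show QuotientGroup.mk' N a * QuotientGroup.mk' N b = QuotientGroup.mk' N b * QuotientGroup.mk' N a
          rw [← map_mul, ← map_mul, (s.comm ha hb).eq]
        · rintro _ ⟨a, ha, rfl⟩
          rw [← map_pow, s.elem.2 a ha, map_one]
      have hne' : V.map (QuotientGroup.mk' N) ≠ ⊥ := fun e => s.ne_bot ((eq_bot_iff_forall _).mpr
        fun a ha => mem_bot.mp (hVN.le ⟨ha, (QuotientGroup.eq_one_iff a).mp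
          (mem_bot.mp (e ▸ mem_map_of_mem _ ha))⟩))
      obtain ⟨⟨y, hy⟩, hy1⟩ := ne_bot_iff_exists_ne_one.mp
        (s.minG (G ⧸ N) _ (Core.card_quotient_lt hN) hel hne' hp)
      obtain ⟨⟨a, ha, rfl⟩, hyP⟩ := hy
      set M := (pCore 2 (G ⧸ N)).comap (QuotientGroup.mk' N)
      have hMn : M.Normal := inferInstance
      have hnil : Group.IsNilpotent ↥M := by
        let f : ↥M →* ↥(pCore 2 (G ⧸ N)) :=
          ((QuotientGroup.mk' N).comp M.subtype).codRestrict _ fun x => x.2
        have hker : f.ker ≤ center ↥M := fun x hx => mem_center_iff.mpr fun g => Subtype.ext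
          (mem_center_iff.mp (hcen ((QuotientGroup.eq_one_iff (x : G)).mp
            (congrArg Subtype.val (MonoidHom.mem_ker.mp hx)))) (g : G))
        haveI : Group.IsNilpotent ↥(pCore 2 (G ⧸ N)) := (Core.pCore_isPGroup 2 (G ⧸ N)).isNilpotent
        exact Subgroup.isNilpotent_of_ker_le_center f hker
      haveI : Fact (Nat.Prime 2) := ⟨Nat.prime_two⟩
      have haM : a ∈ M := hyP
      have hap : IsPGroup 2 ↥((zpowers a).subgroupOf M) :=
        (s.V_isPGroup.to_le (zpowers_le.mpr ha)).comap_subtype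
      obtain ⟨P, hP⟩ := hap.exists_le_sylow
      haveI : (P : Subgroup ↥M).Normal :=
        ((Group.isNilpotent_of_finite_tfae (G := ↥M)).out 0 3 rfl rfl).mp hnil 2 inferInstance P
      haveI : (P : Subgroup ↥M).Characteristic := P.characteristic_of_normal inferInstance
      haveI hnorm := Core.normal_map_char_of_normal (N := M) (P : Subgroup ↥M)
      have hbot := s.eq_one_of_normal (Subgroup.Normal.isSubnormal hnorm) (P.isPGroup'.map _)
      have : a = 1 := mem_bot.mp (hbot ▸ ⟨⟨a, haM⟩, hP (mem_zpowers a), rfl⟩)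
      exact hy1 (Subtype.ext (by show QuotientGroup.mk' N a = 1; rw [this, map_one]))
    · obtain ⟨w, hw, hw1, hwP⟩ := s.descend hCtop hVC le_rfl s.ne_bot fun h _ v hv ho hi => by
        obtain ⟨w, hw, hw1, hc⟩ := s.pair h v hv ho hi
        exact ⟨w, hw, hw1, hc⟩
      refine hw1 (s.inter_pCore hw ?_)
      haveI hnorm := Core.normal_map_char_of_normal (N := C) (pCore 2 ↥C)
      exact Core.le_pCore' hnorm ((Core.pCore_isPGroup 2 ↥C).map _) hwP
  · -- `A` satisfies the pair condition
    have hlt : Nat.card A < Nat.card V := by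
      by_contra hge
      exact hAV (Subgroup.eq_of_le_of_card_ge inf_le_left (not_lt.mp hge))
    refine s.minV A hlt (s.elem_of_le inf_le_left) hAne ?_ ?_
    · intro h a ha hodd hinv
      have hhC : h ∈ C := by
        refine odd_mem_of_sq hodd ?_
        have e : h * h = (h * a * h⁻¹) * a⁻¹ := by
          have : h = a * h⁻¹ * a⁻¹ := by rw [← conj_inv, hinv, inv_inv]
          calc h * h = h * (a * h⁻¹ * a⁻¹) := by rw [← this]
            _ = _ := by group
        rw [e]
        exact C.mul_mem (hCn.conj_mem a ha.2 h) (C.inv_mem ha.2)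
      set D := V ⊓ centralizer ({h} : Set G)
      by_contra hcon
      simp only [not_exists, not_and] at hcon
      have hDA : ∀ d ∈ D, d ∈ C → d = 1 := fun d hd hdC => by
        by_contra h1
        exact hcon d ⟨hd.1, hdC⟩ h1 (mem_centralizer_singleton_iff.mp hd.2)
      obtain ⟨d₀, hd₀, hd₁, hd₂⟩ := s.pair h a ha.1 hodd hinv
      have hDne : D ≠ ⊥ := fun e => hd₁ (mem_bot.mp (e ▸ (⟨hd₀, mem_centralizer_singleton_iff.mpr hd₂⟩ : d₀ ∈ D)))
      have hH : D ⊔ N ≠ ⊤ := fun e => hne (top_le_iff.mp (e ▸ sup_le_sup_right inf_le_left N))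
      obtain ⟨x, hx, d, hd, hxodd, hdx, hfree⟩ : ∃ x ∈ D ⊔ N, ∃ d ∈ D, Odd (orderOf x) ∧
          d * x * d⁻¹ = x⁻¹ ∧ ∀ w ∈ D, Commute w x → w = 1 := by
        by_contra hcon2
        obtain ⟨w, hw, hw1, hwP⟩ := s.descend hH le_sup_left inf_le_left hDne fun x hx d hd ho hi => by
          by_contra h3
          simp only [not_exists, not_and] at h3
          refine hcon2 ⟨x, hx, d, hd, ho, hi, fun w hw hwc => ?_⟩
          by_contra hw1
          exact h3 w hw hw1 hwc
        exact hw1 (hDA w hw (s.centralizes le_sup_right hwP))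
      have hxN : x ∈ N := odd_mem_of_sq hxodd (s.sq_mem_sup inf_le_left hx)
      have hxh : Commute x h := mem_centralizer_iff.mp hhC x hxN
      have hax : Commute a x := (mem_centralizer_iff.mp ha.2 x hxN).symm
      have hdh : Commute d h := mem_centralizer_singleton_iff.mp hd.2
      have hodd' : Odd (orderOf (x * h)) :=
        Odd.of_dvd_nat (hxodd.mul hodd) (hxh.orderOf_mul_dvd_lcm.trans (Nat.lcm_dvd_mul _ _))
      have hinv' : (a * d) * (x * h) * (a * d)⁻¹ = (x * h)⁻¹ := by
        have e1 : (a * d) * (x * h) * (a * d)⁻¹ = a * ((d * x * d⁻¹) * (d * h * d⁻¹)) * a⁻¹ := by group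
        rw [e1, hdx, show d * h * d⁻¹ = h by rw [hdh.eq, mul_inv_cancel_right]]
        calc a * (x⁻¹ * h) * a⁻¹ = (a * x⁻¹ * a⁻¹) * (a * h * a⁻¹) := by group
          _ = x⁻¹ * h⁻¹ := by rw [hax.inv_right.eq, mul_inv_cancel_right, hinv]
          _ = (x * h)⁻¹ := by rw [hxh.eq, mul_inv_rev]
      obtain ⟨w, hw, hw1, hwc⟩ := s.pair (x * h) (a * d) (V.mul_mem ha.1 hd.1) hodd' hinv'
      have hwc2 : Commute w (x * h⁻¹) := by
        have h4 := (show Commute w (x * h) from hwc).map (MulAut.conj a).toMonoidHom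
        simp only [MulEquiv.coe_toMonoidHom, MulAut.conj_apply] at h4
        rw [show a * w * a⁻¹ = w by rw [(s.comm ha.1 hw).eq, mul_inv_cancel_right]] at h4
        rwa [show a * (x * h) * a⁻¹ = x * h⁻¹ by
          calc a * (x * h) * a⁻¹ = (a * x * a⁻¹) * (a * h * a⁻¹) := by group
            _ = x * h⁻¹ := by rw [hinv, hax.eq, mul_inv_cancel_right]] at h4
      have hwx : Commute w x := by
        refine odd_commute_of_sq hxodd ?_
        have e : (x * h) * (x * h⁻¹) = x * x := by
          rw [mul_assoc, ← mul_assoc h x, ← hxh.eq, mul_inv_cancel_right]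
        exact e ▸ (show Commute w (x * h) from hwc).mul_right hwc2
      have hwh : Commute w h := by
        have e : h = x⁻¹ * (x * h) := by group
        rw [e]
        exact hwx.inv_right.mul_right hwc
      exact hw1 (hfree w ⟨hw, mem_centralizer_singleton_iff.mpr hwh.eq⟩ hwx)
    · exact le_bot_iff.mp (s.inter ▸ inf_le_inf_right _ inf_le_left)

theorem main : IsSimpleGroup ↥(generalizedFittingSubgroup G) ∧
    ¬ IsMulCommutative ↥(generalizedFittingSubgroup G) ∧ V ⊔ generalizedFittingSubgroup G = ⊤ := by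
  classical
  haveI : Nontrivial G := by
    obtain ⟨⟨v, _⟩, hv1⟩ := ne_bot_iff_exists_ne_one.mp s.ne_bot
    exact ⟨v, 1, fun e => hv1 (Subtype.ext e)⟩
  obtain ⟨N, ⟨hNn, hN⟩, hmin'⟩ := (Set.toFinite {M : Subgroup G | M.Normal ∧ M ≠ ⊥}).exists_minimal
    ⟨⊤, inferInstance, top_ne_bot⟩
  haveI := hNn
  have hmin : ∀ M : Subgroup G, M.Normal → M ≤ N → M = ⊥ ∨ M = N := fun M hM hle => by
    by_cases hMb : M = ⊥
    · exact Or.inl hMb
    · exact Or.inr (le_antisymm hle (hmin' ⟨hM, hMb⟩ hle))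
  have htop := s.sup_eq_top hN hmin
  have hsq : ∀ g : G, g * g ∈ N := fun g => s.sq_mem_sup le_rfl (htop ▸ mem_top g)
  -- `C_G(N) ∩ N = 1` and `N` is not abelian
  have hnab : ¬ ∀ a ∈ N, ∀ b ∈ N, Commute a b := by
    intro hab
    have hVN := s.normal_inter_V hN hab
    have hA : ∀ v ∈ V, (∀ n ∈ N, Commute v n) → v = 1 := by
      intro v hv hc
      have hn : (zpowers v).Normal := by
        refine normalizer_eq_top_iff.mp (top_le_iff.mp (htop ▸ sup_le ?_ ?_))
        · exact fun w hw => centralizer_le_normalizer _ (mem_centralizer_iff.mpr fun y hy => by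
            obtain ⟨i, rfl⟩ := hy
            exact ((s.comm hv hw).zpow_left i).eq)
        · exact fun n hn => centralizer_le_normalizer _ (mem_centralizer_iff.mpr fun y hy => by
            obtain ⟨i, rfl⟩ := hy
            exact ((hc n hn).zpow_left i).eq)
      exact zpowers_eq_bot.mp (s.eq_one_of_normal (Subgroup.Normal.isSubnormal hn)
        (s.V_isPGroup.to_le (zpowers_le.mpr hv)))
    -- every element of `V` is a sign on `N`
    have hsign : ∀ v ∈ V, v ≠ 1 → ∀ n ∈ N, v * n * v⁻¹ = n⁻¹ := by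
      intro v hv hv1 n hn
      have hFn : (N ⊓ centralizer ({v} : Set G)).Normal := by
        refine normalizer_eq_top_iff.mp (top_le_iff.mp (htop ▸ sup_le ?_ ?_))
        · refine Core.le_normalizer_iff_conj_mem.mpr fun w hw y hy =>
            ⟨hNn.conj_mem y hy.1 w, mem_centralizer_singleton_iff.mpr ?_⟩
          have hwv : Commute w v := s.comm hw hv
          have hyv : Commute y v := mem_centralizer_singleton_iff.mp hy.2
          exact ((hwv.mul_left hyv).mul_left hwv.inv_left).eq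
        · exact Core.le_normalizer_iff_conj_mem.mpr fun m hm y hy => by
            rw [(hab m hm y hy.1).eq, mul_inv_cancel_right]
            exact hy
      rcases hmin _ hFn inf_le_left with h0 | h0
      · have h1 : n * (v * n * v⁻¹) ∈ N ⊓ centralizer ({v} : Set G) := by
          refine ⟨N.mul_mem hn (hNn.conj_mem n hn v), mem_centralizer_singleton_iff.mpr ?_⟩
          have hvi : v⁻¹ = v := inv_eq_of_mul_eq_one_right (s.sq hv)
          have h2 := (hab n hn _ (hNn.conj_mem n hn v)).eq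
          show n * (v * n * v⁻¹) * v = v * (n * (v * n * v⁻¹))
          calc n * (v * n * v⁻¹) * v = (v * n * v⁻¹) * n * v := by rw [h2]
            _ = v * (n * (v * n * v⁻¹)) := by rw [hvi]; group
        rw [h0, mem_bot] at h1
        exact eq_inv_of_mul_eq_one_right h1
      · exact absurd (hA v hv fun m hm => (mem_centralizer_singleton_iff.mp (h0.ge hm).2).symm) hv1
    obtain ⟨⟨v, hv⟩, hv1⟩ := ne_bot_iff_exists_ne_one.mp s.ne_bot
    have hv1' : v ≠ 1 := fun e => hv1 (Subtype.ext e)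
    obtain ⟨⟨n, hn⟩, hn1⟩ := ne_bot_iff_exists_ne_one.mp hN
    have hn1' : n ≠ 1 := fun e => hn1 (Subtype.ext e)
    have hodd : Odd (orderOf n) := by
      rw [Nat.odd_iff]
      by_contra hc
      haveI : Fact (Nat.Prime 2) := ⟨Nat.prime_two⟩
      have h2 : 2 ∣ Nat.card N := by
        have := orderOf_dvd_natCard (⟨n, hn⟩ : N)
        rw [Subgroup.orderOf_mk] at this
        exact (Nat.dvd_of_mod_eq_zero (by omega)).trans this
      obtain ⟨⟨y, hy⟩, hyo⟩ := exists_prime_orderOf_dvd_card' (G := N) 2 h2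
      rw [Subgroup.orderOf_mk] at hyo
      have hs : (zpowers y).IsSubnormal := by
        refine Core.isSubnormal_of_normal_subgroupOf (zpowers_le.mpr hy) (Subgroup.Normal.isSubnormal hNn) ?_
        refine ⟨fun a ha b => ?_⟩
        show (b : G) * a * (b : G)⁻¹ ∈ zpowers y
        rw [(hab b b.2 a a.2).eq, mul_inv_cancel_right]
        exact ha
      have := s.eq_one_of_normal hs (IsPGroup.of_card (n := 1) (by rw [Nat.card_zpowers, hyo, pow_one]))
      rw [zpowers_eq_bot] at this
      rw [this, orderOf_one] at hyo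
      omega
    obtain ⟨w, hw, hw1, hwc⟩ := s.pair n v hv hodd (hsign v hv hv1' n hn)
    refine hn1' (orderOf_eq_one_iff.mp ?_)
    have h2 : orderOf n ∣ 2 := orderOf_dvd_of_pow_eq_one (by
      rw [pow_two]
      have := hsign w hw hw1 n hn
      rw [hwc, mul_inv_cancel_right] at this
      nth_rewrite 2 [this]
      exact mul_inv_cancel n)
    rcases (Nat.dvd_prime Nat.prime_two).mp h2 with h | h
    · exact h
    · rw [h] at hodd; exact absurd hodd (by decide)
  have hZ : N ⊓ centralizer (N : Set G) = ⊥ := by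
    rcases hmin _ (inferInstance : (N ⊓ centralizer (N : Set G)).Normal) inf_le_left with h | h
    · exact h
    · exact absurd (fun a ha b hb => mem_centralizer_iff.mp (h.ge hb).2 a ha) hnab
  have hC : centralizer (N : Set G) = ⊥ := by
    refine s.eq_one_of_normal (Subgroup.Normal.isSubnormal inferInstance) (IsPGroup.iff_orderOf.mpr fun g => ?_)
    have h1 : (g : G) * g ∈ N ⊓ centralizer (N : Set G) := ⟨hsq g, mul_mem g.2 g.2⟩
    rw [hZ, mem_bot] at h1
    have h2 : orderOf g ∣ 2 ^ 1 := orderOf_dvd_of_pow_eq_one (Subtype.ext (by simpa [pow_two] using h1))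
    obtain ⟨k, -, hk⟩ := (Nat.dvd_prime_pow Nat.prime_two).mp h2
    exact ⟨k, hk⟩
  -- `N` is simple
  have hsimple : ∀ S : Subgroup G, S ≤ N → S ≠ ⊥ → N ≤ normalizer (S : Set G) →
      (∀ T : Subgroup G, T ≤ S → N ≤ normalizer (T : Set G) → T = ⊥ ∨ T = S) → S = N := by
    intro S hSN hS hSn hSmin
    by_contra hne
    let J : Subgroup G := ⨆ v : V, S.map (MulAut.conj (v : G)).toMonoidHom
    have hconjN : ∀ v : V, N ≤ normalizer (S.map (MulAut.conj (v : G)).toMonoidHom : Set G) := fun v => by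
      intro n hn
      have h1 : (v : G)⁻¹ * n * v ∈ normalizer (S : Set G) := hSn (by
        have := hNn.conj_mem n hn (v : G)⁻¹
        rwa [inv_inv] at this)
      refine Core.mem_normalizer_iff_map_conj.mpr ?_
      calc (S.map (MulAut.conj (v : G)).toMonoidHom).map (MulAut.conj n).toMonoidHom
          = (S.map (MulAut.conj ((v : G)⁻¹ * n * v)).toMonoidHom).map (MulAut.conj (v : G)).toMonoidHom := by
            rw [← Core.map_conj_mul, ← Core.map_conj_mul]; congr 3; group
        _ = _ := by rw [Core.map_conj_eq_of_mem_normalizer h1]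
    have hJN : J ≤ N := iSup_le fun v => by
      rintro _ ⟨x, hx, rfl⟩
      exact hNn.conj_mem x (hSN hx) v
    have hJn : J.Normal := by
      refine normalizer_eq_top_iff.mp (top_le_iff.mp (htop ▸ sup_le ?_ ?_))
      · refine Core.le_normalizer_iff_conj_mem.mpr fun w hw y hy => ?_
        suffices hh : J ≤ J.comap (MulAut.conj w).toMonoidHom from hh hy
        refine iSup_le fun v => map_le_iff_le_comap.mp ?_
        rw [← Core.map_conj_mul]
        exact le_iSup (fun v : V => S.map (MulAut.conj (v : G)).toMonoidHom) ⟨w * v, V.mul_mem hw v.2⟩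
      · refine Core.le_normalizer_iff_conj_mem.mpr fun n hn y hy => ?_
        suffices hh : J ≤ J.comap (MulAut.conj n).toMonoidHom from hh hy
        refine iSup_le fun v => map_le_iff_le_comap.mp ?_
        rw [Core.map_conj_eq_of_mem_normalizer (hconjN v hn)]
        exact le_iSup (fun v : V => S.map (MulAut.conj (v : G)).toMonoidHom) v
    have hJ : J = N := by
      rcases hmin J hJn hJN with h | h
      · exfalso
        apply hS
        refine le_bot_iff.mp (le_trans (fun x hx => ?_) h.le)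
        exact mem_iSup_of_mem (⟨1, V.one_mem⟩ : V) ⟨x, hx, by simp⟩
      · exact h
    set W := V ⊓ normalizer (S : Set G)
    have hcomm : ∀ v ∈ V, v ∉ normalizer (S : Set G) → ∀ x ∈ S, ∀ y ∈ S,
        Commute x (v * y * v⁻¹) ∧ (x = v * y * v⁻¹ → x = 1) := by
      intro v hv hvn x hx y hy
      set S' := S.map (MulAut.conj v).toMonoidHom
      have hbot : S ⊓ S' = ⊥ := by
        rcases hSmin (S ⊓ S') inf_le_left (fun n hn => Core.mem_normalizer_iff_map_conj.mpr (by
          rw [map_inf _ _ _ (MulAut.conj n).injective, Core.map_conj_eq_of_mem_normalizer (hSn hn),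
            Core.map_conj_eq_of_mem_normalizer (hconjN ⟨v, hv⟩ hn)])) with h | h
        · exact h
        · exfalso
          refine hvn (Core.mem_normalizer_iff_map_conj.mpr ((Subgroup.eq_of_le_of_card_ge (inf_eq_left.mp h)
            (le_of_eq (Nat.card_congr ((MulAut.conj v).subgroupMap S).toEquiv).symm)).symm))
      have hy' : v * y * v⁻¹ ∈ S' := mem_map_of_mem _ hy
      refine ⟨commutatorElement_eq_one_iff_commute.mp (mem_bot.mp (hbot.le ⟨?_, ?_⟩)),
        fun e => mem_bot.mp (hbot.le ⟨hx, e ▸ hy'⟩)⟩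
      · rw [commutatorElement_def, show x * (v * y * v⁻¹) * x⁻¹ * (v * y * v⁻¹)⁻¹
          = x * ((v * y * v⁻¹) * x⁻¹ * (v * y * v⁻¹)⁻¹) by group]
        exact S.mul_mem hx ((mem_normalizer_iff.mp (hSn (hNn.conj_mem y (hSN hy) v)) _).mp (S.inv_mem hx))
      · rw [commutatorElement_def]
        exact S'.mul_mem ((mem_normalizer_iff.mp (hconjN ⟨v, hv⟩ (hSN hx)) _).mp hy') (S'.inv_mem hy')
    obtain ⟨t, ht, htn⟩ : ∃ t ∈ V, t ∉ normalizer (S : Set G) := by
      by_contra hcon
      simp only [not_exists, not_and, not_not] at hcon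
      have hn : S.Normal := normalizer_eq_top_iff.mp (top_le_iff.mp (htop ▸ sup_le hcon hSn))
      rcases hmin S hn hSN with h | h
      exacts [hS h, hne h]
    -- an element of odd order in `S`
    obtain ⟨x₀, hx₀, hx₀1, hx₀o⟩ : ∃ x ∈ S, x ≠ 1 ∧ Odd (orderOf x) := by
      by_contra hcon
      simp only [not_exists, not_and] at hcon
      have hp : IsPGroup 2 S := IsPGroup.iff_orderOf.mpr fun g => by
        obtain ⟨a, b, hb, hab⟩ := Nat.exists_eq_pow_mul_and_not_dvd (orderOf_pos g).ne' 2 (by norm_num)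
        have hb1 : b = 1 := by
          by_contra hb1
          have hord : orderOf ((g : G) ^ 2 ^ a) = b := by
            rw [orderOf_pow_of_dvd (by positivity) (by rw [orderOf_coe, hab]; exact dvd_mul_right _ _),
              orderOf_coe, hab, Nat.mul_div_cancel_left _ (by positivity)]
          refine hcon ((g : G) ^ 2 ^ a) (S.pow_mem g.2 _) (fun e => hb1 ?_) ?_
          · rw [← hord, e, orderOf_one]
          · rw [hord, Nat.odd_iff]; omega
        exact ⟨a, by rw [hab, hb1, mul_one]⟩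
      refine hS (s.eq_one_of_normal ?_ hp)
      exact Core.isSubnormal_of_normal_subgroupOf hSN (Subgroup.Normal.isSubnormal hNn)
        ((normal_subgroupOf_iff_le_normalizer hSN).mpr hSn)
    by_cases hW : W = ⊥
    · set z := x₀ * (t * x₀⁻¹ * t⁻¹) with hz
      have hcz := (hcomm t ht htn x₀ hx₀ x₀⁻¹ (S.inv_mem hx₀)).1
      have hzo : Odd (orderOf z) := by
        refine Odd.of_dvd_nat (hx₀o.mul hx₀o) ?_
        refine (hcz.orderOf_mul_dvd_lcm.trans (Nat.lcm_dvd_mul _ _)).trans (mul_dvd_mul_left _ ?_)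
        have : orderOf (MulAut.conj t x₀⁻¹) = orderOf x₀⁻¹ := MulEquiv.orderOf_eq _ _
        rw [MulAut.conj_apply, orderOf_inv] at this
        rw [this]
      have hti : t⁻¹ = t := inv_eq_of_mul_eq_one_right (s.sq ht)
      have hzi : t * z * t⁻¹ = z⁻¹ := by
        rw [hz, hti]
        simp only [mul_inv_rev, inv_inv, hti, mul_assoc]
        simp only [← mul_assoc t t, s.sq ht, one_mul, mul_one]
      obtain ⟨w, hw, hw1, hwc⟩ := s.pair z t ht hzo hzi
      apply hx₀1
      have hwn : w ∉ normalizer (S : Set G) := fun h => hw1 (mem_bot.mp (hW.le ⟨hw, h⟩))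
      by_cases hwt : w = t
      · have h1 : z = z⁻¹ := by rw [← hzi, ← hwt, hwc, mul_inv_cancel_right]
        have h2 : z = 1 := by
          have h3 : orderOf z ∣ 2 := orderOf_dvd_of_pow_eq_one (by
            rw [pow_two]; nth_rewrite 2 [h1]; exact mul_inv_cancel z)
          rcases (Nat.dvd_prime Nat.prime_two).mp h3 with h | h
          · exact orderOf_eq_one_iff.mp h
          · rw [h] at hzo; exact absurd hzo (by decide)
        refine (hcomm t ht htn x₀ hx₀ x₀ hx₀).2 ?_
        rw [hz] at h2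
        calc x₀ = (t * x₀⁻¹ * t⁻¹)⁻¹ := eq_inv_of_mul_eq_one_left h2
          _ = t * x₀ * t⁻¹ := by group
      · -- all conjugates of `S` other than `S` commute with `S`; `x₀` is central
        have hwtn : w * t ∉ normalizer (S : Set G) := fun h => hwt (by
          have := mem_bot.mp (hW.le ⟨V.mul_mem hw ht, h⟩)
          rw [mul_eq_one_iff_eq_inv.mp this, hti])
        have hSc : ∀ y ∈ S, Commute x₀ y := by
          intro y hy
          have k1 : ∀ {u}, u ∈ V → u ∉ normalizer (S : Set G) → ∀ y' ∈ S, Commute (u * y' * u⁻¹) y :=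
            fun {u} hu hun y' hy' => ((hcomm u hu hun y hy y' hy').1).symm
          have hzy : Commute z y := by
            rw [show z = w * z * w⁻¹ by rw [hwc, mul_inv_cancel_right], hz,
              show w * (x₀ * (t * x₀⁻¹ * t⁻¹)) * w⁻¹ = (w * x₀ * w⁻¹) * ((w * t) * x₀⁻¹ * (w * t)⁻¹) by group]
            exact (k1 hw hwn x₀ hx₀).mul_left (k1 (V.mul_mem hw ht) hwtn _ (S.inv_mem hx₀))
          have hty : Commute (t * x₀⁻¹ * t⁻¹)⁻¹ y := (k1 ht htn _ (S.inv_mem hx₀)).inv_left
          have := hzy.mul_left hty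
          rwa [hz, mul_inv_cancel_right] at this
        have hmem : x₀ ∈ N ⊓ centralizer (N : Set G) := by
          refine ⟨hSN hx₀, mem_centralizer_iff.mpr fun n hn => ?_⟩
          have hle : J ≤ centralizer ({x₀} : Set G) := iSup_le fun v => by
            rintro _ ⟨y, hy, rfl⟩
            refine mem_centralizer_singleton_iff.mpr ?_
            by_cases hvn : (v : G) ∈ normalizer (S : Set G)
            · exact (hSc _ ((mem_normalizer_iff.mp hvn y).mp hy)).eq.symm
            · exact ((hcomm v v.2 hvn x₀ hx₀ y hy).1).eq.symm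
          exact (mem_centralizer_singleton_iff.mp (hle (hJ.symm ▸ hn)))
        exact mem_bot.mp (hZ.le hmem)
    · -- `W` centralizes `S`
      set H := W ⊔ S
      have hWS : W ≤ normalizer (S : Set G) := inf_le_right
      have hH : H ≠ ⊤ := by
        intro e
        refine htn (sup_le hWS le_normalizer (?_ : t ∈ W ⊔ S))
        rw [show W ⊔ S = H from rfl, e]
        exact mem_top t
      have hodd_S : ∀ h ∈ H, Odd (orderOf h) → h ∈ S := by
        intro h hh ho
        refine odd_mem_of_sq ho ?_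
        obtain ⟨w, hw, y, hy, rfl⟩ := (Core.mem_sup_of_le_normalizer hWS).mp hh
        have e : w * y * (w * y) = (w * y * w⁻¹) * (w * w) * y := by group
        rw [e, s.sq hw.1, mul_one]
        exact S.mul_mem ((mem_normalizer_iff.mp (hWS hw) y).mp hy) hy
      obtain ⟨w, hw, hw1, hwP⟩ := s.descend hH le_sup_left inf_le_left hW fun h hh v hv ho hi => by
        obtain ⟨u, hu, hu1, huc⟩ := s.pair h v hv.1 ho hi
        have hhS := hodd_S h hh ho
        by_cases hun : u ∈ normalizer (S : Set G)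
        · exact ⟨u, ⟨hu, hun⟩, hu1, huc⟩
        · have h1 : h = 1 := (hcomm u hu hun h hhS h hhS).2 (by rw [huc, mul_inv_cancel_right])
          obtain ⟨⟨w, hw⟩, hw1⟩ := ne_bot_iff_exists_ne_one.mp hW
          exact ⟨w, hw, fun e => hw1 (Subtype.ext e), h1 ▸ Commute.one_right w⟩
      have hwS : ∀ y ∈ S, Commute w y := by
        intro y hy
        have hsub : ((pCore 2 ↥H).map H.subtype ⊓ S).IsSubnormal := by
          refine Core.isSubnormal_of_normal_subgroupOf inf_le_right
            (Core.isSubnormal_of_normal_subgroupOf hSN (Subgroup.Normal.isSubnormal hNn)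
              ((normal_subgroupOf_iff_le_normalizer hSN).mpr hSn)) ⟨?_⟩
          rintro ⟨a, haS⟩ ⟨⟨a', ha', rfl⟩, -⟩ ⟨b, hb⟩
          exact ⟨⟨⟨b, mem_sup_right hb⟩ * a' * ⟨b, mem_sup_right hb⟩⁻¹,
            (inferInstance : (pCore 2 ↥H).Normal).conj_mem a' ha' _, rfl⟩, S.mul_mem (S.mul_mem hb haS) (S.inv_mem hb)⟩
        have hbot := s.eq_one_of_normal hsub (((Core.pCore_isPGroup 2 ↥H).map _).to_le inf_le_left)
        refine commutatorElement_eq_one_iff_commute.mp (mem_bot.mp (hbot.le ⟨?_, ?_⟩))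
        · obtain ⟨w', hw', rfl⟩ := hwP
          refine ⟨w' * (⟨y, mem_sup_right hy⟩ * w'⁻¹ * (⟨y, mem_sup_right hy⟩ : ↥H)⁻¹),
            mul_mem hw' ((inferInstance : (pCore 2 ↥H).Normal).conj_mem _ (inv_mem hw') _), ?_⟩
          simp [commutatorElement_def, mul_assoc]
        · rw [commutatorElement_def]
          exact S.mul_mem ((mem_normalizer_iff.mp (hWS hw) y).mp hy) (S.inv_mem hy)
      have hwC : w ∈ centralizer (N : Set G) := by
        rw [← hJ]
        refine mem_centralizer_iff.mpr fun y hy => ?_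
        have hle : J ≤ centralizer ({w} : Set G) := iSup_le fun v => by
          rintro _ ⟨z, hz, rfl⟩
          have hc : Commute w (v : G) := s.comm hw.1 v.2
          exact mem_centralizer_singleton_iff.mpr ((hc.mul_right (hwS z hz)).mul_right hc.inv_right).eq.symm
        exact mem_centralizer_singleton_iff.mp (hle hy)
      rw [hC, mem_bot] at hwC
      exact hw1 hwC
  haveI : Nontrivial ↥N := (nontrivial_iff_ne_bot N).mpr hN
  have hNsimple : IsSimpleGroup ↥N := ⟨fun K hK => by
    by_cases hKb : K = ⊥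
    · exact Or.inl hKb
    right
    have hn0 : N ≤ normalizer (K.map N.subtype : Set G) := Core.le_normalizer_iff_conj_mem.mpr (by
      rintro n hn _ ⟨k, hk, rfl⟩
      exact ⟨⟨n, hn⟩ * k * ⟨n, hn⟩⁻¹, hK.conj_mem k hk _, rfl⟩)
    have hne0 : K.map N.subtype ≠ ⊥ := fun e => hKb ((map_eq_bot_iff_of_injective _ N.subtype_injective).mp e)
    obtain ⟨S, ⟨hSle, hS, hSn⟩, hSmin⟩ :=
      (Set.toFinite {T : Subgroup G | T ≤ K.map N.subtype ∧ T ≠ ⊥ ∧ N ≤ normalizer (T : Set G)}).exists_minimal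
        ⟨K.map N.subtype, le_rfl, hne0, hn0⟩
    have hS' := hsimple S (hSle.trans (map_subtype_le _)) hS hSn fun T hT hTn => by
      by_cases hTb : T = ⊥
      · exact Or.inl hTb
      · exact Or.inr (le_antisymm hT (hSmin ⟨hT.trans hSle, hTb, hTn⟩ hT))
    refine eq_top_iff.mpr fun x _ => ?_
    obtain ⟨y, hy, e⟩ := hSle (hS'.ge x.2)
    exact N.subtype_injective e ▸ hy⟩
  -- `F*(G) = N`
  have hFit : fittingSubgroup G = ⊥ := by
    refine le_bot_iff.mp (sSup_le ?_)
    rintro M ⟨hM, hMnil⟩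
    haveI := hM
    rcases hmin (M ⊓ N) inferInstance inf_le_right with h | h
    · rw [← hC]
      refine fun m hm => mem_centralizer_iff.mpr fun n hn => ?_
      exact commutatorElement_eq_one_iff_mul_comm.mp (mem_bot.mp (h.le
        ⟨by rw [commutatorElement_def]; exact M.mul_mem (hM.conj_mem m hm n) (M.inv_mem hm),
          by
            rw [commutatorElement_def, show n * m * n⁻¹ * m⁻¹ = n * (m * n⁻¹ * m⁻¹) by group]
            exact N.mul_mem hn (hNn.conj_mem _ (N.inv_mem hn) m)⟩))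
    · exfalso
      haveI := hMnil
      haveI : Group.IsNilpotent ↥N := by
        haveI : Group.IsNilpotent ↥(N.subgroupOf M) := Subgroup.isNilpotent _
        exact Group.nilpotent_of_mulEquiv (subgroupOfEquivOfLe (inf_eq_right.mp h))
      haveI := hNsimple
      haveI : Group.IsSolvable ↥N := inferInstance
      refine hnab fun a ha b hb => ?_
      have h3 : (⟨a, ha⟩ : ↥N) * ⟨b, hb⟩ = ⟨b, hb⟩ * ⟨a, ha⟩ :=
        (IsSimpleGroup.comm_iff_isSolvable (G := ↥N)).mpr inferInstance ⟨a, ha⟩ ⟨b, hb⟩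
      exact congrArg Subtype.val h3
  have hlayer : layer G ≤ N := sSup_le fun K hK => by
    rw [← Core.IsComponent.commutator_eq hK, commutator_le]
    intro a _ b _
    have hq : ∀ g : G, (QuotientGroup.mk' N g) * (QuotientGroup.mk' N g) = 1 := fun g =>
      (QuotientGroup.eq_one_iff (g * g)).mpr (hsq g)
    refine (QuotientGroup.eq_one_iff _).mp ?_
    show QuotientGroup.mk' N ⁅a, b⁆ = 1
    rw [map_commutatorElement]
    refine commutatorElement_eq_one_iff_mul_comm.mpr ?_
    have hab := hq (a * b)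
    rw [map_mul] at hab
    calc QuotientGroup.mk' N a * QuotientGroup.mk' N b = (QuotientGroup.mk' N a * QuotientGroup.mk' N b)⁻¹ :=
          (inv_eq_of_mul_eq_one_right hab).symm
      _ = _ := by rw [mul_inv_rev, inv_eq_of_mul_eq_one_right (hq a), inv_eq_of_mul_eq_one_right (hq b)]
  have hF : generalizedFittingSubgroup G = N := by
    have hle : generalizedFittingSubgroup G ≤ N := sup_le hlayer (hFit.le.trans bot_le)
    haveI : (generalizedFittingSubgroup G).Normal := inferInstance
    rcases hmin _ inferInstance hle with h | h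
    · exact absurd h Core.generalizedFitting_ne_bot
    · exact h
  rw [hF]
  refine ⟨hNsimple, fun hc => hnab fun a ha b hb => ?_, htop⟩
  haveI := hc; exact setLike_mul_comm ha hb

end Setup

end Cfsg.Lib.Local.SidkiMinimal
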