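import Cfsg.Agent.Lib.Thompson.Transport
import Cfsg.Agent.Lib.Core.Cores
import Cfsg.Agent.Lib.PGroup.Basic
import Cfsg.Prelude.Def_PLocal

/-!
# The stable normal closure `W(S)`
-/

set_option autoImplicit false
set_option linter.style.haveILetI false

namespace Cfsg.Lib.Local.StableClosure

open Subgroup
open scoped commutatorElement Pointwise

universe u

variable {S : Type u} [Group S] {p : ℕ}

/-- The family whose intersection is `W(S)`. -/
def InFam (p : ℕ) {S : Type u} [Group S] (W : Subgroup S) : Prop :=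
  Cfsg.omegaOne p (center S) ≤ W ∧
    ∀ (H : Type u) [Group H] (τ : S →* H), Cfsg.IsStableEmbedding p τ → (W.map τ).Normal

theorem le_of_inFam {W : Subgroup S} (h : InFam p W) : Cfsg.stableNormalClosure p S ≤ W := sInf_le h

theorem omegaCenter_le_omegaCT [Finite S] :
    Cfsg.omegaOne p (center S) ≤ Cfsg.omegaCenterThompson p S := by
  refine le_trans ?_ Thompson.sInf_maxEA_eq.1.le
  refine le_sInf fun A hA => (closure_le _).2 fun x hx => ?_
  exact Thompson.mem_of_commute hA hx.2 fun a _ => (mem_center_iff.1 hx.1 a).symm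

theorem omegaCT_le_maxEA [Finite S] {A : Subgroup S} (hA : A ∈ Cfsg.maxElementaryAbelianSubgroups p S) :
    Cfsg.omegaCenterThompson p S ≤ A := Thompson.sInf_maxEA_eq.1.ge.trans (sInf_le hA)

theorem omegaCT_map_normal {H : Type u} [Group H] {τ : S →* H} (hτ : Function.Injective τ)
    (hJ : ((Cfsg.thompsonSubgroup p S).map τ).Normal) :
    ((Cfsg.omegaCenterThompson p S).map τ).Normal := by
  unfold Cfsg.omegaCenterThompson Cfsg.omegaOne
  rw [MonoidHom.map_closure]
  refine ⟨fun n hn h => ?_⟩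
  induction hn using closure_induction with
  | mem y hy =>
    obtain ⟨x, ⟨⟨hxJ, hxc⟩, hxp⟩, rfl⟩ := hy
    obtain ⟨y, hyJ, hy⟩ := hJ.conj_mem _ (mem_map_of_mem τ hxJ) h
    refine subset_closure ⟨y, ⟨⟨hyJ, mem_centralizer_iff.2 fun z hz => hτ ?_⟩, hτ ?_⟩, hy⟩
    · obtain ⟨z', hz'J, hz'⟩ := hJ.conj_mem _ (mem_map_of_mem τ hz) h⁻¹
      have h1 : τ z' * τ x = τ x * τ z' := by rw [← map_mul, ← map_mul, mem_centralizer_iff.1 hxc z' hz'J]
      rw [hz', inv_inv] at h1
      rw [map_mul, map_mul, hy]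
      calc τ z * (h * τ x * h⁻¹) = h * (h⁻¹ * τ z * h * τ x) * h⁻¹ := by group
        _ = h * (τ x * (h⁻¹ * τ z * h)) * h⁻¹ := by rw [h1]
        _ = h * τ x * h⁻¹ * τ z := by group
    · rw [map_pow, hy, conj_pow, ← map_pow, hxp, map_one, mul_one, mul_inv_cancel]
  | one => simp
  | mul a b _ _ ha hb => rw [← conj_mul]; exact mul_mem ha hb
  | inv a _ ha =>
    rw [← conj_inv]
    exact inv_mem ha

theorem inFam_omegaCT [Finite S] : InFam p (Cfsg.omegaCenterThompson p S) :=
  ⟨omegaCenter_le_omegaCT, fun _ _ _ h => omegaCT_map_normal h.1 h.2.2.2.2.1⟩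

theorem le_omegaCT [Finite S] : Cfsg.stableNormalClosure p S ≤ Cfsg.omegaCenterThompson p S :=
  le_of_inFam inFam_omegaCT

theorem inFam_self [Finite S] : InFam p (Cfsg.stableNormalClosure p S) := by
  refine ⟨le_sInf fun W hW => hW.1, fun H _ τ hτ => ⟨?_⟩⟩
  rintro _ ⟨x, hx, rfl⟩ h
  obtain ⟨y, -, hy⟩ := (inFam_omegaCT (p := p) (S := S)).2 H τ hτ |>.conj_mem _
    (mem_map_of_mem τ (le_omegaCT hx)) h
  refine ⟨y, mem_sInf.2 fun W hW => ?_, hy⟩
  obtain ⟨y', hy'W, hy'⟩ := (hW.2 H τ hτ).conj_mem _ (mem_map_of_mem τ (mem_sInf.1 hx W hW)) h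
  rwa [← hτ.1 (hy'.trans hy.symm)]

/-- `W(S)` is abelian of exponent `p`. -/
theorem isEA [Finite S] : Cfsg.IsElementaryAbelian p (Cfsg.stableNormalClosure p S) := by
  obtain ⟨A, hA⟩ := Thompson.exists_mem_maxEA p S
  exact PGroup.isElementaryAbelian_of_le hA.1 (le_omegaCT.trans (omegaCT_le_maxEA hA))

theorem omegaCT_map_le {S' : Type u} [Group S'] [Finite S] [Finite S'] (η : S ≃* S') :
    (Cfsg.omegaCenterThompson p S).map η.toMonoidHom ≤ Cfsg.omegaCenterThompson p S' := by
  rw [← Thompson.sInf_maxEA_eq.1, ← Thompson.sInf_maxEA_eq.1]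
  refine le_sInf fun A hA => map_le_iff_le_comap.2 (le_of_le_of_eq (sInf_le (Thompson.map_mem_maxEA η.symm hA)) ?_)
  ext x
  exact ⟨fun ⟨a, ha, he⟩ => show η x ∈ A by
      rw [← he]; simpa using ha, fun hx => ⟨η x, hx, η.symm_apply_apply x⟩⟩

theorem isStableEmbedding_comp {S' : Type u} [Group S'] [Finite S] [Finite S'] (η : S ≃* S') {H : Type u}
    [Group H] {τ : S' →* H} (h : Cfsg.IsStableEmbedding p τ) :
    Cfsg.IsStableEmbedding p (τ.comp η.toMonoidHom) := by
  obtain ⟨hi, hfin, ⟨P, hP⟩, hc, hJ, hst⟩ := h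
  have hrange : (τ.comp η.toMonoidHom).range = τ.range := by
    ext y
    exact ⟨fun ⟨x, hx⟩ => ⟨η x, hx⟩, fun ⟨x, hx⟩ => ⟨η.symm x, by simp [← hx]⟩⟩
  refine ⟨hi.comp η.injective, hfin, ⟨P, hP.trans hrange.symm⟩, hc, ?_, fun V _ hV => hst V ?_⟩
  · rw [← Subgroup.map_map, Thompson.map_thompson_eq]
    exact hJ
  · rw [← Subgroup.map_map] at hV
    exact hV.trans (map_mono (omegaCT_map_le η))

theorem map_le {S' : Type u} [Group S'] [Finite S] [Finite S'] (η : S ≃* S') :
    (Cfsg.stableNormalClosure p S).map η.toMonoidHom ≤ Cfsg.stableNormalClosure p S' := by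
  rw [map_le_iff_le_comap]
  refine le_of_inFam ⟨?_, fun H _ τ' hτ' => ?_⟩
  · refine (closure_le _).2 fun x hx => (inFam_self (p := p) (S := S')).1 (subset_closure ⟨?_, ?_⟩)
    · refine mem_center_iff.2 fun y => ?_
      obtain ⟨z, rfl⟩ := η.surjective y
      show η z * η x = η x * η z
      rw [← map_mul, ← map_mul, mem_center_iff.1 hx.1 z]
    · show η x ^ p = 1
      rw [← map_pow, hx.2, map_one]
  · have h := (inFam_self (p := p) (S := S')).2 H (τ'.comp η.symm.toMonoidHom)
      (isStableEmbedding_comp η.symm hτ')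
    convert h using 1
    ext y
    constructor
    · rintro ⟨x, hx, rfl⟩
      exact ⟨η x, hx, by simp⟩
    · rintro ⟨x, hx, rfl⟩
      exact ⟨η.symm x, by simpa using hx, rfl⟩

theorem map_eq {S' : Type u} [Group S'] [Finite S] [Finite S'] (η : S ≃* S') :
    (Cfsg.stableNormalClosure p S).map η.toMonoidHom = Cfsg.stableNormalClosure p S' := by
  refine le_antisymm (map_le η) fun x hx => ⟨η.symm x, map_le η.symm ⟨x, hx, rfl⟩, η.apply_symm_apply x⟩

instance characteristic [Finite S] : (Cfsg.stableNormalClosure p S).Characteristic :=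
  characteristic_iff_map_eq.2 fun η => map_eq η

theorem ne_bot [Finite S] [Fact p.Prime] (hS : IsPGroup p S) [Nontrivial S] :
    Cfsg.stableNormalClosure p S ≠ ⊥ := by
  intro h
  obtain ⟨z, -, hz, ho⟩ := PGroup.exists_mem_center_orderOf_eq hS (N := (⊤ : Subgroup S)) top_ne_bot
  have := (inFam_self (p := p) (S := S)).1 (subset_closure
    ⟨hz, by rw [← ho]; exact pow_orderOf_eq_one z⟩)
  rw [h, mem_bot] at this
  rw [this, orderOf_one] at ho
  exact (Fact.out : p.Prime).one_lt.ne ho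

/-- Elements congruent modulo the centralizer induce the same commutators. -/
theorem commutator_le_of_congr {H : Type u} [Group H] {M C : Subgroup H} [C.Normal] {a b : H}
    (hC : C ≤ centralizer (M : Set H)) (hb : b ∈ zpowers a ⊔ C) : ⁅M, zpowers b⁆ ≤ ⁅M, zpowers a⁆ := by
  refine commutator_le.2 fun m hm y hy => ?_
  have h : y ∈ ((zpowers a : Set H) * (C : Set H)) := by
    rw [← mul_normal]
    exact zpowers_le.2 hb hy
  obtain ⟨x, hx, c, hc, rfl⟩ := Set.mem_mul.1 h
  rw [show ⁅m, x * c⁆ = ⁅m, x⁆ * (x * ⁅m, c⁆ * x⁻¹) by simp only [commutatorElement_def]; group,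
    show ⁅m, c⁆ = 1 from commutatorElement_eq_one_iff_mul_comm.2 (mem_centralizer_iff.1 (hC hc) m hm),
    mul_one, mul_inv_cancel, mul_one]
  exact commutator_mem_commutator hm hx

/-- Quadratic elements are central. -/
def QuadCentral {S : Type u} [Group S] (U : Subgroup S) : Prop :=
  ∀ x : S, ⁅⁅U, zpowers x⁆, zpowers x⁆ = ⊥ → ⁅U, zpowers x⁆ = ⊥

theorem quad_central [Finite S] [Fact p.Prime] : QuadCentral (Cfsg.stableNormalClosure p S) := by
  set W := Cfsg.stableNormalClosure p S with hW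
  set U₀ := Cfsg.omegaOne p (center S)
  have hU₀ : QuadCentral U₀ := fun x _ => commutator_eq_bot_iff_le_centralizer.2 fun u hu =>
    mem_centralizer_iff.2 fun y _ => (mem_center_iff.1
      ((closure_le _).2 (fun z hz => hz.1) hu : u ∈ center S) y)
  obtain ⟨U, hU, hmax⟩ := ({U : Subgroup S | U₀ ≤ U ∧ U ≤ W ∧ QuadCentral U} : Set _).toFinite.exists_maximal
    ⟨U₀, le_rfl, inFam_self.1, hU₀⟩
  suffices hfam : InFam p U by
    have he : W = U := le_antisymm (le_of_inFam hfam) hU.2.1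
    rw [he]
    exact hU.2.2
  refine ⟨hU.1, fun H _ τ hτ => ?_⟩
  haveI := hτ.2.1
  set U' := normalClosure ((U.map τ : Subgroup H) : Set H) with hU'
  have hWn := (inFam_self (p := p) (S := S)).2 H τ hτ
  have hU'W : U' ≤ W.map τ := normalClosure_le_normal (map_mono hU.2.1)
  set U'' := U'.comap τ with hU''
  have hmap : U''.map τ = U' := map_comap_eq_self (hU'W.trans (map_le_range _ _))
  have hle : U ≤ U'' := map_le_iff_le_comap.1 le_normalClosure
  have hle' : U'' ≤ W := fun y hy => by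
    obtain ⟨z, hz, hzy⟩ := hU'W hy
    rwa [← hτ.1 hzy]
  suffices hq : QuadCentral U'' by
    have he : U'' = U := le_antisymm (hmax ⟨hU.1.trans hle, hle', hq⟩ hle) hle
    rw [← he, hmap]
    exact normalClosure_normal
  intro x hx
  set C := centralizer (U' : Set H) with hC
  have hst := hτ.2.2.2.2.2 U' (hU'W.trans (map_mono le_omegaCT))
  have hxq : ⁅⁅U', zpowers (τ x)⁆, zpowers (τ x)⁆ = ⊥ := by
    rw [← hmap, ← MonoidHom.map_zpowers, ← map_commutator, ← map_commutator, hx, Subgroup.map_bot]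
  have hxD := hst (τ x) hxq
  obtain ⟨P, hP⟩ := hτ.2.2.1
  have key : ∀ h : H, ∀ u ∈ U, τ x * (h * τ u * h⁻¹) = h * τ u * h⁻¹ * τ x := by
    intro h u hu
    set f := QuotientGroup.mk' C
    set x' := h⁻¹ * τ x * h with hx'
    have h1 : f x' ∈ Cfsg.pCore p (H ⧸ C) := by
      have := (inferInstance : (Cfsg.pCore p (H ⧸ C)).Normal).conj_mem _ hxD (f h⁻¹)
      have e : f x' = f h⁻¹ * f (τ x) * (f h⁻¹)⁻¹ := by
        rw [hx', map_mul, map_mul, map_inv, inv_inv]
      rw [e]
      exact this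
    obtain ⟨t, ht, htx⟩ := Core.pCore_le_sylow (P.mapSurjective (QuotientGroup.mk'_surjective C)) h1
    have ht' : t ∈ τ.range := hP ▸ ht
    obtain ⟨s, rfl⟩ := ht'
    have hc : (τ s)⁻¹ * x' ∈ C := QuotientGroup.eq.1 htx
    have hmem : τ s ∈ zpowers x' ⊔ C := by
      rw [show τ s = x' * ((τ s)⁻¹ * x')⁻¹ by group]
      exact mul_mem_sup (mem_zpowers x') (inv_mem hc)
    have hx'q : ⁅⁅U', zpowers x'⁆, zpowers x'⁆ = ⊥ := by
      have e1 : zpowers x' = (zpowers (τ x)).map (MulAut.conj h⁻¹).toMonoidHom := by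
        rw [MonoidHom.map_zpowers]; simp [hx']
      have e2 : U' = U'.map (MulAut.conj h⁻¹).toMonoidHom :=
        (Core.normal_iff_map_conj.1 (normalClosure_normal) h⁻¹).symm
      conv_lhs => rw [e1, e2]
      rw [← map_commutator, ← map_commutator, hxq, Subgroup.map_bot]
    have hsq : ⁅⁅U', zpowers (τ s)⁆, zpowers (τ s)⁆ = ⊥ := by
      rw [eq_bot_iff, ← hx'q]
      have hU'n : U'.Normal := normalClosure_normal
      refine le_trans (commutator_mono (commutator_le_of_congr le_rfl hmem) le_rfl) ?_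
      exact commutator_le_of_congr (centralizer_le (commutator_le_left U' _)) hmem
    have hsU : ⁅⁅U, zpowers s⁆, zpowers s⁆ = ⊥ := by
      apply Subgroup.map_injective hτ.1
      rw [map_commutator, map_commutator, MonoidHom.map_zpowers, Subgroup.map_bot, eq_bot_iff, ← hsq]
      exact commutator_mono (commutator_mono le_normalClosure le_rfl) le_rfl
    have hs1 : s * u = u * s :=
      (mem_centralizer_iff.1 (commutator_eq_bot_iff_le_centralizer.1 (hU.2.2 s hsU) hu) s (mem_zpowers s))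
    have hs2 : τ s * τ u = τ u * τ s := by rw [← map_mul, ← map_mul, hs1]
    have hc2 : (τ s)⁻¹ * x' * τ u = τ u * ((τ s)⁻¹ * x') :=
      (mem_centralizer_iff.1 hc (τ u) (le_normalClosure (mem_map_of_mem τ hu))).symm
    have h2 : x' * τ u = τ u * x' := by
      calc x' * τ u = τ s * ((τ s)⁻¹ * x' * τ u) := by group
        _ = τ s * τ u * ((τ s)⁻¹ * x') := by rw [hc2]; group
        _ = τ u * x' := by rw [hs2]; group
    calc τ x * (h * τ u * h⁻¹) = h * (x' * τ u) * h⁻¹ := by rw [hx']; group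
      _ = h * τ u * h⁻¹ * τ x := by rw [h2, hx']; group
  have hxC : U' ≤ centralizer ({τ x} : Set H) := by
    refine (closure_le _).2 fun y hy => ?_
    obtain ⟨a, ⟨u, hu, rfl⟩, hc⟩ := Group.mem_conjugatesOfSet_iff.1 hy
    obtain ⟨h, rfl⟩ := isConj_iff.1 hc
    exact mem_centralizer_singleton_iff.2 (key h u hu).symm
  apply Subgroup.map_injective hτ.1
  rw [map_commutator, hmap, MonoidHom.map_zpowers, Subgroup.map_bot, commutator_eq_bot_iff_le_centralizer]
  intro y hy
  refine mem_centralizer_iff.2 ?_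
  rintro _ ⟨n, rfl⟩
  exact (Commute.zpow_left (mem_centralizer_singleton_iff.1 (hxC hy)).symm n).eq

end Cfsg.Lib.Local.StableClosure
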