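import Cfsg.Agent.Lib.Local.StableClosure
import Cfsg.Agent.Lib.Local.TimmesfeldReplacement
import Cfsg.Agent.Lib.Local.Sylow
import Cfsg.Agent.Lib.Sig.KInfTheorem
import Cfsg.Agent.Lib.Coprime.Action

/-!
# `W(S)` is normal in action-`p`-stable groups with `C(O_p) ≤ O_p`
-/

set_option autoImplicit false
set_option linter.style.haveILetI false

namespace Cfsg.Lib.Local.StableClosure

open Subgroup
open scoped commutatorElement Pointwise

universe u

variable {G : Type u} [Group G] [Finite G] {p : ℕ} [hp : Fact p.Prime]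

/-- `W(S)` in the ambient group. -/
abbrev wOf (p : ℕ) (S : Subgroup G) : Subgroup G := (Cfsg.stableNormalClosure p ↥S).map S.subtype

theorem normalizer_le_normalizer_wOf (S : Subgroup G) :
    normalizer (S : Set G) ≤ normalizer ((wOf p S : Subgroup G) : Set G) :=
  Core.normalizer_le_normalizer_map_char _

theorem wOf_quad (S : Subgroup G) {x : G} (hx : x ∈ S)
    (h : ⁅⁅wOf p S, zpowers x⁆, zpowers x⁆ = ⊥) : ⁅wOf p S, zpowers x⁆ = ⊥ := by
  have hz : zpowers x = (zpowers (⟨x, hx⟩ : S)).map S.subtype := by rw [MonoidHom.map_zpowers]; rfl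
  rw [wOf, hz, ← map_commutator] at h ⊢
  rw [← map_commutator, Subgroup.map_eq_bot_iff_of_injective _ S.subtype_injective] at h
  rw [Subgroup.map_eq_bot_iff_of_injective _ S.subtype_injective]
  exact quad_central _ h

theorem wOf_normal (hst : Cfsg.IsActionPStable p G)
    (hc : centralizer (Cfsg.pCore p G : Set G) ≤ Cfsg.pCore p G) (S : Sylow p G) :
    (wOf p (S : Subgroup G)).Normal := by
  classical
  set W := wOf p (S : Subgroup G) with hW
  set Q := Cfsg.pCore p G with hQ
  have hQp : IsPGroup p Q := Core.pCore_isPGroup p G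
  have hQS : Q ≤ (S : Subgroup G) := Core.pCore_le_sylow S
  have hWS : W ≤ (S : Subgroup G) := map_subtype_le _
  have hSW : (S : Subgroup G) ≤ normalizer (W : Set G) := le_normalizer.trans (normalizer_le_normalizer_wOf _)
  have hWea : Cfsg.IsElementaryAbelian p W := PGroup.isElementaryAbelian_map isEA _
  -- the normalizer of `J(S)`
  set N := normalizer ((Cfsg.thompsonSubgroupOf p (S : Subgroup G) : Subgroup G) : Set G) with hN
  have hSN : (S : Subgroup G) ≤ N :=
    le_normalizer.trans (Thompson.normalizer_le_normalizer_thompsonSubgroupOf _)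
  have hNW : N ≤ normalizer (W : Set G) := by
    set τ : ↥(S : Subgroup G) →* ↥N := Subgroup.inclusion hSN
    have hmap : ∀ X : Subgroup ↥(S : Subgroup G), (X.map τ).map N.subtype = X.map (S : Subgroup G).subtype :=
      fun X => by rw [Subgroup.map_map]; rfl
    have hemb : Cfsg.IsStableEmbedding p τ := by
      refine ⟨inclusion_injective hSN, inferInstance, ⟨S.subtype hSN, ?_⟩, ?_, ?_, fun V _ hV => ?_⟩
      · rw [Sylow.coe_subtype]
        exact (inclusion_range hSN).symm
      · intro x hx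
        have hQN : Q.subgroupOf N ≤ Cfsg.pCore p ↥N := Core.le_pCore'
          inferInstance (hQp.of_equiv (subgroupOfEquivOfLe (hQS.trans hSN)).symm)
        have h1 : (x : G) ∈ centralizer (Q : Set G) := mem_centralizer_iff.2 fun q hq =>
          congrArg Subtype.val (mem_centralizer_iff.1 hx ⟨q, hSN (hQS hq)⟩ (hQN hq))
        exact hQN (hc h1)
      · refine ⟨fun n hn g => ?_⟩
        obtain ⟨j, hj, hje⟩ : ((g * n * g⁻¹ : ↥N) : G) ∈ Cfsg.thompsonSubgroupOf p (S : Subgroup G) :=
          (mem_normalizer_iff.1 g.2 (n : G)).1 ((hmap (Cfsg.thompsonSubgroup p _)).le ⟨n, hn, rfl⟩)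
        exact ⟨j, hj, Subtype.ext hje⟩
      · refine hst.2.2 S V ?_
        exact (map_mono hV).trans (hmap _).le
    have hn := (inFam_self (p := p) (S := ↥(S : Subgroup G))).2 _ τ hemb
    refine le_normalizer_iff.mpr fun g hg w hw => ?_
    obtain ⟨x, hx, rfl⟩ := hw
    obtain ⟨y, hy, hye⟩ := hn.conj_mem _ (mem_map_of_mem τ hx) ⟨g, hg⟩
    exact ⟨y, hy, congrArg Subtype.val hye⟩
  -- `W ≤ O_p(G)`
  have hWQ : W ≤ Q := by
    intro x hx
    haveI : ((frattini ↥Q).map Q.subtype).Normal :=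
      Core.normal_map_char_of_normal (N := Q) (frattini ↥Q)
    have hq : ⁅⁅Q, zpowers x⁆, zpowers x⁆ = ⊥ := by
      have h1 : ⁅Q, W⁆ ≤ W := by
        rw [commutator_comm]
        exact Coprime.commutator_le_of_le_normalizer (hQS.trans hSW)
      rw [eq_bot_iff]
      refine le_trans (commutator_mono ((commutator_mono le_rfl (zpowers_le.2 hx)).trans h1) (zpowers_le.2 hx)) ?_
      exact (commutator_eq_bot_iff_le_centralizer.2 fun a ha => mem_centralizer_iff.2 fun b hb =>
        (Thompson.isEA_commute hWea hb ha).eq).le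
    obtain ⟨D, hDn, hKD, ⟨k, hk⟩, hxD⟩ := hst.2.1 x (hq.le.trans bot_le)
    have hKp : IsPGroup p (Cfsg.sectionKernel Q ((frattini ↥Q).map Q.subtype)) := by
      refine Sig.isPGroup_of_forall_coprime _ fun y hy hcop => ?_
      have hyQ : ⁅Q, zpowers y⁆ ≤ (frattini ↥Q).map Q.subtype := by
        refine commutator_le.2 fun q hq z hz => ?_
        have hz' : z ∈ Cfsg.sectionKernel Q ((frattini ↥Q).map Q.subtype) := zpowers_le.2 hy hz
        rw [← QuotientGroup.eq_one_iff, ← QuotientGroup.mk'_apply, map_commutatorElement,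
          commutatorElement_eq_one_iff_mul_comm]
        exact mem_centralizer_iff.1 hz' _ (mem_map_of_mem _ hq)
      have hzc : (Nat.card (zpowers y)).Coprime (Nat.card Q) := by
        obtain ⟨n, hn⟩ := IsPGroup.iff_card.1 hQp
        rw [Nat.card_zpowers, hn]
        exact hcop.pow_right n
      have h2 := Coprime.le_centralizer_of_commutator_le_frattini
        (le_top.trans (normalizer_eq_top Q).ge) hzc
        (Or.inr (by haveI := hQp.isNilpotent; infer_instance)) hyQ
      obtain ⟨n, hn⟩ := hQp ⟨y, hc (h2 (mem_zpowers y))⟩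
      exact orderOf_eq_one_iff.1 (Nat.eq_one_of_dvd_coprimes (hcop.symm.pow_left n)
        (orderOf_dvd_of_pow_eq_one (congrArg Subtype.val hn :)) dvd_rfl)
    have hDp : IsPGroup p D := by
      obtain ⟨m, hm⟩ := IsPGroup.iff_card.1 hKp
      refine IsPGroup.of_card (n := m + k) ?_
      rw [← Core.card_mul_relIndex hKD, hm, hk, pow_add]
    exact Core.le_pCore' hDn hDp hxD
  set V := normalClosure (W : Set G) with hV
  have hWV : W ≤ V := le_normalClosure
  have hVQ : V ≤ Q := normalClosure_le_normal hWQ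
  have hQW : Q ≤ normalizer (W : Set G) := hQS.trans hSW
  -- conjugates of `W` commute
  have hcomm : ∀ g : G, ∀ x ∈ W, ∀ w ∈ W, (g * x * g⁻¹) * w = w * (g * x * g⁻¹) := by
    intro g x hx w hw
    set Wg := W.map (MulAut.conj g).toMonoidHom with hWg
    have hgx : g * x * g⁻¹ ∈ Wg := ⟨x, hx, rfl⟩
    have hWgQ : Wg ≤ Q := by
      rintro _ ⟨y, hy, rfl⟩
      exact (inferInstance : Q.Normal).conj_mem y (hWQ hy) g
    have hQWg : Q ≤ normalizer (Wg : Set G) := by
      intro q hq
      refine mem_normalizer_fintype fun y hy => ?_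
      obtain ⟨z, hz, rfl⟩ := hy
      refine ⟨g⁻¹ * q * g * z * (g⁻¹ * q * g)⁻¹, (mem_normalizer_iff.1 (hQW (by
        simpa using (inferInstance : Q.Normal).conj_mem q hq g⁻¹)) z).1 hz, ?_⟩
      simp [mul_assoc]
    have h1 : ⁅W, zpowers (g * x * g⁻¹)⁆ ≤ Wg := by
      refine (commutator_mono hWQ (zpowers_le.2 hgx)).trans ?_
      rw [commutator_comm]
      exact Coprime.commutator_le_of_le_normalizer hQWg
    have h2 : ⁅⁅W, zpowers (g * x * g⁻¹)⁆, zpowers (g * x * g⁻¹)⁆ = ⊥ := by
      rw [eq_bot_iff]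
      refine (commutator_mono h1 (zpowers_le.2 hgx)).trans
        (commutator_eq_bot_iff_le_centralizer.2 fun a ha => mem_centralizer_iff.2 fun b hb => ?_).le
      obtain ⟨a', ha', rfl⟩ := ha
      obtain ⟨b', hb', rfl⟩ := hb
      rw [← map_mul, ← map_mul, (Thompson.isEA_commute hWea hb' ha').eq]
    exact mem_centralizer_iff.1 (commutator_eq_bot_iff_le_centralizer.1
      (wOf_quad _ (hQS (hWgQ hgx)) h2) hw) _ (mem_zpowers _)
  have hVea : Cfsg.IsElementaryAbelian p V := by
    refine Thompson.isEA_closure ?_ ?_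
    · intro a ha b hb
      obtain ⟨a', ha', hca⟩ := Group.mem_conjugatesOfSet_iff.1 ha
      obtain ⟨b', hb', hcb⟩ := Group.mem_conjugatesOfSet_iff.1 hb
      obtain ⟨g, rfl⟩ := isConj_iff.1 hca
      obtain ⟨h, rfl⟩ := isConj_iff.1 hcb
      have e := hcomm (h⁻¹ * g) a' ha' b' hb'
      show g * a' * g⁻¹ * (h * b' * h⁻¹) = h * b' * h⁻¹ * (g * a' * g⁻¹)
      calc g * a' * g⁻¹ * (h * b' * h⁻¹) = h * (h⁻¹ * g * a' * (h⁻¹ * g)⁻¹ * b') * h⁻¹ := by group
        _ = h * (b' * (h⁻¹ * g * a' * (h⁻¹ * g)⁻¹)) * h⁻¹ := by rw [e]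
        _ = _ := by group
    · intro a ha
      obtain ⟨a', ha', hca⟩ := Group.mem_conjugatesOfSet_iff.1 ha
      obtain ⟨g, rfl⟩ := isConj_iff.1 hca
      rw [conj_pow, hWea.2 a' ha', mul_one, mul_inv_cancel]
  haveI hVn : V.Normal := normalClosure_normal
  set C := centralizer (V : Set G) with hC
  haveI : C.Normal := inferInstance
  set f := QuotientGroup.mk' C with hf
  set D := (Cfsg.pCore p (G ⧸ C)).comap f with hD
  haveI : D.Normal := (inferInstance : (Cfsg.pCore p (G ⧸ C)).Normal).comap f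
  -- quadratic elements of `S` centralize `V`
  have hquad : ∀ a ∈ (S : Subgroup G), ⁅⁅V, zpowers a⁆, zpowers a⁆ = ⊥ → a ∈ C := by
    intro a haS ha
    have haD : a ∈ D := hst.1 V hVea a ha
    obtain ⟨T, hT⟩ := Local.exists_sylow_inf S D
    have hTm : (T : Subgroup ↥D).map D.subtype = (S : Subgroup G) ⊓ D := by rw [hT, subgroupOf_map_subtype]
    have hfr := Sylow.normalizer_sup_eq_top T
    rw [hTm] at hfr
    have hDle : D ≤ normalizer (((S : Subgroup G) ⊓ D : Subgroup G) : Set G) ⊔ C := by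
      intro d hd
      obtain ⟨s, hs, hsd⟩ := Core.pCore_le_sylow (S.mapSurjective (QuotientGroup.mk'_surjective C)) hd
      have hsd' : s⁻¹ * d ∈ C := QuotientGroup.eq.1 hsd
      have hsD : s ∈ D := by show f s ∈ Cfsg.pCore p (G ⧸ C); rw [hsd]; exact hd
      rw [show d = s * (s⁻¹ * d) by group]
      exact mul_mem_sup (le_normalizer (show s ∈ (S : Subgroup G) ⊓ D from ⟨hs, hsD⟩)) hsd'
    have htop : ∀ g : G, g ∈ normalizer (((S : Subgroup G) ⊓ D : Subgroup G) : Set G) ⊔ C := fun g =>
      (sup_le le_sup_left hDle) (hfr.ge (mem_top g))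
    have key : ∀ n ∈ normalizer (((S : Subgroup G) ⊓ D : Subgroup G) : Set G), ∀ w ∈ W,
        a * (n * w * n⁻¹) = n * w * n⁻¹ * a := by
      intro n hn w hw
      have h1 : n⁻¹ * a * n ∈ (S : Subgroup G) ⊓ D := by
        simpa using (mem_normalizer_iff.1 (inv_mem hn) a).1 ⟨haS, haD⟩
      have e1 : zpowers (n⁻¹ * a * n) = (zpowers a).map (MulAut.conj n⁻¹).toMonoidHom := by
        rw [MonoidHom.map_zpowers]; simp
      have e2 : V = V.map (MulAut.conj n⁻¹).toMonoidHom := (Core.normal_iff_map_conj.1 hVn n⁻¹).symm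
      have h2 : ⁅⁅V, zpowers (n⁻¹ * a * n)⁆, zpowers (n⁻¹ * a * n)⁆ = ⊥ := by
        conv_lhs => rw [e1, e2]
        rw [← map_commutator, ← map_commutator, ha, Subgroup.map_bot]
      have h3 := wOf_quad _ h1.1 (le_bot_iff.1 ((commutator_mono (commutator_mono hWV le_rfl) le_rfl).trans h2.le))
      have h4 : n⁻¹ * a * n * w = w * (n⁻¹ * a * n) :=
        mem_centralizer_iff.1 (commutator_eq_bot_iff_le_centralizer.1 h3 hw) _ (mem_zpowers _)
      calc a * (n * w * n⁻¹) = n * (n⁻¹ * a * n * w) * n⁻¹ := by group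
        _ = n * w * n⁻¹ * a := by rw [h4]; group
    rw [hC]
    have hle : V ≤ centralizer ({a} : Set G) := by
      refine (closure_le _).2 fun y hy => ?_
      obtain ⟨w, hw, hc'⟩ := Group.mem_conjugatesOfSet_iff.1 hy
      obtain ⟨g, rfl⟩ := isConj_iff.1 hc'
      have hg := htop g
      rw [← SetLike.mem_coe, mul_normal] at hg
      obtain ⟨n, hn, c, hc'', rfl⟩ := hg
      refine mem_centralizer_singleton_iff.2 ?_
      have hcw : c * w * c⁻¹ = w := by
        rw [← mem_centralizer_iff.1 hc'' w (hWV hw), mul_inv_cancel_right]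
      rw [show n * c * w * (n * c)⁻¹ = n * (c * w * c⁻¹) * n⁻¹ by group, hcw, key n hn w hw]
    exact mem_centralizer_iff.2 fun v hv => mem_centralizer_singleton_iff.1 (hle hv)
  -- the largest elementary abelian subgroups of `S` centralize `V`
  have hVS : V ≤ (S : Subgroup G) := hVQ.trans hQS
  have hmain : ∀ A ∈ Cfsg.maxElementaryAbelianSubgroups p G, A ≤ (S : Subgroup G) → A ≤ C := by
    intro A hA hAS
    haveI := hVea.1
    have hAV : A ≤ normalizer (V : Set G) := le_top.trans (normalizer_eq_top V).ge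
    have hab : ⁅A, A⁆ ≤ centralizer (V : Set G) := by
      refine commutator_le.2 fun a ha b hb => ?_
      rw [commutatorElement_eq_one_iff_mul_comm.2 (Thompson.isEA_commute hA.1 ha hb).eq]
      exact one_mem _
    have hmax : ∀ B ≤ A, Nat.card B * Nat.card (V ⊓ centralizer (B : Set G) : Subgroup G) ≤
        Nat.card A * Nat.card (V ⊓ centralizer (A : Set G) : Subgroup G) := by
      intro B hB
      set F := V ⊓ centralizer (B : Set G) with hF
      have hea : Cfsg.IsElementaryAbelian p (B ⊔ F) := by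
        rw [← closure_eq B, ← closure_eq F, ← Subgroup.closure_union]
        refine Thompson.isEA_closure ?_ ?_
        · rintro a (ha | ha) b (hb | hb)
          · exact Thompson.isEA_commute hA.1 (hB ha) (hB hb)
          · exact mem_centralizer_iff.1 hb.2 a ha
          · exact (mem_centralizer_iff.1 ha.2 b hb).symm
          · exact Thompson.isEA_commute hVea ha.1 hb.1
        · rintro a (ha | ha)
          · exact hA.1.2 a (hB ha)
          · exact hVea.2 a ha.1
      have h1 := Timmesfeld.card_mul_card_le B F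
      have h2 : B ⊓ F ≤ V ⊓ centralizer (A : Set G) := fun x hx => ⟨hx.2.1,
        mem_centralizer_iff.2 fun a ha => (Thompson.isEA_commute hA.1 ha (hB hx.1)).eq⟩
      calc _ ≤ _ := h1
        _ ≤ Nat.card (V ⊓ centralizer (A : Set G) : Subgroup G) * Nat.card A :=
            Nat.mul_le_mul (Subgroup.card_le_of_le h2) (hA.2 _ hea)
        _ = _ := mul_comm _ _
    obtain ⟨hrep, -⟩ := Timmesfeld.replacement V A hAV hab hmax le_rfl
    set B := A ⊓ centralizer ((⁅V, A⁆ : Subgroup G) : Set G) with hB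
    have hVA : ⁅V, A⁆ ≤ V := Coprime.commutator_le_of_le_normalizer hAV
    have hBC : B ≤ C := fun b hb => hquad b (hAS hb.1) (by
      rw [eq_bot_iff]
      refine (commutator_mono (commutator_mono le_rfl (zpowers_le.2 hb.1)) le_rfl).trans ?_
      refine (commutator_eq_bot_iff_le_centralizer.2 ?_).le
      rw [le_centralizer_iff, zpowers_le]
      exact hb.2)
    have hVeq : V ≤ ⁅V, A⁆ ⊔ (V ⊓ centralizer (A : Set G)) :=
      hrep ▸ le_inf le_rfl (le_centralizer_iff.1 hBC)
    have hstab : ⁅V, A⁆ ≤ ⁅⁅V, A⁆, A⁆ := by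
      have hn : V ⊓ centralizer (A : Set G) ≤ normalizer ((⁅V, A⁆ : Subgroup G) : Set G) := fun y hy =>
        centralizer_le_normalizer _ (mem_centralizer_iff.2 fun z hz =>
          (Thompson.isEA_commute hVea (hVA hz) hy.1).eq)
      refine commutator_le.2 fun v hv a ha => ?_
      obtain ⟨y, hy, z, hz, rfl⟩ := Coprime.exists_mul_of_mem_sup hn (hVeq hv)
      have hza : z * a = a * z := (mem_centralizer_iff.1 hz.2 a ha).symm
      rw [show ⁅y * z, a⁆ = y * (z * a * z⁻¹) * y⁻¹ * a⁻¹ by simp only [commutatorElement_def]; group,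
        hza, mul_inv_cancel_right]
      exact commutator_mem_commutator hy ha
    have hVA1 : ⁅V, A⁆ = ⊥ := by
      by_contra hne
      exact (PGroup.commutator_lt_of_isPGroup ((Core.pCore_isPGroup p G).to_le (hVA.trans hVQ))
        (PGroup.isPGroup_of_isElementaryAbelian hA.1) (normalizer_commutator_ge_right V A) hne).not_ge hstab
    exact le_centralizer_iff.1 (commutator_eq_bot_iff_le_centralizer.1 hVA1)
  obtain ⟨A, hA, hAS⟩ := Thompson.exists_maxEA_le_sylow S
  have e1 := Thompson.thompsonSubgroupOf_eq (p := p) ((S : Subgroup G) ⊓ C) ⟨A, hA, le_inf hAS (hmain A hA hAS)⟩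
  have e2 := Thompson.thompsonSubgroupOf_eq (p := p) (S : Subgroup G) ⟨A, hA, hAS⟩
  have hset : {B | B ∈ Cfsg.maxElementaryAbelianSubgroups p G ∧ B ≤ (S : Subgroup G)} =
      {B | B ∈ Cfsg.maxElementaryAbelianSubgroups p G ∧ B ≤ (S : Subgroup G) ⊓ C} :=
    Set.ext fun B => ⟨fun h => ⟨h.1, le_inf h.2 (hmain B h.1 h.2)⟩, fun h => ⟨h.1, h.2.trans inf_le_left⟩⟩
  obtain ⟨T, hT⟩ := Local.exists_sylow_inf S C
  have hfr := Sylow.normalizer_sup_eq_top T
  rw [show (T : Subgroup C).map C.subtype = (S : Subgroup G) ⊓ C by rw [hT, subgroupOf_map_subtype]] at hfr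
  refine ⟨fun w hw g => ?_⟩
  have hg := hfr.ge (mem_top g)
  rw [← SetLike.mem_coe, mul_normal] at hg
  obtain ⟨n, hn, c, hc', rfl⟩ := hg
  have hcw : c * w * c⁻¹ = w := by rw [← mem_centralizer_iff.1 hc' w (hWV hw), mul_inv_cancel_right]
  rw [show n * c * w * (n * c)⁻¹ = n * (c * w * c⁻¹) * n⁻¹ by group, hcw]
  refine (mem_normalizer_iff.1 (hNW ?_) w).1 hw
  have := Thompson.normalizer_le_normalizer_thompsonSubgroupOf (p := p) _ hn
  rwa [e1, ← hset, ← e2] at this

end Cfsg.Lib.Local.StableClosure
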