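import Cfsg.Agent.Lib.Local.QdInvolved
import Cfsg.Agent.Lib.Local.WeaklyClosed
import Cfsg.Agent.Lib.PGroup.Basic
import Cfsg.Agent.Lib.Local.GlaubermanZJ

/-!
# There is no primitive pair of characteristic `p` of `p`-stable groups, `p` odd

`Pr M N`: the pair; `Pr.no_pair`: contradiction.
-/

set_option autoImplicit false

namespace Cfsg.Lib.Local.StablePair

open Subgroup Cfsg Cfsg.Lib.Local
open scoped commutatorElement

universe u

variable {G : Type u} [Group G] [Finite G] {p : ℕ} [hp : Fact p.Prime]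

/-- Quadratic action gives a normal subgroup, a `p`-group modulo the centralizer. -/
theorem stable (h2 : p ≠ 2) {N V : Subgroup G} (hq : ¬ Involves (qd p) N) (hVN : V ≤ N)
    (hNV : N ≤ normalizer (V : Set G)) (hV : IsPGroup p V) {a : G} (ha : a ∈ N)
    (hquad : ∀ x ∈ V, Commute a ⁅x, a⁆) :
    ∃ L : Subgroup G, L ≤ N ∧ N ≤ normalizer (L : Set G) ∧ a ∈ L ∧ pCoreOf p N ≤ L ∧
      ∀ x ∈ L, ∃ k : ℕ, x ^ p ^ k ∈ centralizer (V : Set G) := by
  set Vn := V.subgroupOf N with hVn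
  have : Vn.Normal := normal_subgroupOf_of_le_normalizer hNV
  have hst := QdInvolved.isPStableOn_of_not_involves_qd h2 hq Vn
    (hV.of_equiv (subgroupOfEquivOfLe hVN).symm)
  have hquad' : ⁅⁅Vn, zpowers (⟨a, ha⟩ : N)⁆, zpowers (⟨a, ha⟩ : N)⁆ = ⊥ := by
    rw [commutator_eq_bot_iff_le_centralizer, commutator_le]
    intro x hx z hz w hw
    obtain ⟨m, rfl⟩ := mem_powers_iff_mem_zpowers.2 hz
    obtain ⟨l, rfl⟩ := mem_powers_iff_mem_zpowers.2 hw
    have key : ∀ m : ℕ, Commute a ⁅(x : G), a ^ m⁆ := by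
      intro m
      induction m with
      | zero => simp [commutatorElement_def]
      | succ m ih =>
        have he : ⁅(x : G), a ^ (m + 1)⁆ =
            ⁅(x : G), a ^ m⁆ * (a ^ m * ⁅(x : G), a⁆ * (a ^ m)⁻¹) := by
          simp only [commutatorElement_def, pow_succ]; group
        rw [he, ((hquad x hx).pow_left m).eq, mul_inv_cancel_right]
        exact ih.mul_right (hquad x hx)
    apply Subtype.ext
    simpa [commutatorElement_def] using ((key m).pow_left l).eq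
  set q := QuotientGroup.mk' (centralizer (Vn : Set N)) with hqd
  set L := (pCore p (↥N ⧸ centralizer (Vn : Set N))).comap q with hL
  have hLn : L.Normal := Subgroup.Normal.comap inferInstance q
  refine ⟨L.map N.subtype, map_subtype_le _, ?_, ⟨⟨a, ha⟩, hst _ hquad', rfl⟩, map_mono ?_, ?_⟩
  · intro g hg
    refine mem_normalizer_fintype ?_
    rintro _ ⟨l, hl, rfl⟩
    exact ⟨⟨g, hg⟩ * l * ⟨g, hg⟩⁻¹, hLn.conj_mem l hl _, rfl⟩
  · rw [← map_le_iff_le_comap]
    exact Core.le_pCore' (Subgroup.Normal.map inferInstance q (QuotientGroup.mk'_surjective _))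
      ((Core.pCore_isPGroup p ↥N).map q)
  · rintro _ ⟨l, hl, rfl⟩
    obtain ⟨k, hk⟩ := Core.pCore_isPGroup p _ ⟨q l, hl⟩
    refine ⟨k, fun v hv => ?_⟩
    have hmem : l ^ p ^ k ∈ centralizer (Vn : Set N) := by
      rw [← QuotientGroup.eq_one_iff, ← QuotientGroup.mk'_apply, map_pow]
      exact congrArg Subtype.val hk
    exact congrArg Subtype.val (hmem ⟨v, hVN hv⟩ hv)

/-- The largest subgroup of `M ⊓ N` normalized by `N`. -/
def inCore (M N : Subgroup G) : Subgroup G where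
  carrier := {x | x ∈ N ∧ ∀ t ∈ N, t * x * t⁻¹ ∈ M}
  one_mem' := ⟨one_mem N, fun t _ => by simp⟩
  mul_mem' := fun {x y} hx hy => ⟨mul_mem hx.1 hy.1, fun t ht => by
    rw [show t * (x * y) * t⁻¹ = (t * x * t⁻¹) * (t * y * t⁻¹) by group]
    exact mul_mem (hx.2 t ht) (hy.2 t ht)⟩
  inv_mem' := fun {x} hx => ⟨inv_mem hx.1, fun t ht => by
    rw [show t * x⁻¹ * t⁻¹ = (t * x * t⁻¹)⁻¹ by group]
    exact inv_mem (hx.2 t ht)⟩

/-- The elements of `L` centralizing `K` modulo `Q`. -/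
def cmod (L K Q : Subgroup G) (hQ : ∀ t ∈ L, ∀ x ∈ Q, t * x * t⁻¹ ∈ Q) : Subgroup G where
  carrier := {t | t ∈ L ∧ ∀ k ∈ K, t * k * t⁻¹ * k⁻¹ ∈ Q}
  one_mem' := ⟨one_mem L, fun k _ => by simp⟩
  mul_mem' := fun {s t} hs ht => ⟨mul_mem hs.1 ht.1, fun k hk => by
    rw [show s * t * k * (s * t)⁻¹ * k⁻¹ =
      (s * (t * k * t⁻¹ * k⁻¹) * s⁻¹) * (s * k * s⁻¹ * k⁻¹) by group]
    exact mul_mem (hQ s hs.1 _ (ht.2 k hk)) (hs.2 k hk)⟩
  inv_mem' := fun {t} ht => ⟨inv_mem ht.1, fun k hk => by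
    have := hQ t⁻¹ (inv_mem ht.1) _ (inv_mem (ht.2 k hk))
    rwa [show t⁻¹ * (t * k * t⁻¹ * k⁻¹)⁻¹ * t⁻¹⁻¹ = t⁻¹ * k * t⁻¹⁻¹ * k⁻¹ by group] at this⟩

/-- A primitive pair of characteristic `p` of `qd p`-free groups. -/
structure Pr (p : ℕ) [Fact p.Prime] (M N : Subgroup G) : Prop where
  normM : ∀ A : Subgroup G, A ≠ ⊥ → A ≤ M ⊓ N → M ≤ normalizer (A : Set G) →
    N ⊓ normalizer (A : Set G) ≤ M
  normN : ∀ A : Subgroup G, A ≠ ⊥ → A ≤ M ⊓ N → N ≤ normalizer (A : Set G) →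
    M ⊓ normalizer (A : Set G) ≤ N
  charM : M ⊓ centralizer (pCoreOf p M : Set G) ≤ pCoreOf p M
  charN : N ⊓ centralizer (pCoreOf p N : Set G) ≤ pCoreOf p N
  QMN : pCoreOf p M ≤ N
  QNM : pCoreOf p N ≤ M
  freeM : ¬ Involves (qd p) M
  freeN : ¬ Involves (qd p) N

theorem Pr.symm {M N : Subgroup G} (h : Pr p M N) : Pr p N M :=
  ⟨fun A h1 h2 h3 => h.normN A h1 (inf_comm M N ▸ h2) h3,
    fun A h1 h2 h3 => h.normM A h1 (inf_comm M N ▸ h2) h3,
    h.charN, h.charM, h.QNM, h.QMN, h.freeN, h.freeM⟩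

omit [Finite G] hp in
theorem map_conj_inf_centralizer (c : G) (A B : Subgroup G) :
    A.map (MulAut.conj c).toMonoidHom ⊓ centralizer (B.map (MulAut.conj c).toMonoidHom : Set G) =
      (A ⊓ centralizer (B : Set G)).map (MulAut.conj c).toMonoidHom := by
  ext x
  simp only [Subgroup.mem_inf, Subgroup.mem_map_equiv, mem_centralizer_iff]
  refine and_congr_right fun _ => ⟨fun h v hv => ?_, fun h v hv => ?_⟩
  · have := h ((MulAut.conj c) v) ⟨v, hv, rfl⟩
    simp only [MulAut.conj_apply, MulAut.conj_symm_apply] at this ⊢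
    calc v * (c⁻¹ * x * c) = c⁻¹ * ((c * v * c⁻¹) * x) * c := by group
      _ = c⁻¹ * x * c * v := by rw [this]; group
  · obtain ⟨w, hw, rfl⟩ := hv
    have := h w hw
    simp only [MulEquiv.coe_toMonoidHom, MulAut.conj_apply, MulAut.conj_symm_apply] at this ⊢
    calc c * w * c⁻¹ * x = c * (w * (c⁻¹ * x * c)) * c⁻¹ := by group
      _ = x * (c * w * c⁻¹) := by rw [this]; group

theorem Pr.conj {M N : Subgroup G} (h : Pr p M N) (c : G) :
    Pr p (M.map (MulAut.conj c).toMonoidHom) (N.map (MulAut.conj c).toMonoidHom) := by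
  set f := (MulAut.conj c).toMonoidHom with hf
  have hnorm : ∀ M N : Subgroup G, (∀ A : Subgroup G, A ≠ ⊥ → A ≤ M ⊓ N →
      M ≤ normalizer (A : Set G) → N ⊓ normalizer (A : Set G) ≤ M) →
      ∀ A : Subgroup G, A ≠ ⊥ → A ≤ M.map f ⊓ N.map f → M.map f ≤ normalizer (A : Set G) →
        N.map f ⊓ normalizer (A : Set G) ≤ M.map f := by
    intro M N h A hA hle hn
    obtain ⟨B, rfl⟩ : ∃ B : Subgroup G, B.map f = A :=
      ⟨A.comap f, map_comap_eq_self_of_surjective (MulEquiv.surjective _) A⟩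
    have hfi : Function.Injective f := MulEquiv.injective _
    rw [hf, normalizer_map_conj, ← hf] at hn ⊢
    rw [← Subgroup.map_inf _ _ _ hfi] at hle ⊢
    rw [map_le_map_iff_of_injective hfi] at hn hle ⊢
    exact h B (fun hB => hA (by rw [hB, Subgroup.map_bot])) hle hn
  have hchar : ∀ M : Subgroup G, M ⊓ centralizer (pCoreOf p M : Set G) ≤ pCoreOf p M →
      M.map f ⊓ centralizer (pCoreOf p (M.map f) : Set G) ≤ pCoreOf p (M.map f) := by
    intro M h
    rw [hf, pCoreOf_map_conj, map_conj_inf_centralizer]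
    exact map_mono h
  have hfree : ∀ M : Subgroup G, ¬ Involves (qd p) M → ¬ Involves (qd p) (M.map f) := fun M h h' =>
    h (Cfsg.Lib.FusionSys.involves_of_injective
      (f := ((M.equivMapOfInjective f (MulEquiv.injective _)).symm).toMonoidHom)
      (MulEquiv.injective _) h')
  exact ⟨hnorm M N h.normM, fun A h1 h2 => hnorm N M (fun A a b => h.normN A a (inf_comm N M ▸ b)) A
      h1 (inf_comm (M.map f) (N.map f) ▸ h2),
    hchar M h.charM, hchar N h.charN,
    by rw [hf, pCoreOf_map_conj]; exact map_mono h.QMN,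
    by rw [hf, pCoreOf_map_conj]; exact map_mono h.QNM,
    hfree M h.freeM, hfree N h.freeN⟩

/-- An abelian subgroup normalized by `O_p(N)` lies in it. -/
theorem Pr.abelian_le (h2 : p ≠ 2) {M N : Subgroup G} (h : Pr p M N) {E : Subgroup G}
    (hEN : E ≤ N) (hE : ∀ x ∈ E, ∀ y ∈ E, Commute x y)
    (hn : pCoreOf p N ≤ normalizer (E : Set G)) : E ≤ pCoreOf p N := by
  intro a ha
  have hquad : ∀ x ∈ pCoreOf p N, Commute a ⁅x, a⁆ := fun x hx => hE a ha _
    (mul_mem ((mem_normalizer_iff.1 (hn hx) a).1 ha) (inv_mem ha))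
  obtain ⟨L, hLN, hNL, haL, -, hL⟩ := stable h2 h.freeN (pCoreOf_le N) (le_normalizer_pCoreOf N)
    (pCoreOf_isPGroup N) (hEN ha) hquad
  refine le_pCoreOf hLN hNL (fun x => ?_) haL
  obtain ⟨k, hk⟩ := hL x x.2
  obtain ⟨l, hl⟩ := pCoreOf_isPGroup (p := p) N
    ⟨_, h.charN ⟨pow_mem (hLN x.2) _, hk⟩⟩
  refine ⟨k + l, Subtype.ext ?_⟩
  rw [pow_add, pow_mul]
  simpa using congrArg Subtype.val hl

/-- Elements of `O_p(M)` acting quadratically on a suitable module lie in `O_p(N)`. -/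
theorem Pr.quadratic_mem (h2 : p ≠ 2) {M N : Subgroup G} (h : Pr p M N) {V : Subgroup G}
    (hVN : V ≤ N) (hNV : N ≤ normalizer (V : Set G)) (hV : IsPGroup p V)
    (hcent : ∀ x ∈ N, x ∈ centralizer (V : Set G) → x ∈ M) {a : G} (haM : a ∈ pCoreOf p M)
    (hquad : ∀ x ∈ V, Commute a ⁅x, a⁆) : a ∈ pCoreOf p N := by
  set Q := pCoreOf p N with hQ
  have haN : a ∈ N := h.QMN haM
  obtain ⟨L, hLN, hNL, haL, hQL, hL⟩ := stable h2 h.freeN hVN hNV hV haN hquad
  set K := inCore M N with hKd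
  have hKN : K ≤ N := fun x hx => hx.1
  have hKM : K ≤ M := fun x hx => by simpa using hx.2 1 (one_mem N)
  have hKconj : ∀ t ∈ N, ∀ x ∈ K, t * x * t⁻¹ ∈ K := fun t ht x hx =>
    ⟨mul_mem (mul_mem ht hx.1) (inv_mem ht), fun s hs => by
      simpa [mul_assoc] using hx.2 (s * t) (mul_mem hs ht)⟩
  have hQconj : ∀ t ∈ N, ∀ x ∈ Q, t * x * t⁻¹ ∈ Q := fun t ht x hx =>
    (mem_normalizer_iff.1 (le_normalizer_pCoreOf N ht) x).1 hx
  have hMQK : ∀ x ∈ pCoreOf p M, x ∈ K → x ∈ Q := by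
    intro x hx hxK
    have h1 : x ∈ pCoreOf p K := by
      refine le_pCoreOf (N := pCoreOf p M ⊓ K) inf_le_right (fun t ht => ?_)
        ((pCoreOf_isPGroup M).to_le inf_le_left) ⟨hx, hxK⟩
      exact mem_normalizer_fintype fun v hv =>
        ⟨(mem_normalizer_iff.1 (le_normalizer_pCoreOf M (hKM ht)) v).1 (Subgroup.mem_inf.1 hv).1,
          hKconj t (hKN ht) v (Subgroup.mem_inf.1 hv).2⟩
    refine le_pCoreOf (N := pCoreOf p K) ((pCoreOf_le K).trans hKN) ?_ (pCoreOf_isPGroup K) h1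
    refine le_trans (fun t ht => ?_) (normalizer_le_normalizer_pCoreOf K)
    exact mem_normalizer_fintype fun v hv => hKconj t ht v hv
  set C := cmod L K Q (fun t ht => hQconj t (hLN ht)) with hCd
  have hCL : C ≤ L := fun t ht => ht.1
  have hCN : N ≤ normalizer (C : Set G) := fun s hs => mem_normalizer_fintype fun t ht =>
    ⟨(mem_normalizer_iff.1 (hNL hs) t).1 ht.1, fun k hk => by
      have hk' : s⁻¹ * k * s ∈ K := by simpa using hKconj s⁻¹ (inv_mem hs) k hk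
      have := hQconj s hs _ (ht.2 _ hk')
      rwa [show s * (t * (s⁻¹ * k * s) * t⁻¹ * (s⁻¹ * k * s)⁻¹) * s⁻¹ =
        s * t * s⁻¹ * k * (s * t * s⁻¹)⁻¹ * k⁻¹ by group] at this⟩
  have hQC : Q ≤ C := fun x hx => ⟨hQL hx, fun k hk => by
    have := mul_mem hx (hQconj k (hKN hk) _ (inv_mem hx))
    rwa [show x * (k * x⁻¹ * k⁻¹) = x * k * x⁻¹ * k⁻¹ by group] at this⟩
  have haC : a ∈ C := ⟨haL, fun k hk => hMQK _
    (by
      have := (mem_normalizer_iff.1 (le_normalizer_pCoreOf M (hKM hk)) a⁻¹).1 (inv_mem haM)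
      simpa [mul_assoc] using mul_mem haM this)
    (mul_mem (hKconj a haN k hk) (inv_mem hk))⟩
  -- its Sylow subgroup is normal
  obtain ⟨T⟩ : Nonempty (Sylow p C) := inferInstance
  have hQT : ∀ x : C, (x : G) ∈ Q → x ∈ (T : Subgroup C) := by
    have hn : (Q.subgroupOf C).Normal := normal_subgroupOf_of_le_normalizer
      ((hCL.trans hLN).trans (le_normalizer_pCoreOf N))
    have := hn
    exact GlaubermanZJ.le_sylow_of_normal (B := Q.subgroupOf C) (pCoreOf_isPGroup N).comap_subtype T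
  have hKT : K.subgroupOf C ≤ normalizer ((T : Subgroup C) : Set C) := by
    intro k hk
    refine mem_normalizer_fintype fun t ht => ?_
    have h1 : k * t * k⁻¹ * t⁻¹ ∈ (T : Subgroup C) := by
      refine hQT _ ?_
      have := inv_mem (t.2.2 k hk)
      rwa [mul_inv_rev, mul_inv_rev, mul_inv_rev, inv_inv, inv_inv, ← mul_assoc, ← mul_assoc] at this
    show k * t * k⁻¹ ∈ (T : Subgroup C)
    have := mul_mem h1 ht
    rwa [inv_mul_cancel_right] at this
  have hKn : (K.subgroupOf C).Normal := normal_subgroupOf_of_le_normalizer fun t ht =>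
    mem_normalizer_fintype fun v hv => hKconj t (hLN (hCL ht)) v hv
  have htop : K.subgroupOf C ⊔ (T : Subgroup C) = ⊤ := by
    have hq : IsPGroup p (↥C ⧸ K.subgroupOf C) := by
      intro x
      obtain ⟨x, rfl⟩ := QuotientGroup.mk'_surjective _ x
      obtain ⟨k, hk⟩ := hL x x.2.1
      refine ⟨k, ?_⟩
      rw [← map_pow, QuotientGroup.mk'_apply, QuotientGroup.eq_one_iff, mem_subgroupOf,
        SubmonoidClass.coe_pow]
      refine ⟨pow_mem (hLN (hCL x.2)) _, fun t ht => hcent _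
        (mul_mem (mul_mem ht (pow_mem (hLN (hCL x.2)) _)) (inv_mem ht)) fun v hv => ?_⟩
      have hv' : t⁻¹ * v * t ∈ V := by
        simpa using (mem_normalizer_iff.1 (hNV (inv_mem ht)) v).1 hv
      have := hk _ hv'
      calc v * (t * (x : G) ^ p ^ k * t⁻¹)
          = t * ((t⁻¹ * v * t) * (x : G) ^ p ^ k) * t⁻¹ := by group
        _ = t * (x : G) ^ p ^ k * t⁻¹ * v := by rw [this]; group
    set f := QuotientGroup.mk' (K.subgroupOf C)
    let T' := T.mapSurjective (f := f) (QuotientGroup.mk'_surjective _)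
    have hT' : (T : Subgroup C).map f = ⊤ := by
      rw [← Sylow.coe_mapSurjective (P := T) (QuotientGroup.mk'_surjective _)]
      exact (T'.is_maximal' (hq.to_subgroup ⊤) le_top).symm
    have h3 := congrArg (Subgroup.comap f) hT'
    rwa [Subgroup.comap_map_eq, Subgroup.comap_top, QuotientGroup.ker_mk', sup_comm] at h3
  have hTn : (T : Subgroup C).Normal :=
    normalizer_eq_top_iff.1 (top_le_iff.1 (htop.symm.le.trans (sup_le hKT le_normalizer)))
  have hTQ : (T : Subgroup C).map C.subtype ≤ Q := by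
    have h1 : (T : Subgroup C).map C.subtype ≤ pCoreOf p C :=
      map_mono (Core.le_pCore' hTn T.isPGroup')
    exact h1.trans (le_pCoreOf ((pCoreOf_le C).trans (hCL.trans hLN))
      (hCN.trans (normalizer_le_normalizer_pCoreOf C)) (pCoreOf_isPGroup C))
  refine hTQ ⟨⟨a, haC⟩, ?_, rfl⟩
  have hza : IsPGroup p (zpowers (⟨a, haC⟩ : C)) := by
    refine ((pCoreOf_isPGroup (p := p) M).comap_subtype (K := C)).to_le ?_
    rw [zpowers_le]
    exact haM
  have := hTn
  have h1 := T.is_maximal' (IsPGroup.to_sup_of_normal_left T.isPGroup' hza) le_sup_left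
  exact h1.le (mem_sup_right (mem_zpowers _))

/-- A minimal normal `p`-subgroup is centralized by the elements acting quadratically on it. -/
theorem minimal_centralized (h2 : p ≠ 2) {N Z : Subgroup G} (hq : ¬ Involves (qd p) N)
    (hZN : Z ≤ N) (hNZ : N ≤ normalizer (Z : Set G)) (hZ : IsPGroup p Z) (hZ0 : Z ≠ ⊥)
    (hmin : ∀ B : Subgroup G, B ≤ Z → B ≠ ⊥ → N ≤ normalizer (B : Set G) → B = Z)
    {a : G} (ha : a ∈ N) (hquad : ∀ x ∈ Z, Commute a ⁅x, a⁆) : ∀ z ∈ Z, Commute a z := by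
  obtain ⟨L, hLN, hNL, haL, -, hL⟩ := stable h2 hq hZN hNZ hZ ha hquad
  set F := Z ⊓ centralizer (L : Set G) with hF
  suffices hFZ : F = Z from fun z hz => (hFZ.symm.le hz).2 a haL
  refine hmin F inf_le_left ?_ fun g hg => mem_normalizer_fintype fun z hz => ?_
  · obtain ⟨T⟩ : Nonempty (Sylow p L) := inferInstance
    set Cl := (centralizer (Z : Set G)).subgroupOf L with hCl
    have hCn : Cl.Normal := normal_subgroupOf_of_le_normalizer
      ((hLN.trans hNZ).trans (normalizer_le_normalizer_centralizer _))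
    have htop : (T : Subgroup L) ⊔ Cl = ⊤ := by
      have hq : IsPGroup p (↥L ⧸ Cl) := by
        intro x
        obtain ⟨x, rfl⟩ := QuotientGroup.mk'_surjective _ x
        obtain ⟨k, hk⟩ := hL x x.2
        refine ⟨k, ?_⟩
        rw [← map_pow, QuotientGroup.mk'_apply, QuotientGroup.eq_one_iff]
        exact hk
      set f := QuotientGroup.mk' Cl
      let T' := T.mapSurjective (f := f) (QuotientGroup.mk'_surjective _)
      have hT' : (T : Subgroup L).map f = ⊤ := by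
        rw [← Sylow.coe_mapSurjective (P := T) (QuotientGroup.mk'_surjective _)]
        exact (T'.is_maximal' (hq.to_subgroup ⊤) le_top).symm
      have h3 := congrArg (Subgroup.comap f) hT'
      rwa [Subgroup.comap_map_eq, Subgroup.comap_top, QuotientGroup.ker_mk'] at h3
    set R := (T : Subgroup L).map L.subtype ⊔ Z with hR
    have hTN : (T : Subgroup L).map L.subtype ≤ normalizer (Z : Set G) :=
      (map_subtype_le _).trans (hLN.trans hNZ)
    have hRp : IsPGroup p R := IsPGroup.to_sup_of_normal_right' (T.isPGroup'.map _) hZ hTN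
    have : (Z.subgroupOf R).Normal :=
      normal_subgroupOf_of_le_normalizer (sup_le hTN le_normalizer)
    obtain ⟨⟨z, hzR⟩, hz, hz1⟩ := (bot_or_exists_ne_one _).resolve_left
      (PGroup.inf_center_ne_bot hRp (N := Z.subgroupOf R) fun h => hZ0 (by
        have := congrArg (Subgroup.map R.subtype) h
        rwa [map_subgroupOf_eq_of_le le_sup_right, Subgroup.map_bot] at this))
    intro hbot
    have hzF : z ∈ F := by
      refine ⟨hz.1, fun l hl => ?_⟩
      obtain ⟨t, ht, c, hc, htc⟩ := mem_sup_of_normal_right.1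
        (htop.symm.le (mem_top (⟨l, hl⟩ : L)))
      have e1 : Commute (t : G) z := congrArg Subtype.val
        ((mem_center_iff.1 hz.2) ⟨t, mem_sup_left ⟨t, ht, rfl⟩⟩)
      have e2 : Commute (c : G) z := (hc z hz.1).symm
      have e3 : ((t : G) * c) = l := congrArg Subtype.val htc
      exact e3 ▸ (e1.mul_left e2).eq
    rw [hbot, mem_bot] at hzF
    exact hz1 (Subtype.ext hzF)
  · refine ⟨(mem_normalizer_iff.1 (hNZ hg) z).1 hz.1, fun l hl => ?_⟩
    have hl' : g⁻¹ * l * g ∈ L := by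
      simpa using (mem_normalizer_iff.1 (hNL (inv_mem hg)) l).1 hl
    calc l * (g * z * g⁻¹) = g * ((g⁻¹ * l * g) * z) * g⁻¹ := by group
      _ = g * z * g⁻¹ * l := by rw [hz.2 _ hl']; group

section Graph

variable (M₁ M₂ Z₁ Z₂ : Subgroup G)

/-- The subgroup at a vertex. -/
def at' (A₁ A₂ : Subgroup G) (v : G × Bool) : Subgroup G :=
  (cond v.2 A₁ A₂).map (MulAut.conj v.1).toMonoidHom

/-- Adjacency in the coset graph. -/
def Adj (u v : G × Bool) : Prop :=
  u.2 ≠ v.2 ∧ ∃ a ∈ cond u.2 M₁ M₂, ∃ b ∈ cond v.2 M₁ M₂, u.1 * a = v.1 * b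

/-- Walks of length `n`. -/
def Walk : ℕ → G × Bool → G × Bool → Prop
  | 0, u, v => u = v
  | n + 1, u, v => ∃ w, Adj M₁ M₂ u w ∧ Walk n w v

variable {M₁ M₂ Z₁ Z₂}

omit [Finite G] hp in
theorem Adj.symm {u v : G × Bool} (h : Adj M₁ M₂ u v) : Adj M₁ M₂ v u :=
  let ⟨hne, a, ha, b, hb, he⟩ := h
  ⟨hne.symm, b, hb, a, ha, he.symm⟩

omit [Finite G] hp in
theorem Walk.snoc : ∀ {n : ℕ} {u v w : G × Bool}, Walk M₁ M₂ n u v → Adj M₁ M₂ v w →
    Walk M₁ M₂ (n + 1) u w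
  | 0, _, _, w, rfl, h => ⟨w, h, rfl⟩
  | _ + 1, _, _, _, ⟨x, hx, h'⟩, h => ⟨x, hx, Walk.snoc h' h⟩

omit [Finite G] hp in
theorem Walk.symm : ∀ {n : ℕ} {u v : G × Bool}, Walk M₁ M₂ n u v → Walk M₁ M₂ n v u
  | 0, _, _, rfl => rfl
  | _ + 1, _, _, ⟨_, hx, h⟩ => Walk.snoc (Walk.symm h) hx.symm

omit [Finite G] hp in
theorem Walk.split : ∀ {n : ℕ} {u v : G × Bool}, Walk M₁ M₂ (n + 1) u v →
    ∃ w, Walk M₁ M₂ n u w ∧ Adj M₁ M₂ w v
  | 0, u, _, ⟨_, h, rfl⟩ => ⟨u, rfl, h⟩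
  | _ + 1, _, _, ⟨x, hx, h⟩ =>
    let ⟨w, hw, hwv⟩ := Walk.split h
    ⟨w, ⟨x, hx, hw⟩, hwv⟩

omit [Finite G] hp in
theorem at'_mul {A₁ A₂ : Subgroup G} {g a : G} {i : Bool}
    (ha : a ∈ normalizer ((cond i A₁ A₂ : Subgroup G) : Set G)) :
    at' A₁ A₂ (g * a, i) = at' A₁ A₂ (g, i) := by
  ext x
  simp only [at', Subgroup.mem_map_equiv, MulAut.conj_symm_apply, mul_inv_rev]
  rw [show a⁻¹ * g⁻¹ * x * (g * a) = a⁻¹ * (g⁻¹ * x * g) * a⁻¹⁻¹ by group]
  exact ((mem_normalizer_iff.1 (inv_mem ha)) _).symm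

omit hp in
theorem Adj.common {u v : G × Bool} (h : Adj M₁ M₂ u v) :
    ∃ c : G, ∀ A₁ A₂ : Subgroup G, M₁ ≤ normalizer (A₁ : Set G) → M₂ ≤ normalizer (A₂ : Set G) →
      at' A₁ A₂ u = at' A₁ A₂ (c, u.2) ∧ at' A₁ A₂ v = at' A₁ A₂ (c, v.2) := by
  obtain ⟨-, a, ha, b, hb, he⟩ := h
  refine ⟨u.1 * a, fun A₁ A₂ h₁ h₂ => ⟨(at'_mul ?_).symm, ?_⟩⟩
  · cases hu : u.2 <;> rw [hu] at ha <;> first | exact h₁ ha | exact h₂ ha
  · rw [he, at'_mul]
    cases hv : v.2 <;> rw [hv] at hb <;> first | exact h₁ hb | exact h₂ hb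

omit hp in
theorem Adj.translate {u v : G × Bool} (h : Adj M₁ M₂ u v) {g : G} (hg : g ∈ at' M₁ M₂ v)
    (A₁ A₂ : Subgroup G) :
    Adj M₁ M₂ (g * u.1, u.2) v ∧
      at' A₁ A₂ (g * u.1, u.2) = (at' A₁ A₂ u).map (MulAut.conj g).toMonoidHom := by
  obtain ⟨hne, a, ha, b, hb, he⟩ := h
  obtain ⟨g₀, hg₀, rfl⟩ := hg
  refine ⟨⟨hne, a, ha, g₀ * b, mul_mem hg₀ hb, ?_⟩, ?_⟩
  · simp only [MulEquiv.coe_toMonoidHom, MulAut.conj_apply]
    rw [mul_assoc _ u.1 a, he]; group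
  · rw [at', at', Subgroup.map_map]
    congr 1
    ext x
    simp [mul_assoc]

/-- There is no such pair. -/
theorem Pr.no_pair (h2 : p ≠ 2) (h : Pr p M₁ M₂) (hne : M₁ ≠ M₂) : False := by
  classical
  -- nontrivial cores
  have hQ0 : ∀ M N : Subgroup G, Pr p M N → M ≠ N → pCoreOf p M ≠ ⊥ := by
    intro M N h hne hQ
    have hM : M = ⊥ := by
      have := h.charM
      rw [hQ, le_bot_iff] at this
      rw [← le_bot_iff, ← this]
      exact le_inf le_rfl fun x hx y hy => by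
        rw [SetLike.mem_coe, mem_bot] at hy; simp [hy]
    have hQN : pCoreOf p N = ⊥ := le_bot_iff.1 (hM ▸ h.QNM)
    have := h.charN
    rw [hQN, le_bot_iff] at this
    refine hne (hM.trans ?_)
    rw [eq_comm, ← le_bot_iff, ← this]
    exact le_inf le_rfl fun x hx y hy => by
      rw [SetLike.mem_coe, mem_bot] at hy; simp [hy]
  -- minimal normal subgroups
  have hexZ : ∀ M : Subgroup G, pCoreOf p M ≠ ⊥ → ∃ Z : Subgroup G,
      Z ≤ pCoreOf p M ∧ Z ≠ ⊥ ∧ M ≤ normalizer (Z : Set G) ∧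
      ∀ B : Subgroup G, B ≤ Z → B ≠ ⊥ → M ≤ normalizer (B : Set G) → B = Z := by
    intro M hM
    obtain ⟨Z, ⟨h1, h2, h3⟩, hmin⟩ := Set.exists_min_image
      {B : Subgroup G | B ≤ pCoreOf p M ∧ B ≠ ⊥ ∧ M ≤ normalizer (B : Set G)}
      (fun B => Nat.card B) (Set.toFinite _) ⟨_, le_rfl, hM, le_normalizer_pCoreOf M⟩
    exact ⟨Z, h1, h2, h3, fun B hB hB0 hBn =>
      eq_of_le_of_card_ge hB (hmin B ⟨hB.trans h1, hB0, hBn⟩)⟩
  obtain ⟨Z₁, hZ₁Q, hZ₁0, hZ₁n, hZ₁m⟩ := hexZ M₁ (hQ0 M₁ M₂ h hne)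
  obtain ⟨Z₂, hZ₂Q, hZ₂0, hZ₂n, hZ₂m⟩ := hexZ M₂ (hQ0 M₂ M₁ h.symm hne.symm)
  set Mv := at' M₁ M₂ with hMvd
  set Zv := at' Z₁ Z₂ with hZvd
  set Qv := fun v => pCoreOf p (Mv v) with hQvd
  have hPr : ∀ {u v}, Adj M₁ M₂ u v → Pr p (Mv u) (Mv v) := by
    intro u v huv
    obtain ⟨c, hc⟩ := huv.common
    obtain ⟨e1, e2⟩ := hc M₁ M₂ le_normalizer le_normalizer
    rw [hMvd, e1, e2]
    have hne' := huv.1
    cases hu : u.2 <;> cases hv : v.2 <;> simp only [hu, hv, ne_eq, not_true_eq_false] at hne'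
    · exact (h.conj c).symm
    · exact h.conj c
  have hZQ : ∀ v, Zv v ≤ Qv v := by
    intro v
    simp only [hQvd, hMvd, hZvd, at', pCoreOf_map_conj]
    refine map_mono ?_
    cases v.2 <;> assumption
  have hZn : ∀ v, Mv v ≤ normalizer (Zv v : Set G) := by
    intro v
    simp only [hMvd, hZvd, at', normalizer_map_conj]
    refine map_mono ?_
    cases v.2 <;> assumption
  have hZ0 : ∀ v, Zv v ≠ ⊥ := by
    intro v
    simp only [hZvd, at', ne_eq]
    rw [Subgroup.map_eq_bot_iff_of_injective _ (MulAut.conj v.1).injective]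
    cases v.2 <;> assumption
  have hZm : ∀ v (B : Subgroup G), B ≤ Zv v → B ≠ ⊥ → Mv v ≤ normalizer (B : Set G) → B = Zv v := by
    intro v B hB hB0 hBn
    obtain ⟨C, rfl⟩ : ∃ C : Subgroup G, C.map (MulAut.conj v.1).toMonoidHom = B :=
      ⟨_, map_comap_eq_self_of_surjective (MulEquiv.surjective _) B⟩
    simp only [hMvd, hZvd, at', normalizer_map_conj] at hB hBn ⊢
    rw [map_le_map_iff_of_injective (MulAut.conj v.1).injective] at hB hBn
    have hC0 : C ≠ ⊥ := fun hC => hB0 (by rw [hC, Subgroup.map_bot])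
    congr 1
    cases hv : v.2 <;> rw [hv] at hB hBn
    · exact hZ₂m C hB hC0 hBn
    · exact hZ₁m C hB hC0 hBn
  have hQM : ∀ v, Qv v ≤ Mv v := fun v => pCoreOf_le _
  have hQnext : ∀ {u v}, Adj M₁ M₂ u v → Qv u ≤ Mv v := fun huv => (hPr huv).QMN
  have hZp : ∀ v, IsPGroup p (Zv v) := fun v => (pCoreOf_isPGroup (Mv v)).to_le (hZQ v)
  have hZab : ∀ v, ∀ x ∈ Zv v, ∀ y ∈ Zv v, Commute x y := by
    intro v x hx y hy
    have hZ' : Zv v ⊓ centralizer (Zv v : Set G) = Zv v := by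
      refine hZm v _ inf_le_left ?_ fun g hg => ?_
      · intro hbot
        have hne : (⊤ : Subgroup (Zv v)) ≠ ⊥ := fun htop => hZ0 v (by
          have := congrArg (Subgroup.map (Zv v).subtype) htop
          rwa [← MonoidHom.range_eq_map, range_subtype, Subgroup.map_bot] at this)
        obtain ⟨z, hz, hz1⟩ := (bot_or_exists_ne_one _).resolve_left
          (PGroup.inf_center_ne_bot (hZp v) (N := ⊤) hne)
        have hmem : (z : G) ∈ Zv v ⊓ centralizer (Zv v : Set G) :=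
          ⟨z.2, fun w hw => congrArg Subtype.val (mem_center_iff.1 hz.2 ⟨w, hw⟩)⟩
        rw [hbot, mem_bot] at hmem
        exact hz1 (Subtype.ext hmem)
      · exact mem_normalizer_fintype fun z hz =>
          ⟨(mem_normalizer_iff.1 (hZn v hg) z).1 hz.1,
            (mem_normalizer_iff.1 (normalizer_le_normalizer_centralizer _ (hZn v hg)) z).1 hz.2⟩
    exact ((hZ'.symm.le hy).2 x hx)
  -- distance one
  have hT1 : ∀ {u v}, Adj M₁ M₂ u v → Zv u ≤ Qv v := fun {u v} huv =>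
    (hPr huv).abelian_le h2 ((hZQ u).trans (hQnext huv)) (hZab u)
      ((hQnext huv.symm).trans (hZn u))
  -- distance two
  have hcomm2 : ∀ {u w v}, Adj M₁ M₂ u w → Adj M₁ M₂ v w →
      ∀ x ∈ Zv u, ∀ y ∈ Zv v, Commute x y := by
    intro u w v huw hvw x hx y hy
    have hxv : x ∈ Mv v := hQnext hvw.symm (hT1 huw hx)
    refine minimal_centralized h2 (hPr hvw).freeM ((hZQ v).trans (hQM v)) (hZn v) (hZp v) (hZ0 v)
      (hZm v) hxv (fun z hz => ?_) y hy
    have hzu : z ∈ Mv u := hQnext huw.symm (hT1 hvw hz)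
    exact hZab u x hx _ (mul_mem ((mem_normalizer_iff.1 (hZn u hzu) x).1 hx) (inv_mem hx))
  -- the neighbourhood module
  set Vv := fun v => sSup {S : Subgroup G | ∃ u, Adj M₁ M₂ u v ∧ Zv u = S} with hVvd
  have hVQ : ∀ v, Vv v ≤ Qv v := fun v => sSup_le fun S ⟨u, hu, hS⟩ => hS ▸ hT1 hu
  have hVn : ∀ v, Mv v ≤ normalizer (Vv v : Set G) := by
    intro v g hg
    refine mem_normalizer_fintype fun x hx => ?_
    have hle : (Vv v).map (MulAut.conj g).toMonoidHom ≤ Vv v := by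
      rw [map_le_iff_le_comap]
      refine sSup_le ?_
      rintro S ⟨u, hu, rfl⟩
      rw [← map_le_iff_le_comap]
      obtain ⟨hu', he⟩ := hu.translate hg Z₁ Z₂
      exact le_sSup ⟨_, hu', he⟩
    exact hle ⟨x, hx, rfl⟩
  have hVab : ∀ v, ∀ x ∈ Vv v, ∀ y ∈ Vv v, Commute x y := by
    intro v x hx y hy
    have hle : Vv v ≤ centralizer (Vv v : Set G) := by
      refine sSup_le ?_
      rintro S ⟨u, hu, rfl⟩
      rw [le_centralizer_iff]
      refine sSup_le ?_
      rintro S' ⟨u', hu', rfl⟩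
      rw [le_centralizer_iff]
      exact fun a ha b hb => hcomm2 hu' hu b hb a ha
    exact hle hy x hx
  have hVmem : ∀ {u v}, Adj M₁ M₂ u v → Zv u ≤ Vv v := fun {u v} huv =>
    le_sSup (show Zv u ∈ {S : Subgroup G | ∃ w, Adj M₁ M₂ w v ∧ Zv w = S} from ⟨u, huv, rfl⟩)
  -- the induction
  have hT : ∀ n, ∀ u v, Walk M₁ M₂ n u v → Zv u ≤ Qv v := by
    intro n
    induction n with
    | zero => rintro u v rfl; exact hZQ u
    | succ n ih =>
      intro u v hw
      obtain ⟨vn, hun, hvn⟩ := hw.split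
      rcases n with - | n
      · obtain rfl : u = vn := hun
        exact hT1 hvn
      obtain ⟨v1, huv1, h1n⟩ := hun
      intro a ha
      refine (hPr hvn).quadratic_mem h2 ((hVQ v).trans (hQM v)) (hVn v)
        ((pCoreOf_isPGroup (Mv v)).to_le (hVQ v)) (fun x hx hxc => ?_)
        (ih u vn ⟨v1, huv1, h1n⟩ ha) fun x hx => ?_
      · refine (hPr hvn).normM (Zv vn) (hZ0 vn)
          (le_inf ((hZQ vn).trans (hQM vn)) ((hZQ vn).trans (hQnext hvn))) (hZn vn) ⟨hx, ?_⟩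
        refine mem_normalizer_fintype fun z hz => ?_
        have hzV : z ∈ Vv v := hVmem hvn hz
        rw [← hxc z hzV, mul_inv_cancel_right]
        exact hz
      · have haV : a ∈ Vv v1 := hVmem huv1 ha
        have hxn : x ∈ normalizer (Vv v1 : Set G) := by
          refine hVn v1 ((sSup_le (a := Mv v1) ?_) hx)
          rintro S ⟨c, hcv, rfl⟩
          obtain ⟨w2, h12, hw2n⟩ : ∃ w, Adj M₁ M₂ v1 w ∧ Walk M₁ M₂ n w v :=
            (h1n.snoc hvn : Walk M₁ M₂ (n + 1) v1 v)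
          exact (ih c w2 (hw2n.snoc hcv.symm).symm).trans (hQnext h12.symm)
        exact hVab v1 a haV _
          (mul_mem ((mem_normalizer_iff.1 hxn a).1 haV) (inv_mem haV))
  -- the common normal subgroup
  set o : G × Bool := (1, true) with ho
  set o' : G × Bool := (1, false) with ho'
  have hMo : Mv o = M₁ := by
    ext x; simp [hMvd, ho, at', Subgroup.mem_map_equiv]
  have hMo' : Mv o' = M₂ := by
    ext x; simp [hMvd, ho', at', Subgroup.mem_map_equiv]
  have hadj : Adj M₁ M₂ o o' := ⟨by simp [ho, ho'], 1, one_mem _, 1, one_mem _, rfl⟩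
  set U := sSup {S : Subgroup G | ∃ n u, Walk M₁ M₂ n u o ∧ Zv u = S} with hU
  have hU1 : U ≤ Qv o := sSup_le fun S ⟨n, u, hu, hS⟩ => hS ▸ hT n u o hu
  have hU2 : U ≤ Qv o' := sSup_le fun S ⟨n, u, hu, hS⟩ => hS ▸ hT (n + 1) u o' (hu.snoc hadj)
  have htr : ∀ g : G, ∀ n u v, Walk M₁ M₂ n u v →
      Walk M₁ M₂ n (g * u.1, u.2) (g * v.1, v.2) := by
    intro g n
    induction n with
    | zero => rintro u v rfl; exact rfl
    | succ n ih =>
      rintro u v ⟨w, ⟨hne, a, ha, b, hb, he⟩, hw⟩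
      exact ⟨(g * w.1, w.2), ⟨hne, a, ha, b, hb, by rw [mul_assoc, he, mul_assoc]⟩, ih _ _ hw⟩
  have hUn : ∀ g : G, g ∈ M₁ ∨ g ∈ M₂ → g ∈ normalizer (U : Set G) := by
    intro g hg
    refine mem_normalizer_fintype fun x hx => ?_
    have hle : U.map (MulAut.conj g).toMonoidHom ≤ U := by
      rw [map_le_iff_le_comap]
      refine sSup_le ?_
      rintro S ⟨n, u, hu, rfl⟩
      rw [← map_le_iff_le_comap]
      have he : Zv (g * u.1, u.2) = (Zv u).map (MulAut.conj g).toMonoidHom := by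
        rw [hZvd, at', at', Subgroup.map_map]
        congr 1
        ext x; simp [mul_assoc]
      have hw := htr g n u o hu
      rw [ho, mul_one] at hw
      rcases hg with hg | hg
      · have hadj1 : Adj M₁ M₂ (g, true) o' :=
          ⟨by simp [ho'], g⁻¹, inv_mem hg, 1, one_mem _, by simp [ho']⟩
        exact le_sSup ⟨_, _, (hw.snoc hadj1).snoc hadj.symm, he⟩
      · have hadj1 : Adj M₁ M₂ (g, true) (g, false) := ⟨by simp, 1, one_mem _, 1, one_mem _, rfl⟩
        have hadj2 : Adj M₁ M₂ (g, false) o :=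
          ⟨by simp [ho], g⁻¹, inv_mem hg, 1, one_mem _, by simp [ho]⟩
        exact le_sSup ⟨_, _, (hw.snoc hadj1).snoc hadj2, he⟩
    exact hle ⟨x, hx, rfl⟩
  have hU0 : U ≠ ⊥ := fun hbot => hZ0 o (le_bot_iff.1 (hbot ▸ le_sSup ⟨0, o, rfl, rfl⟩))
  have hU1' : U ≤ M₁ := hMo ▸ hU1.trans (hQM o)
  have hU2' : U ≤ M₂ := hMo' ▸ hU2.trans (hQM o')
  refine hne (le_antisymm ?_ ?_)
  · exact (le_inf le_rfl fun g hg => hUn g (Or.inl hg)).trans
      (h.normN U hU0 (le_inf hU1' hU2') fun g hg => hUn g (Or.inr hg))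
  · exact (le_inf le_rfl fun g hg => hUn g (Or.inr hg)).trans
      (h.normM U hU0 (le_inf hU1' hU2') fun g hg => hUn g (Or.inl hg))

end Graph

end Cfsg.Lib.Local.StablePair
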