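import Cfsg.Prelude.Def_TwoFusion
import Cfsg.Agent.Lib.Local.FixedOrderClosed

/-!
# A strongly closed abelian subgroup of a Sylow subgroup controls fusion
-/

set_option autoImplicit false
set_option linter.style.haveILetI false

namespace Cfsg.Lib.Local.SCAbelian

open Subgroup Cfsg.Lib.Fusion

variable {G : Type*} [Group G] [Finite G] {p : ℕ} [hp : Fact p.Prime]

omit [Finite G] hp in
/-- A chain whose steps are induced in `N` is induced in `N`. -/
theorem exists_of_chain {T : Sylow p G} {N : Subgroup G} {l : List (Sylow p G × G)} {D : Subgroup G}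
    (hl : Chain T l D)
    (hloc : ∀ (Q : Sylow p G) (x : G), IsTame T Q →
      x ∈ normalizer (((T : Subgroup G) ⊓ (Q : Subgroup G) : Subgroup G) : Set G) →
      Nat.card D ≤ Nat.card ((T : Subgroup G) ⊓ (Q : Subgroup G) : Subgroup G) →
      ∃ m ∈ N, ∀ a ∈ (T : Subgroup G) ⊓ (Q : Subgroup G), x⁻¹ * a * x = m⁻¹ * a * m)
    [Finite G] :
    ∃ m ∈ N, ∀ a ∈ D, (chainProd l)⁻¹ * a * chainProd l = m⁻¹ * a * m := by
  induction l generalizing D with
  | nil => exact ⟨1, one_mem _, by simp [chainProd]⟩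
  | cons b l ih =>
    obtain ⟨ht, hn, hle, hc⟩ := hl
    obtain ⟨u, hu, hu2⟩ := ih hc fun Q x hQ hx hcard => hloc Q x hQ hx (by rwa [card_conjR] at hcard)
    obtain ⟨v, hv, hv2⟩ := hloc b.1 b.2 ht hn (Subgroup.card_le_of_le hle)
    refine ⟨v * u, mul_mem hv hu, fun a ha => ?_⟩
    have h1 := hu2 _ (conj_mem_conjR ha)
    have h4 : chainProd (b :: l) = b.2 * chainProd l := by simp [chainProd]
    rw [h4, mul_inv_rev]
    calc (chainProd l)⁻¹ * b.2⁻¹ * a * (b.2 * chainProd l)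
        = (chainProd l)⁻¹ * (b.2⁻¹ * a * b.2) * chainProd l := by group
      _ = u⁻¹ * (b.2⁻¹ * a * b.2) * u := h1
      _ = u⁻¹ * (v⁻¹ * a * v) * u := by rw [hv2 a (hle ha)]
      _ = (v * u)⁻¹ * a * (v * u) := by group

/-- The tame steps are induced by `N(A)`. -/
theorem step (T : Sylow p G) (A : Subgroup G) (hAc : IsMulCommutative A)
    (hsc : Cfsg.IsStronglyClosed A (T : Subgroup G)) :
    ∀ (Q : Sylow p G) (x : G), IsTame T Q →
      x ∈ normalizer (((T : Subgroup G) ⊓ (Q : Subgroup G) : Subgroup G) : Set G) →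
      ∃ m ∈ normalizer (A : Set G), ∀ a ∈ (T : Subgroup G) ⊓ (Q : Subgroup G),
        x⁻¹ * a * x = m⁻¹ * a * m := by
  intro Q
  induction hn : Nat.card (T : Subgroup G) - Nat.card ((T : Subgroup G) ⊓ (Q : Subgroup G) : Subgroup G)
    using Nat.strong_induction_on generalizing Q with
  | _ n ih =>
  subst hn
  intro x htame hx
  set D := (T : Subgroup G) ⊓ (Q : Subgroup G) with hD
  set N := normalizer (D : Set G) with hN
  have hDT : D ≤ (T : Subgroup G) := inf_le_left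
  have hSC : FixedOrder.SC (T : Subgroup G) A := ⟨hsc.1, fun g e he h => hsc.2 e he g h⟩
  have hTA : (T : Subgroup G) ≤ normalizer (A : Set G) := hSC.le_normalizer
  by_cases hAD : A ⊓ N ≤ D
  · have hAle : A ≤ D := by
      by_contra hne
      have hlt : D < D ⊔ A := left_lt_sup.mpr hne
      obtain ⟨y, hy, hyD⟩ := SetLike.exists_of_lt
        (lt_inf_normalizer ((T.2 : IsPGroup p (T : Subgroup G)).to_le (sup_le hDT hsc.1)) hlt)
      obtain ⟨d, hd, a, ha, rfl⟩ := (Cfsg.Lib.Core.mem_sup_of_le_normalizer (hDT.trans hTA)).mp hy.1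
      have haN : a ∈ N := by
        have := mul_mem (inv_mem (le_normalizer hd : d ∈ N)) hy.2
        rwa [inv_mul_cancel_left] at this
      exact hyD (D.mul_mem hd (hAD ⟨ha, haN⟩))
    refine ⟨x, FixedOrder.mem_normalizer_of_conj_le fun k hk => ?_, fun a _ => rfl⟩
    exact hsc.2 k hk x (hDT ((mem_normalizer_iff.mp hx k).mp (hAle hk)))
  -- the stabilizer of the series `1 ≤ D ⊓ A ≤ D`
  set E := D ⊓ A with hE
  have hEinv : ∀ n ∈ N, n ∈ normalizer (E : Set G) := fun n hn => hSC.mem_normalizer hDT hn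
  let P0 : Subgroup G :=
    { carrier := {n | n ∈ N ∧ (∀ d ∈ D, n * d * n⁻¹ * d⁻¹ ∈ E) ∧ ∀ e ∈ E, n * e = e * n}
      one_mem' := ⟨one_mem N, fun d _ => by simp, fun e _ => by simp⟩
      mul_mem' := by
        rintro a b ⟨ha, ha1, ha2⟩ ⟨hb, hb1, hb2⟩
        refine ⟨mul_mem ha hb, fun d hd => ?_, fun e he => ?_⟩
        · have h1 := (mem_normalizer_iff.mp (hEinv a ha) _).mp (hb1 d hd)
          have h2 := mul_mem h1 (ha1 d hd)
          convert h2 using 1
          group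
        · rw [mul_assoc, hb2 e he, ← mul_assoc, ha2 e he, mul_assoc]
      inv_mem' := by
        rintro a ⟨ha, ha1, ha2⟩
        refine ⟨inv_mem ha, fun d hd => ?_, fun e he => ?_⟩
        · have h0 := (mem_normalizer_iff.mp (inv_mem ha) d).mp hd
          rw [inv_inv] at h0 ⊢
          have h1 := E.inv_mem (ha1 _ h0)
          convert h1 using 1
          group
        · exact (Commute.inv_left (ha2 e he)).eq }
  have hP0N : P0 ≤ N := fun n hn => hn.1
  haveI hP0n : (P0.subgroupOf N).Normal := ⟨fun n hn g => by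
    obtain ⟨-, h1, h2⟩ := mem_subgroupOf.mp hn
    refine mem_subgroupOf.mpr ⟨(g * n * g⁻¹).2, fun d hd => ?_, fun e he => ?_⟩
    · have h0 := (mem_normalizer_iff.mp (inv_mem g.2) d).mp hd
      rw [inv_inv] at h0
      have h3 := (mem_normalizer_iff.mp (hEinv g g.2) _).mp (h1 _ h0)
      convert h3 using 1
      simp only [Subgroup.coe_mul, Subgroup.coe_inv]
      group
    · have h0 := (mem_normalizer_iff.mp (inv_mem (hEinv g g.2)) e).mp he
      rw [inv_inv] at h0
      have h3 := h2 _ h0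
      simp only [Subgroup.coe_mul, Subgroup.coe_inv]
      calc (g : G) * n * (g : G)⁻¹ * e = g * ((n : G) * ((g : G)⁻¹ * e * g)) * (g : G)⁻¹ := by group
        _ = g * ((g : G)⁻¹ * e * g * n) * (g : G)⁻¹ := by rw [h3]
        _ = e * (g * n * (g : G)⁻¹) := by group⟩
  set W := (T : Subgroup G) ⊓ P0 with hW
  have hWP0 : W ≤ P0 := inf_le_right
  have hWp : IsPGroup p W := (T.2 : IsPGroup p (T : Subgroup G)).to_le inf_le_left
  have hWrel : ¬ p ∣ W.relIndex P0 := by
    have h1 : W.relIndex P0 = ((T : Subgroup G) ⊓ N).relIndex P0 := by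
      rw [hW, inf_relIndex_right, ← inf_relIndex_right (H := (T : Subgroup G) ⊓ N), inf_assoc,
        inf_eq_right.mpr hP0N, inf_relIndex_right]
    rw [h1]
    intro hd
    refine htame.1 (hd.trans ?_)
    set R := ((T : Subgroup G) ⊓ N).subgroupOf N
    set W' := P0.subgroupOf N
    have e1 := relIndex_mul_relIndex (R ⊓ W') R (R ⊔ W') inf_le_left le_sup_left
    have e2 := relIndex_mul_relIndex (R ⊓ W') W' (R ⊔ W') inf_le_right le_sup_right
    rw [inf_relIndex_left] at e1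
    rw [inf_relIndex_right, relIndex_sup_right (K := W') (H := R)] at e2
    have h6 : R.relIndex W' = R.relIndex (R ⊔ W') := Nat.eq_of_mul_eq_mul_right
      (Nat.pos_of_ne_zero index_ne_zero_of_finite : 0 < W'.relIndex R)
      (e2.trans (e1.symm.trans (mul_comm _ _)))
    rw [← relIndex_subgroupOf hP0N, h6]
    exact relIndex_dvd_index_of_le le_sup_left
  let SW : Sylow p P0 := (hWp.of_equiv (subgroupOfEquivOfLe hWP0).symm).toSylow hWrel
  have hP0fac : ∀ q ∈ P0, ∃ w ∈ W, ∃ c ∈ centralizer (D : Set G), c ∈ N ∧ q = w * c := by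
    intro q hq
    obtain ⟨w, hw, c, hc, he⟩ := exists_mul_of_sylow SW ⟨q, hq⟩
    refine ⟨w, mem_subgroupOf.mp hw, c, ?_, c.2.1, congrArg Subtype.val he⟩
    have hle : (Cfsg.pResidual p P0).map P0.subtype ≤ centralizer (D : Set G) := by
      rw [Cfsg.pResidual, MonoidHom.map_closure, closure_le]
      rintro _ ⟨z, hz, rfl⟩
      intro d hd
      exact (FixedOrder.commute_of_series ((T.2 : IsPGroup p (T : Subgroup G)).to_le (inf_le_left.trans hDT))
        (by rw [Subgroup.orderOf_coe]; exact hz) z.2.2.1 z.2.2.2 d hd).symm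
    exact hle ⟨c, hc, rfl⟩
  -- Frattini
  obtain ⟨n₁, hn₁, q, hq, hx'⟩ : ∃ n₁ ∈ normalizer (W : Set G), ∃ q ∈ P0, n₁ ∈ N ∧ x = n₁ * q := by
    have hmapW : ∀ k ∈ W, x * k * x⁻¹ ∈ P0 := fun k hk =>
      mem_subgroupOf.mp (hP0n.conj_mem ⟨k, hP0N hk.2⟩ (mem_subgroupOf.mpr hk.2) ⟨x, hx⟩)
    let W₂ : Subgroup G := W.map (MulAut.conj x).toMonoidHom
    have hW₂ : W₂ ≤ P0 := by rintro _ ⟨k, hk, rfl⟩; exact hmapW k hk
    have hcard : Nat.card (W₂.subgroupOf P0) = p ^ (Nat.card P0).factorization p := by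
      rw [Nat.card_congr (subgroupOfEquivOfLe hW₂).toEquiv, card_map_of_injective (MulAut.conj x).injective,
        ← Nat.card_congr (subgroupOfEquivOfLe hWP0).toEquiv]
      exact SW.card_eq_multiplicity
    obtain ⟨y, hy⟩ := MulAction.exists_smul_eq P0 (Sylow.ofCard (W₂.subgroupOf P0) hcard) SW
    have hnorm : (y : G) * x ∈ normalizer (W : Set G) := by
      refine FixedOrder.mem_normalizer_of_conj_le fun k hk => ?_
      have h1 : y * ⟨x * k * x⁻¹, hmapW k hk⟩ * y⁻¹ ∈ (SW : Subgroup P0) := by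
        rw [← hy, Sylow.coe_subgroup_smul]
        exact Subgroup.smul_mem_pointwise_smul _ (MulAut.conj y) _
          (mem_subgroupOf.mpr ⟨k, hk, rfl⟩)
      have h2 := mem_subgroupOf.mp h1
      simp only [Subgroup.coe_mul, Subgroup.coe_inv] at h2
      convert h2 using 1
      group
    refine ⟨(y : G) * x, hnorm, x⁻¹ * (y : G)⁻¹ * x, ?_, mul_mem (hP0N y.2) hx, by group⟩
    have := mem_subgroupOf.mp (hP0n.conj_mem ⟨(y : G)⁻¹, inv_mem (hP0N y.2)⟩
      (mem_subgroupOf.mpr (inv_mem y.2)) ⟨x⁻¹, inv_mem hx⟩)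
    simpa using this
  obtain ⟨hn₁N, rfl⟩ := hx'
  obtain ⟨w, hw, c, hc, -, rfl⟩ := hP0fac q hq
  set m := n₁ * w with hm
  have hmN : m ∈ N := mul_mem hn₁N (hP0N hw.2)
  have hmW : m ∈ normalizer (W : Set G) := mul_mem hn₁ (le_normalizer hw)
  set D₁ := D ⊔ W with hD₁
  have hD₁T : D₁ ≤ (T : Subgroup G) := sup_le hDT inf_le_left
  have hlt : D < D₁ := by
    obtain ⟨a, ha, haD⟩ := SetLike.not_le_iff_exists.mp hAD
    refine left_lt_sup.mpr fun hle => haD (hle ⟨hsc.1 ha.1, ha.2, fun d hd => ⟨?_, ?_⟩, fun e he => ?_⟩)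
    · exact D.mul_mem ((mem_normalizer_iff.mp ha.2 d).mp hd) (D.inv_mem hd)
    · have h1 := (mem_normalizer_iff.mp (hTA (hDT hd)) _).mp (A.inv_mem ha.1)
      have h2 := A.mul_mem ha.1 h1
      have e : a * d * a⁻¹ * d⁻¹ = a * (d * a⁻¹ * d⁻¹) := by group
      show a * d * a⁻¹ * d⁻¹ ∈ A
      rw [e]; exact h2
    · exact congrArg Subtype.val (hAc.is_comm.comm (⟨a, ha.1⟩ : A) ⟨e, he.2⟩)
  have hmD₁ : conjR m D₁ ≤ (T : Subgroup G) := by
    refine conjR_le_iff.mpr fun d hd => hD₁T ?_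
    have hmn : m⁻¹ ∈ normalizer (D₁ : Set G) := inv_mem (inf_normalizer_le_normalizer_sup' D W ⟨hmN, hmW⟩)
    have := (mem_normalizer_iff.mp hmn d).mp hd
    rwa [inv_inv] at this
  obtain ⟨l, hl, hlm⟩ := alperin T D₁ m hD₁T hmD₁
  have hcard := card_lt_card_of_lt hlt
  obtain ⟨u, hu, hu2⟩ := exists_of_chain (N := normalizer (A : Set G)) hl fun Q' y hQ' hy hle =>
    ih _ (by
      have := Subgroup.card_le_of_le (inf_le_left : (T : Subgroup G) ⊓ (Q' : Subgroup G) ≤ T)
      have := Subgroup.card_le_of_le hD₁T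
      omega) Q' rfl y hQ' hy
  refine ⟨u, hu, fun a ha => ?_⟩
  rw [← hu2 a (mem_sup_left ha), hlm]
  have hma : m⁻¹ * a * m ∈ D := by
    have := (mem_normalizer_iff.mp (inv_mem hmN) a).mp ha
    rwa [inv_inv] at this
  calc (n₁ * (w * c))⁻¹ * a * (n₁ * (w * c)) = c⁻¹ * ((m⁻¹ * a * m) * c) := by rw [hm]; group
    _ = c⁻¹ * (c * (m⁻¹ * a * m)) := by rw [mem_centralizer_iff.mp hc _ hma]
    _ = m⁻¹ * a * m := by group
where
  inf_normalizer_le_normalizer_sup' (A B : Subgroup G) :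
      normalizer (A : Set G) ⊓ normalizer (B : Set G) ≤ normalizer ((A ⊔ B : Subgroup G) : Set G) := by
    intro g hg
    rw [Cfsg.Lib.Core.mem_normalizer_iff_map_conj, Subgroup.map_sup,
      Cfsg.Lib.Core.map_conj_eq_of_mem_normalizer hg.1, Cfsg.Lib.Core.map_conj_eq_of_mem_normalizer hg.2]

/-- A strongly closed abelian subgroup controls fusion in the Sylow subgroup. -/
theorem controls (T : Sylow p G) (A : Subgroup G) (hAc : IsMulCommutative A)
    (hsc : Cfsg.IsStronglyClosed A (T : Subgroup G)) {D : Subgroup G} (hD : D ≤ (T : Subgroup G)) {g : G}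
    (hg : conjR g D ≤ (T : Subgroup G)) :
    ∃ m ∈ normalizer (A : Set G), ∀ a ∈ D, g⁻¹ * a * g = m⁻¹ * a * m := by
  obtain ⟨l, hl, hlg⟩ := alperin T D g hD hg
  obtain ⟨m, hm, hm2⟩ := exists_of_chain (N := normalizer (A : Set G)) hl
    fun Q x hQ hx _ => step T A hAc hsc Q x hQ hx
  exact ⟨m, hm, fun a ha => by rw [← hm2 a ha, hlg]⟩

end Cfsg.Lib.Local.SCAbelian
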