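import Mathlib
import Cfsg.Prelude.Def_Sz
import Cfsg.Agent.Lib.Local.SLSuzukiDihedralForcing

/-!
The Suzuki group over the field with two elements has at most one involution in each of its
centralizers of involutions: commuting involutions coincide.
-/

set_option autoImplicit false

namespace Cfsg.Lib.Local.SzTwo

/-- Vectors. -/
abbrev V4 := Bool × Bool × Bool × Bool

/-- Matrices, as four columns. -/
abbrev M4 := V4 × V4 × V4 × V4

set_option synthInstance.maxSize 4096 in
/-- Decidable equality of vectors. -/
instance decEqV4 : DecidableEq V4 := inferInstance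

set_option synthInstance.maxSize 4096 in
/-- Decidable equality of matrices. -/
instance decEqM4 : DecidableEq M4 := inferInstanceAs (DecidableEq (V4 × V4 × V4 × V4))

/-- Sum of vectors. -/
def vadd : V4 → V4 → V4
  | (a, b, c, d), (a', b', c', d') => (a ^^ a', b ^^ b', c ^^ c', d ^^ d')

/-- Scalar multiple. -/
def vsmul (t : Bool) : V4 → V4
  | (a, b, c, d) => (t && a, t && b, t && c, t && d)

/-- A matrix applied to a vector. -/
def mv : M4 → V4 → V4
  | (c0, c1, c2, c3), (x, y, z, w) => vadd (vadd (vadd (vsmul x c0) (vsmul y c1)) (vsmul z c2)) (vsmul w c3)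

/-- Product. -/
def mmul : M4 → M4 → M4
  | M, (c0, c1, c2, c3) => (mv M c0, mv M c1, mv M c2, mv M c3)

/-- Identity. -/
def one4 : M4 :=
  ((true, false, false, false), (false, true, false, false), (false, false, true, false), (false, false, false, true))

/-- The form. -/
def form : V4 → V4 → Bool
  | (a, b, c, d), (a', b', c', d') => (((a && d') ^^ (b && c')) ^^ (c && b')) ^^ (d && a')

/-- The two by two minors of a pair of columns. -/
def minors : V4 → V4 → V4
  | (a, b, c, d), (a', b', c', d') =>
    ((a && b') ^^ (b && a'), (a && c') ^^ (c && a'), (b && d') ^^ (d && b'), (c && d') ^^ (d && c'))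

/-- The star map. -/
def star : M4 → M4
  | (c0, c1, c2, c3) => (minors c0 c1, minors c0 c2, minors c1 c3, minors c2 c3)

/-- All vectors. -/
def vecs : List V4 :=
  [false, true].flatMap fun a => [false, true].flatMap fun b => [false, true].flatMap fun c =>
    [false, true].map fun d => (a, b, c, d)

/-- The symplectic matrices. -/
def spList : List M4 :=
  vecs.flatMap fun c0 => (vecs.filter fun c1 => !form c0 c1).flatMap fun c1 =>
    (vecs.filter fun c2 => !form c0 c2 && form c1 c2).flatMap fun c2 =>
      (vecs.filter fun c3 => form c0 c3 && !form c1 c3 && !form c2 c3).map fun c3 => (c0, c1, c2, c3)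

/-- The fixed matrices. -/
def szList : List M4 :=
  spList.filter fun M => decide (star M = M)

/-- The fixed matrices, listed. -/
def szLit : List M4 :=
  [((false, false, false, true), (false, false, true, false), (false, true, false, false), (true, false, false, false)),
   ((false, false, false, true), (false, false, true, false), (false, true, false, true), (true, false, true, true)),
   ((false, false, false, true), (false, false, true, true), (false, true, true, false), (true, true, true, true)),
   ((false, false, false, true), (false, false, true, true), (false, true, true, true), (true, true, false, true)),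
   ((true, false, false, false), (false, true, false, false), (false, false, true, false), (false, false, false, true)),
   ((true, false, false, false), (false, true, false, false), (true, false, true, false), (true, true, false, true)),
   ((true, false, false, false), (true, true, false, false), (false, true, true, false), (true, true, true, true)),
   ((true, false, false, false), (true, true, false, false), (true, true, true, false), (true, false, true, true)),
   ((true, false, true, true), (false, true, false, true), (false, false, true, false), (false, false, false, true)),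
   ((true, false, true, true), (false, true, false, true), (true, false, false, true), (true, true, true, true)),
   ((true, false, true, true), (true, true, true, false), (false, true, true, true), (true, true, false, true)),
   ((true, false, true, true), (true, true, true, false), (true, true, false, false), (true, false, false, false)),
   ((true, true, false, true), (false, true, true, true), (false, false, true, true), (false, false, false, true)),
   ((true, true, false, true), (false, true, true, true), (true, true, true, false), (true, false, true, true)),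
   ((true, true, false, true), (true, false, true, false), (false, true, false, false), (true, false, false, false)),
   ((true, true, false, true), (true, false, true, false), (true, false, false, true), (true, true, true, true)),
   ((true, true, true, true), (false, true, true, false), (false, false, true, true), (false, false, false, true)),
   ((true, true, true, true), (false, true, true, false), (true, true, false, false), (true, false, false, false)),
   ((true, true, true, true), (true, false, false, true), (false, true, false, true), (true, false, true, true)),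
   ((true, true, true, true), (true, false, false, true), (true, false, true, false), (true, true, false, true))]

set_option maxRecDepth 100000 in
set_option maxHeartbeats 0 in
theorem szList_eq : szList = szLit := by decide +kernel

set_option maxRecDepth 100000 in
theorem szLit_one : one4 ∈ szLit := by decide +kernel

set_option maxRecDepth 100000 in
set_option maxHeartbeats 0 in
theorem szLit_mul : (szLit.all fun a => szLit.all fun b => decide (mmul a b ∈ szLit)) = true := by decide +kernel

set_option maxRecDepth 100000 in
set_option maxHeartbeats 0 in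
theorem szLit_invol : (szLit.all fun a => szLit.all fun b =>
    !(mmul a a == one4) || !(mmul b b == one4) || !(mmul a b == mmul b a) || a == one4 || b == one4 || a == b) = true := by
  decide +kernel

theorem szList_data : one4 ∈ szList ∧
    (∀ a ∈ szList, ∀ b ∈ szList, mmul a b ∈ szList) ∧
    (∀ a ∈ szList, ∀ b ∈ szList, mmul a a = one4 → mmul b b = one4 → mmul a b = mmul b a → a ≠ one4 →
      b ≠ one4 → a = b) := by
  rw [szList_eq]
  refine ⟨szLit_one, fun a ha b hb => ?_, fun a ha b hb e1 e2 e3 e4 e5 => ?_⟩
  · exact of_decide_eq_true (List.all_eq_true.1 (List.all_eq_true.1 szLit_mul a ha) b hb)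
  · have := List.all_eq_true.1 (List.all_eq_true.1 szLit_invol a ha) b hb
    simpa [e1, e2, e3, e4, e5] using this

/-- Bit of an element. -/
def bit (z : ZMod 2) : Bool := decide (z = 1)

theorem bit_zero : bit 0 = false := rfl

theorem bit_one : bit 1 = true := rfl

theorem bit_add : ∀ a b : ZMod 2, bit (a + b) = (bit a ^^ bit b) := by decide +kernel

theorem bit_sub : ∀ a b : ZMod 2, bit (a - b) = (bit a ^^ bit b) := by decide +kernel

theorem bit_mul : ∀ a b : ZMod 2, bit (a * b) = (bit a && bit b) := by decide +kernel

theorem bit_injective : Function.Injective bit := by decide +kernel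

/-- Encoding of a column. -/
def col (A : Matrix (Fin 4) (Fin 4) (ZMod 2)) (j : Fin 4) : V4 :=
  (bit (A 0 j), bit (A 1 j), bit (A 2 j), bit (A 3 j))

/-- Encoding. -/
def enc (A : Matrix (Fin 4) (Fin 4) (ZMod 2)) : M4 := (col A 0, col A 1, col A 2, col A 3)

theorem enc_mul (A A' : Matrix (Fin 4) (Fin 4) (ZMod 2)) : enc (A * A') = mmul (enc A) (enc A') := by
  simp [enc, col, mmul, mv, vadd, vsmul, Matrix.mul_apply, Fin.sum_univ_four, bit_add, bit_mul, Bool.and_comm]

theorem enc_one : enc 1 = one4 := by simp [enc, col, one4, bit_zero, bit_one]

theorem enc_star (A : Matrix (Fin 4) (Fin 4) (ZMod 2)) : enc (Cfsg.Lie.star4 A) = star (enc A) := by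
  simp [enc, col, star, minors, Cfsg.Lie.star4, Cfsg.Lie.pairOf, bit_sub, bit_mul, Bool.and_comm]

theorem enc_injective : Function.Injective enc := by
  intro A A' e
  simp only [enc, col, Prod.mk.injEq] at e
  ext i j
  apply bit_injective
  fin_cases i <;> fin_cases j <;> simp [e]

theorem mem_vecs : ∀ v : V4, v ∈ vecs := by decide +kernel

theorem mem_szList (M : M4)
    (h01 : form M.1 M.2.1 = false) (h02 : form M.1 M.2.2.1 = false) (h12 : form M.2.1 M.2.2.1 = true)
    (h03 : form M.1 M.2.2.2 = true) (h13 : form M.2.1 M.2.2.2 = false) (h23 : form M.2.2.1 M.2.2.2 = false)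
    (hst : star M = M) : M ∈ szList := by
  refine List.mem_filter.2 ⟨?_, decide_eq_true hst⟩
  obtain ⟨c0, c1, c2, c3⟩ := M
  simp only [spList, List.mem_flatMap, List.mem_filter, List.mem_map]
  exact ⟨c0, mem_vecs _, c1, ⟨mem_vecs _, by simp [h01]⟩, c2, ⟨mem_vecs _, by simp [h02, h12]⟩, c3,
    ⟨mem_vecs _, by simp [h03, h13, h23]⟩, rfl⟩

theorem uniqueInvol {F : Type*} [Field F] [Fintype F] (hF : Fintype.card F = 2) :
    UniqueInvol ↥(Cfsg.Lie.Sz F 2) := by
  classical
  haveI := Fact.mk Nat.prime_two
  obtain ⟨φ, -⟩ : ∃ φ : ZMod 2 ≃+* F, True :=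
    ⟨ZMod.ringEquivOfPrime F Nat.prime_two hF, trivial⟩
  have hmapinj : Function.Injective (φ.toRingHom.mapMatrix (m := Fin 4)) :=
    fun A A' e => by
      ext i j
      exact φ.injective (congrFun (congrFun e i) j)
  have hgen : ∀ g ∈ {g : GL (Fin 4) F | g ∈ Cfsg.Lie.Sp4 F ∧
      Cfsg.Lie.star4 (g : Matrix (Fin 4) (Fin 4) F) = (g : Matrix (Fin 4) (Fin 4) F).map (fun x => x ^ 2)},
      ∃ M, enc M ∈ szList ∧ φ.toRingHom.mapMatrix M = (g : Matrix (Fin 4) (Fin 4) F) := by
    rintro g ⟨hsp, hst⟩
    refine ⟨φ.symm.toRingHom.mapMatrix (g : Matrix (Fin 4) (Fin 4) F), ?_, ?_⟩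
    · have hB : ∀ i j : Fin 4, form (col (φ.symm.toRingHom.mapMatrix (g : Matrix (Fin 4) (Fin 4) F)) i)
          (col (φ.symm.toRingHom.mapMatrix (g : Matrix (Fin 4) (Fin 4) F)) j) =
          bit (φ.symm (Cfsg.Lie.altForm4 (Pi.single i (1 : F)) (Pi.single j 1))) := by
        intro i j
        rw [← hsp (Pi.single i 1) (Pi.single j 1)]
        simp [form, col, Cfsg.Lie.altForm4, Matrix.mulVec_single_one, Units.coeHom_apply, bit_add, bit_mul]
      refine mem_szList _ ?_ ?_ ?_ ?_ ?_ ?_ ?_
      · exact (hB 0 1).trans (by simp [Cfsg.Lie.altForm4, bit_zero])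
      · exact (hB 0 2).trans (by simp [Cfsg.Lie.altForm4, bit_zero])
      · exact (hB 1 2).trans (by simp [Cfsg.Lie.altForm4, bit_one])
      · exact (hB 0 3).trans (by simp [Cfsg.Lie.altForm4, bit_one])
      · exact (hB 1 3).trans (by simp [Cfsg.Lie.altForm4, bit_zero])
      · exact (hB 2 3).trans (by simp [Cfsg.Lie.altForm4, bit_zero])
      · rw [← enc_star]
        congr 1
        ext i j
        have := congrArg φ.symm (congrFun (congrFun hst i) j)
        simp only [Cfsg.Lie.star4, Matrix.of_apply, Matrix.map_apply, map_sub, map_mul, map_pow] at this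
        simp only [Cfsg.Lie.star4, Matrix.of_apply, RingHom.mapMatrix_apply, Matrix.map_apply,
          RingEquiv.toRingHom_eq_coe, RingHom.coe_coe]
        rw [this, ZMod.pow_card]
    · ext i j
      simp
  have hall : ∀ g ∈ Cfsg.Lie.Sz F 2,
      ∃ M, enc M ∈ szList ∧ φ.toRingHom.mapMatrix M = (g : Matrix (Fin 4) (Fin 4) F) := by
    intro g hg
    have hg' : g ∈ (Subgroup.closure {g : GL (Fin 4) F | g ∈ Cfsg.Lie.Sp4 F ∧
      Cfsg.Lie.star4 (g : Matrix (Fin 4) (Fin 4) F) = (g : Matrix (Fin 4) (Fin 4) F).map (fun x => x ^ 2)}).toSubmonoid := hg
    rw [Subgroup.closure_toSubmonoid_of_finite] at hg'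
    clear hg
    induction hg' using Submonoid.closure_induction with
    | mem x hx => exact hgen x hx
    | one => exact ⟨1, enc_one ▸ szList_data.1, map_one _⟩
    | mul x y hx hy ihx ihy =>
      obtain ⟨M, hM, eM⟩ := ihx
      obtain ⟨N, hN, eN⟩ := ihy
      exact ⟨M * N, enc_mul M N ▸ szList_data.2.1 _ hM _ hN, by rw [map_mul, eM, eN, Units.val_mul]⟩
  rintro ⟨a, ha⟩ ⟨b, hb⟩ haa hbb hab ha1 hb1
  obtain ⟨A, hA, eA⟩ := hall a ha
  obtain ⟨B', hB', eB⟩ := hall b hb
  have e1 : A * A = 1 := hmapinj (by
    rw [map_mul, eA, map_one, ← Units.val_mul]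
    exact congrArg Units.val (congrArg Subtype.val haa))
  have e2 : B' * B' = 1 := hmapinj (by
    rw [map_mul, eB, map_one, ← Units.val_mul]
    exact congrArg Units.val (congrArg Subtype.val hbb))
  have e3 : A * B' = B' * A := hmapinj (by
    rw [map_mul, map_mul, eA, eB, ← Units.val_mul, ← Units.val_mul]
    exact congrArg Units.val (congrArg Subtype.val hab))
  have e4 : A ≠ 1 := fun e => ha1 (Subtype.ext (Units.ext (by rw [← eA, e, map_one]; rfl)))
  have e5 : B' ≠ 1 := fun e => hb1 (Subtype.ext (Units.ext (by rw [← eB, e, map_one]; rfl)))
  exact Subtype.ext (Units.ext (by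
    rw [← eA, ← eB, enc_injective (szList_data.2.2 _ hA _ hB' (by rw [← enc_mul, e1, enc_one])
      (by rw [← enc_mul, e2, enc_one]) (by rw [← enc_mul, ← enc_mul, e3])
      (fun e => e4 (enc_injective (e.trans enc_one.symm))) (fun e => e5 (enc_injective (e.trans enc_one.symm))))]))

end Cfsg.Lib.Local.SzTwo
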