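import Mathlib
import Cfsg.Prelude.Def_SylowControl

/-!
Control of Sylow intersections and strong control of fusion by a family of subgroups.
-/

set_option autoImplicit false

namespace Cfsg.Lib.Local

open Subgroup

variable {G : Type*} [Group G] {p : ℕ} {𝓕 : Set (Subgroup G)}

theorem mem_subgroupConjRight {g x : G} {X : Subgroup G} :
    x ∈ subgroupConjRight g X ↔ g * x * g⁻¹ ∈ X := by
  rw [subgroupConjRight, Subgroup.mem_map_equiv, MulAut.conj_symm_apply, inv_inv]

theorem subgroupConjRight_mul (g h : G) (X : Subgroup G) :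
    subgroupConjRight h (subgroupConjRight g X) = subgroupConjRight (g * h) X := by
  ext x
  rw [mem_subgroupConjRight, mem_subgroupConjRight, mem_subgroupConjRight]
  group

theorem subgroupConjRight_one (X : Subgroup G) : subgroupConjRight 1 X = X := by
  ext x; rw [mem_subgroupConjRight]; simp

theorem subgroupConjRight_of_mem {g : G} {X : Subgroup G} (hg : g ∈ normalizer (X : Set G)) :
    subgroupConjRight g X = X := by
  ext x; rw [mem_subgroupConjRight]; exact (mem_normalizer_iff.mp hg x).symm

theorem mem_normalizer_of_subgroupConjRight {g : G} {X : Subgroup G} (h : subgroupConjRight g X = X) :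
    g ∈ normalizer (X : Set G) := by
  refine mem_normalizer_iff.mpr fun x => ?_
  conv_lhs => rw [← h]
  exact mem_subgroupConjRight

theorem smul_eq_subgroupConjRight (S : Sylow p G) (g : G) :
    ((g • S : Sylow p G) : Subgroup G) = subgroupConjRight g⁻¹ (S : Subgroup G) := by
  rw [subgroupConjRight, inv_inv, Sylow.coe_subgroup_smul]
  rfl

theorem sylowMembers_conj [Finite G] [Fact p.Prime] (h𝓕 : IsNormalSet 𝓕) {S X : Subgroup G}
    (h : X ∈ sylowMembers p 𝓕 S) (g : G) :
    subgroupConjRight g X ∈ sylowMembers p 𝓕 (subgroupConjRight g S) := by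
  obtain ⟨hX, P, hP⟩ := h
  refine ⟨h𝓕 X hX g, P.mapSurjective (f := (X.equivMapOfInjective (MulAut.conj g⁻¹).toMonoidHom
    (MulAut.conj g⁻¹).injective).toMonoidHom) (MulEquiv.surjective _), ?_⟩
  have e : subgroupConjRight g S ⊓ subgroupConjRight g X = subgroupConjRight g (S ⊓ X) :=
    (Subgroup.map_inf S X _ (MulAut.conj g⁻¹).injective).symm
  rw [e, ← hP]
  show ((P : Subgroup ↥X).map _).map _ = ((P : Subgroup ↥X).map X.subtype).map _
  refine (Subgroup.map_map _ _ _).trans (Eq.trans ?_ (Subgroup.map_map _ _ _).symm)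
  exact congrArg (fun f => Subgroup.map f (P : Subgroup ↥X)) (MonoidHom.ext fun _ => rfl)

theorem conjRight_le {A : Set G} {g : G} {X : Subgroup G} :
    conjRight g A ⊆ (X : Set G) ↔ A ⊆ (subgroupConjRight g⁻¹ X : Set G) := by
  constructor
  · intro h a ha
    rw [SetLike.mem_coe, mem_subgroupConjRight, inv_inv]
    exact h ⟨a, ha, rfl⟩
  · rintro h _ ⟨a, ha, rfl⟩
    simpa [mem_subgroupConjRight] using h ha

/-- Control of Sylow intersections implies strong control of fusion. -/
theorem stronglyControls_of_controls [Finite G] [Fact p.Prime] (h𝓕 : IsNormalSet 𝓕)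
    (hc : ControlsSylowIntersections p 𝓕) : FamilyStronglyControlsFusion p 𝓕 := by
  intro S A g hA ⟨a, ha, ha1⟩ hAg
  by_cases hT : subgroupConjRight g⁻¹ (S : Subgroup G) = (S : Subgroup G)
  · exact ⟨0, Fin.elim0, Fin.elim0, g,
      inv_mem_iff.mp (mem_normalizer_of_subgroupConjRight hT), fun i => i.elim0, by simp,
      fun i => i.elim0⟩
  have hAT : A ⊆ ((g • S : Sylow p G) : Subgroup G) := by
    rw [smul_eq_subgroupConjRight]; exact conjRight_le.mp hAg
  have hne : S ≠ g • S := fun h => hT (by rw [← smul_eq_subgroupConjRight, ← h])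
  obtain ⟨n, c, X, x, hc0, hcn, hall⟩ := hc S (g • S) hne fun h => ha1 (by
    have : a ∈ (S : Subgroup G) ⊓ ((g • S : Sylow p G) : Subgroup G) := ⟨hA ha, hAT ha⟩
    rwa [h, mem_bot] at this)
  let u : ℕ → G := fun i => Nat.rec 1 (fun j w => if h : j < n then x ⟨j, h⟩ * w else w) i
  have hu0 : u 0 = 1 := rfl
  have hus : ∀ i : Fin n, u (i.val + 1) = x i * u i.val := fun i => by
    show (if h : i.val < n then x ⟨i.val, h⟩ * u i.val else u i.val) = _
    rw [dif_pos i.2]
  have hcu : ∀ i : Fin (n + 1), subgroupConjRight (u i.val) (c i : Subgroup G) = (S : Subgroup G) := by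
    intro i
    induction i using Fin.induction with
    | zero => rw [Fin.val_zero, hu0, subgroupConjRight_one, hc0]
    | succ i ih =>
      obtain ⟨-, -, -, hx, -⟩ := hall i
      rw [Fin.val_succ, hus, ← subgroupConjRight_mul, hx]
      exact ih
  let y : Fin n → G := fun i => (u i.val)⁻¹ * x i * u i.val
  let Y : Fin n → Subgroup G := fun i => subgroupConjRight (u i.val) (X i)
  have hprod : ∀ i ≤ n, ((List.ofFn y).take i).prod = u i := by
    intro i
    induction i with
    | zero => intro _; simp [hu0]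
    | succ i ih =>
      intro hi
      rw [List.prod_take_succ _ _ (by simpa using hi), ih (by omega), List.getElem_ofFn,
        hus ⟨i, hi⟩]
      simp only [y]
      group
  have hu_n : u n = (List.ofFn y).prod := by
    rw [← hprod n le_rfl, List.take_of_length_le (by simp)]
  refine ⟨n, Y, y, (u n)⁻¹ * g, ?_, fun i => ⟨?_, ?_⟩, by rw [← hu_n, mul_inv_cancel_left], fun i => ?_⟩
  · have h1 : subgroupConjRight (u n) (subgroupConjRight g⁻¹ (S : Subgroup G)) = (S : Subgroup G) := by
      have := hcu (Fin.last n)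
      rwa [Fin.val_last, hcn, smul_eq_subgroupConjRight] at this
    rw [subgroupConjRight_mul] at h1
    have := inv_mem (mem_normalizer_of_subgroupConjRight h1)
    rwa [mul_inv_rev, inv_inv] at this
  · have h := sylowMembers_conj h𝓕 (hall i).1 (u i.val)
    have e := hcu i.castSucc
    rw [Fin.val_castSucc] at e
    rwa [e] at h
  · obtain ⟨-, -, hx, -, -⟩ := hall i
    rw [mem_subgroupConjRight]
    simp only [y]
    group
    exact hx
  · rw [hprod _ i.2]
    intro b hb
    obtain ⟨b, hb, rfl⟩ := hb
    obtain ⟨-, -, hxX, -, hle⟩ := hall i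
    obtain ⟨h1, h2⟩ := hle (mem_inf.mpr ⟨hA hb, hAT hb⟩)
    constructor
    · have e := hcu i.succ
      rw [Fin.val_succ] at e
      show (u (i.val + 1))⁻¹ * b * u (i.val + 1) ∈ (S : Subgroup G)
      rw [← e, mem_subgroupConjRight]
      group
      exact h1
    · show _ ∈ subgroupConjRight (u i.val) (X i)
      rw [mem_subgroupConjRight, hus]
      have := mul_mem (mul_mem (inv_mem hxX) h2) hxX
      group
      group at this
      exact this

/-- Strong control of fusion implies control of Sylow intersections. -/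
theorem controls_of_stronglyControls [Finite G] [Fact p.Prime] (h𝓕 : IsNormalSet 𝓕)
    (hc : FamilyStronglyControlsFusion p 𝓕) : ControlsSylowIntersections p 𝓕 := by
  intro S T hST hne
  obtain ⟨g, rfl⟩ := MulAction.exists_smul_eq G S T
  obtain ⟨a, ha, ha1⟩ := SetLike.exists_of_lt (bot_lt_iff_ne_bot.mpr hne)
  rw [mem_bot] at ha1
  obtain ⟨n, Y, y, y₀, hy₀, hY, hg, hA⟩ := hc S
    (((S : Subgroup G) ⊓ ((g • S : Sylow p G) : Subgroup G) : Subgroup G) : Set G) g
    (fun b hb => hb.1) ⟨a, ha, ha1⟩ (by
      refine conjRight_le.mpr ?_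
      rw [← smul_eq_subgroupConjRight]; exact fun b hb => hb.2)
  let u : ℕ → G := fun i => ((List.ofFn y).take i).prod
  have hus : ∀ i : Fin n, u (i.val + 1) = u i.val * y i := fun i => by
    show ((List.ofFn y).take (i.val + 1)).prod = _
    rw [List.prod_take_succ _ _ (by simp), List.getElem_ofFn]
  refine ⟨n, fun i => u i.val • S, fun i => subgroupConjRight (u i.val)⁻¹ (Y i),
    fun i => u i.val * y i * (u i.val)⁻¹, by simp [u], ?_, fun i => ⟨?_, ?_, ?_, ?_, ?_⟩⟩
  · have h1 : u n = (List.ofFn y).prod := by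
      show ((List.ofFn y).take n).prod = _
      rw [List.take_of_length_le (by simp)]
    have h2 : y₀ • S = S := Sylow.smul_eq_iff_mem_normalizer.mpr hy₀
    simp only [Fin.val_last]
    rw [h1, hg, mul_smul, h2]
  · simp only [Fin.val_castSucc]
    rw [smul_eq_subgroupConjRight]
    exact sylowMembers_conj h𝓕 (hY i).1 _
  · simp only [Fin.val_succ]
    rw [smul_eq_subgroupConjRight]
    have h := sylowMembers_conj h𝓕 (hY i).1 (u (i.val + 1))⁻¹
    have e : subgroupConjRight (u (i.val + 1))⁻¹ (Y i) = subgroupConjRight (u i.val)⁻¹ (Y i) := by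
      rw [hus, mul_inv_rev, ← subgroupConjRight_mul,
        subgroupConjRight_of_mem (le_normalizer (inv_mem (hY i).2))]
    rwa [e] at h
  · rw [mem_subgroupConjRight]
    group
    exact (hY i).2
  · simp only [Fin.val_succ, Fin.val_castSucc]
    rw [smul_eq_subgroupConjRight, smul_eq_subgroupConjRight, subgroupConjRight_mul, hus]
    congr 1
    group
  · simp only [Fin.val_succ, Fin.val_castSucc]
    intro b hb
    obtain ⟨h1, h2⟩ := hA i ⟨b, hb, rfl⟩
    refine ⟨?_, ?_⟩
    · show b ∈ ((u (i.val + 1) • S : Sylow p G) : Subgroup G)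
      rw [smul_eq_subgroupConjRight, mem_subgroupConjRight, inv_inv]
      exact h1
    · show b ∈ subgroupConjRight (u i.val)⁻¹ (Y i)
      rw [mem_subgroupConjRight, inv_inv]
      have h3 : (u (i.val + 1))⁻¹ * b * u (i.val + 1) ∈ Y i := h2
      rw [hus] at h3
      have := mul_mem (mul_mem (hY i).2 h3) (inv_mem (hY i).2)
      group at this ⊢
      exact this

end Cfsg.Lib.Local
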