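import Cfsg.Agent.Lib.Core.Basic
import Mathlib.GroupTheory.Sylow
import Mathlib.GroupTheory.GroupAction.Quotient
import Mathlib.Algebra.BigOperators.Ring.Finset

/-!
Fixed points of a Sylow `p`-subgroup in a transitive action of a group generated by `p`-elements:
there are at most `(p - 1) / (2p - 1)` times as many as points.

In a least counterexample one builds, greedily in the order of the largest pointwise stabilisers,
a Sylow subgroup fixing every point of a `p`-cycle of a `p`-element, which is impossible.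
-/

set_option autoImplicit false
set_option linter.unusedSectionVars false

namespace Cfsg.Lib.Local.SylowFix

open Subgroup MulAction Finset

universe u v

/-- Subgroups, with the conjugation action. -/
structure CS (G : Type u) [Group G] where
  /-- The subgroup. -/
  val : Subgroup G

variable {G : Type u} [Group G] {α : Type v} [MulAction G α] {p : ℕ}

theorem CS.ext' {U V : CS G} (h : U.val = V.val) : U = V := by cases U; cases V; congr

instance csMulAction : MulAction G (CS G) where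
  smul g U := ⟨U.val.map (MulAut.conj g).toMonoidHom⟩
  one_smul U := CS.ext' (by
    show U.val.map _ = _
    ext x
    simp [Subgroup.mem_map])
  mul_smul g h U := CS.ext' (by
    show U.val.map _ = (U.val.map _).map _
    rw [Subgroup.map_map]
    congr 1
    ext x
    simp [mul_assoc])

theorem CS.smul_val (g : G) (U : CS G) : (g • U).val = U.val.map (MulAut.conj g).toMonoidHom := rfl

instance csFinite [Finite G] : Finite (CS G) :=
  Finite.of_injective CS.val fun _ _ h => CS.ext' h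

theorem smul_cs_eq_iff {g : G} {U : CS G} : g • U = U ↔ g ∈ normalizer (U.val : Set G) := by
  rw [Core.mem_normalizer_iff_map_conj]
  exact ⟨fun h => congrArg CS.val h, fun h => CS.ext' h⟩

/-- The element has order a power of `p`. -/
def IsPel (p : ℕ) (x : G) : Prop := ∃ k : ℕ, orderOf x = p ^ k

theorem isPel_conj {x : G} (g : G) (h : IsPel p x) : IsPel p (g * x * g⁻¹) := by
  obtain ⟨k, hk⟩ := h
  exact ⟨k, by rw [← hk]; exact (MulAut.conj g).orderOf_eq x⟩

theorem isPel_of_mem [Fact p.Prime] {P : Subgroup G} (hP : IsPGroup p P) {x : G} (hx : x ∈ P) :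
    IsPel p x := by
  obtain ⟨k, hk⟩ := IsPGroup.iff_orderOf.mp hP ⟨x, hx⟩
  exact ⟨k, by rwa [Subgroup.orderOf_mk] at hk⟩

theorem isPel_pow [Fact p.Prime] {x : G} (h : IsPel p x) (n : ℕ) : IsPel p (x ^ n) := by
  obtain ⟨k, hk⟩ := h
  obtain ⟨j, -, hj⟩ := (Nat.dvd_prime_pow (Fact.out : p.Prime)).mp (hk ▸ orderOf_pow_dvd n)
  exact ⟨j, hj⟩

/-- An element of `p`-power order normalising a subgroup that contains a Sylow subgroup of the
whole group lies in it. -/
theorem mem_of_normalizes [Finite G] [Fact p.Prime] {R : Subgroup G} (Q : Sylow p G)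
    (hQ : (Q : Subgroup G) ≤ R) {x : G} (hx : IsPel p x) (hn : x ∈ normalizer (R : Set G)) :
    x ∈ R := by
  set N := normalizer (R : Set G)
  have hz : IsPGroup p (zpowers (⟨x, hn⟩ : ↥N)) := by
    obtain ⟨k, hk⟩ := hx
    refine IsPGroup.of_card (n := k) ?_
    rw [Nat.card_zpowers, Subgroup.orderOf_mk, hk]
  obtain ⟨Q', hQ'⟩ := hz.exists_le_sylow
  have hQN : (Q : Subgroup G) ≤ N := hQ.trans le_normalizer
  obtain ⟨n, hn'⟩ := MulAction.exists_smul_eq (↥N) (Q.subtype hQN) Q'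
  have h1 : (⟨x, hn⟩ : ↥N) ∈ (n • Q.subtype hQN : Sylow p ↥N) := by
    rw [hn']; exact hQ' (mem_zpowers _)
  obtain ⟨q, hq, hqe⟩ := Subgroup.mem_map.mp
    (show (⟨x, hn⟩ : ↥N) ∈ ((Q.subtype hQN : Sylow p ↥N) : Subgroup ↥N).map
      (MulAut.conj n).toMonoidHom from h1)
  have hqR : (q : G) ∈ R := hQ hq
  have h2 : (n : G) * q * (n : G)⁻¹ = x := by
    have := congrArg Subtype.val hqe
    simpa using this
  rw [← h2]
  exact (mem_normalizer_iff.mp n.2 (q : G)).mp hqR

/-- The subgroup generated by the elements of `p`-power order fixing every point of `S`. -/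
def R (p : ℕ) (S : Finset α) : Subgroup G :=
  closure {x : G | IsPel p x ∧ ∀ a ∈ S, x • a = a}

theorem R_fix {S : Finset α} {x : G} (hx : x ∈ (R p S : Subgroup G)) {a : α} (ha : a ∈ S) :
    x • a = a := by
  have : (R p S : Subgroup G) ≤ stabilizer G a := (closure_le _).mpr fun y hy => hy.2 a ha
  exact this hx

theorem R_anti {S T : Finset α} (h : S ⊆ T) : (R p T : Subgroup G) ≤ R p S :=
  closure_mono fun _ hx => ⟨hx.1, fun a ha => hx.2 a (h ha)⟩

theorem mem_R {S : Finset α} {x : G} (hx : IsPel p x) (h : ∀ a ∈ S, x • a = a) :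
    x ∈ (R p S : Subgroup G) :=
  subset_closure ⟨hx, h⟩

theorem sylow_le_R [Fact p.Prime] {S : Finset α} (Q : Sylow p G)
    (h : ∀ x ∈ (Q : Subgroup G), ∀ a ∈ S, x • a = a) : (Q : Subgroup G) ≤ R p S :=
  fun x hx => mem_R (isPel_of_mem Q.2 hx) (h x hx)

/-- The subgroup generated by the elements of `p`-power order of `U` fixing the point `s`. -/
def cut (p : ℕ) (s : α) (U : CS G) : CS G :=
  ⟨closure {x : G | IsPel p x ∧ x ∈ U.val ∧ x • s = s}⟩

theorem cut_smul {s : α} {g : G} (hg : g • s = s) (U : CS G) :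
    cut p s (g • U) = g • cut p s U := by
  refine CS.ext' ?_
  show _ = (closure _).map _
  rw [MonoidHom.map_closure]
  show closure _ = _
  have hg' : g⁻¹ • s = s := by rw [inv_smul_eq_iff, hg]
  congr 1
  ext x
  constructor
  · rintro ⟨hx, hxU, hxs⟩
    obtain ⟨y, hy, rfl⟩ := Subgroup.mem_map.mp hxU
    refine ⟨y, ⟨?_, hy, ?_⟩, rfl⟩
    · have := isPel_conj g⁻¹ hx
      simpa [mul_assoc] using this
    · have e : y = g⁻¹ * (g * y * g⁻¹) * g := by group
      have hxs' : (g * y * g⁻¹) • s = s := hxs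
      rw [e, mul_smul, mul_smul, hg, hxs', hg']
  · rintro ⟨y, ⟨hy, hyU, hys⟩, rfl⟩
    refine ⟨isPel_conj g hy, Subgroup.mem_map.mpr ⟨y, hyU, rfl⟩, ?_⟩
    show (g * y * g⁻¹) • s = s
    rw [mul_smul, mul_smul, hg', hys, hg]

theorem R_smul_singleton (g : G) (a : α) :
    (⟨R p {g • a}⟩ : CS G) = g • ⟨R p {a}⟩ := by
  refine CS.ext' ?_
  show _ = (closure _).map _
  rw [MonoidHom.map_closure]
  show closure _ = _
  congr 1
  ext x
  constructor
  · rintro ⟨hx, hxa⟩
    refine ⟨g⁻¹ * x * g, ⟨?_, fun b hb => ?_⟩, by simp [mul_assoc]⟩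
    · simpa using isPel_conj g⁻¹ hx
    · rw [Finset.mem_singleton] at hb
      subst hb
      rw [mul_smul, mul_smul, hxa _ (mem_singleton_self _), inv_smul_smul]
  · rintro ⟨y, ⟨hy, hya⟩, rfl⟩
    refine ⟨isPel_conj g hy, fun b hb => ?_⟩
    rw [Finset.mem_singleton] at hb
    subst hb
    show (g * y * g⁻¹) • g • a = g • a
    rw [mul_smul, mul_smul, inv_smul_smul, hya _ (mem_singleton_self _)]

section Sum

variable [Finite α]

/-- The orbit as a finset. -/
noncomputable def orb (Y : Subgroup G) (a : α) : Finset α :=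
  (Set.toFinite (MulAction.orbit (↥Y) a)).toFinset

theorem mem_orb {Y : Subgroup G} {a b : α} : b ∈ orb Y a ↔ ∃ y ∈ Y, y • a = b := by
  rw [orb, Set.Finite.mem_toFinset, MulAction.mem_orbit_iff]
  exact ⟨fun ⟨y, hy⟩ => ⟨y, y.2, hy⟩, fun ⟨y, hy, he⟩ => ⟨⟨y, hy⟩, he⟩⟩

theorem self_mem_orb (Y : Subgroup G) (a : α) : a ∈ orb Y a :=
  mem_orb.mpr ⟨1, Y.one_mem, one_smul _ _⟩

theorem smul_mem_orb {Y : Subgroup G} {a b : α} {y : G} (hy : y ∈ Y) (hb : b ∈ orb Y a) :
    y • b ∈ orb Y a := by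
  obtain ⟨z, hz, rfl⟩ := mem_orb.mp hb
  exact mem_orb.mpr ⟨y * z, Y.mul_mem hy hz, mul_smul _ _ _⟩

open Classical in
/-- Weight `-p` for a point fixed by `Q` and `p - 1` for another. -/
noncomputable def wt (p : ℕ) (Q : Subgroup G) (a : α) : ℤ :=
  if ∀ x ∈ Q, x • a = a then -(p : ℤ) else (p : ℤ) - 1

/-- The hypothesis that proper subgroups satisfy the bound. -/
def Bound (p : ℕ) (Y : Subgroup G) (β : Type*) [MulAction G β] [Finite β] : Prop :=
  ∀ (Q : Sylow p G), (Q : Subgroup G) ≤ Y → ∀ b : β, (∃ y ∈ Y, y • b ≠ b) →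
    0 ≤ ∑ c ∈ orb Y b, wt p (Q : Subgroup G) c

open Classical in
theorem sum_wt_ge {Y : Subgroup G} (hB : Bound p Y α) (Q : Sylow p G)
    (hQY : (Q : Subgroup G) ≤ Y) (D : Finset α) (hD : ∀ y ∈ Y, ∀ a ∈ D, y • a ∈ D) :
    -(p : ℤ) * (D.filter fun a => ∀ y ∈ Y, y • a = a).card ≤ ∑ a ∈ D, wt p (Q : Subgroup G) a := by
  induction D using Finset.strongInduction with
  | _ D ih =>
    rcases D.eq_empty_or_nonempty with rfl | ⟨a, ha⟩
    · simp
    have hsub : orb Y a ⊆ D := fun b hb => by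
      obtain ⟨y, hy, rfl⟩ := mem_orb.mp hb
      exact hD y hy a ha
    have hlt : D \ orb Y a ⊂ D :=
      Finset.sdiff_ssubset hsub ⟨a, self_mem_orb Y a⟩
    have h1 := ih _ hlt (fun y hy b hb => by
      rw [Finset.mem_sdiff] at hb ⊢
      refine ⟨hD y hy b hb.1, fun hyb => hb.2 ?_⟩
      have := smul_mem_orb (Y.inv_mem hy) hyb
      rwa [inv_smul_smul] at this)
    rw [← Finset.sum_sdiff hsub]
    by_cases hfix : ∀ y ∈ Y, y • a = a
    · have ho : orb Y a = {a} := by
        ext b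
        rw [mem_orb, Finset.mem_singleton]
        exact ⟨fun ⟨y, hy, he⟩ => he ▸ hfix y hy, fun h => ⟨1, Y.one_mem, h ▸ one_smul _ _⟩⟩
      have hw : wt p (Q : Subgroup G) a = -(p : ℤ) := if_pos fun x hx => hfix x (hQY hx)
      have hc : ((D \ orb Y a).filter fun a => ∀ y ∈ Y, y • a = a).card + 1 =
          (D.filter fun a => ∀ y ∈ Y, y • a = a).card := by
        rw [ho, Finset.sdiff_singleton_eq_erase, Finset.filter_erase,
          Finset.card_erase_add_one (Finset.mem_filter.mpr ⟨ha, hfix⟩)]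
      rw [← hc, ho, Finset.sum_singleton, hw]
      rw [ho] at h1
      push_cast
      linarith
    · push Not at hfix
      have h2 := hB Q hQY a hfix
      have hc : ((D \ orb Y a).filter fun a => ∀ y ∈ Y, y • a = a) =
          (D.filter fun a => ∀ y ∈ Y, y • a = a) := by
        ext b
        simp only [Finset.mem_filter, Finset.mem_sdiff]
        refine ⟨fun h => ⟨h.1.1, h.2⟩, fun h => ⟨⟨h.1, fun hb => ?_⟩, h.2⟩⟩
        obtain ⟨z, hz, hzb⟩ := mem_orb.mp hb
        have hba : b = a := by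
          have := h.2 z⁻¹ (Y.inv_mem hz)
          rw [← hzb, inv_smul_smul] at this
          rw [← hzb, ← this]
        obtain ⟨y, hy, hne⟩ := hfix
        exact hne (hba ▸ h.2 y hy)
      rw [hc] at h1
      linarith

open Classical in
/-- Pushing the sum forward along an equivariant map that reflects `Q`-fixed points. -/
theorem sum_wt_image {β : Type*} [MulAction G β] [Finite β] {Y : Subgroup G} (Q : Subgroup G)
    (hQY : Q ≤ Y) (a : α) (F : α → β)
    (hF : ∀ b ∈ orb Y a, ∀ y ∈ Y, F (y • b) = y • F b)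
    (hfix : ∀ b ∈ orb Y a, (∀ x ∈ Q, x • F b = F b) → ∀ x ∈ Q, x • b = b) :
    ∃ q : ℕ, 0 < q ∧ ∑ b ∈ orb Y a, wt p Q b = q * ∑ c ∈ orb Y (F a), wt p Q c := by
  refine ⟨((orb Y a).filter fun b => F b = F a).card,
    Finset.card_pos.mpr ⟨a, Finset.mem_filter.mpr ⟨self_mem_orb Y a, rfl⟩⟩, ?_⟩
  have hmaps : ∀ b ∈ orb Y a, F b ∈ orb Y (F a) := fun b hb => by
    obtain ⟨y, hy, rfl⟩ := mem_orb.mp hb
    rw [hF a (self_mem_orb Y a) y hy]
    exact mem_orb.mpr ⟨y, hy, rfl⟩
  rw [← Finset.sum_fiberwise_of_maps_to hmaps, Finset.mul_sum]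
  refine Finset.sum_congr rfl fun c hc => ?_
  have hw : ∀ b ∈ (orb Y a).filter (fun b => F b = c), wt p Q b = wt p Q c := by
    intro b hb
    obtain ⟨hb1, rfl⟩ := Finset.mem_filter.mp hb
    have hiff : (∀ x ∈ Q, x • b = b) ↔ ∀ x ∈ Q, x • F b = F b := by
      refine ⟨fun h x hx => ?_, hfix b hb1⟩
      rw [← hF b hb1 x (hQY hx), h x hx]
    simp only [wt, hiff]
  rw [Finset.sum_congr rfl hw, Finset.sum_const, nsmul_eq_mul]
  congr 2
  obtain ⟨y, hy, rfl⟩ := mem_orb.mp hc
  refine Finset.card_bij' (fun b _ => y⁻¹ • b) (fun b _ => y • b) ?_ ?_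
    (fun b _ => smul_inv_smul _ _) (fun b _ => inv_smul_smul _ _)
  · intro b hb
    obtain ⟨hb1, hb2⟩ := Finset.mem_filter.mp hb
    refine Finset.mem_filter.mpr ⟨smul_mem_orb (Y.inv_mem hy) hb1, ?_⟩
    rw [hF b hb1 _ (Y.inv_mem hy), hb2, inv_smul_smul]
  · intro b hb
    obtain ⟨hb1, hb2⟩ := Finset.mem_filter.mp hb
    exact Finset.mem_filter.mpr ⟨smul_mem_orb hy hb1, by rw [hF b hb1 y hy, hb2]⟩

end Sum

section Core

variable [Finite G] [Fact p.Prime] [Finite α]

/-- Some Sylow subgroup fixes every point of `S`. -/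
def Covered (p : ℕ) (S : Finset α) : Prop :=
  ∃ Q : Sylow p G, (Q : Subgroup G) ≤ R p S

open Classical in
theorem sum_wt_conj (P Q : Sylow p G) (a : α) :
    ∑ c ∈ orb (⊤ : Subgroup G) a, wt p (P : Subgroup G) c =
      ∑ c ∈ orb (⊤ : Subgroup G) a, wt p (Q : Subgroup G) c := by
  obtain ⟨g, rfl⟩ := MulAction.exists_smul_eq G P Q
  refine Finset.sum_bij' (fun c _ => g • c) (fun c _ => g⁻¹ • c)
    (fun c hc => smul_mem_orb (mem_top g) hc) (fun c hc => smul_mem_orb (mem_top g⁻¹) hc)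
    (fun c _ => inv_smul_smul _ _) (fun c _ => smul_inv_smul _ _) fun c _ => ?_
  have hiff : (∀ x ∈ ((g • P : Sylow p G) : Subgroup G), x • g • c = g • c) ↔
      ∀ x ∈ (P : Subgroup G), x • c = c := by
    constructor
    · intro h x hx
      have h1 := h (g * x * g⁻¹) (Subgroup.mem_map.mpr ⟨x, hx, rfl⟩)
      rwa [mul_smul, mul_smul, inv_smul_smul, smul_left_cancel_iff] at h1
    · intro h x hx
      obtain ⟨y, hy, rfl⟩ := Subgroup.mem_map.mp hx
      show (g * y * g⁻¹) • g • c = g • c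
      rw [mul_smul, mul_smul, inv_smul_smul, h y hy]
  simp only [wt, hiff]

open Classical in
/-- The invariant carried along the chosen points. -/
def Inv (p : ℕ) (T : Finset α) (γ : α) : Prop :=
  Covered (G := G) p (insert γ T) ∧ ∀ Q : Sylow p G, (Q : Subgroup G) ≤ (R p T : Subgroup G) →
    ∑ c ∈ orb (R p T : Subgroup G) (⟨R p (insert γ T)⟩ : CS G), wt p (Q : Subgroup G) c <
      (T.card : ℤ) * p

open Classical in
theorem inv_step (hB : ∀ Y : Subgroup G, Y ≠ ⊤ → closure {x : G | IsPel p x ∧ x ∈ Y} = Y →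
      Bound p Y (CS G))
    {T : Finset α} {s γ : α} (hsT : s ∉ T) (hs : ∃ g : G, g • s ≠ s)
    (hcs : Covered (G := G) p (insert s T))
    (hIγ : Inv (G := G) p T γ)
    (hmax : Nat.card (R p (insert γ T) : Subgroup G) ≤ Nat.card (R p (insert s T) : Subgroup G))
    (hcard : T.card + 2 ≤ p) : Inv (G := G) p (insert s T) γ := by
  obtain ⟨⟨Qγ, hQγ⟩, hsum⟩ := hIγ
  set Y : Subgroup G := R p (insert s T) with hY
  set X : Subgroup G := R p T with hX
  set U : CS G := ⟨R p (insert γ T)⟩ with hU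
  have hYX : Y ≤ X := R_anti (Finset.subset_insert _ _)
  have hYtop : Y ≠ ⊤ := by
    intro h
    obtain ⟨g, hg⟩ := hs
    exact hg (R_fix (h ▸ mem_top g : g ∈ Y) (Finset.mem_insert_self _ _))
  have hYgen : closure {x : G | IsPel p x ∧ x ∈ Y} = Y :=
    le_antisymm ((closure_le _).mpr fun x hx => hx.2)
      ((closure_le _).mpr fun x hx => subset_closure ⟨hx.1, mem_R hx.1 hx.2⟩)
  have hUT : ∀ {x : G}, x ∈ U.val → ∀ a ∈ insert γ T, x • a = a := fun hx a ha => R_fix hx ha
  -- every member of the class contains a Sylow subgroup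
  have hclass : ∀ {V : CS G}, V ∈ orb X U →
      (∃ Q' : Sylow p G, (Q' : Subgroup G) ≤ V.val) ∧
        Nat.card V.val = Nat.card (R p (insert γ T) : Subgroup G) := by
    intro V hV
    obtain ⟨x, -, rfl⟩ := mem_orb.mp hV
    refine ⟨⟨x • Qγ, ?_⟩, ?_⟩
    · exact Subgroup.map_mono hQγ
    · rw [CS.smul_val, card_map_of_injective (MulAut.conj x).injective]
  have hsubO : orb Y U ⊆ orb X U := fun V hV => by
    obtain ⟨y, hy, rfl⟩ := mem_orb.mp hV
    exact mem_orb.mpr ⟨y, hYX hy, rfl⟩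
  -- at most one member is fixed by `Y`
  have hone : ((orb X U \ orb Y U).filter fun V => ∀ y ∈ Y, y • V = V).card ≤ 1 := by
    rw [Finset.card_le_one]
    have key : ∀ V ∈ (orb X U \ orb Y U).filter (fun V => ∀ y ∈ Y, y • V = V), V.val = Y := by
      intro V hV
      obtain ⟨hV1, hV2⟩ := Finset.mem_filter.mp hV
      obtain ⟨⟨Q', hQ'⟩, hcardV⟩ := hclass (Finset.mem_sdiff.mp hV1).1
      have hle : Y ≤ V.val := (closure_le _).mpr fun x hx =>
        mem_of_normalizes Q' hQ' hx.1 (smul_cs_eq_iff.mp (hV2 x (subset_closure hx)))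
      exact (eq_of_le_of_card_ge hle (hcardV.le.trans hmax)).symm
    exact fun V hV W hW => CS.ext' ((key V hV).trans (key W hW).symm)
  have hbd : ∀ Q : Sylow p G, (Q : Subgroup G) ≤ Y →
      ∑ c ∈ orb Y U, wt p (Q : Subgroup G) c < ((T.card : ℤ) + 1) * p := by
    intro Q hQY
    have h1 := hsum Q (hQY.trans hYX)
    have h2 := sum_wt_ge (hB Y hYtop hYgen) Q hQY (orb X U \ orb Y U) (fun y hy V hV => by
      rw [Finset.mem_sdiff] at hV ⊢
      refine ⟨smul_mem_orb (hYX hy) hV.1, fun hyV => hV.2 ?_⟩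
      have := smul_mem_orb (Y.inv_mem hy) hyV
      rwa [inv_smul_smul] at this)
    rw [← Finset.sum_sdiff hsubO] at h1
    have hone' : (((orb X U \ orb Y U).filter fun V => ∀ y ∈ Y, y • V = V).card : ℤ) ≤ 1 := by
      exact_mod_cast hone
    nlinarith [Int.natCast_nonneg p]
  obtain ⟨Qs, hQs⟩ := hcs
  -- some Sylow subgroup of `Y` fixes a conjugate of `U`
  obtain ⟨V, hV, hVfix⟩ : ∃ V ∈ orb Y U, ∀ x ∈ (Qs : Subgroup G), x • V = V := by
    by_contra hno
    push Not at hno
    have hall : ∀ V ∈ orb Y U, wt p (Qs : Subgroup G) V = (p : ℤ) - 1 := fun V hV => by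
      obtain ⟨x, hx, hne⟩ := hno V hV
      exact if_neg fun h => hne (h x hx)
    have h1 := hbd Qs hQs
    rw [Finset.sum_congr rfl hall, Finset.sum_const, nsmul_eq_mul] at h1
    have hsub : orb (Qs : Subgroup G) U ⊆ orb Y U := fun V hV => by
      obtain ⟨y, hy, rfl⟩ := mem_orb.mp hV
      exact mem_orb.mpr ⟨y, hQs hy, rfl⟩
    have hp1 : p ≤ (orb (Qs : Subgroup G) U).card := by
      obtain ⟨k, hk⟩ := Qs.2.card_orbit U
      rw [Nat.card_eq_card_finite_toFinset (Set.toFinite _)] at hk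
      obtain ⟨x, hx, hne⟩ := hno U (self_mem_orb Y U)
      rcases Nat.eq_zero_or_pos k with rfl | hkpos
      · exfalso
        rw [pow_zero, Finset.card_eq_one] at hk
        obtain ⟨c, hc⟩ := hk
        have e1 : U = c := Finset.mem_singleton.mp (hc ▸ self_mem_orb (Qs : Subgroup G) U)
        have e2 : x • U = c :=
          Finset.mem_singleton.mp (hc ▸ smul_mem_orb hx (self_mem_orb (Qs : Subgroup G) U))
        exact hne (e2.trans e1.symm)
      · exact (Nat.le_self_pow hkpos.ne' p).trans hk.ge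
    have h2 : (p : ℤ) ≤ ((orb Y U).card : ℤ) := by
      exact_mod_cast hp1.trans (Finset.card_le_card hsub)
    have h3 : (T.card : ℤ) + 2 ≤ p := by exact_mod_cast hcard
    nlinarith
  obtain ⟨y, hy, rfl⟩ := mem_orb.mp hV
  have hyQ : ((y⁻¹ • Qs : Sylow p G) : Subgroup G) ≤ R p (insert γ (insert s T)) := by
    refine sylow_le_R _ fun x hx a ha => ?_
    obtain ⟨q, hq, rfl⟩ := Subgroup.mem_map.mp hx
    have hqY : y⁻¹ * q * y ∈ Y := Y.mul_mem (Y.mul_mem (Y.inv_mem hy) (hQs hq)) hy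
    have hqU : y⁻¹ * q * y ∈ U.val := by
      refine mem_of_normalizes Qγ hQγ ?_ ?_
      · simpa using isPel_conj y⁻¹ (isPel_of_mem Qs.2 hq)
      · rw [← smul_cs_eq_iff, mul_smul, mul_smul, hVfix q hq, inv_smul_smul]
    show (y⁻¹ * q * y⁻¹⁻¹) • a = a
    rw [inv_inv]
    rcases Finset.mem_insert.mp ha with rfl | ha
    · exact hUT hqU _ (Finset.mem_insert_self _ _)
    · exact R_fix hqY ha
  refine ⟨⟨y⁻¹ • Qs, hyQ⟩, fun Q hQY => ?_⟩
  -- push forward to the class of the smaller stabiliser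
  have hcut : cut p s U = (⟨R p (insert γ (insert s T))⟩ : CS G) := by
    refine CS.ext' (congrArg closure ?_)
    ext x
    constructor
    · rintro ⟨hx, hxU, hxs⟩
      refine ⟨hx, fun a ha => ?_⟩
      rcases Finset.mem_insert.mp ha with rfl | ha
      · exact hUT hxU _ (Finset.mem_insert_self _ _)
      rcases Finset.mem_insert.mp ha with rfl | ha
      · exact hxs
      · exact hUT hxU _ (Finset.mem_insert_of_mem ha)
    · rintro ⟨hx, hxS⟩
      refine ⟨hx, mem_R hx fun a ha => hxS a ?_, hxS s (by simp)⟩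
      rcases Finset.mem_insert.mp ha with rfl | ha
      · exact Finset.mem_insert_self _ _
      · exact Finset.mem_insert_of_mem (Finset.mem_insert_of_mem ha)
  have hYs : ∀ z ∈ Y, z • s = s := fun z hz => R_fix hz (Finset.mem_insert_self _ _)
  obtain ⟨q, hq, hsumq⟩ := sum_wt_image (p := p) (Q : Subgroup G) hQY U (cut p s)
    (fun b _ z hz => cut_smul (hYs z hz) b)
    (fun b hb hfx x hx => by
      obtain ⟨z, hz, rfl⟩ := mem_orb.mp hb
      have hx' : x ∈ (cut p s (z • U)).val := by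
        refine mem_of_normalizes (z • (y⁻¹ • Qs)) ?_ (isPel_of_mem Q.2 hx)
          (smul_cs_eq_iff.mp (hfx x hx))
        rw [cut_smul (hYs z hz), hcut]
        exact Subgroup.map_mono hyQ
      have hx'' : x ∈ (z • U).val := (closure_le _).mpr (fun w hw => hw.2.1) hx'
      exact smul_cs_eq_iff.mpr (le_normalizer hx''))
  rw [hcut] at hsumq
  have h1 := hbd Q hQY
  rw [hsumq] at h1
  rw [Finset.card_insert_of_notMem hsT, Nat.cast_add, Nat.cast_one]
  by_contra hge
  push Not at hge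
  have hq1 : (1 : ℤ) ≤ q := by exact_mod_cast hq
  have hpos : (0 : ℤ) ≤ ((T.card : ℤ) + 1) * p := by positivity
  nlinarith

open Classical in
theorem bound_core (hgen : closure {x : G | IsPel p x} = ⊤)
    (hB : ∀ Y : Subgroup G, Y ≠ ⊤ → closure {x : G | IsPel p x ∧ x ∈ Y} = Y → Bound p Y (CS G))
    (P : Sylow p G) (a₀ : α) (hmove : ∃ g : G, g • a₀ ≠ a₀) :
    0 ≤ ∑ c ∈ orb (⊤ : Subgroup G) a₀, wt p (P : Subgroup G) c := by
  by_contra hneg
  push Not at hneg
  have hR0 : (R p (∅ : Finset α) : Subgroup G) = ⊤ := by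
    rw [R]; simpa using hgen
  -- some point is fixed by a Sylow subgroup
  obtain ⟨a, ha, hafix⟩ : ∃ a ∈ orb (⊤ : Subgroup G) a₀, ∀ x ∈ (P : Subgroup G), x • a = a := by
    by_contra hno
    refine not_le.mpr hneg (Finset.sum_nonneg fun c hc => ?_)
    rw [wt, if_neg fun h => hno ⟨c, hc, h⟩]
    have := (Fact.out : p.Prime).one_le
    omega
  have hcov : ∀ γ ∈ orb (⊤ : Subgroup G) a₀, Inv (G := G) p (∅ : Finset α) γ := by
    intro γ hγ
    obtain ⟨g₁, -, hg₁⟩ := mem_orb.mp hγ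
    obtain ⟨g₂, -, hg₂⟩ := mem_orb.mp ha
    set g := g₁ * g₂⁻¹
    have hga : g • a = γ := by rw [← hg₂, mul_smul, inv_smul_smul, hg₁]
    have hQ : ((g • P : Sylow p G) : Subgroup G) ≤ R p ({γ} : Finset α) := by
      refine sylow_le_R _ fun x hx b hb => ?_
      rw [Finset.mem_singleton] at hb
      obtain ⟨q, hq, rfl⟩ := Subgroup.mem_map.mp hx
      show (g * q * g⁻¹) • b = b
      rw [hb, ← hga, mul_smul, mul_smul, inv_smul_smul, hafix q hq]
    refine ⟨⟨g • P, by simpa using hQ⟩, fun Q _ => ?_⟩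
    have horb : orb (⊤ : Subgroup G) γ = orb (⊤ : Subgroup G) a₀ := by
      ext b
      simp only [mem_orb, Subgroup.mem_top, true_and]
      exact ⟨fun ⟨y, hy⟩ => ⟨y * g₁, by rw [mul_smul, hg₁, hy]⟩,
        fun ⟨y, hy⟩ => ⟨y * g₁⁻¹, by rw [mul_smul, ← hg₁, inv_smul_smul, hy]⟩⟩
    obtain ⟨q, hq, hsum⟩ := sum_wt_image (p := p) (Q : Subgroup G) (le_top : _ ≤ ⊤) γ
      (fun b => (⟨R p {b}⟩ : CS G)) (fun b _ z _ => R_smul_singleton z b)
      (fun b hb hfx x hx => by
        obtain ⟨z, -, rfl⟩ := mem_orb.mp hb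
        have hQb : ((z • g • P : Sylow p G) : Subgroup G) ≤ R p ({z • γ} : Finset α) := by
          have := congrArg CS.val (R_smul_singleton (p := p) z γ)
          simp only at this
          rw [this]
          exact Subgroup.map_mono hQ
        exact R_fix (mem_of_normalizes _ hQb (isPel_of_mem Q.2 hx) (smul_cs_eq_iff.mp (hfx x hx)))
          (Finset.mem_singleton_self _))
    rw [horb, ← sum_wt_conj P Q a₀] at hsum
    rw [Finset.card_empty, Nat.cast_zero, zero_mul, insert_empty_eq, hR0]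
    rw [hsum] at hneg
    have hq1 : (0 : ℤ) < q := by exact_mod_cast hq
    by_contra h0
    push Not at h0
    nlinarith
  -- an element of prime-power order with a cycle of length at most `p`
  obtain ⟨x, hx, hxa⟩ : ∃ x : G, IsPel p x ∧ x • a₀ ≠ a₀ := by
    by_contra hno
    push Not at hno
    obtain ⟨g, hg⟩ := hmove
    have : (⊤ : Subgroup G) ≤ stabilizer G a₀ := hgen ▸ (closure_le _).mpr fun y hy => hno y hy
    exact hg (this (mem_top g))
  obtain ⟨y, hy, hy1, hy2⟩ : ∃ y : G, IsPel p y ∧ y • a₀ ≠ a₀ ∧ (y ^ p) • a₀ = a₀ := by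
    obtain ⟨k, hk⟩ := hx
    have hex : ∃ i, (x ^ p ^ i) • a₀ = a₀ := ⟨k, by rw [← hk, pow_orderOf_eq_one, one_smul]⟩
    have h0 : Nat.find hex ≠ 0 := by
      intro h
      have := Nat.find_spec hex
      rw [h, pow_zero, pow_one] at this
      exact hxa this
    obtain ⟨j, hj⟩ := Nat.exists_eq_succ_of_ne_zero h0
    refine ⟨x ^ p ^ j, isPel_pow ⟨k, hk⟩ _, Nat.find_min hex (by omega), ?_⟩
    have h2 := Nat.find_spec hex
    rw [hj] at h2
    rw [← pow_mul, ← pow_succ]
    exact h2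
  set B : Finset α := (Finset.range p).image fun i => (y ^ i) • a₀
  have hBcard : B.card ≤ p := Finset.card_image_le.trans (Finset.card_range p).le
  have hBorb : ∀ b ∈ B, b ∈ orb (⊤ : Subgroup G) a₀ := fun b hb => by
    obtain ⟨i, -, rfl⟩ := Finset.mem_image.mp hb
    exact mem_orb.mpr ⟨y ^ i, mem_top _, rfl⟩
  have ha₀B : a₀ ∈ B := Finset.mem_image.mpr
    ⟨0, Finset.mem_range.mpr (Fact.out : p.Prime).pos, by simp⟩
  have hloop : ∀ k < B.card, ∃ T ⊆ B, T.card = k ∧
      ∀ γ ∈ B \ T, Inv (G := G) p T γ := by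
    intro k
    induction k with
    | zero => exact fun _ => ⟨∅, Finset.empty_subset _, rfl,
        fun γ hγ => hcov γ (hBorb γ (Finset.mem_sdiff.mp hγ).1)⟩
    | succ k ih =>
      intro hk
      obtain ⟨T, hTB, hTk, hT⟩ := ih (by omega)
      have hne : (B \ T).Nonempty := by
        rw [← Finset.card_pos, Finset.card_sdiff_of_subset hTB]
        omega
      obtain ⟨s, hs, hsmax⟩ := Finset.exists_max_image (B \ T)
        (fun x => Nat.card (R p (insert x T) : Subgroup G)) hne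
      obtain ⟨hsB, hsT⟩ := Finset.mem_sdiff.mp hs
      refine ⟨insert s T, Finset.insert_subset hsB hTB, by
        rw [Finset.card_insert_of_notMem hsT, hTk], fun γ hγ => ?_⟩
      have hγT : γ ∈ B \ T := by
        rw [Finset.mem_sdiff] at hγ ⊢
        exact ⟨hγ.1, fun h => hγ.2 (Finset.mem_insert_of_mem h)⟩
      obtain ⟨g, -, hg⟩ := mem_orb.mp (hBorb s hsB)
      have hsmove : ∃ z : G, z • s ≠ s := by
        obtain ⟨z, hz⟩ := hmove
        refine ⟨g * z * g⁻¹, fun h => hz ?_⟩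
        rwa [← hg, mul_smul, mul_smul, inv_smul_smul, smul_left_cancel_iff] at h
      exact inv_step hB hsT hsmove (hT s hs).1 (hT γ hγT) (hsmax γ hγT) (by omega)
  have hBpos : 0 < B.card := Finset.card_pos.mpr ⟨a₀, ha₀B⟩
  obtain ⟨T, hTB, hTk, hT⟩ := hloop (B.card - 1) (by omega)
  obtain ⟨γ, hγ⟩ : (B \ T).Nonempty := by
    rw [← Finset.card_pos, Finset.card_sdiff_of_subset hTB]
    omega
  obtain ⟨hγB, hγT⟩ := Finset.mem_sdiff.mp hγ
  have hins : insert γ T = B := Finset.eq_of_subset_of_card_le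
    (Finset.insert_subset hγB hTB) (by rw [Finset.card_insert_of_notMem hγT]; omega)
  obtain ⟨Q, hQ⟩ := (hT γ hγ).1
  rw [hins] at hQ
  have hyB : ∀ b ∈ B, y • b ∈ B := by
    intro b hb
    obtain ⟨i, hi, rfl⟩ := Finset.mem_image.mp hb
    rw [Finset.mem_range] at hi
    refine Finset.mem_image.mpr ?_
    by_cases h : i + 1 = p
    · refine ⟨0, Finset.mem_range.mpr (Fact.out : p.Prime).pos, ?_⟩
      rw [smul_smul, ← pow_succ', h, hy2, pow_zero, one_smul]
    · exact ⟨i + 1, Finset.mem_range.mpr (by omega), by rw [smul_smul, ← pow_succ']⟩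
  have hyn : y ∈ normalizer ((R p B : Subgroup G) : Set G) := by
    rw [Core.mem_normalizer_iff_map_conj]
    refine eq_of_le_of_card_ge ?_ (card_map_of_injective (MulAut.conj y).injective).ge
    rw [R, MonoidHom.map_closure]
    refine closure_mono ?_
    rintro _ ⟨z, ⟨hz, hzB⟩, rfl⟩
    refine ⟨isPel_conj y hz, fun b hb => ?_⟩
    have hinj : Set.SurjOn (fun b => y • b) (B : Set α) (B : Set α) :=
      Finset.surjOn_of_injOn_of_card_le _ (fun b hb => hyB b hb)
        (fun b _ c _ h => MulAction.injective y h) le_rfl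
    obtain ⟨c, hc, rfl⟩ := hinj hb
    show (y * z * y⁻¹) • y • c = y • c
    rw [mul_smul, mul_smul, inv_smul_smul, hzB c hc]
  exact hy1 (R_fix (mem_of_normalizes Q hQ hy hyn) ha₀B)

end Core

open Classical in
theorem bound_of_rec {G : Type u} [Group G] [Finite G] {α : Type v} [MulAction G α] [Finite α]
    {p : ℕ} [Fact p.Prime] {Y : Subgroup G}
    (hYgen : closure {x : G | IsPel p x ∧ x ∈ Y} = Y)
    (hrec : closure {x : ↥Y | IsPel p x} = ⊤ → ∀ (P : Sylow p ↥Y) (a : α),
      (∃ g : ↥Y, g • a ≠ a) →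
        0 ≤ ∑ c ∈ orb (⊤ : Subgroup ↥Y) a, wt p (P : Subgroup ↥Y) c) :
    Bound p Y (α) := by
  intro Q hQY b hb
  
  have hgenY : closure {x : ↥Y | IsPel p x} = ⊤ := by
    refine Subgroup.map_injective Y.subtype_injective ?_
    rw [MonoidHom.map_closure, ← MonoidHom.range_eq_map, Subgroup.range_subtype]
    refine Eq.trans (congrArg closure ?_) hYgen
    ext x
    constructor
    · rintro ⟨z, ⟨k, hk⟩, rfl⟩
      exact ⟨⟨k, (orderOf_injective Y.subtype Y.subtype_injective z).trans hk⟩, z.2⟩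
    · rintro ⟨⟨k, hk⟩, hx⟩
      exact ⟨⟨x, hx⟩, ⟨k, by rw [Subgroup.orderOf_mk]; exact hk⟩, rfl⟩
  obtain ⟨y, hy, hne⟩ := hb
  have h := hrec hgenY (Q.subtype hQY) b ⟨⟨y, hy⟩, hne⟩
  have hO : orb (⊤ : Subgroup ↥Y) b = orb Y b := by
    ext c
    simp only [mem_orb, Subgroup.mem_top, true_and]
    exact ⟨fun ⟨z, hz⟩ => ⟨z, z.2, hz⟩, fun ⟨z, hz, he⟩ => ⟨⟨z, hz⟩, he⟩⟩
  have hw : ∀ c : α, wt p ((Q.subtype hQY : Sylow p ↥Y) : Subgroup ↥Y) c =
      wt p (Q : Subgroup G) c := by
    intro c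
    have hiff : (∀ x ∈ ((Q.subtype hQY : Sylow p ↥Y) : Subgroup ↥Y), x • c = c) ↔
        ∀ x ∈ (Q : Subgroup G), x • c = c :=
      ⟨fun h x hx => h ⟨x, hQY hx⟩ hx, fun h x hx => h x hx⟩
    simp only [wt, hiff]
  rwa [hO, Finset.sum_congr rfl fun c _ => hw c] at h

open Classical in
theorem bound_aux {p : ℕ} [Fact p.Prime] : ∀ (n : ℕ) (G : Type u) [Group G] [Finite G],
    Nat.card G = n → closure {x : G | IsPel p x} = ⊤ → ∀ (α : Type u) [MulAction G α] [Finite α]
      (P : Sylow p G) (a : α), (∃ g : G, g • a ≠ a) →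
        0 ≤ ∑ c ∈ orb (⊤ : Subgroup G) a, wt p (P : Subgroup G) c := by
  intro n
  induction n using Nat.strong_induction_on with
  | _ n ih =>
    intro G _ _ hn hgen α _ _ P a hmove
    refine bound_core hgen (fun Y hY hYgen => bound_of_rec hYgen fun hgenY => ?_) P a hmove
    exact ih _ (hn ▸ lt_of_le_of_ne (Subgroup.card_le_card_group Y)
      fun h => hY (Subgroup.eq_top_of_card_eq Y h)) (↥Y) rfl hgenY (CS G)

/-- The bound for an action on a type in any universe. -/
theorem bound_all {G : Type u} [Group G] [Finite G] {α : Type v} [MulAction G α] [Finite α] {p : ℕ}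
    [Fact p.Prime] (hgen : closure {x : G | IsPel p x} = ⊤) (P : Sylow p G) (a : α)
    (hmove : ∃ g : G, g • a ≠ a) :
    0 ≤ ∑ c ∈ orb (⊤ : Subgroup G) a, wt p (P : Subgroup G) c :=
  bound_core hgen (fun Y _ hYgen =>
    bound_of_rec hYgen fun hgenY => bound_aux _ (↥Y) rfl hgenY (CS G)) P a hmove

open Classical in
/-- `(2p - 1) n_p(H) ≤ (p - 1) n_p(G)`. -/
theorem card_sylow_bound {G : Type u} [Group G] [Finite G] {p : ℕ} [Fact p.Prime]
    (hgen : closure {g : G | IsPel p g} = ⊤) (H : Subgroup G) (hH : H ≠ ⊤) (P : Sylow p G)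
    (hP : (P : Subgroup G) ≤ H) :
    (2 * p - 1) * Nat.card (Sylow p ↥H) ≤ (p - 1) * Nat.card (Sylow p G) := by
  haveI : Fintype (G ⧸ H) := Fintype.ofFinite _
  haveI : Fintype (Sylow p G) := Fintype.ofFinite _
  set o : G ⧸ H := ((1 : G) : G ⧸ H)
  have hstab : ∀ x : G, x • o = o ↔ x ∈ H := by
    intro x
    show ((x * 1 : G) : G ⧸ H) = _ ↔ _
    rw [QuotientGroup.eq]
    simp
  have hmove : ∃ g : G, g • o ≠ o := by
    obtain ⟨g, hg⟩ : ∃ g : G, g ∉ H := by
      by_contra hall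
      push Not at hall
      exact hH (eq_top_iff.mpr fun x _ => hall x)
    exact ⟨g, fun h => hg ((hstab g).mp h)⟩
  have h0 := bound_aux _ G rfl hgen (G ⧸ H) P o hmove
  have horb : orb (⊤ : Subgroup G) o = Finset.univ := by
    refine Finset.eq_univ_iff_forall.mpr fun c => ?_
    obtain ⟨g, rfl⟩ := QuotientGroup.mk_surjective c
    exact mem_orb.mpr ⟨g, mem_top g, by show ((g * 1 : G) : G ⧸ H) = _; rw [mul_one]⟩
  set A : Sylow p G → G ⧸ H → Prop := fun Q c => ∀ x ∈ (Q : Subgroup G), x • c = c with hA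
  set f : ℕ := (Finset.univ.filter fun c => A P c).card
  set n : ℕ := Fintype.card (G ⧸ H)
  have hsum : ∑ c ∈ orb (⊤ : Subgroup G) o, wt p (P : Subgroup G) c =
      ((p : ℤ) - 1) * n - (2 * (p : ℤ) - 1) * f := by
    rw [horb]
    simp only [wt, Finset.sum_ite, Finset.sum_const, nsmul_eq_mul]
    have hsplit := Finset.card_filter_add_card_filter_not (s := Finset.univ) (fun c => A P c)
    rw [Finset.card_univ] at hsplit
    have hsplit' : ((Finset.univ.filter fun c => A P c).card : ℤ) +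
        (Finset.univ.filter fun c => ¬ A P c).card = n := by exact_mod_cast hsplit
    simp only [hA, f] at hsplit' ⊢
    rw [← hsplit']
    ring
  rw [hsum] at h0
  have hAsmul : ∀ (g : G) (Q : Sylow p G) (c : G ⧸ H), A (g • Q) (g • c) ↔ A Q c := by
    intro g Q c
    constructor
    · intro h x hx
      have h1 := h (g * x * g⁻¹) (Subgroup.mem_map.mpr ⟨x, hx, rfl⟩)
      rwa [mul_smul, mul_smul, inv_smul_smul, smul_left_cancel_iff] at h1
    · intro h x hx
      obtain ⟨z, hz, rfl⟩ := Subgroup.mem_map.mp hx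
      show (g * z * g⁻¹) • g • c = g • c
      rw [mul_smul, mul_smul, inv_smul_smul, h z hz]
  have hrow : ∀ Q : Sylow p G, (Finset.univ.filter fun c => A Q c).card = f := by
    intro Q
    obtain ⟨g, rfl⟩ := MulAction.exists_smul_eq G P Q
    refine (Finset.card_equiv (MulAction.toPerm g) fun c => ?_).symm
    simp [hAsmul]
  set m : ℕ := Nat.card (Sylow p ↥H)
  have hm : (Finset.univ.filter fun Q => A Q o).card = m := by
    rw [← Fintype.card_subtype, ← Nat.card_eq_fintype_card]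
    have key : ∀ Q : Sylow p G, A Q o ↔ (Q : Subgroup G) ≤ H :=
      fun Q => ⟨fun h x hx => (hstab x).mp (h x hx), fun h x hx => (hstab x).mpr (h hx)⟩
    refine Nat.card_eq_of_bijective (fun Q => Q.1.subtype ((key Q.1).mp Q.2)) ⟨?_, ?_⟩
    · intro Q Q' h
      exact Subtype.ext (Sylow.subtype_injective h)
    · intro R'
      obtain ⟨g, hg⟩ := MulAction.exists_smul_eq (↥H) (P.subtype hP) R'
      have hgP : (((g : G) • P : Sylow p G) : Subgroup G) ≤ H := fun x hx => by
        obtain ⟨z, hz, rfl⟩ := Subgroup.mem_map.mp hx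
        exact H.mul_mem (H.mul_mem g.2 (hP hz)) (H.inv_mem g.2)
      refine ⟨⟨(g : G) • P, (key _).mpr hgP⟩, ?_⟩
      rw [← hg]
      exact (Sylow.smul_subtype hP g).symm
  have hcol : ∀ c : G ⧸ H, (Finset.univ.filter fun Q => A Q c).card = m := by
    intro c
    obtain ⟨g, rfl⟩ := QuotientGroup.mk_surjective c
    have e : ((g : G) : G ⧸ H) = g • o := by show _ = ((g * 1 : G) : G ⧸ H); rw [mul_one]
    rw [← hm, e]
    refine (Finset.card_equiv (MulAction.toPerm g) fun Q => ?_).symm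
    simp [hAsmul]
  have hdc : n * m = Fintype.card (Sylow p G) * f := by
    have h1 : ∑ c : G ⧸ H, (Finset.univ.filter fun Q => A Q c).card =
        ∑ Q : Sylow p G, (Finset.univ.filter fun c => A Q c).card := by
      simp only [Finset.card_filter]
      exact Finset.sum_comm
    simpa [hrow, hcol, n] using h1
  have hp1 := (Fact.out : p.Prime).one_le
  have hnpos : 0 < n := Fintype.card_pos
  rw [Nat.card_eq_fintype_card (α := Sylow p G)]
  refine Nat.le_of_mul_le_mul_left (c := n) ?_ hnpos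
  have h2 : (2 * p - 1) * f ≤ (p - 1) * n := by
    zify [hp1, show 1 ≤ 2 * p by omega]
    linarith
  calc n * ((2 * p - 1) * m) = (2 * p - 1) * (n * m) := by ring
    _ = Fintype.card (Sylow p G) * ((2 * p - 1) * f) := by rw [hdc]; ring
    _ ≤ Fintype.card (Sylow p G) * ((p - 1) * n) := Nat.mul_le_mul_left _ h2
    _ = n * ((p - 1) * Fintype.card (Sylow p G)) := by ring

end Cfsg.Lib.Local.SylowFix
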