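import Cfsg.Agent.Lib.Local.SylowControl
import Cfsg.Agent.Lib.Fusion.Alperin
import Cfsg.Prelude.Def_SylowChains

/-!
Chains of Sylow subgroups linked through a family of subgroups.
-/

set_option autoImplicit false

namespace Cfsg.Lib.Local.SylowLinks

open Subgroup Cfsg Cfsg.Lib Cfsg.Lib.Local

universe u

variable {G : Type u} [Group G] {p : ℕ}

/-- One link of a chain. -/
def Link (𝓕 : Set (Subgroup G)) (D : Subgroup G) (S T : Sylow p G) : Prop :=
  ∃ X, X ∈ sylowMembers p 𝓕 (S : Subgroup G) ∧ X ∈ sylowMembers p 𝓕 (T : Subgroup G) ∧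
    ∃ x ∈ X, subgroupConjRight x (T : Subgroup G) = (S : Subgroup G) ∧ D ≤ (T : Subgroup G) ⊓ X

/-- A chain of links. -/
def Linked (𝓕 : Set (Subgroup G)) (D : Subgroup G) : Sylow p G → Sylow p G → Prop :=
  Relation.ReflTransGen (Link 𝓕 D)

theorem Link.mono {𝓕 : Set (Subgroup G)} {D E : Subgroup G} (h : D ≤ E) {S T : Sylow p G}
    (hl : Link 𝓕 E S T) : Link 𝓕 D S T := by
  obtain ⟨X, h1, h2, x, hx, he, hle⟩ := hl
  exact ⟨X, h1, h2, x, hx, he, h.trans hle⟩

theorem Linked.mono {𝓕 : Set (Subgroup G)} {D E : Subgroup G} (h : D ≤ E) {S T : Sylow p G}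
    (hl : Linked 𝓕 E S T) : Linked 𝓕 D S T :=
  by
    induction hl with
    | refl => exact Relation.ReflTransGen.refl
    | tail _ hs ih => exact ih.tail (Link.mono h hs)

theorem linked_of_controls {𝓕 : Set (Subgroup G)} (hc : ControlsSylowIntersections p 𝓕)
    {S T : Sylow p G} {D : Subgroup G} (hD : D ≠ ⊥) (hle : D ≤ (S : Subgroup G) ⊓ (T : Subgroup G)) :
    Linked 𝓕 D S T := by
  rcases eq_or_ne S T with rfl | hne
  · exact Relation.ReflTransGen.refl
  obtain ⟨n, c, X, x, hc0, hcn, hall⟩ := hc S T hne fun e => hD (le_bot_iff.1 (e ▸ hle))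
  have key : ∀ i : Fin (n + 1), Linked 𝓕 D S (c i) := by
    intro i
    induction i using Fin.induction with
    | zero => rw [hc0]; exact Relation.ReflTransGen.refl
    | succ i ih =>
      obtain ⟨h1, h2, h3, h4, h5⟩ := hall i
      exact ih.tail ⟨X i, h1, h2, x i, h3, h4, hle.trans h5⟩
  exact hcn ▸ key (Fin.last n)

theorem controls_of_linked {𝓕 : Set (Subgroup G)}
    (h : ∀ S T : Sylow p G, S ≠ T → (S : Subgroup G) ⊓ (T : Subgroup G) ≠ ⊥ →
      Linked 𝓕 ((S : Subgroup G) ⊓ (T : Subgroup G)) S T) :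
    ControlsSylowIntersections p 𝓕 := by
  intro S T hne hbot
  have hl := h S T hne hbot
  have key : ∀ D : Subgroup G, ∀ S : Sylow p G, Linked 𝓕 D S T →
      ∃ (n : ℕ) (c : Fin (n + 1) → Sylow p G) (X : Fin n → Subgroup G) (x : Fin n → G),
        c 0 = S ∧ c (Fin.last n) = T ∧ ∀ i : Fin n,
          X i ∈ sylowMembers p 𝓕 (c i.castSucc : Subgroup G) ∧ X i ∈ sylowMembers p 𝓕 (c i.succ : Subgroup G) ∧
          x i ∈ X i ∧ subgroupConjRight (x i) (c i.succ : Subgroup G) = (c i.castSucc : Subgroup G) ∧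
          D ≤ (c i.succ : Subgroup G) ⊓ X i := by
    intro D S hl
    induction hl using Relation.ReflTransGen.head_induction_on with
    | refl => exact ⟨0, fun _ => T, Fin.elim0, Fin.elim0, rfl, rfl, fun i => i.elim0⟩
    | head hstep _ ih =>
      rename_i a b _
      obtain ⟨n, c, X, x, hc0, hcn, hall⟩ := ih
      obtain ⟨Y, h1, h2, y, hy, he, hle⟩ := hstep
      refine ⟨n + 1, Fin.cons a c, Fin.cons Y X, Fin.cons y x, rfl, ?_, ?_⟩
      · rw [← Fin.succ_last, Fin.cons_succ, hcn]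
      · intro i
        refine Fin.cases ?_ (fun j => ?_) i
        · rw [Fin.castSucc_zero, Fin.cons_zero, Fin.cons_succ, Fin.cons_zero, Fin.cons_zero, hc0]
          exact ⟨h1, h2, hy, he, hle⟩
        · rw [Fin.cons_succ, ← Fin.succ_castSucc, Fin.cons_succ, Fin.cons_succ, Fin.cons_succ]
          exact hall j
  exact key _ S hl

/-! ### Members of a functor family -/

variable [Finite G] [hp : Fact p.Prime]

/-- A subgroup containing two Sylow subgroups of `G` links them. -/
theorem link_of_le {𝓕 : Set (Subgroup G)} {S T : Sylow p G} {X : Subgroup G} (hX : X ∈ 𝓕)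
    (hS : (S : Subgroup G) ≤ X) (hT : (T : Subgroup G) ≤ X) {D : Subgroup G}
    (hD : D ≤ (T : Subgroup G)) : Link 𝓕 D S T := by
  have hmem : ∀ R : Sylow p G, (R : Subgroup G) ≤ X → X ∈ sylowMembers p 𝓕 (R : Subgroup G) := fun R hR =>
    ⟨hX, R.subtype hR, by rw [Sylow.coe_subtype, map_subgroupOf_eq_of_le hR, inf_eq_left.2 hR]⟩
  refine ⟨X, hmem S hS, hmem T hT, ?_⟩
  obtain ⟨k, hk⟩ := MulAction.exists_smul_eq (↥X) (T.subtype hT) (S.subtype hS)
  rw [Sylow.smul_subtype] at hk
  have hk' : (k : G) • T = S := Sylow.subtype_injective hk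
  refine ⟨(k : G)⁻¹, X.inv_mem k.2, ?_, le_inf hD (hD.trans hT)⟩
  rw [← hk', smul_eq_subgroupConjRight]

theorem card_sylow_eq (M : Subgroup G) (A B : Sylow p ↥M) :
    Nat.card ((A : Subgroup ↥M).map M.subtype) = Nat.card ((B : Subgroup ↥M).map M.subtype) := by
  rw [card_map_of_injective M.subtype_injective, card_map_of_injective M.subtype_injective]
  exact Nat.card_congr (Sylow.equiv A B).toEquiv

theorem eq_sylow_of_card {A : Subgroup G} {S : Sylow p G} (hle : A ≤ (S : Subgroup G))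
    {T : Sylow p G} (hc : Nat.card A = Nat.card (T : Subgroup G)) : A = (S : Subgroup G) :=
  eq_of_le_of_card_ge hle (by rw [hc, Nat.card_congr (Sylow.equiv S T).toEquiv])

variable {f : Subgroup G → Set (Subgroup G)}

/-- A regular subgroup: chains of its Sylow subgroups through normalizers of the functor values. -/
theorem chain_of_regular (hf : IsNormalizerFunctor p f) {M : Subgroup G} (hreg : IsFunctorRegular p f M)
    {A B : Sylow p ↥M} {D : Subgroup G} (hD : D ≠ ⊥)
    (hA : D ≤ (A : Subgroup ↥M).map M.subtype) (hB : D ≤ (B : Subgroup ↥M).map M.subtype) :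
    Relation.ReflTransGen (fun a b : Sylow p ↥M => ∃ P : Sylow p ↥M, ∃ F ∈ f ((P : Subgroup ↥M).map M.subtype),
      (a : Subgroup ↥M).map M.subtype ≤ normalizer (F : Set G) ∧
      (b : Subgroup ↥M).map M.subtype ≤ normalizer (F : Set G) ∧
      D ≤ (a : Subgroup ↥M).map M.subtype ∧ D ≤ (b : Subgroup ↥M).map M.subtype) A B := by
  have hDM : D ≤ M := hA.trans (map_subtype_le _)
  have hD' : D.subgroupOf M ≠ ⊥ := fun e => hD (by
    rw [← map_subgroupOf_eq_of_le hDM, e, Subgroup.map_bot])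
  have hle : ∀ C : Sylow p ↥M, D ≤ (C : Subgroup ↥M).map M.subtype → D.subgroupOf M ≤ (C : Subgroup ↥M) := by
    intro C hC x hx
    obtain ⟨y, hy, e⟩ := hC (mem_subgroupOf.1 hx)
    rwa [show x = y from Subtype.ext e.symm]
  have hl := linked_of_controls hreg hD' (le_inf (hle A hA) (hle B hB))
  suffices key : ∀ C : Sylow p ↥M, Linked ((fun X : Subgroup G => X.subgroupOf M) '' functorFamily p f M)
      (D.subgroupOf M) A C → (D ≤ (C : Subgroup ↥M).map M.subtype ∧
      Relation.ReflTransGen (fun a b : Sylow p ↥M => ∃ P : Sylow p ↥M, ∃ F ∈ f ((P : Subgroup ↥M).map M.subtype),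
      (a : Subgroup ↥M).map M.subtype ≤ normalizer (F : Set G) ∧
      (b : Subgroup ↥M).map M.subtype ≤ normalizer (F : Set G) ∧
      D ≤ (a : Subgroup ↥M).map M.subtype ∧ D ≤ (b : Subgroup ↥M).map M.subtype) A C) from (key B hl).2
  intro C hl
  induction hl with
  | refl => exact ⟨hA, Relation.ReflTransGen.refl⟩
  | @tail a b _ hstep ih =>
    obtain ⟨X, hXa, hXb, x, hx, he, hle⟩ := hstep
    obtain ⟨⟨X₀, ⟨P, F, hF, rfl⟩, rfl⟩, -⟩ := id hXa
    have hPF : (P : Subgroup ↥M).map M.subtype ≤ normalizer (F : Set G) :=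
      le_normalizer.trans ((hf _ (P.2.map _)).1 F hF).2
    set X := (M ⊓ normalizer (F : Set G)).subgroupOf M with hX
    have hPX : (P : Subgroup ↥M) ≤ X := fun y hy => ⟨y.2, hPF ⟨y, hy, rfl⟩⟩
    have hsyl : ∀ R : Sylow p ↥M, X ∈ sylowMembers p
        ((fun X : Subgroup G => X.subgroupOf M) '' functorFamily p f M) (R : Subgroup ↥M) →
        (R : Subgroup ↥M).map M.subtype ≤ normalizer (F : Set G) := by
      rintro R ⟨-, R', hR'⟩
      obtain ⟨T, hT⟩ := (P.2.comap_of_injective X.subtype X.subtype_injective :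
        IsPGroup p ↥((P : Subgroup ↥M).subgroupOf X)).exists_le_sylow
      have h1 := card_le_of_le (show (P : Subgroup ↥M).subgroupOf X ≤ (T : Subgroup ↥X) from hT)
      rw [Nat.card_congr (subgroupOfEquivOfLe hPX).toEquiv, Nat.card_congr (Sylow.equiv T R').toEquiv,
        Nat.card_congr (Sylow.equiv P R).toEquiv,
        ← card_map_of_injective (K := (R' : Subgroup ↥X)) X.subtype_injective, hR'] at h1
      have h2 : (R : Subgroup ↥M) ≤ X := (eq_of_le_of_card_ge inf_le_left h1).ge.trans inf_le_right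
      rintro _ ⟨y, hy, rfl⟩
      exact (h2 hy).2
    have hDb : D ≤ (b : Subgroup ↥M).map M.subtype := fun y hy =>
      ⟨⟨y, hDM hy⟩, (hle (show (⟨y, hDM hy⟩ : ↥M) ∈ D.subgroupOf M from hy)).1, rfl⟩
    exact ⟨hDb, ih.2.tail ⟨P, F, hF, hsyl a hXa, hsyl b hXb, ih.1, hDb⟩⟩

/-- One link through the normalizer of a functor value of a Sylow subgroup. -/
def NLink (f : Subgroup G → Set (Subgroup G)) (D : Subgroup G) (S T : Sylow p G) : Prop :=
  ∃ R : Sylow p G, ∃ F ∈ f (R : Subgroup G),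
    (S : Subgroup G) ≤ normalizer (F : Set G) ∧ (T : Subgroup G) ≤ normalizer (F : Set G) ∧ D ≤ (T : Subgroup G)

/-- A chain of such links. -/
def NLinked (f : Subgroup G → Set (Subgroup G)) (D : Subgroup G) : Sylow p G → Sylow p G → Prop :=
  Relation.ReflTransGen (NLink f D)

omit [Finite G] hp in
theorem coe_smul_eq_map (g : G) (S : Sylow p G) :
    ((g • S : Sylow p G) : Subgroup G) = (S : Subgroup G).map (MulAut.conj g).toMonoidHom := rfl

omit [Finite G] hp in
theorem nlinked_conj (hf : IsNormalizerFunctor p f) (g : G) {D : Subgroup G} {S T : Sylow p G}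
    (h : NLinked f D S T) : NLinked f (D.map (MulAut.conj g).toMonoidHom) (g • S) (g • T) := by
  induction h with
  | refl => exact Relation.ReflTransGen.refl
  | tail _ hs ih =>
    refine ih.tail ?_
    obtain ⟨R, F, hF, h1, h2, h3⟩ := hs
    refine ⟨g • R, F.map (MulAut.conj g).toMonoidHom, ?_, ?_, ?_, ?_⟩
    · rw [coe_smul_eq_map, (hf _ R.2).2 g]
      exact ⟨F, hF, rfl⟩
    · rw [coe_smul_eq_map, ← map_equiv_normalizer_eq]; exact map_mono h1
    · rw [coe_smul_eq_map, ← map_equiv_normalizer_eq]; exact map_mono h2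
    · rw [coe_smul_eq_map]; exact map_mono h3

/-- In a regular subgroup containing a Sylow subgroup of `G`. -/
theorem nlinked_of_regular (hf : IsNormalizerFunctor p f) {M : Subgroup G} (hreg : IsFunctorRegular p f M)
    {S T : Sylow p G} (hS : (S : Subgroup G) ≤ M) (hT : (T : Subgroup G) ≤ M) {D : Subgroup G} (hD : D ≠ ⊥)
    (hDS : D ≤ (S : Subgroup G)) (hDT : D ≤ (T : Subgroup G)) : NLinked f D S T := by
  classical
  have hmap : ∀ R : Sylow p G, ∀ hR : (R : Subgroup G) ≤ M,
      ((R.subtype hR : Sylow p ↥M) : Subgroup ↥M).map M.subtype = (R : Subgroup G) := fun R hR => by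
    rw [Sylow.coe_subtype, map_subgroupOf_eq_of_le hR]
  have hex : ∀ a : Sylow p ↥M, ∃ R : Sylow p G, (a : Subgroup ↥M).map M.subtype = (R : Subgroup G) := by
    intro a
    obtain ⟨R, hR⟩ := (a.2.map M.subtype).exists_le_sylow
    exact ⟨R, eq_sylow_of_card hR ((card_sylow_eq M a (S.subtype hS)).trans (by rw [hmap]))⟩
  choose τ hτ using hex
  have hτS : ∀ R : Sylow p G, ∀ hR : (R : Subgroup G) ≤ M, τ (R.subtype hR) = R := fun R hR =>
    Sylow.ext ((hτ _).symm.trans (hmap R hR))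
  have h := chain_of_regular hf hreg hD (A := S.subtype hS) (B := T.subtype hT)
    (by rwa [hmap]) (by rwa [hmap])
  rw [← hτS S hS, ← hτS T hT]
  suffices hgen : ∀ B, _ → NLinked f D (τ (S.subtype hS)) (τ B) from hgen _ h
  intro B hB
  induction hB with
  | refl => exact Relation.ReflTransGen.refl
  | tail _ hs ih =>
  refine Relation.ReflTransGen.tail ih ?_
  rename_i a b _
  obtain ⟨P, F, hF, ha, hb, -, hDb⟩ := hs
  rw [hτ] at hF ha hb hDb
  exact ⟨τ P, F, hF, ha, hb, hDb⟩

end Cfsg.Lib.Local.SylowLinks
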