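import Cfsg.Prelude.Def_OddOrderLocal
import Cfsg.Agent.S4066
import Cfsg.Agent.Lib.Local.CNSolvable
import Cfsg.Agent.Lib.Local.CNTheorem
import Cfsg.Agent.Lib.Core.Fitting
import Mathlib.GroupTheory.SchurZassenhaus
import Mathlib.GroupTheory.SpecificGroups.Quaternion

/-!
# Groups with TI centralisers: the case of a nontrivial Fitting subgroup
-/

set_option autoImplicit false
set_option linter.style.haveILetI false

namespace Cfsg.Lib.Local.TICent

open Subgroup Cfsg Cfsg.Lib.PGroup.OrderType

universe u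

/-- Every centraliser is a TI-subset. -/
def TIC (G : Type u) [Group G] : Prop :=
  ∀ x : G, IsTISubset (centralizer ({x} : Set G) : Set G)

variable {G : Type u} [Group G] [Finite G]

theorem TIC.normalizes (h : TIC G) {y z c : G} (hz : z ≠ 1) (h1 : Commute z y)
    (h2 : Commute z (c * y * c⁻¹)) : c ∈ normalizer (centralizer ({y} : Set G) : Set G) :=
  Cfsg.Agent.S4066.ti_normalizes h hz h1 h2

omit [Finite G] in
theorem TIC.subgroup (h : TIC G) (H : Subgroup G) : TIC H := by
  intro x g hg y hy hgy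
  by_contra hy1
  refine hg (mem_normalizer_iff.mpr ?_)
  have hn : (g : G) ∈ normalizer (centralizer ({(x : G)} : Set G) : Set G) := by
    by_contra hn
    exact hy1 (Subtype.ext (h (x : G) g hn y
      (mem_centralizer_singleton_iff.mpr (congrArg Subtype.val (mem_centralizer_singleton_iff.mp hy)))
      (mem_centralizer_singleton_iff.mpr (congrArg Subtype.val (mem_centralizer_singleton_iff.mp hgy)))))
  intro w
  have hw := mem_normalizer_iff.mp hn (w : G)
  simp only [mem_centralizer_singleton_iff] at hw ⊢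
  exact ⟨fun e => Subtype.ext (hw.mp (congrArg Subtype.val e)),
    fun e => Subtype.ext (hw.mpr (congrArg Subtype.val e))⟩

/-- With a nontrivial central element, conjugates commute. -/
theorem TIC.commute_conj (h : TIC G) {z : G} (hz : z ∈ center G) (hz1 : z ≠ 1) (g y : G) :
    Commute y (g * y * g⁻¹) := by
  have hn := h.normalizes (y := y) (c := g) hz1 (mem_center_iff.mp hz y).symm (mem_center_iff.mp hz _).symm
  have := (mem_normalizer_iff.mp hn y).mp (mem_centralizer_singleton_iff.mpr rfl)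
  exact (mem_centralizer_singleton_iff.mp this).symm

theorem TIC.isNilpotent (h : TIC G) {z : G} (hz : z ∈ center G) (hz1 : z ≠ 1) : Group.IsNilpotent G := by
  refine CN.isNilpotent_of_commute fun p q a b i j hp hq hpq ha hb => ?_
  have h1 : Commute a (b * a⁻¹ * b⁻¹) := by
    rw [← conj_inv]; exact (h.commute_conj hz hz1 b a).inv_right
  have h2 : Commute (a * b * a⁻¹) b⁻¹ := (h.commute_conj hz hz1 a b).symm.inv_right
  set c := a * b * a⁻¹ * b⁻¹ with hc
  have d1 : orderOf c ∣ p ^ i := by
    rw [hc, show a * b * a⁻¹ * b⁻¹ = a * (b * a⁻¹ * b⁻¹) by group]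
    refine orderOf_dvd_of_pow_eq_one ?_
    rw [h1.mul_pow, conj_pow, inv_pow, ← ha, pow_orderOf_eq_one, inv_one, mul_one, mul_inv_cancel, mul_one]
  have d2 : orderOf c ∣ q ^ j := by
    refine orderOf_dvd_of_pow_eq_one ?_
    rw [hc, h2.mul_pow, conj_pow, inv_pow, ← hb, pow_orderOf_eq_one, mul_one, mul_inv_cancel, inv_one, one_mul]
  have hc1 : c = 1 := orderOf_eq_one_iff.mp
    (Nat.eq_one_of_dvd_coprimes (((Nat.coprime_primes hp hq).mpr hpq).pow _ _) d1 d2)
  show a * b = b * a
  calc a * b = c * (b * a) := by rw [hc]; group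
    _ = b * a := by rw [hc1, one_mul]

theorem TIC.isCN (h : TIC G) : IsCNGroup G := fun g hg =>
  (h.subgroup _).isNilpotent (z := (⟨g, mem_centralizer_singleton_iff.mpr rfl⟩ : centralizer ({g} : Set G)))
    (mem_center_iff.mpr fun w => Subtype.ext (mem_centralizer_singleton_iff.mp w.2))
    fun e => hg (congrArg Subtype.val e)

theorem oddCore_le_of (h : TIC G) {N : Subgroup G} [N.Normal] (hN : Odd (Nat.card N))
    (hF : fittingSubgroup G = ⊥) : N = ⊥ := by
  by_contra hne
  haveI := CN.isSolvable_of_odd hN (CN.isCN_of_injective h.isCN N.subtype N.subtype_injective)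
  haveI : Nontrivial N := (nontrivial_iff_ne_bot N).mpr hne
  have hF' := CN.fitting_ne_bot (G := N)
  refine hF' ?_
  have hle := Cfsg.Lib.Core.fittingSubgroup_map_le_of_isSubnormal (H := N)
    (Subgroup.Normal.isSubnormal inferInstance)
  rwa [hF, le_bot_iff, map_eq_bot_iff_of_injective _ N.subtype_injective] at hle

/-- A Sylow subgroup with nontrivial core is normal. -/
theorem sylow_normal (h : TIC G) {p : ℕ} [Fact p.Prime] (hp : pCore p G ≠ ⊥) (P : Sylow p G) :
    (P : Subgroup G).Normal := by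
  refine normalizer_eq_top_iff.mp (eq_top_iff.mpr fun g _ => ?_)
  refine Sylow.smul_eq_iff_mem_normalizer.mp ?_
  by_contra hne
  refine hp (eq_bot_iff.mpr ?_)
  rw [← Cfsg.Agent.S4066.result h (g • P) P hne]
  exact le_inf (Cfsg.Lib.Core.pCore_le_sylow _) (Cfsg.Lib.Core.pCore_le_sylow _)

theorem fitting_hall (h : TIC G) :
    (Nat.card (fittingSubgroup G)).Coprime (fittingSubgroup G).index := by
  set F := fittingSubgroup G with hF
  have hFn : Group.IsNilpotent F := Cfsg.Lib.Core.fittingSubgroup_isNilpotent G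
  haveI : F.Normal := inferInstance
  refine Nat.coprime_of_dvd' fun p hp h1 h2 => ?_
  exfalso
  have := Fact.mk hp
  obtain ⟨R⟩ : Nonempty (Sylow p F) := inferInstance
  haveI hRn : (R : Subgroup F).Normal :=
    ((Group.isNilpotent_of_finite_tfae (G := F)).out 0 3 rfl rfl).mp hFn p inferInstance R
  haveI : (R : Subgroup F).Characteristic := Sylow.characteristic_of_normal R hRn
  haveI hn : ((R : Subgroup F).map F.subtype).Normal := ConjAct.normal_of_characteristic_of_normal
  have hne : (R : Subgroup F).map F.subtype ≠ ⊥ := by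
    rw [Ne, map_eq_bot_iff_of_injective _ F.subtype_injective]
    exact R.ne_bot_of_dvd_card h1
  have hpc : pCore p G ≠ ⊥ := fun e => hne (le_bot_iff.mp (e ▸ Cfsg.Lib.Core.le_pCore (R.2.map _)))
  obtain ⟨P⟩ : Nonempty (Sylow p G) := inferInstance
  haveI := sylow_normal h hpc P
  have hPF : (P : Subgroup G) ≤ F := Cfsg.Lib.Core.le_fittingSubgroup P.2.isNilpotent
  exact P.not_dvd_index (h2.trans (index_dvd_of_le hPF))

omit [Finite G] in
theorem quaternion_le_two {m : ℕ}
    (hc : ∀ g y : QuaternionGroup m, Commute y (g * y * g⁻¹)) : m ∣ 2 := by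
  have h := (hc (QuaternionGroup.a 1) (QuaternionGroup.xa 0)).eq
  rw [show (QuaternionGroup.a 1 : QuaternionGroup m)⁻¹ = QuaternionGroup.a (-1) from rfl] at h
  simp only [QuaternionGroup.a_mul_xa, QuaternionGroup.xa_mul_a, QuaternionGroup.xa_mul_xa,
    QuaternionGroup.a.injEq] at h
  have h4 : ((4 : ℕ) : ZMod (2 * m)) = 0 := by
    push_cast
    linear_combination -h
  rw [ZMod.natCast_eq_zero_iff] at h4
  exact Nat.dvd_of_mul_dvd_mul_left two_pos (show 2 * m ∣ 2 * 2 from h4)

/-- A nilpotent complement is cyclic or quaternion times cyclic. -/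
theorem complement_shape {H : Type u} [Group H] [Finite H] (h : TIC H) (hA : AbelianCyclic H)
    (hn : Group.IsNilpotent H) :
    IsCyclic H ∨ ∃ m : ℕ, Odd m ∧ Nonempty (H ≃* Multiplicative (ZMod m) × QuaternionGroup 2) := by
  classical
  by_cases hcomm : ∀ a b : H, a * b = b * a
  · haveI : IsMulCommutative (⊤ : Subgroup H) := ⟨⟨fun a b => Subtype.ext (hcomm a b)⟩⟩
    exact Or.inl ((Subgroup.topEquiv (G := H)).isCyclic.mp (hA ⊤ inferInstance))
  right
  haveI : Fact (Nat.Prime 2) := ⟨Nat.prime_two⟩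
  obtain ⟨P⟩ : Nonempty (Sylow 2 H) := inferInstance
  haveI hPn : (P : Subgroup H).Normal :=
    ((Group.isNilpotent_of_finite_tfae (G := H)).out 0 3 rfl rfl).mp hn 2 inferInstance P
  obtain ⟨O, hO⟩ := exists_right_complement'_of_coprime P.card_coprime_index
  have hOodd : Odd (Nat.card O) := by
    rw [← Nat.not_even_iff_odd, even_iff_two_dvd]
    intro h2
    refine P.not_dvd_index ?_
    rwa [hO.symm.index_eq_card]
  have hPO : ∀ x ∈ (P : Subgroup H), ∀ y ∈ O, Commute x y := fun x hx y hy => by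
    obtain ⟨k, hk⟩ := IsPGroup.iff_orderOf.mp P.2 ⟨x, hx⟩
    rw [orderOf_mk] at hk
    refine Cfsg.Lib.PGroup.commute_of_coprime_orderOf x y ?_
    rw [hk]
    refine Nat.Coprime.pow_left _ (Nat.Coprime.coprime_dvd_right ?_ hOodd.coprime_two_left)
    rw [← orderOf_mk y hy]
    exact orderOf_dvd_natCard _
  have hOA : AbelianCyclic O := abelianCyclic_of_injective O.subtype O.subtype_injective hA
  have hOn : Group.IsNilpotent O := inferInstance
  haveI hOc : IsCyclic O := CN.isCyclic_of_odd hOA hOn hOodd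
  let φ : ↥(P : Subgroup H) × ↥O →* H :=
    MonoidHom.noncommCoprod (P : Subgroup H).subtype O.subtype fun x y => hPO x x.2 y y.2
  have hφ : Function.Bijective φ := hO
  have hPc : ¬ IsCyclic (P : Subgroup H) := fun hP => hcomm fun a b => by
    obtain ⟨x, rfl⟩ := hφ.2 a
    obtain ⟨y, rfl⟩ := hφ.2 b
    rw [← map_mul, ← map_mul]
    exact congrArg φ (Prod.ext (mul_comm' _ _) (mul_comm' _ _))
  obtain ⟨-, k, ⟨eQ⟩⟩ := (CN.isCyclic_or_quaternion_of_abelianCyclic
    (abelianCyclic_of_injective (P : Subgroup H).subtype (P : Subgroup H).subtype_injective hA)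
    P.2).resolve_left hPc
  haveI : Nontrivial (P : Subgroup H) := by
    by_contra hne
    rw [not_nontrivial_iff_subsingleton] at hne
    exact hPc inferInstance
  obtain ⟨z, hz⟩ := @exists_ne _ P.2.center_nontrivial (1 : center (P : Subgroup H))
  have hconj : ∀ g y : QuaternionGroup (2 ^ k), Commute y (g * y * g⁻¹) := fun g y => by
    have := ((h.subgroup (P : Subgroup H)).commute_conj z.2 (fun e => hz (Subtype.ext e)) (eQ.symm g)
      (eQ.symm y)).map eQ
    simpa using this
  have hk2 := quaternion_le_two hconj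
  obtain ⟨j, hj, hjk⟩ := (Nat.dvd_prime_pow Nat.prime_two).mp (show 2 ^ k ∣ 2 ^ 1 by simpa using hk2)
  have hk1 : k ≤ 1 := Nat.pow_right_injective le_rfl hjk ▸ hj
  obtain rfl : k = 1 := by
    by_contra hne
    obtain rfl : k = 0 := by omega
    exact hPc (eQ.isCyclic.mpr (by simpa using QuaternionGroup.quaternionGroup_one_isCyclic))
  exact ⟨Nat.card O, hOodd, ⟨(MulEquiv.ofBijective φ hφ).symm.trans (MulEquiv.prodComm.trans
    ((zmodCyclicMulEquiv hOc).symm.prodCongr (eQ.trans (MulEquiv.refl _))))⟩⟩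

/-- A TI-centraliser group with nontrivial Fitting subgroup is nilpotent or Frobenius. -/
theorem of_fitting_ne_bot (h : TIC G) (hF : fittingSubgroup G ≠ ⊥) :
    Group.IsNilpotent G ∨ ∃ H : Subgroup G, IsFrobeniusComplement H ∧
      (IsCyclic H ∨ ∃ m : ℕ, Odd m ∧ Nonempty (H ≃* Multiplicative (ZMod m) × QuaternionGroup 2)) := by
  classical
  by_cases hZ : ∃ z ∈ center G, z ≠ 1
  · obtain ⟨z, hz, hz1⟩ := hZ
    exact Or.inl (h.isNilpotent hz hz1)
  set F := fittingSubgroup G with hFd
  have hFn : Group.IsNilpotent F := Cfsg.Lib.Core.fittingSubgroup_isNilpotent G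
  haveI : F.Normal := inferInstance
  obtain ⟨H, hH⟩ := exists_right_complement'_of_coprime (fitting_hall h)
  obtain ⟨z, hzF, hzc, hz1⟩ : ∃ z ∈ F, (∀ f ∈ F, Commute f z) ∧ z ≠ 1 := by
    obtain ⟨p, hp, hpd⟩ := Nat.exists_prime_and_dvd
      (show Nat.card F ≠ 1 from fun e => hF (eq_bot_of_card_eq F e))
    have := Fact.mk hp
    obtain ⟨z, hz, hzc, hzo⟩ := CN.exists_central (H := F) hFn hpd
    exact ⟨z, hz, hzc, fun e => hp.ne_one (by rw [← hzo, e, orderOf_one])⟩
  have hCF : centralizer (F : Set G) ≤ F := by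
    haveI : (centralizer (F : Set G)).Normal := inferInstance
    refine Cfsg.Lib.Core.le_fittingSubgroup (Cfsg.Lib.Core.isNilpotent_of_le ?_ (h.isCN z hz1))
    exact fun g hg => mem_centralizer_singleton_iff.mpr (mem_centralizer_iff.mp hg z hzF).symm
  have hcop : ∀ b ∈ H, (orderOf b).Coprime (Nat.card F) := fun b hb =>
    ((fitting_hall h).symm.coprime_dvd_left (by
      rw [hH.symm.index_eq_card, ← orderOf_mk b hb]; exact orderOf_dvd_natCard _))
  have hfpf : ∀ b ∈ H, b ≠ 1 → F ⊓ centralizer ({b} : Set G) = ⊥ := by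
    intro b hb hb1
    refine eq_bot_iff.mpr fun f hf => mem_bot.mpr ?_
    by_contra hf1
    have hcf : ∀ w ∈ F, (orderOf b).Coprime (orderOf w) := fun w hw =>
      (hcop b hb).coprime_dvd_right (by rw [← orderOf_mk w hw]; exact orderOf_dvd_natCard _)
    have hbz : Commute b z := CN.commute_in (h.isCN f hf1)
      (mem_centralizer_singleton_iff.mpr (mem_centralizer_singleton_iff.mp hf.2).symm)
      (mem_centralizer_singleton_iff.mpr (hzc f hf.1).symm.eq) (hcf z hzF)
    have hbC : b ∈ centralizer (F : Set G) := mem_centralizer_iff.mpr fun w hw =>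
      (CN.commute_in (h.isCN z hz1) (mem_centralizer_singleton_iff.mpr hbz.eq)
        (mem_centralizer_singleton_iff.mpr (hzc w hw).eq) (hcf w hw)).eq.symm
    exact hb1 (orderOf_eq_one_iff.mp (Nat.eq_one_of_dvd_coprimes (hcop b hb) dvd_rfl (by
      rw [← orderOf_mk b (hCF hbC)]; exact orderOf_dvd_natCard _)))
  have hHn : H ≤ normalizer (F : Set G) := by rw [normalizer_eq_top_iff.mpr ‹F.Normal›]; exact le_top
  by_cases hH1 : H = ⊥
  · left
    have e : F = ⊤ := by
      subst hH1
      exact isComplement'_bot_right.mp hH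
    rw [e] at hFn
    exact Group.nilpotent_of_mulEquiv Subgroup.topEquiv
  right
  exact ⟨H, Cfsg.Lib.Solv.isFrobeniusComplement_of_fpf hH hF hH1 hfpf,
    complement_shape (h.subgroup H) (CN.abelianCyclic_of_fpf hF hFn hHn hfpf)
      (CN.isNilpotent_of_fpf h.isCN hF hFn hHn hfpf)⟩

end Cfsg.Lib.Local.TICent
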