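import Cfsg.Agent.Lib.Local.TICentFrobenius
import Cfsg.Agent.Lib.Invol.AbelianCentralizers.Main
import Cfsg.Agent.Lib.ZStar.Main
import Cfsg.Agent.S0338
import Cfsg.Agent.S0346
import Cfsg.Agent.S1147

/-!
# Groups with TI centralisers: trivial Fitting subgroup

The normaliser of a Sylow 2-subgroup is strongly embedded; on its cosets the group is a Zassenhaus group
whose kernel is an abelian 2-group, so the group is `SL₂(F)`.
-/

set_option autoImplicit false
set_option linter.style.haveILetI false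

namespace Cfsg.Lib.Local.TICent

open Subgroup Cfsg Cfsg.Lib.Invol

universe u

/-- A group acting freely on a finite type has order dividing its cardinality. -/
theorem card_dvd_of_free {M X : Type*} [Group M] [Finite M] [Finite X] [MulAction M X]
    (h : ∀ (m : M) (x : X), m • x = x → m = 1) : Nat.card M ∣ Nat.card X := by
  classical
  haveI := Fintype.ofFinite X
  haveI := Fintype.ofFinite (MulAction.orbitRel.Quotient M X)
  rw [Nat.card_congr (MulAction.selfEquivSigmaOrbitsQuotientStabilizer M X), Nat.card_sigma]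
  refine Finset.dvd_sum fun q _ => ?_
  rw [show MulAction.stabilizer M (Quotient.out q) = ⊥ from eq_bot_iff.mpr fun m hm => mem_bot.mpr (h m _ hm)]
  rw [Nat.card_congr (QuotientGroup.quotientBot).toEquiv]

/-- A coset equals the base coset only for elements of the subgroup. -/
theorem mem_of_mk_eq_one {M : Type*} [Group M] {N : Subgroup M} {g : M}
    (e : (QuotientGroup.mk g : M ⧸ N) = QuotientGroup.mk 1) : g ∈ N := by
  rw [QuotientGroup.eq, mul_one, inv_mem_iff] at e
  exact e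

variable {G : Type u} [Group G] [Finite G]

/-- A TI-centraliser group without nilpotent normal subgroups, with a Sylow 2-subgroup. -/
structure Setup (S : Sylow 2 G) : Prop where
  tic : TIC G
  fit : fittingSubgroup G = ⊥
  nt : Nontrivial G

variable {S : Sylow 2 G} (h : Setup S)
include h

theorem center_bot {z : G} (hz : z ∈ center G) : z = 1 := by
  by_contra hz1
  haveI := h.nt
  have := Cfsg.Lib.Core.fittingSubgroup_eq_top (h.tic.isNilpotent hz hz1)
  rw [h.fit] at this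
  exact bot_ne_top this

theorem even_card : 2 ∣ Nat.card G := by
  by_contra hne
  haveI := h.nt
  haveI := CN.isSolvable_of_odd (Nat.not_even_iff_odd.mp fun e => hne (even_iff_two_dvd.mp e)) h.tic.isCN
  exact CN.fitting_ne_bot h.fit

theorem not_normal : ¬ (S : Subgroup G).Normal := fun hn => by
  haveI : Fact (Nat.Prime 2) := ⟨Nat.prime_two⟩
  haveI := hn
  exact S.ne_bot_of_dvd_card (even_card h)
    (le_bot_iff.mp (h.fit ▸ Cfsg.Lib.Core.le_fittingSubgroup S.2.isNilpotent))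

theorem ne_top : normalizer ((S : Subgroup G) : Set G) ≠ ⊤ := fun e =>
  not_normal h (normalizer_eq_top_iff.mp e)

theorem se : IsStronglyEmbedded (normalizer ((S : Subgroup G) : Set G)) := by
  haveI : Fact (Nat.Prime 2) := ⟨Nat.prime_two⟩
  refine (stronglyEmbedded_iff (ne_top h) (even_iff_two_dvd.mpr ?_)).mpr fun r hr hr2 g hg => ?_
  · refine dvd_trans ?_ (card_dvd_of_le le_normalizer)
    obtain ⟨k, hk⟩ := IsPGroup.iff_card.mp S.2
    rw [hk]
    refine dvd_pow_self 2 fun e => S.ne_bot_of_dvd_card (even_card h) ?_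
    exact eq_bot_of_card_eq _ (by rw [hk, e, pow_zero])
  · refine Sylow.smul_eq_iff_mem_normalizer.mp (by_contra fun hne => ?_)
    have hg2 : orderOf (g * r * g⁻¹) = 2 := by rw [orderOf_conj_eq, hr2]
    have h1 : g * r * g⁻¹ ∈ ((g • S : Sylow 2 G) : Subgroup G) := by
      rw [Sylow.coe_subgroup_smul]
      exact ⟨r, AC.invol_mem hr hr2, by simp⟩
    have h2 : g * r * g⁻¹ ∈ ((g • S : Sylow 2 G) : Subgroup G) ⊓ (S : Subgroup G) := ⟨h1, AC.invol_mem hg hg2⟩
    rw [Cfsg.Agent.S4066.result h.tic _ _ hne, mem_bot] at h2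
    rw [h2, orderOf_one] at hg2
    omega

theorem exists_two :
    ∃ s t : G, s ∈ (S : Subgroup G) ∧ orderOf s = 2 ∧ t ∈ (S : Subgroup G) ∧ orderOf t = 2 ∧ s ≠ t := by
  by_contra hne
  push Not at hne
  obtain ⟨t, ht, ht2⟩ := exists_involution_of_even (se h).2.1
  have htS := AC.invol_mem ht ht2
  have hO : oddCore G = ⊥ :=
    oddCore_le_of h.tic ZStar.odd_card_oddCore h.fit
  have := center_bot h (ZStar.mem_center_of_isolated hO
    (ZStar.isolated_of_unique_involution S ht2 fun x hx hx2 => hne x t hx hx2 htS ht2))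
  rw [this, orderOf_one] at ht2
  omega

theorem exists_central : ∃ t : G, t ∈ (S : Subgroup G) ∧ orderOf t = 2 ∧
    ∀ y ∈ (S : Subgroup G), Commute y t := by
  haveI : Fact (Nat.Prime 2) := ⟨Nat.prime_two⟩
  obtain ⟨s, -, hs, hs2, -⟩ := exists_two h
  have hd : 2 ∣ Nat.card (S : Subgroup G) := by
    have := (S : Subgroup G).orderOf_dvd_natCard hs
    rwa [hs2] at this
  obtain ⟨z, hz, hzc, hzo⟩ := CN.exists_central (H := (S : Subgroup G)) S.2.isNilpotent hd
  exact ⟨z, hz, hzo, hzc⟩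

theorem invol_central {t : G} (ht : t ∈ (S : Subgroup G)) (ht2 : orderOf t = 2) {y : G}
    (hy : y ∈ (S : Subgroup G)) : Commute y t := by
  obtain ⟨z, hz, hz2, hzc⟩ := exists_central h
  obtain ⟨v, hv, hv2⟩ := se_exists_outside (se h)
  obtain ⟨d, hd, rfl⟩ := se_transitive (se h) hv2 hv hz2 (le_normalizer hz) ht2 (le_normalizer ht)
  have h1 : d⁻¹ * y * d ∈ (S : Subgroup G) := by
    have := (mem_normalizer_iff.mp (inv_mem hd.1) y).mp hy
    rwa [inv_inv] at this
  have h2 := (hzc _ h1).eq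
  show y * (d * z * d⁻¹) = d * z * d⁻¹ * y
  calc y * (d * z * d⁻¹) = d * (d⁻¹ * y * d * z) * d⁻¹ := by group
    _ = d * (z * (d⁻¹ * y * d)) * d⁻¹ := by rw [h2]
    _ = d * z * d⁻¹ * y := by group

omit h in
theorem two_mem {x : G} (hx : x ∈ normalizer ((S : Subgroup G) : Set G)) {k : ℕ} (hk : orderOf x = 2 ^ k) :
    x ∈ (S : Subgroup G) := by
  haveI : Fact (Nat.Prime 2) := ⟨Nat.prime_two⟩
  have hp : IsPGroup 2 (zpowers x) := IsPGroup.of_card (n := k) (by rw [Nat.card_zpowers, hk])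
  have h1 := S.is_maximal' (hp.to_sup_of_normal_right' S.2 (zpowers_le.mpr hx)) le_sup_right
  rw [← h1]
  exact mem_sup_left (mem_zpowers x)

/-- An element of `N(S)` lying with an involution `t` of `S` in a nilpotent subgroup centralises `t`. -/
theorem commute_invol {t x : G} (ht : t ∈ (S : Subgroup G)) (ht2 : orderOf t = 2)
    (hx : x ∈ normalizer ((S : Subgroup G) : Set G)) {L : Subgroup G} (hL : Group.IsNilpotent L)
    (hxL : x ∈ L) (htL : t ∈ L) : x ∈ centralizer ({t} : Set G) := by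
  refine Cfsg.Lib.PGroup.mem_of_ordCompl_pow_mem fun q hq _ => mem_centralizer_singleton_iff.mpr ?_
  have ho := Cfsg.Lib.PGroup.orderOf_ordCompl_pow (g := x) hq
  by_cases hq2 : q = 2
  · subst hq2
    exact (invol_central h ht ht2 (two_mem (pow_mem hx _) ho)).eq
  · refine (CN.commute_in hL (pow_mem hxL _) htL ?_).eq
    rw [ho, ht2]
    exact ((Nat.coprime_primes hq Nat.prime_two).mpr hq2).pow_left _

theorem cent_le {t : G} (ht : t ∈ (S : Subgroup G)) (ht2 : orderOf t = 2) :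
    centralizer ({t} : Set G) ≤ normalizer ((S : Subgroup G) : Set G) := fun _ hx =>
  se_centralizer (se h) (le_normalizer ht) ht2 (mem_centralizer_singleton_iff.mp hx)

theorem cent_eq {t t' : G} (ht : t ∈ (S : Subgroup G)) (ht2 : orderOf t = 2) (ht' : t' ∈ (S : Subgroup G))
    (ht2' : orderOf t' = 2) : centralizer ({t} : Set G) = centralizer ({t'} : Set G) := by
  have key : ∀ {a b : G}, a ∈ (S : Subgroup G) → orderOf a = 2 → b ∈ (S : Subgroup G) → orderOf b = 2 →
      centralizer ({a} : Set G) ≤ centralizer ({b} : Set G) := fun ha ha2 hb hb2 x hx =>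
    commute_invol h hb hb2 (cent_le h ha ha2 hx) (h.tic.isCN _ (ne_one ha2)) hx
      (mem_centralizer_singleton_iff.mpr (invol_central h ha ha2 hb).eq)
  exact le_antisymm (key ht ht2 ht' ht2') (key ht' ht2' ht ht2)

section Fixed

variable {t₀ : G} (ht₀ : t₀ ∈ (S : Subgroup G)) (ht₀2 : orderOf t₀ = 2)
include ht₀ ht₀2

theorem S_le : (S : Subgroup G) ≤ centralizer ({t₀} : Set G) := fun _ hy =>
  mem_centralizer_singleton_iff.mpr (invol_central h ht₀ ht₀2 hy).eq

theorem conj_invol_mem {n : G} (hn : n ∈ normalizer ((S : Subgroup G) : Set G)) :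
    n * t₀ * n⁻¹ ∈ (S : Subgroup G) ∧ orderOf (n * t₀ * n⁻¹) = 2 :=
  ⟨(mem_normalizer_iff.mp hn t₀).mp ht₀, by rw [orderOf_conj_eq, ht₀2]⟩

theorem cent_normal {n : G} (hn : n ∈ normalizer ((S : Subgroup G) : Set G)) {x : G}
    (hx : x ∈ centralizer ({t₀} : Set G)) : n * x * n⁻¹ ∈ centralizer ({t₀} : Set G) := by
  obtain ⟨h1, h2⟩ := conj_invol_mem h ht₀ ht₀2 hn
  rw [cent_eq h ht₀ ht₀2 h1 h2, mem_centralizer_singleton_iff]
  rw [mem_centralizer_singleton_iff] at hx
  calc n * x * n⁻¹ * (n * t₀ * n⁻¹) = n * (x * t₀) * n⁻¹ := by group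
    _ = n * (t₀ * x) * n⁻¹ := by rw [hx]
    _ = _ := by group

/-- Nothing of `N(S)` outside the kernel commutes with a nontrivial kernel element. -/
theorem mem_kernel_of_commute {f n : G} (hf : f ∈ centralizer ({t₀} : Set G)) (hf1 : f ≠ 1)
    (hn : n ∈ normalizer ((S : Subgroup G) : Set G)) (hc : Commute n f) :
    n ∈ centralizer ({t₀} : Set G) :=
  commute_invol h ht₀ ht₀2 hn (h.tic.isCN f hf1) (mem_centralizer_singleton_iff.mpr hc.eq)
    (mem_centralizer_singleton_iff.mpr (mem_centralizer_singleton_iff.mp hf).symm)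

/-- The kernels at two different points meet the other point stabiliser trivially. -/
theorem meet {g x : G} (hg : g ∉ normalizer ((S : Subgroup G) : Set G))
    (hx : x ∈ centralizer ({t₀} : Set G)) (hxg : g⁻¹ * x * g ∈ normalizer ((S : Subgroup G) : Set G)) :
    x = 1 := by
  set N := normalizer ((S : Subgroup G) : Set G) with hN
  set F := centralizer ({t₀} : Set G) with hF
  have hFN : F ≤ N := cent_le h ht₀ ht₀2
  obtain ⟨i⟩ : Nonempty (SwapSet N (QuotientGroup.mk 1) (QuotientGroup.mk g)) := by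
    have hne : (QuotientGroup.mk 1 : G ⧸ N) ≠ QuotientGroup.mk g := fun e =>
      hg (by simpa [QuotientGroup.eq] using e)
    refine (Nat.card_pos_iff.mp ?_).1
    rw [(se_swap (se h) hne).1]
    haveI : Nonempty {t : G // orderOf t = 2 ∧ t ∈ N} := ⟨⟨t₀, ht₀2, le_normalizer ht₀⟩⟩
    exact Nat.card_pos
  obtain ⟨u, hu, hug⟩ := i
  rw [MulAction.Quotient.smul_mk, smul_eq_mul, mul_one, QuotientGroup.eq] at hug
  have huN : u ∉ N := fun hu' => hg (by simpa using mul_mem hu' hug)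
  have hu' : u⁻¹ = u := inv_eq_self hu
  have hux : u * x * u⁻¹ ∈ N := by
    have := mul_mem (mul_mem hug hxg) (inv_mem hug)
    rw [hu'] at this ⊢
    simpa [mul_assoc, hu'] using this
  by_contra hx1
  have hno : ∀ c : G, c ∈ F → u * c * u⁻¹ ∈ F → c = 1 := by
    intro c hc hc'
    by_contra hc1
    have hC := h.tic.isCN c hc1
    have htc : t₀ ∈ centralizer ({c} : Set G) :=
      mem_centralizer_singleton_iff.mpr (mem_centralizer_singleton_iff.mp hc).symm
    have hut : u * t₀ * u⁻¹ ∈ centralizer ({c} : Set G) := by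
      rw [mem_centralizer_singleton_iff] at hc hc' ⊢
      have e : u * (u * c * u⁻¹ * t₀) * u⁻¹ = u * (t₀ * (u * c * u⁻¹)) * u⁻¹ := by rw [hc']
      rw [hu'] at e ⊢
      have huu := inv_mul_self hu
      simp only [mul_assoc] at e ⊢
      simp only [← mul_assoc u u, huu, one_mul, mul_one] at e
      exact e.symm
    haveI : Fact (Nat.Prime 2) := ⟨Nat.prime_two⟩
    obtain ⟨z, -, hzc, hzo⟩ := CN.exists_central hC (ht₀2 ▸ orderOf_dvd_natCard _ htc)
    have hzN : z ∈ N := se_centralizer (se h) (le_normalizer ht₀) ht₀2 (hzc t₀ htc).symm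
    exact huN (se_mem (se h) (le_normalizer ht₀) ht₀2
      (se_centralizer (se h) hzN hzo (hzc _ hut)))
  have hy : u * x * u⁻¹ ∉ F := fun hy => hx1 (hno x hx hy)
  -- `x` and `y = uxu` commute, so `y` lies in the kernel
  set y := u * x * u⁻¹ with hyd
  have huy : u * y * u⁻¹ = x := by
    rw [hyd, show u * (u * x * u⁻¹) * u⁻¹ = (u * u) * x * (u * u)⁻¹ by group, inv_mul_self hu, one_mul,
      inv_one, mul_one]
  have hxN : x ∈ N := hFN hx
  have hcF : y * x * y⁻¹ * x⁻¹ ∈ F := mul_mem (cent_normal h ht₀ ht₀2 hux hx) (inv_mem hx)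
  have hcuF : u * (y * x * y⁻¹ * x⁻¹) * u⁻¹ ∈ F := by
    rw [show u * (y * x * y⁻¹ * x⁻¹) * u⁻¹ = (u * y * u⁻¹) * (u * x * u⁻¹) * (u * y * u⁻¹)⁻¹ * (u * x * u⁻¹)⁻¹
      by group, huy, ← hyd, show x * y * x⁻¹ * y⁻¹ = x * (y * x⁻¹ * y⁻¹) by group]
    exact mul_mem hx (cent_normal h ht₀ ht₀2 hux (inv_mem hx))
  have hc := hno _ hcF hcuF
  refine hy (mem_kernel_of_commute h ht₀ ht₀2 hx hx1 hux ?_)
  exact (mul_inv_eq_iff_eq_mul.mp (mul_inv_eq_one.mp hc) :)

/-- Outside the kernel, elements of `N(S)` commute with no involution. -/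
theorem no_invol {d : G} (hdN : d ∈ normalizer ((S : Subgroup G) : Set G))
    (hdF : d ∉ centralizer ({t₀} : Set G)) {r : G} (hr : orderOf r = 2) : ¬ Commute d r := by
  intro hdr
  obtain ⟨a, rfl⟩ := isConj_iff.mp (se_isConj (se h) ht₀2 hr)
  have hx : a⁻¹ * d * a ∈ centralizer ({t₀} : Set G) := by
    rw [mem_centralizer_singleton_iff]
    calc a⁻¹ * d * a * t₀ = a⁻¹ * (d * (a * t₀ * a⁻¹)) * a := by group
      _ = a⁻¹ * (a * t₀ * a⁻¹ * d) * a := by rw [hdr.eq]
      _ = t₀ * (a⁻¹ * d * a) := by group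
  by_cases haN : a ∈ normalizer ((S : Subgroup G) : Set G)
  · refine hdF ?_
    have := cent_normal h ht₀ ht₀2 haN hx
    simpa [mul_assoc] using this
  · have := meet h ht₀ ht₀2 (fun hi => haN (inv_mem_iff.mp hi)) hx (by simpa [mul_assoc] using hdN)
    refine hdF ?_
    have e : d = 1 := by
      have e' := congrArg (fun w => a * w * a⁻¹) this
      simpa [mul_assoc] using e'
    rw [e]; exact one_mem _

theorem odd_orderOf {d : G} (hdN : d ∈ normalizer ((S : Subgroup G) : Set G))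
    (hdF : d ∉ centralizer ({t₀} : Set G)) : Odd (orderOf d) := by
  rw [← Nat.not_even_iff_odd]
  rintro ⟨m, hm⟩
  have hr : orderOf (d ^ m) = 2 := by
    rw [orderOf_pow_of_dvd (by have := orderOf_pos d; omega) ⟨2, by omega⟩, hm]
    exact Nat.div_eq_of_eq_mul_left (by have := orderOf_pos d; omega) (by omega)
  exact no_invol h ht₀ ht₀2 hdN hdF hr ((Commute.refl d).pow_right m)

section Two

variable {u : G} (hu : orderOf u = 2) (huN : u ∉ normalizer ((S : Subgroup G) : Set G))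
include hu huN

/-- The two-point stabiliser has one element for each involution of `N(S)`. -/
theorem card_inter :
    Nat.card ↥(normalizer ((S : Subgroup G) : Set G) ⊓
      (normalizer ((S : Subgroup G) : Set G)).map (MulAut.conj u).toMonoidHom) =
    Nat.card {t : G // orderOf t = 2 ∧ t ∈ normalizer ((S : Subgroup G) : Set G)} := by
  set N := normalizer ((S : Subgroup G) : Set G) with hN
  let f : ↥(N ⊓ N.map (MulAut.conj u).toMonoidHom) → {t : G // orderOf t = 2 ∧ t ∈ N} := fun d =>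
    ⟨d.1 * t₀ * d.1⁻¹, (conj_invol_mem h ht₀ ht₀2 d.2.1).2, le_normalizer (conj_invol_mem h ht₀ ht₀2 d.2.1).1⟩
  refine Nat.card_eq_of_bijective f ⟨fun a b e => ?_, fun t => ?_⟩
  · have e' : a.1 * t₀ * a.1⁻¹ = b.1 * t₀ * b.1⁻¹ := congrArg Subtype.val e
    have hmem : b.1⁻¹ * a.1 ∈ centralizer ({t₀} : Set G) := by
      rw [mem_centralizer_singleton_iff]
      calc b.1⁻¹ * a.1 * t₀ = b.1⁻¹ * (a.1 * t₀ * a.1⁻¹) * a.1 := by group
        _ = t₀ * (b.1⁻¹ * a.1) := by rw [e']; group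
    have := meet h ht₀ ht₀2 huN hmem (mem_conjMap.mp (mul_mem (inv_mem b.2.2) a.2.2))
    exact Subtype.ext (inv_mul_eq_one.mp this).symm
  · obtain ⟨d, hd, he⟩ := se_transitive (se h) hu huN ht₀2 (le_normalizer ht₀) t.2.1 t.2.2
    exact ⟨⟨d, hd⟩, Subtype.ext he⟩

theorem not_mem_kernel {d : G} (hd : d ∈ normalizer ((S : Subgroup G) : Set G) ⊓
    (normalizer ((S : Subgroup G) : Set G)).map (MulAut.conj u).toMonoidHom) (hd1 : d ≠ 1) :
    d ∉ centralizer ({t₀} : Set G) := fun hF => hd1 (meet h ht₀ ht₀2 huN hF (mem_conjMap.mp hd.2))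

/-- An involution outside `N(S)` inverts the two-point stabiliser. -/
theorem inverts {d : G} (hd : d ∈ normalizer ((S : Subgroup G) : Set G) ⊓
    (normalizer ((S : Subgroup G) : Set G)).map (MulAut.conj u).toMonoidHom) :
    u * d * u⁻¹ = d⁻¹ := by
  set D := normalizer ((S : Subgroup G) : Set G) ⊓
    (normalizer ((S : Subgroup G) : Set G)).map (MulAut.conj u).toMonoidHom with hD
  refine CN.inverts_of_fpf (E := zpowers u) (K := D) ?_ (fun e he he1 => ?_) (mem_zpowers u) hu hd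
  · refine zpowers_le.mpr (mem_normalizer_fintype fun x hx => ⟨?_, ?_⟩)
    · have := mem_conjMap.mp hx.2
      rw [inv_eq_self hu] at this ⊢
      exact this
    · refine mem_conjMap.mpr ?_
      rw [show u⁻¹ * (u * x * u⁻¹) * u = x by group]
      exact hx.1
  · obtain ⟨k, rfl⟩ := mem_zpowers_iff.mp he
    have he' : u ^ k = u := by
      rcases Int.even_or_odd k with ⟨j, rfl⟩ | ⟨j, rfl⟩
      · exfalso; apply he1
        rw [← two_mul, zpow_mul, show (u : G) ^ (2 : ℤ) = 1 by rw [zpow_two, inv_mul_self hu], one_zpow]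
      · rw [zpow_add, zpow_one, zpow_mul, show (u : G) ^ (2 : ℤ) = 1 by rw [zpow_two, inv_mul_self hu], one_zpow,
          one_mul]
    rw [he']
    refine eq_bot_iff.mpr fun x hx => mem_bot.mpr (by_contra fun hx1 => ?_)
    exact no_invol h ht₀ ht₀2 hx.1.1 (not_mem_kernel h ht₀ ht₀2 hu huN hx.1 hx1) hu
      (mem_centralizer_singleton_iff.mp hx.2)

/-- A nontrivial two-point stabiliser element fixes exactly two points. -/
theorem two_fixed {d : G} (hd : d ∈ normalizer ((S : Subgroup G) : Set G) ⊓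
    (normalizer ((S : Subgroup G) : Set G)).map (MulAut.conj u).toMonoidHom) (hd1 : d ≠ 1)
    : ∀ x : G ⧸ normalizer ((S : Subgroup G) : Set G), d • x = x →
    x = QuotientGroup.mk 1 ∨ x = QuotientGroup.mk u := by
  classical
  set N := normalizer ((S : Subgroup G) : Set G) with hN
  intro x hx
  haveI : Fact (Nat.Prime 2) := ⟨Nat.prime_two⟩
  set x₀ : G ⧸ N := QuotientGroup.mk 1
  set x₁ : G ⧸ N := QuotientGroup.mk u
  have hdF := not_mem_kernel h ht₀ ht₀2 hu huN hd hd1
  have hd0 : d • x₀ = x₀ := smul_coset_one_eq.mpr hd.1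
  have hd1' : d • x₁ = x₁ := smul_coset_eq_iff.mpr (mem_conjMap.mp hd.2)
  have hux₁ : u • x₁ = x₀ := by
    show QuotientGroup.mk (u * u) = x₀
    rw [inv_mul_self hu]
  have hux₀ : u • x₀ = x₁ := by
    show QuotientGroup.mk (u * 1) = x₁
    rw [mul_one]
  have hinv : u * d * u⁻¹ = d⁻¹ := inverts h ht₀ ht₀2 hu huN hd
  set K := centralizer ({d} : Set G) with hK
  have huK : ∀ k ∈ K, u * k * u ∈ K := fun k hk => by
    rw [mem_centralizer_singleton_iff] at hk ⊢
    have e : d = u * d⁻¹ * u := by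
      nth_rewrite 2 [← inv_eq_self hu]
      rw [← conj_inv, hinv, inv_inv]
    have hk' : k * d⁻¹ = d⁻¹ * k := (Commute.inv_right (show Commute k d from hk)).eq
    have huu := inv_mul_self hu
    calc u * k * u * d = u * k * u * (u * d⁻¹ * u) := by rw [← e]
      _ = u * k * (u * u) * d⁻¹ * u := by group
      _ = u * (k * d⁻¹) * u := by rw [huu, mul_one]; group
      _ = u * (d⁻¹ * k) * u := by rw [hk']
      _ = u * d⁻¹ * (u * u) * k * u := by rw [huu, mul_one]; group
      _ = u * d⁻¹ * u * (u * k * u) := by group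
      _ = d * (u * k * u) := by rw [← e]
  have hpair : ∀ y : G ⧸ N, d • y = y → y ≠ x₀ → ∃ k ∈ K, k • x₁ = y := by
    intro y hy hy0
    obtain ⟨⟨w, hw, hwy⟩⟩ : Nonempty (SwapSet N x₀ y) := by
      refine (Nat.card_pos_iff.mp ?_).1
      rw [(se_swap (se h) (Ne.symm hy0)).1]
      haveI : Nonempty {t : G // orderOf t = 2 ∧ t ∈ N} := ⟨⟨t₀, ht₀2, le_normalizer ht₀⟩⟩
      exact Nat.card_pos
    have hwN : w ∉ N := fun hwN' => hy0 (hwy.symm.trans (smul_coset_one_eq.mpr hwN'))
    have hdw : d ∈ N ⊓ N.map (MulAut.conj w).toMonoidHom := by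
      refine ⟨hd.1, mem_conjMap.mpr ?_⟩
      rw [← hwy, show w • x₀ = (QuotientGroup.mk w : G ⧸ N) from congrArg QuotientGroup.mk (mul_one w)] at hy
      exact smul_coset_eq_iff.mp hy
    have hwd := inverts h ht₀ ht₀2 hw hwN hdw
    refine ⟨w * u, ?_, by rw [mul_smul, hux₁, hwy]⟩
    rw [mem_centralizer_singleton_iff]
    have e : d = u⁻¹ * d⁻¹ * u := by rw [← hinv]; group
    calc w * u * d = w * u * (u⁻¹ * d⁻¹ * u) := by rw [← e]
      _ = (w * d * w⁻¹)⁻¹ * w * u := by group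
      _ = d * (w * u) := by rw [hwd, inv_inv, mul_assoc]
  by_contra hne
  rw [not_or] at hne
  -- all fixed points form one orbit of `K`
  have horb : ∀ y : G ⧸ N, d • y = y → y ∈ MulAction.orbit K x₀ := by
    have hmain : ∀ y : G ⧸ N, d • y = y → y ≠ x₀ → y ≠ x₁ → y ∈ MulAction.orbit K x₀ := by
      intro y hy _ hy1
      have huy : d • (u • y) = u • y := by
        have hdinv : d⁻¹ • y = y := inv_smul_eq_iff.mpr hy.symm
        calc d • (u • y) = (u * (u⁻¹ * d * u)) • y := by rw [← mul_smul]; group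
          _ = u • (d⁻¹ • y) := by
            rw [mul_smul, inv_eq_self hu]
            nth_rewrite 3 [← inv_eq_self hu]
            rw [hinv]
          _ = u • y := by rw [hdinv]
      have huy0 : u • y ≠ x₀ := fun e => hy1 (by
        have e' := congrArg (fun z => u • z) e
        rwa [← mul_smul, inv_mul_self hu, one_smul, hux₀] at e')
      obtain ⟨k, hk, hky⟩ := hpair (u • y) huy huy0
      refine ⟨⟨u * k * u, huK k hk⟩, ?_⟩
      show (u * k * u) • x₀ = y
      rw [mul_smul, hux₀, mul_smul, hky, ← mul_smul, inv_mul_self hu, one_smul]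
    intro y hy
    by_cases hy0 : y = x₀
    · rw [hy0]; exact MulAction.mem_orbit_self _
    by_cases hy1 : y = x₁
    · obtain ⟨k, hk, hkx⟩ := hpair x hx hne.1
      obtain ⟨⟨k', hk'⟩, hk'x⟩ := hmain x hx hne.1 hne.2
      refine ⟨⟨k⁻¹ * k', mul_mem (inv_mem hk) hk'⟩, ?_⟩
      show (k⁻¹ * k') • x₀ = y
      rw [hy1, mul_smul, show k' • x₀ = x from hk'x, inv_smul_eq_iff, hkx]
    · exact hmain y hy hy0 hy1
  have hfixK : ∀ k ∈ K, ∀ y : G ⧸ N, d • y = y → d • (k • y) = k • y := fun k hk y hy => by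
    rw [← mul_smul, ← mem_centralizer_singleton_iff.mp hk, mul_smul, hy]
  have hKodd : Odd (Nat.card K) := by
    rw [← Nat.not_even_iff_odd]
    intro he
    obtain ⟨r, hr, hr2⟩ := exists_involution_of_even he
    exact no_invol h ht₀ ht₀2 hd.1 hdF hr2 (mem_centralizer_singleton_iff.mp hr).symm
  let Ω := MulAction.orbit K x₀
  haveI : Fintype Ω := Fintype.ofFinite _
  have hΩ : ¬ 2 ∣ Fintype.card Ω := by
    rw [← Nat.card_eq_fintype_card, Nat.card_congr (MulAction.orbitEquivQuotientStabilizer K x₀)]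
    exact fun h2 => Nat.not_even_iff_odd.mpr hKodd (even_iff_two_dvd.mpr (h2.trans (card_quotient_dvd_card _)))
  have huΩ : ∀ y ∈ Ω, u • y ∈ Ω := by
    intro y hy
    refine horb _ ?_
    obtain ⟨⟨k, hk⟩, rfl⟩ := hy
    show d • (u • (k • x₀)) = u • (k • x₀)
    rw [← mul_smul u k x₀, show u * k = (u * k * u) * u by rw [mul_assoc (u * k), inv_mul_self hu, mul_one],
      mul_smul, hux₀]
    exact hfixK _ (huK k hk) _ hd1'
  have hσ2 : ∀ y : G ⧸ N, u • u • y = y := fun y => by rw [← mul_smul, inv_mul_self hu, one_smul]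
  let σ : Equiv.Perm Ω :=
    { toFun := fun y => ⟨u • y.1, huΩ _ y.2⟩
      invFun := fun y => ⟨u • y.1, huΩ _ y.2⟩
      left_inv := fun y => Subtype.ext (hσ2 _)
      right_inv := fun y => Subtype.ext (hσ2 _) }
  obtain ⟨⟨y, hy⟩, hyf⟩ := Equiv.Perm.exists_fixed_point_of_prime (p := 2) (n := 1) hΩ (σ := σ)
    (Equiv.ext fun y => by rw [pow_one, pow_two]; exact Subtype.ext (hσ2 _))
  have huy : u • y = y := congrArg Subtype.val hyf
  have hdy : d • y = y := by
    obtain ⟨⟨k, hk⟩, rfl⟩ := hy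
    exact hfixK k hk _ hd0
  obtain ⟨a, rfl⟩ := QuotientGroup.mk_surjective y
  rw [smul_coset_eq_iff] at huy hdy
  have haN : a ∉ N := fun ha => huN (by simpa [mul_assoc] using mul_mem (mul_mem ha huy) (inv_mem ha))
  have hrS := AC.invol_mem huy (by
    have := orderOf_conj_eq a⁻¹ u
    rw [inv_inv] at this
    rw [this, hu])
  have hrF : a⁻¹ * u * a ∈ centralizer ({t₀} : Set G) := S_le h ht₀ ht₀2 hrS
  have hc : a⁻¹ * (d⁻¹ * d⁻¹) * a ∈ centralizer ({t₀} : Set G) := by
    have hm := mul_mem hrF (cent_normal h ht₀ ht₀2 hdy (inv_mem hrF))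
    have e : a⁻¹ * u * a * (a⁻¹ * d * a * (a⁻¹ * u * a)⁻¹ * (a⁻¹ * d * a)⁻¹) =
        a⁻¹ * ((u * d * u⁻¹) * d⁻¹) * a := by group
    rwa [e, hinv] at hm
  have hdd := meet h ht₀ ht₀2 (fun hi => haN (inv_mem_iff.mp hi)) hc
    (by
    have h2 : d⁻¹ * d⁻¹ ∈ N := mul_mem (inv_mem hd.1) (inv_mem hd.1)
    rw [show a⁻¹⁻¹ * (a⁻¹ * (d⁻¹ * d⁻¹) * a) * a⁻¹ = d⁻¹ * d⁻¹ by group]
    exact h2)
  have hd2 : d ^ 2 = 1 := by
    have e : a * (a⁻¹ * (d⁻¹ * d⁻¹) * a) * a⁻¹ = 1 := by rw [hdd]; group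
    rw [show a * (a⁻¹ * (d⁻¹ * d⁻¹) * a) * a⁻¹ = (d ^ 2)⁻¹ by group, inv_eq_one] at e
    exact e
  exact hd1 (AC.eq_one_of_sq hd2 (odd_orderOf h ht₀ ht₀2 hd.1 hdF))

end Two

/-- The number of involutions of `N(S)`. -/
theorem two_le_count :
    2 ≤ Nat.card {t : G // orderOf t = 2 ∧ t ∈ normalizer ((S : Subgroup G) : Set G)} := by
  obtain ⟨s, t, hs, hs2, ht, ht2, hst⟩ := exists_two h
  haveI := Fintype.ofFinite {t : G // orderOf t = 2 ∧ t ∈ normalizer ((S : Subgroup G) : Set G)}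
  rw [Nat.card_eq_fintype_card]
  exact Fintype.one_lt_card_iff.mpr ⟨⟨s, hs2, le_normalizer hs⟩, ⟨t, ht2, le_normalizer ht⟩,
    fun e => hst (congrArg Subtype.val e)⟩

/-- `N(S)` is the kernel times the two-point stabiliser. -/
theorem card_normalizer :
    Nat.card (normalizer ((S : Subgroup G) : Set G)) = Nat.card (centralizer ({t₀} : Set G)) *
      Nat.card {t : G // orderOf t = 2 ∧ t ∈ normalizer ((S : Subgroup G) : Set G)} := by
  obtain ⟨u, huN, hu⟩ := se_exists_outside (se h)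
  rw [← card_inter h ht₀ ht₀2 hu huN, mul_comm, ← Nat.card_prod]
  set N := normalizer ((S : Subgroup G) : Set G)
  set D := N ⊓ N.map (MulAut.conj u).toMonoidHom
  refine (Nat.card_eq_of_bijective (fun q : ↥D × ↥(centralizer ({t₀} : Set G)) =>
    (⟨q.1 * q.2, mul_mem q.1.2.1 (cent_le h ht₀ ht₀2 q.2.2)⟩ : N)) ⟨fun a b e => ?_, fun n => ?_⟩).symm
  · have e' : (a.1 : G) * a.2 = b.1 * b.2 := congrArg Subtype.val e
    have hm : (b.1 : G)⁻¹ * a.1 = b.2 * (a.2 : G)⁻¹ := by
      calc (b.1 : G)⁻¹ * a.1 = (b.1 : G)⁻¹ * (a.1 * a.2) * (a.2 : G)⁻¹ := by group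
        _ = _ := by rw [e']; group
    have := meet h ht₀ ht₀2 huN (hm ▸ mul_mem b.2.2 (inv_mem a.2.2))
      (mem_conjMap.mp (mul_mem (inv_mem b.1.2.2) a.1.2.2))
    have e1 : a.1 = b.1 := Subtype.ext (inv_mul_eq_one.mp this).symm
    refine Prod.ext e1 (Subtype.ext ?_)
    rw [e1] at e'
    exact mul_left_cancel e'
  · obtain ⟨hm, hm2⟩ := conj_invol_mem h ht₀ ht₀2 n.2
    obtain ⟨d, hd, he⟩ := se_transitive (se h) hu huN ht₀2 (le_normalizer ht₀) hm2 (le_normalizer hm)
    refine ⟨(⟨d, hd⟩, ⟨d⁻¹ * n, mem_centralizer_singleton_iff.mpr ?_⟩), Subtype.ext (by simp)⟩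
    calc d⁻¹ * (n : G) * t₀ = d⁻¹ * ((n : G) * t₀ * (n : G)⁻¹) * n := by group
      _ = t₀ * (d⁻¹ * n) := by rw [← he]; group

/-- `N(S)` is transitive on the other points. -/
theorem transitive : ∀ x y : G ⧸ normalizer ((S : Subgroup G) : Set G), x ≠ QuotientGroup.mk 1 →
    y ≠ QuotientGroup.mk 1 → ∃ n ∈ normalizer ((S : Subgroup G) : Set G), n • x = y := by
  classical
  set N := normalizer ((S : Subgroup G) : Set G) with hN
  set F := centralizer ({t₀} : Set G) with hF
  set i := Nat.card {t : G // orderOf t = 2 ∧ t ∈ N}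
  set x₀ : G ⧸ N := QuotientGroup.mk 1
  haveI := Fintype.ofFinite G
  haveI := Fintype.ofFinite (G ⧸ N)
  intro x y hx hy
  have hi : 2 ≤ i := two_le_count h ht₀ ht₀2
  have hrep : ∀ z : G ⧸ N, z ≠ x₀ → ∃ w : G, orderOf w = 2 ∧ w ∉ N ∧ z = QuotientGroup.mk w := by
    intro z hz
    obtain ⟨⟨w, hw, hwz⟩⟩ : Nonempty (SwapSet N x₀ z) := by
      refine (Nat.card_pos_iff.mp ?_).1
      rw [(se_swap (se h) (Ne.symm hz)).1]
      exact lt_of_lt_of_le two_pos hi
    exact ⟨w, hw, fun hwN => hz (hwz.symm.trans (smul_coset_one_eq.mpr hwN)),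
      hwz.symm.trans (congrArg QuotientGroup.mk (mul_one w))⟩
  choose w hw hwN hwz using hrep
  let T : {z : G ⧸ N // z ≠ x₀} → Subgroup G := fun z => N ⊓ N.map (MulAut.conj (w z.1 z.2)).toMonoidHom
  have hT : ∀ z, Nat.card (T z) = i := fun z => card_inter h ht₀ ht₀2 (hw z.1 z.2) (hwN z.1 z.2)
  have hTfix : ∀ z, ∀ d ∈ T z, d • z.1 = z.1 := fun z d hd => by
    rw [hwz z.1 z.2]; exact smul_coset_eq_iff.mpr (mem_conjMap.mp hd.2)
  -- the two-point stabilisers at `x₀` are disjoint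
  let J : (Σ z : {z : G ⧸ N // z ≠ x₀}, {d : T z // d ≠ 1}) → {n : N // (n : G) ∉ F} := fun q =>
    ⟨⟨q.2.1.1, q.2.1.2.1⟩, not_mem_kernel h ht₀ ht₀2 (hw q.1.1 q.1.2) (hwN q.1.1 q.1.2) q.2.1.2
      fun e => q.2.2 (Subtype.ext e)⟩
  have hJ : Function.Injective J := by
    rintro ⟨z, ⟨d, hd⟩, hd1⟩ ⟨z', ⟨d', hd'⟩, hd1'⟩ e
    obtain rfl : d = d' := congrArg (fun n : {n : N // (n : G) ∉ F} => ((n.1 : N) : G)) e
    have hz : z = z' := by
      rcases two_fixed h ht₀ ht₀2 (hw z.1 z.2) (hwN z.1 z.2) hd (fun e => hd1 (Subtype.ext e)) z'.1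
        (hTfix z' d hd') with e1 | e1
      · exact absurd e1 z'.2
      · exact Subtype.ext ((hwz z.1 z.2).trans e1.symm)
    subst hz
    rfl
  have hcount := Nat.card_le_card_of_injective J hJ
  rw [Nat.card_sigma] at hcount
  have hsub : ∀ z, Nat.card {d : T z // d ≠ 1} = i - 1 := fun z => by
    rw [Nat.card_eq_fintype_card, Fintype.card_subtype_compl, Fintype.card_subtype_eq, ← Nat.card_eq_fintype_card, hT]
  simp only [hsub, Finset.sum_const, Finset.card_univ, smul_eq_mul] at hcount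
  have hcompl : Nat.card {n : N // (n : G) ∉ F} = Nat.card F * (i - 1) := by
    have he : Nat.card {n : N // (n : G) ∈ F} = Nat.card F := Nat.card_congr
      { toFun := fun n => ⟨n.1.1, n.2⟩
        invFun := fun f => ⟨⟨f.1, cent_le h ht₀ ht₀2 f.2⟩, f.2⟩
        left_inv := fun _ => rfl
        right_inv := fun _ => rfl }
    rw [Nat.card_eq_fintype_card, Fintype.card_subtype_compl, ← Nat.card_eq_fintype_card (α := N),
      card_normalizer h ht₀ ht₀2, ← Nat.card_eq_fintype_card, he, Nat.mul_sub, mul_one]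
  rw [hcompl] at hcount
  have hle : Fintype.card {z : G ⧸ N // z ≠ x₀} ≤ Nat.card F := Nat.le_of_mul_le_mul_right hcount (Nat.sub_pos_of_lt hi)
  -- the orbit of `x`
  have hstab : Nat.card (MulAction.stabilizer N x) = i := by
    rw [← hT ⟨x, hx⟩]
    refine Nat.card_congr
      { toFun := fun n => ⟨(n.1 : G), n.1.2, mem_conjMap.mpr (smul_coset_eq_iff.mp (hwz x hx ▸ n.2))⟩
        invFun := fun d => ⟨⟨d.1, d.2.1⟩, hTfix ⟨x, hx⟩ d.1 d.2⟩
        left_inv := fun n => rfl
        right_inv := fun d => rfl }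
  have horb : Nat.card (MulAction.orbit N x) = Nat.card F := by
    have e := Subgroup.card_eq_card_quotient_mul_card_subgroup (MulAction.stabilizer N x)
    rw [hstab, card_normalizer h ht₀ ht₀2, ← Nat.card_congr (MulAction.orbitEquivQuotientStabilizer N x)] at e
    exact (Nat.eq_of_mul_eq_mul_right (lt_of_lt_of_le two_pos hi) e).symm
  have hmem : ∀ z ∈ MulAction.orbit N x, z ≠ x₀ := by
    rintro _ ⟨⟨n, hn⟩, rfl⟩ e
    refine hx ?_
    have e' : n • x = x₀ := e
    rw [eq_inv_smul_iff.mpr e']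
    exact smul_coset_one_eq.mpr (inv_mem hn)
  let g : MulAction.orbit N x → {z : G ⧸ N // z ≠ x₀} := fun z => ⟨z.1, hmem _ z.2⟩
  have hg : Function.Bijective g := (show Function.Injective g from fun a b e =>
    Subtype.ext (congrArg Subtype.val e :)).bijective_of_nat_card_le (by rw [horb, Nat.card_eq_fintype_card]; exact hle)
  obtain ⟨⟨z, ⟨n, hn⟩, hnz⟩, hz⟩ := hg.2 ⟨y, hy⟩
  exact ⟨n, hn, hnz.trans (congrArg Subtype.val hz)⟩

/-- The kernel is regular on the other points. -/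
theorem regular : ∀ c d : G ⧸ normalizer ((S : Subgroup G) : Set G), c ≠ QuotientGroup.mk 1 →
    d ≠ QuotientGroup.mk 1 → ∃! f : centralizer ({t₀} : Set G), (f : G) • c = d := by
  classical
  set N := normalizer ((S : Subgroup G) : Set G) with hN
  set F := centralizer ({t₀} : Set G) with hF
  intro c d hc hd
  have hfree : ∀ f ∈ F, f • c = c → f = 1 := by
    intro f hf hfc
    obtain ⟨a, rfl⟩ := QuotientGroup.mk_surjective c
    exact meet h ht₀ ht₀2 (fun ha => hc (QuotientGroup.eq.mpr (by rw [mul_one]; exact inv_mem ha))) hf (smul_coset_eq_iff.mp hfc)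
  obtain ⟨n, hn, hnc⟩ := transitive h ht₀ ht₀2 _ _ hc hd
  obtain ⟨a, rfl⟩ := QuotientGroup.mk_surjective c
  have ha : a ∉ N := fun ha => hc (QuotientGroup.eq.mpr (by rw [mul_one]; exact inv_mem ha))
  obtain ⟨⟨u, hu, hua⟩⟩ : Nonempty (SwapSet N (QuotientGroup.mk 1) (QuotientGroup.mk a)) := by
    refine (Nat.card_pos_iff.mp ?_).1
    rw [(se_swap (se h) hc.symm).1]
    have := two_le_count h ht₀ ht₀2
    omega
  have huN : u ∉ N := fun hu' => hc (hua.symm.trans (smul_coset_one_eq.mpr hu'))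
  have hua' : (QuotientGroup.mk a : G ⧸ N) = QuotientGroup.mk u :=
    hua.symm.trans (congrArg QuotientGroup.mk (mul_one u))
  obtain ⟨hm, hm2⟩ := conj_invol_mem h ht₀ ht₀2 (inv_mem hn)
  obtain ⟨e, he, hee⟩ := se_transitive (se h) hu huN ht₀2 (le_normalizer ht₀) hm2 (le_normalizer hm)
  have hfm : n * e ∈ F := by
    rw [hF, mem_centralizer_singleton_iff]
    calc n * e * t₀ = n * (e * t₀ * e⁻¹) * e := by group
      _ = t₀ * (n * e) := by rw [hee]; group
  have hec : e • (QuotientGroup.mk a : G ⧸ N) = QuotientGroup.mk a := by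
    rw [hua']; exact smul_coset_eq_iff.mpr (mem_conjMap.mp he.2)
  refine ⟨⟨n * e, hfm⟩, by show (n * e) • _ = d; rw [mul_smul, hec, hnc], fun f hf => ?_⟩
  have hf' : (f : G) • (QuotientGroup.mk a : G ⧸ N) = d := hf
  have := hfree ((n * e)⁻¹ * f) (mul_mem (inv_mem hfm) f.2) (by
    rw [mul_smul, hf', inv_smul_eq_iff, mul_smul, hec, hnc])
  exact Subtype.ext (inv_mul_eq_one.mp this).symm

theorem card_points :
    Nat.card (G ⧸ normalizer ((S : Subgroup G) : Set G)) = Nat.card (centralizer ({t₀} : Set G)) + 1 := by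
  classical
  set N := normalizer ((S : Subgroup G) : Set G)
  haveI := Fintype.ofFinite (G ⧸ N)
  obtain ⟨u, huN, hu⟩ := se_exists_outside (se h)
  have hux : (QuotientGroup.mk u : G ⧸ N) ≠ QuotientGroup.mk 1 := fun e => huN (mem_of_mk_eq_one e)
  let f : centralizer ({t₀} : Set G) → {z : G ⧸ N // z ≠ QuotientGroup.mk 1} := fun x =>
    ⟨(x : G) • QuotientGroup.mk u, fun e => hux (by
      rw [eq_inv_smul_iff.mpr e]; exact smul_coset_one_eq.mpr (inv_mem (cent_le h ht₀ ht₀2 x.2)))⟩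
  have hf : Function.Bijective f := by
    refine ⟨fun a b e => ?_, fun z => ?_⟩
    · obtain ⟨w, -, hw⟩ := regular h ht₀ ht₀2 (QuotientGroup.mk u) (f a).1 hux (f a).2
      exact (hw a rfl).trans (hw b (congrArg Subtype.val e).symm).symm
    · obtain ⟨w, hw, -⟩ := regular h ht₀ ht₀2 (QuotientGroup.mk u) z.1 hux z.2
      exact ⟨w, Subtype.ext hw⟩
  rw [Nat.card_eq_of_bijective f hf, Nat.card_eq_fintype_card, Nat.card_eq_fintype_card,
    Fintype.card_subtype_compl, Fintype.card_subtype_eq]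
  have := Fintype.card_pos (α := G ⧸ N)
  omega

theorem isZassenhaus :
    IsZassenhausGroup G (G ⧸ normalizer ((S : Subgroup G) : Set G)) := by
  classical
  set N := normalizer ((S : Subgroup G) : Set G) with hN
  set x₀ : G ⧸ N := QuotientGroup.mk 1
  have htrans : ∀ z : G ⧸ N, ∃ g : G, g • x₀ = z := fun z => by
    obtain ⟨g, rfl⟩ := QuotientGroup.mk_surjective z
    exact ⟨g, congrArg QuotientGroup.mk (mul_one g)⟩
  have h2 : MulAction.IsMultiplyPretransitive G (G ⧸ N) 2 := by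
    rw [MulAction.is_two_pretransitive_iff]
    intro a b c d hab hcd
    obtain ⟨g, hg⟩ := htrans a
    obtain ⟨k, hk⟩ := htrans c
    have hb : g⁻¹ • b ≠ x₀ := fun e => hab (by rw [← hg, ← e, smul_inv_smul])
    have hd : k⁻¹ • d ≠ x₀ := fun e => hcd (by rw [← hk, ← e, smul_inv_smul])
    obtain ⟨n, hn, hnb⟩ := transitive h ht₀ ht₀2 _ _ hb hd
    refine ⟨k * n * g⁻¹, ?_, ?_⟩
    · rw [mul_smul, mul_smul, ← hg, inv_smul_smul, smul_coset_one_eq.mpr hn, hk]
    · rw [mul_smul, mul_smul, hnb, smul_inv_smul]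
  have h3 : ∀ g : G, ∀ a b c : G ⧸ N, a ≠ b → b ≠ c → a ≠ c → g • a = a → g • b = b → g • c = c → g = 1 := by
    intro g a b c hab hbc hac ha hb hc
    obtain ⟨k, rfl⟩ := htrans a
    by_contra hg1
    set e := k⁻¹ * g * k
    have hfix : ∀ z : G ⧸ N, g • z = z → e • (k⁻¹ • z) = k⁻¹ • z := fun z hz => by
      rw [mul_smul, smul_inv_smul, mul_smul, hz]
    have he0 : e ∈ N := smul_coset_one_eq.mp (by have := hfix _ ha; rwa [inv_smul_smul] at this)
    have hb0 : k⁻¹ • b ≠ x₀ := fun e' => hab (by rw [← e', smul_inv_smul])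
    obtain ⟨⟨w, hw, hwb⟩⟩ : Nonempty (SwapSet N x₀ (k⁻¹ • b)) := by
      refine (Nat.card_pos_iff.mp ?_).1
      rw [(se_swap (se h) hb0.symm).1]
      have := two_le_count h ht₀ ht₀2
      omega
    have hwN : w ∉ N := fun hw' => hb0 (hwb.symm.trans (smul_coset_one_eq.mpr hw'))
    have hwb' : k⁻¹ • b = (QuotientGroup.mk w : G ⧸ N) := hwb.symm.trans (congrArg QuotientGroup.mk (mul_one w))
    have hew : e ∈ N ⊓ N.map (MulAut.conj w).toMonoidHom :=
      ⟨he0, mem_conjMap.mpr (smul_coset_eq_iff.mp (hwb' ▸ hfix b hb))⟩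
    have he1 : e ≠ 1 := fun e1 => hg1 (by
      have := congrArg (fun v => k * v * k⁻¹) e1
      simpa [e, mul_assoc] using this)
    rcases two_fixed h ht₀ ht₀2 hw hwN hew he1 (k⁻¹ • c) (hfix c hc) with e' | e'
    · exact hac ((congrArg (k • ·) e'.symm).trans (smul_inv_smul k c))
    · exact hbc (MulAction.injective k⁻¹ (hwb'.trans e'.symm))
  have hcard := card_points h ht₀ ht₀2
  obtain ⟨u, huN, hu⟩ := se_exists_outside (se h)
  have hux : x₀ ≠ QuotientGroup.mk u := fun e => huN (mem_of_mk_eq_one e.symm)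
  refine ⟨⟨fun {g g'} hgg => ?_⟩, h2, h3, ?_, fun K hK htr => ?_⟩
  · have hF2 : 2 ≤ Nat.card (centralizer ({t₀} : Set G)) := by
      refine le_trans ?_ (Nat.le_of_dvd Nat.card_pos
        (orderOf_dvd_natCard _ (mem_centralizer_singleton_iff.mpr rfl : t₀ ∈ centralizer ({t₀} : Set G))))
      rw [ht₀2]
    haveI := Fintype.ofFinite (G ⧸ N)
    obtain ⟨a, b, c, hab, hac, hbc⟩ := Fintype.two_lt_card_iff.mp (show 2 < Fintype.card (G ⧸ N) by
      rw [← Nat.card_eq_fintype_card, hcard]; omega)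
    have := h3 (g'⁻¹ * g) a b c hab hbc hac (by rw [mul_smul, hgg, inv_smul_smul])
      (by rw [mul_smul, hgg, inv_smul_smul]) (by rw [mul_smul, hgg, inv_smul_smul])
    exact (inv_mul_eq_one.mp this).symm
  · have hc : 1 < Nat.card ↥(N ⊓ N.map (MulAut.conj u).toMonoidHom) := by
      rw [card_inter h ht₀ ht₀2 hu huN]; exact two_le_count h ht₀ ht₀2
    obtain ⟨d, hd, hd1⟩ := (N ⊓ N.map (MulAut.conj u).toMonoidHom).bot_or_exists_ne_one.resolve_left fun e => by
      rw [e, card_bot] at hc; omega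
    exact ⟨d, hd1, x₀, QuotientGroup.mk u, hux, smul_coset_one_eq.mpr hd.1,
      smul_coset_eq_iff.mpr (mem_conjMap.mp hd.2)⟩
  · by_contra hne
    push Not at hne
    haveI := hK
    have hodd : Odd (Nat.card (G ⧸ N)) := by
      rw [← Nat.not_even_iff_odd]
      intro he
      haveI : Fact (Nat.Prime 2) := ⟨Nat.prime_two⟩
      exact S.not_dvd_index ((even_iff_two_dvd.mp he).trans (index_dvd_of_le le_normalizer))
    have hKcard : Nat.card K = Nat.card (G ⧸ N) := by
      refine Nat.card_eq_of_bijective (fun k : K => (k : G) • x₀) ⟨fun a b e => ?_, fun z => ?_⟩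
      · have : a⁻¹ * b ∈ MulAction.stabilizer K x₀ := by
          show (a⁻¹ * b) • x₀ = x₀
          rw [mul_smul]
          exact inv_smul_eq_iff.mpr e.symm
        have := (Subgroup.eq_bot_iff_forall _).mp (hne x₀) _ this
        rw [inv_mul_eq_one] at this
        exact this
      · exact htr.exists_smul_eq x₀ z
    have hbot := oddCore_le_of h.tic (N := K) (hKcard ▸ hodd) h.fit
    rw [hbot, card_bot, hcard] at hKcard
    have := Nat.card_pos (α := centralizer ({t₀} : Set G))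
    omega

theorem kernel_eq_sylow : centralizer ({t₀} : Set G) = (S : Subgroup G) := by
  classical
  set N := normalizer ((S : Subgroup G) : Set G)
  haveI : Fact (Nat.Prime 2) := ⟨Nat.prime_two⟩
  haveI := Fintype.ofFinite (G ⧸ N)
  have hZ := isZassenhaus h ht₀ ht₀2
  have hodd : Odd (Fintype.card (G ⧸ N)) := by
    rw [← Nat.not_even_iff_odd, ← Nat.card_eq_fintype_card]
    intro he
    exact S.not_dvd_index ((even_iff_two_dvd.mp he).trans (index_dvd_of_le le_normalizer))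
  haveI : IsSimpleGroup G := Cfsg.Agent.S0338.result hZ hodd
  obtain ⟨p, k, hp, hk, hpk⟩ := Cfsg.Agent.S0346.result hZ
  rw [← Nat.card_eq_fintype_card, card_points h ht₀ ht₀2, Nat.add_sub_cancel] at hpk
  have h2 : 2 ∣ Nat.card (centralizer ({t₀} : Set G)) :=
    ht₀2 ▸ orderOf_dvd_natCard _ (mem_centralizer_singleton_iff.mpr rfl)
  obtain rfl : 2 = p := (Nat.prime_dvd_prime_iff_eq Nat.prime_two hp.nat_prime).mp
    (Nat.prime_two.dvd_of_dvd_pow (hpk ▸ h2))
  refine le_antisymm (fun x hx => ?_) (S_le h ht₀ ht₀2)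
  obtain ⟨j, -, hj⟩ := (Nat.dvd_prime_pow Nat.prime_two).mp
    (show orderOf x ∣ 2 ^ k by rw [hpk]; exact orderOf_dvd_natCard _ hx)
  exact two_mem (cent_le h ht₀ ht₀2 hx) hj

end Fixed

/-- The Sylow 2-subgroup is abelian. -/
theorem sylow_comm : ∀ a ∈ (S : Subgroup G), ∀ b ∈ (S : Subgroup G), a * b = b * a := by
  classical
  by_contra hne
  push Not at hne
  obtain ⟨y, hy, y', hy', hyy⟩ := hne
  haveI : Fact (Nat.Prime 2) := ⟨Nat.prime_two⟩
  obtain ⟨t₀, ht₀, ht₀2, -⟩ := exists_central h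
  set N := normalizer ((S : Subgroup G) : Set G) with hN
  set x₀ : G ⧸ N := QuotientGroup.mk 1
  have hFS := kernel_eq_sylow h ht₀ ht₀2
  have hZ := isZassenhaus h ht₀ ht₀2
  haveI := Fintype.ofFinite (G ⧸ N)
  have hodd : Odd (Fintype.card (G ⧸ N)) := by
    rw [← Nat.not_even_iff_odd, ← Nat.card_eq_fintype_card]
    intro he
    exact S.not_dvd_index ((even_iff_two_dvd.mp he).trans (index_dvd_of_le le_normalizer))
  haveI : IsSimpleGroup G := Cfsg.Agent.S0338.result hZ hodd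
  obtain ⟨u, huN, hu⟩ := se_exists_outside (se h)
  have hux : x₀ ≠ QuotientGroup.mk u := fun e => huN (mem_of_mk_eq_one e.symm)
  have hstab : MulAction.stabilizer G x₀ = N := by
    ext g; exact smul_coset_one_eq
  obtain ⟨n, -, -, hΩ, -, hst, -⟩ := Cfsg.Agent.S1147.result hZ hux (S : Subgroup G)
    (hstab ▸ le_normalizer)
    (fun g hg v hv => (mem_normalizer_iff.mp (hstab ▸ hg : g ∈ N) v).mp hv)
    (fun c d hc hd => by
      obtain ⟨f, hf, huniq⟩ := regular h ht₀ ht₀2 c d hc hd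
      exact ⟨⟨f, hFS ▸ f.2⟩, hf, fun w hw => Subtype.ext (congrArg Subtype.val
        (huniq ⟨w, hFS.symm ▸ w.2⟩ hw) :)⟩)
    S.2 ⟨y, hy, y', hy', hyy⟩
  set D := N ⊓ N.map (MulAut.conj u).toMonoidHom with hD
  have hDstab : MulAction.stabilizer G x₀ ⊓ MulAction.stabilizer G (QuotientGroup.mk u : G ⧸ N) = D := by
    rw [hstab]
    ext g
    exact and_congr Iff.rfl (smul_coset_eq_iff.trans mem_conjMap.symm)
  rw [hDstab, card_inter h ht₀ ht₀2 hu huN] at hst
  set i := Nat.card {t : G // orderOf t = 2 ∧ t ∈ N}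
  rw [card_points h ht₀ ht₀2, hFS, Nat.add_right_cancel_iff] at hΩ
  -- the centraliser of `y` in `S` is invariant under the two-point stabiliser
  set A := centralizer ({y} : Set G) ⊓ (S : Subgroup G) with hA
  have hinvol : ∀ t : G, orderOf t = 2 → t ∈ N → t ∈ A := fun t ht htN =>
    ⟨mem_centralizer_singleton_iff.mpr (invol_central h (AC.invol_mem htN ht) ht hy).symm.eq, AC.invol_mem htN ht⟩
  have hDA : ∀ d ∈ D, ∀ a ∈ A, d * a * d⁻¹ ∈ A := by
    intro d hd a ha
    refine ⟨?_, (mem_normalizer_iff.mp hd.1 a).mp ha.2⟩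
    have hn := h.tic.normalizes (y := y) (c := d) (ne_one ht₀2) (invol_central h ht₀ ht₀2 hy).symm
      (invol_central h ht₀ ht₀2 ((mem_normalizer_iff.mp hd.1 y).mp hy)).symm
    exact (mem_normalizer_iff.mp hn a).mp ha.1
  letI act : MulAction D {a : A // a ≠ 1} :=
    { smul := fun d a => ⟨⟨d * a.1 * (d : G)⁻¹, hDA d d.2 _ a.1.2⟩, fun e => a.2 (Subtype.ext (by
        have e' : (d : G) * a.1 * (d : G)⁻¹ = 1 := congrArg Subtype.val e
        rwa [mul_inv_eq_one, mul_eq_left] at e'))⟩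
      one_smul := fun a => Subtype.ext (Subtype.ext (by show (1 : G) * a.1 * (1 : G)⁻¹ = a.1; simp))
      mul_smul := fun d e a => Subtype.ext (Subtype.ext (by
        show ((d : G) * e) * a.1 * ((d : G) * e)⁻¹ = d * (e * a.1 * (e : G)⁻¹) * (d : G)⁻¹
        group)) }
  have hdvd : Nat.card D ∣ Nat.card {a : A // a ≠ 1} := by
    refine card_dvd_of_free fun d a e => ?_
    have e' : (d : G) * a.1 * (d : G)⁻¹ = a.1 := congrArg (fun z : {a : A // a ≠ 1} => ((z.1 : A) : G)) e
    by_contra hd1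
    refine not_mem_kernel h ht₀ ht₀2 hu huN d.2 (fun e => hd1 (Subtype.ext e)) ?_
    refine mem_kernel_of_commute h ht₀ ht₀2 (hFS.symm ▸ a.1.2.2 : (a.1 : G) ∈ centralizer ({t₀} : Set G))
      (fun e => a.2 (Subtype.ext e)) d.2.1 ?_
    exact mul_inv_eq_iff_eq_mul.mp e'
  haveI := Fintype.ofFinite A
  have hcA : Nat.card {a : A // a ≠ 1} = Nat.card A - 1 := by
    rw [Nat.card_eq_fintype_card, Fintype.card_subtype_compl, Fintype.card_subtype_eq, Nat.card_eq_fintype_card]
  rw [card_inter h ht₀ ht₀2 hu huN, hcA] at hdvd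
  obtain ⟨a, ha⟩ := IsPGroup.iff_card.mp (S.2.to_le (inf_le_right : A ≤ _))
  rw [ha] at hdvd
  have hdvd : i ∣ 2 ^ a - 1 := hdvd
  rw [hst] at hdvd
  -- `A` is larger than the involutions
  have hbig : i + 1 < Nat.card A := by
    have hy1 : y ≠ 1 := fun e => hyy (by rw [e, one_mul, mul_one])
    have hy2 : orderOf y ≠ 2 := fun e => hyy (invol_central h hy e hy').symm.eq
    let J : Option (Option {t : G // orderOf t = 2 ∧ t ∈ N}) → A := fun o => match o with
      | none => 1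
      | some none => ⟨y, mem_centralizer_singleton_iff.mpr rfl, hy⟩
      | some (some t) => ⟨t.1, hinvol t.1 t.2.1 t.2.2⟩
    have hJ : Function.Injective J := by
      rintro (_ | _ | s) (_ | _ | t) e <;> simp only [J] at e
      · rfl
      · exact absurd (congrArg Subtype.val e).symm hy1
      · exact absurd (congrArg Subtype.val e).symm (ne_one t.2.1)
      · exact absurd (congrArg Subtype.val e) hy1
      · rfl
      · exact absurd (by rw [show y = t.1 from congrArg Subtype.val e]; exact t.2.1) hy2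
      · exact absurd (congrArg Subtype.val e) (ne_one s.2.1)
      · exact absurd (by rw [← show s.1 = y from congrArg Subtype.val e]; exact s.2.1) hy2
      · exact congrArg (fun v => some (some v)) (Subtype.ext (congrArg (fun z : A => (z : G)) e : s.1 = t.1))
    have := Nat.card_le_card_of_injective J hJ
    simp only [Finite.card_option] at this
    omega
  rw [ha] at hbig
  have hn : n ∣ a := by
    have hg := Nat.pow_sub_one_gcd_pow_sub_one 2 a n
    rw [Nat.gcd_eq_right hdvd] at hg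
    have hle : 1 ≤ 2 ^ n ∧ 1 ≤ 2 ^ Nat.gcd a n := ⟨Nat.one_le_two_pow, Nat.one_le_two_pow⟩
    have : n = Nat.gcd a n := Nat.pow_right_injective le_rfl (show 2 ^ n = 2 ^ Nat.gcd a n by omega)
    exact this ▸ Nat.gcd_dvd_left a n
  have hna : n < a := by
    refine (Nat.pow_lt_pow_iff_right (le_refl 2)).mp ?_
    have := Nat.one_le_two_pow (n := n)
    omega
  have han : 2 * n ≤ a := by
    obtain ⟨c, rfl⟩ := hn
    have : 2 ≤ c := by
      by_contra hc
      interval_cases c <;> omega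
    calc 2 * n = n * 2 := mul_comm _ _
      _ ≤ n * c := Nat.mul_le_mul le_rfl this
  have hAS : A = (S : Subgroup G) := eq_of_le_of_card_ge inf_le_right (by
    rw [hΩ, ha]; exact Nat.pow_le_pow_right two_pos han)
  exact hyy (mem_centralizer_singleton_iff.mp (hAS.symm ▸ hy' : y' ∈ A).1).symm

/-- The group is `SL₂(F)`. -/
theorem iso_sl : ∃ (F : Type) (_ : Field F) (_ : Fintype F), CharP F 2 ∧ 4 ≤ Fintype.card F ∧
    Nonempty (G ≃* Matrix.SpecialLinearGroup (Fin 2) F) := by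
  classical
  haveI : Fact (Nat.Prime 2) := ⟨Nat.prime_two⟩
  have hcomm := sylow_comm h
  have hab : AC.AbInv G := by
    intro r hr
    obtain ⟨t₀, ht₀, ht₀2, -⟩ := exists_central h
    obtain ⟨a, rfl⟩ := isConj_iff.mp (se_isConj (se h) ht₀2 hr)
    have hmem : ∀ x ∈ centralizer ({a * t₀ * a⁻¹} : Set G), a⁻¹ * x * a ∈ (S : Subgroup G) := fun x hx => by
      rw [← kernel_eq_sylow h ht₀ ht₀2, mem_centralizer_singleton_iff]
      rw [mem_centralizer_singleton_iff] at hx
      calc a⁻¹ * x * a * t₀ = a⁻¹ * (x * (a * t₀ * a⁻¹)) * a := by group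
        _ = a⁻¹ * (a * t₀ * a⁻¹ * x) * a := by rw [hx]
        _ = t₀ * (a⁻¹ * x * a) := by group
    refine ⟨⟨fun x y => Subtype.ext ?_⟩⟩
    have e := hcomm _ (hmem x x.2) _ (hmem y y.2)
    calc (x : G) * y = a * (a⁻¹ * x * a * (a⁻¹ * y * a)) * a⁻¹ := by group
      _ = a * (a⁻¹ * y * a * (a⁻¹ * x * a)) * a⁻¹ := by rw [e]
      _ = y * x := by group
  obtain ⟨s, t, hs, hs2, ht, ht2, hst⟩ := exists_two h
  have hH : AC.Hyp S := ⟨hab, fun hcyc => by
    refine hst (congrArg Subtype.val (?_ : (⟨s, hs⟩ : (S : Subgroup G)) = ⟨t, ht⟩))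
    haveI := hcyc
    haveI := Fintype.ofFinite (S : Subgroup G)
    have hc := IsCyclic.card_orderOf_eq_totient (α := (S : Subgroup G)) (d := 2)
      (by rw [← Nat.card_eq_fintype_card]; have := (S : Subgroup G).orderOf_dvd_natCard hs; rwa [hs2] at this)
    rw [Nat.totient_two, Finset.card_eq_one] at hc
    obtain ⟨w, hw⟩ := hc
    have e1 : (⟨s, hs⟩ : (S : Subgroup G)) ∈ ({w} : Finset _) := by rw [← hw]; simp [orderOf_mk, hs2]
    have e2 : (⟨t, ht⟩ : (S : Subgroup G)) ∈ ({w} : Finset _) := by rw [← hw]; simp [orderOf_mk, ht2]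
    rw [Finset.mem_singleton] at e1 e2
    rw [e1, e2], not_normal h⟩
  obtain ⟨F, _, _, A, _, _, hF, hA, ⟨ψ⟩⟩ := AC.structure_of_hyp _ G rfl S hH
  haveI := hF
  have hA1 : ∀ a : A, a = 1 := fun a => by
    have hc : ψ.symm (1, a) = 1 := center_bot h (mem_center_iff.mpr fun g => ψ.injective (by
      rw [map_mul, map_mul, ψ.apply_symm_apply]
      exact Prod.ext (by simp) (mul_comm _ _)))
    have := congrArg ψ hc
    rw [ψ.apply_symm_apply, map_one] at this
    exact congrArg Prod.snd this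
  haveI : Unique A := ⟨⟨1⟩, hA1⟩
  exact ⟨F, inferInstance, inferInstance, hF,
    AC.four_le_card ψ hA hs2 ht2 hst (invol_central h ht ht2 hs), ⟨ψ.trans MulEquiv.prodUnique⟩⟩

end Cfsg.Lib.Local.TICent
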