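import Mathlib

/-!
# 3-minimal alternating groups

If all proper subgroups of `Alt(n)` over a nontrivial 3-subgroup `T` lie in one proper subgroup
`M`, then `n ∈ {6, 9}` or `n = 3^a + 1`.  Two overlapping sets on which `M` contains all three
cycles can be joined, so no knowledge of the structure of `T` beyond its orbits is needed.
-/

set_option autoImplicit false

namespace Cfsg.Lib.Local.ThreeMinimalAlt

open Equiv Equiv.Perm Subgroup
open scoped Pointwise

variable {n : ℕ}

/-- the three cycle `a ↦ b ↦ c ↦ a` -/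
def tc (a b c : Fin n) : Perm (Fin n) := swap a b * swap b c

theorem tc_fst {a b c : Fin n} (hab : a ≠ b) (hac : a ≠ c) : tc a b c a = b := by
  rw [tc, Perm.mul_apply, swap_apply_of_ne_of_ne hab hac, swap_apply_left]

theorem tc_snd {a b c : Fin n} (hac : a ≠ c) (hbc : b ≠ c) : tc a b c b = c := by
  rw [tc, Perm.mul_apply, swap_apply_left, swap_apply_of_ne_of_ne hac.symm hbc.symm]

theorem tc_thd {a b c : Fin n} : tc a b c c = a := by
  rw [tc, Perm.mul_apply, swap_apply_right, swap_apply_right]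

theorem tc_other {a b c x : Fin n} (ha : x ≠ a) (hb : x ≠ b) (hc : x ≠ c) : tc a b c x = x := by
  rw [tc, Perm.mul_apply, swap_apply_of_ne_of_ne hb hc, swap_apply_of_ne_of_ne ha hb]

theorem tc_rotate {a b c : Fin n} (hab : a ≠ b) (hac : a ≠ c) (hbc : b ≠ c) :
    tc a b c = tc b c a := by
  ext x : 1
  by_cases ha : x = a
  · subst ha; rw [tc_fst hab hac, tc_thd]
  by_cases hb : x = b
  · subst hb; rw [tc_snd hac hbc, tc_fst hbc hab.symm]
  by_cases hc : x = c
  · subst hc; rw [tc_thd, tc_snd hab.symm hac.symm]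
  rw [tc_other ha hb hc, tc_other hb hc ha]

theorem tc_inv {a b c : Fin n} : (tc a b c)⁻¹ = tc c b a := by
  rw [tc, tc, mul_inv_rev, swap_inv, swap_inv, swap_comm b c, swap_comm a b]

theorem tc_conj (g : Perm (Fin n)) (a b c : Fin n) : g * tc a b c * g⁻¹ = tc (g a) (g b) (g c) := by
  rw [tc, tc, swap_apply_apply, swap_apply_apply]
  simp [mul_assoc]

theorem tc_mem_alt {a b c : Fin n} (hab : a ≠ b) (hbc : b ≠ c) :
    tc a b c ∈ alternatingGroup (Fin n) := by
  rw [tc, mem_alternatingGroup, map_mul, sign_swap hab, sign_swap hbc]; rfl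

theorem tc_pow_three {a b c : Fin n} (hab : a ≠ b) (hac : a ≠ c) (hbc : b ≠ c) :
    tc a b c ^ 3 = 1 := by
  ext x : 1
  simp only [pow_succ, pow_zero, one_mul, Perm.mul_apply, Perm.one_apply]
  by_cases ha : x = a
  · subst ha; rw [tc_fst hab hac, tc_snd hac hbc, tc_thd]
  by_cases hb : x = b
  · subst hb; rw [tc_snd hac hbc, tc_thd, tc_fst hab hac]
  by_cases hc : x = c
  · subst hc; rw [tc_thd, tc_fst hab hac, tc_snd hac hbc]
  rw [tc_other ha hb hc, tc_other ha hb hc, tc_other ha hb hc]

/-- all three cycles inside `U` lie in `M` -/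
def Good (M : Subgroup (Perm (Fin n))) (U : Set (Fin n)) : Prop :=
  ∀ a ∈ U, ∀ b ∈ U, ∀ c ∈ U, a ≠ b → a ≠ c → b ≠ c → tc a b c ∈ M

variable {M : Subgroup (Perm (Fin n))}

theorem Good.mono {U V : Set (Fin n)} (h : Good M U) (hVU : V ⊆ U) : Good M V :=
  fun a ha b hb c hc => h a (hVU ha) b (hVU hb) c (hVU hc)

theorem Good.image {U : Set (Fin n)} (h : Good M U) {g : Perm (Fin n)} (hg : g ∈ M) :
    Good M (g '' U) := by
  rintro _ ⟨a, ha, rfl⟩ _ ⟨b, hb, rfl⟩ _ ⟨c, hc, rfl⟩ hab hac hbc
  rw [← tc_conj]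
  exact mul_mem (mul_mem hg (h a ha b hb c hc (fun e => hab (by rw [e])) (fun e => hac (by rw [e]))
    (fun e => hbc (by rw [e])))) (inv_mem hg)

theorem Good.extend {U : Set (Fin n)} (h : Good M U) {x y c : Fin n} (hx : x ∈ U) (hy : y ∈ U)
    (hxy : x ≠ y) (hc : c ∉ U) (hm : tc x y c ∈ M) : Good M (insert c U) := by
  have hne : ∀ a ∈ U, a ≠ c := fun a ha e => hc (e ▸ ha)
  have symm : ∀ a ∈ U, ∀ b ∈ U, a ≠ b → tc a b c ∈ M → tc b a c ∈ M := by
    intro a ha b hb hab hm'
    have := inv_mem hm'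
    rw [tc_inv, tc_rotate (hne b hb).symm (hne a ha).symm hab.symm] at this
    exact this
  have step : ∀ a ∈ U, ∀ b ∈ U, ∀ d ∈ U, a ≠ b → d ≠ a → tc a b c ∈ M → tc a d c ∈ M := by
    intro a ha b hb d hd hab hda hm'
    by_cases hdb : d = b
    · rwa [hdb]
    have h1 := symm a ha b hb hab hm'
    have hk := h b hb a ha d hd hab.symm (Ne.symm hdb) hda.symm
    have h2 := mul_mem (mul_mem hk h1) (inv_mem hk)
    rw [tc_conj, tc_fst hab.symm (Ne.symm hdb), tc_snd (Ne.symm hdb) hda.symm,
      tc_other (hne b hb).symm (hne a ha).symm (hne d hd).symm] at h2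
    exact h2
  have all : ∀ a ∈ U, ∀ b ∈ U, a ≠ b → tc a b c ∈ M := by
    intro a ha b hb hab
    by_cases hax : a = x
    · subst hax
      exact step a ha y hy b hb hxy hab.symm hm
    · have h1 := symm x hx a ha (Ne.symm hax) (step x hx y hy a ha hxy hax hm)
      exact step a ha x hx b hb hax hab.symm h1
  intro a ha b hb d hd hab had hbd
  rcases ha with ha | ha
  · have hb' := hb.resolve_left (fun e => hab (ha.trans e.symm))
    have hd' := hd.resolve_left (fun e => had (ha.trans e.symm))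
    subst ha
    rw [tc_rotate hab had hbd]
    exact all b hb' d hd' hbd
  rcases hb with hb | hb
  · have hd' := hd.resolve_left (fun e => hbd (hb.trans e.symm))
    subst hb
    rw [tc_rotate hab had hbd, tc_rotate hbd hab.symm had.symm]
    exact all d hd' a ha had.symm
  rcases hd with hd | hd
  · subst hd
    exact all a ha b hb hab
  exact h a ha b hb d hd hab had hbd

theorem Good.union {U V : Set (Fin n)} (hU : Good M U) (hV : Good M V) (hU3 : 2 < U.ncard)
    (hV3 : 2 < V.ncard) (hne : (U ∩ V).Nonempty) : Good M (U ∪ V) := by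
  classical
  suffices h : ∀ W : Finset (Fin n), (∀ v ∈ W, v ∈ V) → Good M (U ∪ (W : Set (Fin n))) by
    have := h V.toFinset (fun v hv => Set.mem_toFinset.1 hv)
    rwa [Set.coe_toFinset] at this
  intro W hW
  induction W using Finset.induction with
  | empty => simpa using hU
  | @insert c W hcW ih =>
    have hcV : c ∈ V := hW c (Finset.mem_insert_self c W)
    have hW' : ∀ v ∈ W, v ∈ V := fun v hv => hW v (Finset.mem_insert_of_mem hv)
    specialize ih hW'
    rw [Finset.coe_insert, Set.union_insert]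
    set U' := U ∪ (W : Set (Fin n)) with hU'
    by_cases hcU : c ∈ U'
    · rwa [Set.insert_eq_of_mem hcU]
    obtain ⟨x, hxU, hxV⟩ := hne
    have hxU' : x ∈ U' := Or.inl hxU
    have hxc : x ≠ c := fun e => hcU (e ▸ hxU')
    obtain ⟨v, hvV, hvn⟩ := Set.exists_mem_notMem_of_ncard_lt_ncard (s := ({x, c} : Set (Fin n)))
      (t := V) (by rw [Set.ncard_pair hxc]; exact hV3) (Set.toFinite _)
    simp only [Set.mem_insert_iff, Set.mem_singleton_iff, not_or] at hvn
    by_cases hvU : v ∈ U'
    · exact ih.extend hxU' hvU (Ne.symm hvn.1) hcU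
        (hV x hxV v hvV c hcV (Ne.symm hvn.1) hxc hvn.2)
    · obtain ⟨u, huU, hun⟩ := Set.exists_mem_notMem_of_ncard_lt_ncard (s := ({x} : Set (Fin n)))
        (t := U) (by rw [Set.ncard_singleton]; omega) (Set.toFinite _)
      obtain ⟨w, hwU, hwn⟩ := Set.exists_mem_notMem_of_ncard_lt_ncard (s := ({x, u} : Set (Fin n)))
        (t := U) (by rw [Set.ncard_pair (fun e => hun e.symm)]; exact hU3) (Set.toFinite _)
      simp only [Set.mem_singleton_iff] at hun
      simp only [Set.mem_insert_iff, Set.mem_singleton_iff, not_or] at hwn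
      have hcu : c ≠ u := fun e => hcU (e ▸ Or.inl huU)
      have hcw : c ≠ w := fun e => hcU (e ▸ Or.inl hwU)
      have hvu : v ≠ u := fun e => hvU (e ▸ Or.inl huU)
      have hvw : v ≠ w := fun e => hvU (e ▸ Or.inl hwU)
      have hA := hU x hxU u huU w hwU (Ne.symm hun) (Ne.symm hwn.1) (Ne.symm hwn.2)
      have hB := hV x hxV c hcV v hvV hxc (Ne.symm hvn.1) (Ne.symm hvn.2)
      have hm := mul_mem (mul_mem (mul_mem hA hB) (inv_mem hA)) (inv_mem hB)
      rw [tc_conj, tc_fst (Ne.symm hun) (Ne.symm hwn.1), tc_other hxc.symm hcu hcw,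
        tc_other hvn.1 hvu hvw, tc_inv] at hm
      have key : tc u c v * tc v c x = tc x u c := by
        have huc := hcu.symm
        have huv := hvu.symm
        have hcv : c ≠ v := Ne.symm hvn.2
        have hvx : v ≠ x := hvn.1
        ext z : 1
        rw [Perm.mul_apply]
        by_cases hzx : z = x
        · subst hzx
          rw [tc_thd, tc_thd, tc_fst (Ne.symm hun) hxc]
        by_cases hzu : z = u
        · subst hzu
          rw [tc_other huv huc hzx, tc_fst huc huv, tc_snd hxc huc]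
        by_cases hzc : z = c
        · subst hzc
          rw [tc_snd hvx hxc.symm, tc_other (Ne.symm hun) hxc hvx.symm, tc_thd]
        by_cases hzv : z = v
        · subst hzv
          rw [tc_fst hvn.2 hvx, tc_snd huv hcv, tc_other hvx hvu hvn.2]
        rw [tc_other hzv hzc hzx, tc_other hzu hzc hzv, tc_other hzx hzu hzc]
      rw [key] at hm
      exact ih.extend hxU' (Or.inl huU) (Ne.symm hun) hcU hm

theorem Good.alt_le {U : Set (Fin n)} (h : Good M U) (hU : U = Set.univ) :
    alternatingGroup (Fin n) ≤ M := by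
  rw [← closure_three_cycles_eq_alternating, closure_le]
  intro s hs
  obtain ⟨a, ha⟩ : s.support.Nonempty := by
    rw [← Finset.card_pos, IsThreeCycle.card_support hs]; norm_num
  have hnd := (IsThreeCycle.nodup_iff_mem_support hs).2 ha
  rw [(IsThreeCycle.eq_swap_mul_swap_iff_mem_support hs).2 ha]
  simp only [List.nodup_cons, List.mem_cons, List.not_mem_nil, or_false, not_or] at hnd
  exact h a (hU ▸ Set.mem_univ _) (s a) (hU ▸ Set.mem_univ _) (s (s a)) (hU ▸ Set.mem_univ _)
    hnd.1.1 hnd.1.2 hnd.2.1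

/-- swap of two orbits of a fixed-point-free permutation of order three -/
def sw (w : Perm (Fin n)) (x y : Fin n) : Perm (Fin n) :=
  swap x y * swap (w x) (w y) * swap (w (w x)) (w (w y))

/-- the orbit of `x` under a permutation of order three -/
def orb (w : Perm (Fin n)) (x : Fin n) : Set (Fin n) := {x, w x, w (w x)}

theorem overlap {w : Perm (Fin n)} (hfix : ∀ a, w a ≠ a) (h3 : ∀ a, w (w (w a)) = a)
    (hcw : ∀ σ ∈ alternatingGroup (Fin n), σ * w = w * σ → σ ∈ M)
    {C D : Set (Fin n)} (hC : Good M C) (hD : Good M D) (hC9 : 9 ≤ C.ncard) (hD3 : 2 < D.ncard)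
    {x y : Fin n} (hx : x ∈ C) (hy : y ∈ D) (hyC : y ∉ C) (hxy : y ∉ orb w x) :
    Good M (C ∪ D) := by
  classical
  have hinj := w.injective
  have h2 : ∀ a, w (w a) ≠ a := fun a e => hfix a (by have := h3 a; rw [e] at this; exact this)
  have hrot : ∀ a b, b ∈ orb w a → a ∈ orb w b := by
    intro a b hb
    rcases hb with rfl | rfl | rfl
    · exact Or.inl rfl
    · exact Or.inr (Or.inr (h3 a).symm)
    · exact Or.inr (Or.inl (h3 a).symm)
  have hclosed : ∀ a b, b ∈ orb w a → w b ∈ orb w a := by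
    intro a b hb
    rcases hb with rfl | rfl | rfl
    · exact Or.inr (Or.inl rfl)
    · exact Or.inr (Or.inr rfl)
    · exact Or.inl (h3 a)
  -- two further orbits meeting `C`
  obtain ⟨p, hpC, hp⟩ := Set.exists_mem_notMem_of_ncard_lt_ncard
    (s := orb w x ∪ orb w y) (t := C) (by
      refine lt_of_le_of_lt (Set.ncard_union_le _ _) ?_
      have e : ∀ z, (orb w z).ncard ≤ 3 := fun z =>
        le_trans (Set.ncard_insert_le _ _) (Nat.succ_le_succ (le_trans (Set.ncard_insert_le _ _)
          (by rw [Set.ncard_singleton])))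
      have := e x; have := e y; omega) (Set.toFinite _)
  obtain ⟨q, hqC, hq⟩ := Set.exists_mem_notMem_of_ncard_lt_ncard
    (s := (orb w x ∪ orb w y ∪ orb w p) ∩ C) (t := C) (by
      have e : ∀ z, (orb w z).ncard ≤ 3 := fun z =>
        le_trans (Set.ncard_insert_le _ _) (Nat.succ_le_succ (le_trans (Set.ncard_insert_le _ _)
          (by rw [Set.ncard_singleton])))
      have hy2 : (orb w y ∩ C).ncard ≤ 2 := by
        have hs : orb w y ∩ C ⊆ {w y, w (w y)} := fun z hz =>
          hz.1.resolve_left (fun h => hyC (h ▸ hz.2))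
        exact le_trans (Set.ncard_le_ncard hs (Set.toFinite _))
          (le_trans (Set.ncard_insert_le _ _) (by rw [Set.ncard_singleton]))
      rw [Set.union_inter_distrib_right, Set.union_inter_distrib_right]
      refine lt_of_le_of_lt (Set.ncard_union_le _ _) ?_
      have h12 := Set.ncard_union_le (orb w x ∩ C) (orb w y ∩ C)
      have h1 := le_trans (Set.ncard_le_ncard (Set.inter_subset_left : orb w x ∩ C ⊆ orb w x)
        (Set.toFinite _)) (e x)
      have h3' := le_trans (Set.ncard_le_ncard (Set.inter_subset_left : orb w p ∩ C ⊆ orb w p)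
        (Set.toFinite _)) (e p)
      omega) (Set.toFinite _)
  have hq' : q ∉ orb w x ∪ orb w y ∪ orb w p := fun h => hq ⟨h, hqC⟩
  simp only [Set.mem_union, not_or] at hp hq'
  -- the permutation
  have hdist : ∀ a b, b ∉ orb w a → ∀ z, (z = a ∨ z = w a ∨ z = w (w a)) →
      z ≠ b ∧ z ≠ w b ∧ z ≠ w (w b) := by
    intro a b hb z hz
    have hzm : z ∈ orb w a := hz
    refine ⟨fun e => hb (e ▸ hzm), fun e => ?_, fun e => ?_⟩
    · have := hclosed _ _ (hclosed _ _ hzm); rw [e, h3] at this; exact hb this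
    · have := hclosed _ _ hzm; rw [e, h3] at this; exact hb this
  have hcomm : ∀ a b, b ∉ orb w a → sw w a b * w = w * sw w a b := by
    intro a b hb
    have e1 : ∀ u v : Fin n, w * swap u v = swap (w u) (w v) * w := fun u v => by
      rw [swap_apply_apply, inv_mul_cancel_right]
    obtain ⟨a1, a2, a3⟩ := hdist a b hb a (Or.inl rfl)
    obtain ⟨b1, b2, b3⟩ := hdist a b hb (w a) (Or.inr (Or.inl rfl))
    obtain ⟨c1, c2, c3⟩ := hdist a b hb (w (w a)) (Or.inr (Or.inr rfl))
    have d12 : Commute (swap a b) (swap (w a) (w b)) :=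
      (Perm.disjoint_swap_swap (by simp [(hfix a).symm, a1, a2, b1.symm, (hfix b).symm])).commute
    have d13 : Commute (swap a b) (swap (w (w a)) (w (w b))) :=
      (Perm.disjoint_swap_swap (by simp [(h2 a).symm, a1, a3, c1.symm, (h2 b).symm])).commute
    show swap a b * swap (w a) (w b) * swap (w (w a)) (w (w b)) * w
      = w * (swap a b * swap (w a) (w b) * swap (w (w a)) (w (w b)))
    conv_rhs => rw [← mul_assoc, ← mul_assoc, e1, mul_assoc (swap (w a) (w b)) w, e1,
      ← mul_assoc (swap (w a) (w b)), mul_assoc _ w, e1, h3, h3, ← mul_assoc]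
    congr 1
    rw [mul_assoc]
    exact (d12.mul_right d13).eq
  have happ : ∀ a b, b ∉ orb w a → sw w a b a = b := by
    intro a b hb
    obtain ⟨a1, a2, a3⟩ := hdist a b hb a (Or.inl rfl)
    rw [sw, Perm.mul_apply, Perm.mul_apply, swap_apply_of_ne_of_ne (h2 a).symm a3,
      swap_apply_of_ne_of_ne (hfix a).symm a2, swap_apply_left]
  have happ' : ∀ a b z, z ∉ orb w a → z ∉ orb w b → sw w a b z = z := by
    intro a b z ha hb
    simp only [orb, Set.mem_insert_iff, Set.mem_singleton_iff, not_or] at ha hb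
    rw [sw, Perm.mul_apply, Perm.mul_apply, swap_apply_of_ne_of_ne ha.2.2 hb.2.2,
      swap_apply_of_ne_of_ne ha.2.1 hb.2.1, swap_apply_of_ne_of_ne ha.1 hb.1]
  have hsign : ∀ a b, b ∉ orb w a → sign (sw w a b) = -1 := by
    intro a b hb
    obtain ⟨a1, -, -⟩ := hdist a b hb a (Or.inl rfl)
    rw [sw, map_mul, map_mul, sign_swap a1, sign_swap (fun e => a1 (hinj e)),
      sign_swap (fun e => a1 (hinj (hinj e)))]
    rfl
  set g := sw w x y * sw w p q with hg
  have hgM : g ∈ M := by
    refine hcw g ?_ ?_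
    · rw [mem_alternatingGroup, hg, map_mul, hsign x y hxy, hsign p q hq'.2]; rfl
    · rw [hg, mul_assoc, hcomm p q hq'.2, ← mul_assoc, hcomm x y hxy, mul_assoc]
  have hgx : g x = y := by
    rw [hg, Perm.mul_apply, happ' p q x (fun h => hp.1 (hrot _ _ h)) (fun h => hq'.1.1 (hrot _ _ h)),
      happ x y hxy]
  have hgp : g p = q := by
    rw [hg, Perm.mul_apply, happ p q hq'.2, happ' x y q hq'.1.1 hq'.1.2]
  have hgC := hC.image hgM
  have hgC3 : 2 < (g '' C).ncard := by
    rw [Set.ncard_image_of_injective _ g.injective]; omega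
  have h1 := hC.union hgC (by omega) hgC3 ⟨q, hqC, p, hpC, hgp⟩
  have h2' := h1.union hD (lt_of_lt_of_le (by omega : 2 < C.ncard)
    (Set.ncard_le_ncard Set.subset_union_left (Set.toFinite _))) hD3
    ⟨y, Or.inr ⟨x, hx, hgx⟩, hy⟩
  exact h2'.mono (Set.union_subset_union_left _ Set.subset_union_left)

section

variable {T : Subgroup (Perm (Fin n))}

theorem mem_orbit_iff' {x a : Fin n} : a ∈ MulAction.orbit T x ↔ ∃ t ∈ T, t x = a :=
  ⟨fun ⟨t, h⟩ => ⟨t, t.2, h⟩, fun ⟨t, ht, h⟩ => ⟨⟨t, ht⟩, h⟩⟩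

theorem orbit_closed {x a : Fin n} {t : Perm (Fin n)} (ht : t ∈ T) :
    t a ∈ MulAction.orbit T x ↔ a ∈ MulAction.orbit T x := by
  constructor
  · rintro ⟨s, hs⟩
    refine ⟨⟨t, ht⟩⁻¹ * s, ?_⟩
    show t⁻¹ ((s : Perm (Fin n)) x) = a
    rw [show (s : Perm (Fin n)) x = t a from hs, ← Perm.mul_apply, inv_mul_cancel, Perm.one_apply]
  · rintro ⟨s, hs⟩
    exact ⟨⟨t, ht⟩ * s, congrArg t hs⟩

/-- on a nontrivial orbit of a 3-group there is an invariant fixed-point-free permutation of
order three commuting with the group -/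
theorem exists_cube_root (hT : IsPGroup 3 T) {x : Fin n}
    (hx : 1 < (MulAction.orbit T x).ncard) :
    ∃ z : Perm (Fin n), (∀ t ∈ T, z * t = t * z) ∧ (∀ a ∉ MulAction.orbit T x, z a = a) ∧
      (∀ a ∈ MulAction.orbit T x, z a ≠ a ∧ z (z (z a)) = a ∧ z a ∈ MulAction.orbit T x) := by
  classical
  haveI : Fact (Nat.Prime 3) := ⟨Nat.prime_three⟩
  set O := MulAction.orbit T x with hO
  set ρ : T →* Perm O := MulAction.toPermHom T O with hρ
  have hR : IsPGroup 3 ρ.range := by
    have := hT.of_surjective ρ.rangeRestrict ρ.rangeRestrict_surjective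
    exact this
  obtain ⟨a, b, ha, hb, hab⟩ := (Set.one_lt_ncard_iff (Set.toFinite _)).1 hx
  haveI : Nontrivial ρ.range := by
    by_contra hn
    rw [not_nontrivial_iff_subsingleton] at hn
    obtain ⟨s, hs⟩ := ha
    obtain ⟨t, ht⟩ := hb
    have : ρ s = ρ t := congrArg Subtype.val
      (Subsingleton.elim (⟨ρ s, s, rfl⟩ : ρ.range) ⟨ρ t, t, rfl⟩)
    have := congrArg Subtype.val (Equiv.congr_fun this ⟨x, MulAction.mem_orbit_self x⟩)
    exact hab (hs.symm.trans (this.trans ht))
  have hnt := hR.center_nontrivial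
  have hc3 : 3 ∣ Nat.card (Subgroup.center ρ.range) := by
    obtain ⟨k, hk⟩ := IsPGroup.iff_card.1 (hR.to_subgroup (Subgroup.center ρ.range))
    have h1 : 1 < Nat.card (Subgroup.center ρ.range) := Finite.one_lt_card
    rw [hk] at h1 ⊢
    exact dvd_pow_self 3 (by rintro rfl; simp at h1)
  obtain ⟨c, hc⟩ := exists_prime_orderOf_dvd_card' (G := Subgroup.center ρ.range) 3 hc3
  set c0 : Perm O := ((c : ρ.range) : Perm O) with hc0
  have hc1 : c0 ≠ 1 := fun e => by
    have : c = 1 := Subtype.ext (Subtype.ext e)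
    rw [this, orderOf_one] at hc; norm_num at hc
  have hc03 : c0 ^ 3 = 1 := by
    have := congrArg (fun u : Subgroup.center ρ.range => ((u : ρ.range) : Perm O))
      (pow_orderOf_eq_one c)
    simpa [hc] using this
  have hcc : ∀ s : T, c0 * ρ s = ρ s * c0 := fun s => by
    have := congrArg Subtype.val (Subgroup.mem_center_iff.1 c.2 ⟨ρ s, s, rfl⟩)
    exact this.symm
  have hmove : ∀ a : O, c0 a ≠ a := by
    intro a e
    refine hc1 (Equiv.ext fun b => ?_)
    obtain ⟨s, hs⟩ := MulAction.exists_smul_eq T a b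
    have := Equiv.congr_fun (hcc s) a
    rw [Perm.mul_apply, Perm.mul_apply, e] at this
    rw [Perm.one_apply, ← hs]
    exact this
  refine ⟨Perm.ofSubtype c0, fun t ht => Equiv.ext fun a => ?_,
    fun a ha => Perm.ofSubtype_apply_of_not_mem c0 ha, fun a ha => ?_⟩
  · rw [Perm.mul_apply, Perm.mul_apply]
    by_cases ha : a ∈ O
    · rw [Perm.ofSubtype_apply_of_mem c0 ((orbit_closed ht).2 ha),
        Perm.ofSubtype_apply_of_mem c0 ha]
      exact congrArg Subtype.val (Equiv.congr_fun (hcc ⟨t, ht⟩) ⟨a, ha⟩)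
    · rw [Perm.ofSubtype_apply_of_not_mem c0 ha,
        Perm.ofSubtype_apply_of_not_mem c0 (fun h => ha ((orbit_closed ht).1 h))]
  · rw [Perm.ofSubtype_apply_of_mem c0 ha, Perm.ofSubtype_apply_coe, Perm.ofSubtype_apply_coe]
    refine ⟨fun e => hmove ⟨a, ha⟩ (Subtype.ext e), ?_, (c0 ⟨a, ha⟩).2⟩
    have := congrArg Subtype.val (Equiv.congr_fun hc03 ⟨a, ha⟩)
    simpa [pow_succ] using this

end

/-- the stabilizer of a set -/
def setStab (C : Set (Fin n)) : Subgroup (Perm (Fin n)) where
  carrier := {σ | ∀ a, σ a ∈ C ↔ a ∈ C}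
  mul_mem' := fun {s t} hs ht a => (hs (t a)).trans (ht a)
  one_mem' := fun a => Iff.rfl
  inv_mem' := fun {s} hs a => by
    have := hs (s⁻¹ a)
    rw [← Perm.mul_apply, mul_inv_cancel, Perm.one_apply] at this
    exact this.symm

/-- the stabilizer of an equivalence relation given by a map -/
def relStab (f : Fin n → Set (Fin n)) : Subgroup (Perm (Fin n)) where
  carrier := {σ | ∀ a b, f (σ a) = f (σ b) ↔ f a = f b}
  mul_mem' := fun {s t} hs ht a b => (hs (t a) (t b)).trans (ht a b)
  one_mem' := fun a b => Iff.rfl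
  inv_mem' := fun {s} hs a b => by
    have := hs (s⁻¹ a) (s⁻¹ b)
    rw [← Perm.mul_apply, mul_inv_cancel, Perm.one_apply, ← Perm.mul_apply, mul_inv_cancel, Perm.one_apply] at this
    exact this.symm

/-- the main theorem -/
theorem core (hn : 5 ≤ n) {T : Subgroup (Perm (Fin n))} (hT : IsPGroup 3 T) (hT1 : T ≠ ⊥)
    (hM : ¬ alternatingGroup (Fin n) ≤ M)
    (habove : ∀ H : Subgroup (Perm (Fin n)), T ≤ H → ¬ alternatingGroup (Fin n) ≤ H →
      ∀ σ ∈ alternatingGroup (Fin n), σ ∈ H → σ ∈ M) :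
    n = 6 ∨ n = 9 ∨ ∃ a : ℕ, 2 ≤ a ∧ n = 3 ^ a + 1 := by
  classical
  haveI : Fact (Nat.Prime 3) := ⟨Nat.prime_three⟩
  have hnotgood : ∀ U, Good M U → U ≠ Set.univ := fun U hU e => hM (hU.alt_le e)
  have hthird : ∀ a b : Fin n, ∃ c, c ≠ a ∧ c ≠ b := fun a b => by
    obtain ⟨c, -, hc⟩ := Set.exists_mem_notMem_of_ncard_lt_ncard (s := ({a, b} : Set (Fin n)))
      (t := Set.univ) (by
        rw [Set.ncard_univ, Nat.card_fin]
        exact lt_of_le_of_lt (le_trans (Set.ncard_insert_le _ _) (by rw [Set.ncard_singleton]))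
          (by omega : 2 < n)) (Set.toFinite _)
    simp only [Set.mem_insert_iff, Set.mem_singleton_iff, not_or] at hc
    exact ⟨c, hc⟩
  -- invariant sets
  have hset : ∀ C : Set (Fin n), (∀ t ∈ T, ∀ a, t a ∈ C ↔ a ∈ C) → C.Nonempty → C ≠ Set.univ →
      Good M C := by
    intro C hC hne huniv a ha b hb c hc hab hac hbc
    refine habove (setStab C) (fun t ht => hC t ht) (fun hle => ?_) _ (tc_mem_alt hab hbc) ?_
    · obtain ⟨u, hu⟩ := hne
      obtain ⟨v, hv⟩ := (Set.ne_univ_iff_exists_notMem _).1 huniv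
      obtain ⟨d, hdu, hdv⟩ := hthird u v
      have huv : u ≠ v := fun e => hv (e ▸ hu)
      have := (hle (tc_mem_alt huv hdv.symm) u)
      rw [tc_fst huv hdu.symm] at this
      exact hv (this.2 hu)
    · intro z
      by_cases h1 : z = a
      · subst h1; rw [tc_fst hab hac]; exact ⟨fun _ => ha, fun _ => hb⟩
      by_cases h2 : z = b
      · subst h2; rw [tc_snd hac hbc]; exact ⟨fun _ => hb, fun _ => hc⟩
      by_cases h3 : z = c
      · subst h3; rw [tc_thd]; exact ⟨fun _ => hc, fun _ => ha⟩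
      rw [tc_other h1 h2 h3]
  -- commuting permutations
  have hcent : ∀ w : Perm (Fin n), w ≠ 1 → (∀ t ∈ T, w * t = t * w) →
      ∀ σ ∈ alternatingGroup (Fin n), σ * w = w * σ → σ ∈ M := by
    intro w hw1 hw σ hσ hσw
    refine habove (Subgroup.centralizer {w}) (fun t ht => ?_) (fun hle => ?_) σ hσ ?_
    · exact Subgroup.mem_centralizer_iff.2 fun u hu => by
        rw [Set.mem_singleton_iff.1 hu]; exact hw t ht
    · obtain ⟨a, ha⟩ : ∃ a, w a ≠ a := by
        by_contra hc; push Not at hc; exact hw1 (Equiv.ext hc)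
      -- a three cycle fixing `a` and moving `w a`
      obtain ⟨c, hca, hcb⟩ := hthird a (w a)
      obtain ⟨d, -, hd⟩ := Set.exists_mem_notMem_of_ncard_lt_ncard
        (s := ({a, w a, c} : Set (Fin n))) (t := Set.univ) (by
          rw [Set.ncard_univ, Nat.card_fin]
          exact lt_of_le_of_lt (le_trans (Set.ncard_insert_le _ _) (Nat.succ_le_succ
            (le_trans (Set.ncard_insert_le _ _) (by rw [Set.ncard_singleton]))))
            (by omega : 3 < n)) (Set.toFinite _)
      simp only [Set.mem_insert_iff, Set.mem_singleton_iff, not_or] at hd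
      have := Equiv.congr_fun (Subgroup.mem_centralizer_iff.1
        (hle (tc_mem_alt (a := w a) (b := c) (c := d) hcb.symm (Ne.symm hd.2.2))) w rfl) a
      rw [Perm.mul_apply, Perm.mul_apply, tc_other ha.symm hca.symm (Ne.symm hd.1),
        tc_fst hcb.symm (Ne.symm hd.2.1)] at this
      exact hcb this.symm
    · exact Subgroup.mem_centralizer_iff.2 fun u hu => by
        rw [Set.mem_singleton_iff.1 hu]; exact hσw.symm
  -- a nontrivial orbit
  obtain ⟨t₀, ht₀, ht₀1⟩ := (Subgroup.bot_or_exists_ne_one T).resolve_left hT1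
  obtain ⟨x, hx⟩ : ∃ x, t₀ x ≠ x := by
    by_contra hc; push Not at hc; exact ht₀1 (Equiv.ext hc)
  set O := MulAction.orbit T x with hO
  have hxO : x ∈ O := MulAction.mem_orbit_self x
  have hO1 : 1 < O.ncard := (Set.one_lt_ncard_iff (Set.toFinite _)).2
    ⟨x, t₀ x, hxO, (orbit_closed ht₀).2 hxO, hx.symm⟩
  have hpow : ∀ u : Fin n, ∃ k, (MulAction.orbit T u).ncard = 3 ^ k := fun u => by
    obtain ⟨k, hk⟩ := hT.card_orbit u
    exact ⟨k, by rw [← Nat.card_coe_set_eq]; exact hk⟩
  obtain ⟨i, hi⟩ := hpow x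
  have hi1 : 1 ≤ i := by
    rcases Nat.eq_zero_or_pos i with rfl | h
    · rw [hO, hi] at hO1; norm_num at hO1
    · exact h
  have hO3 : 2 < O.ncard := by
    have := Nat.pow_le_pow_right (show 0 < 3 by norm_num) hi1
    rw [hO, hi]; omega
  by_cases huniv : O = Set.univ
  · -- one orbit
    have hni : n = 3 ^ i := by
      rw [← hi, ← hO, huniv, Set.ncard_univ, Nat.card_fin]
    by_cases hi3 : i ≤ 2
    · interval_cases i
      · omega
      · right; left; omega
    exfalso
    obtain ⟨w, hwT, -, hwO⟩ := exists_cube_root hT hO1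
    have hmem : ∀ a, a ∈ O := fun a => huniv ▸ Set.mem_univ a
    have hfix : ∀ a, w a ≠ a := fun a => (hwO a (hmem a)).1
    have h3 : ∀ a, w (w (w a)) = a := fun a => (hwO a (hmem a)).2.1
    have hw1 : w ≠ 1 := fun e => hfix x (by rw [e]; rfl)
    -- a normal subgroup of index three over the stabilizer of a point
    set Tx := MulAction.stabilizer T x with hTx
    obtain ⟨j, hj⟩ := IsPGroup.iff_card.1 (hT.to_subgroup Tx)
    obtain ⟨k, hk⟩ := IsPGroup.iff_card.1 hT
    have hidx : Tx.index = 3 ^ i := by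
      rw [hTx, MulAction.index_stabilizer, ← hi]
    have hkij : k = i + j := by
      have := Tx.index_mul_card
      rw [hidx, hj, hk, ← pow_add] at this
      exact (Nat.pow_right_injective (by norm_num : 2 ≤ 3) this).symm
    obtain ⟨K, hKc, hKx⟩ := Sylow.exists_subgroup_card_pow_prime_le 3 (G := T) (m := k - 1)
      (hk ▸ pow_dvd_pow 3 (Nat.sub_le k 1)) Tx hj (by omega)
    have hKi : K.index = 3 := by
      have := K.index_mul_card
      rw [hKc, hk] at this
      have e : 3 ^ k = 3 * 3 ^ (k - 1) := by rw [← pow_succ', Nat.sub_add_cancel (by omega)]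
      rw [e] at this
      exact Nat.eq_of_mul_eq_mul_right (by positivity) this
    haveI hKn : K.Normal := by
      refine Subgroup.normal_of_index_eq_minFac_card ?_
      rw [hKi, hk, Nat.pow_minFac (by omega), Nat.prime_three.minFac_eq]
    set f : Fin n → Set (Fin n) := fun a => MulAction.orbit K a with hf
    set C := f x with hC
    have hCcard : C.ncard = 3 ^ (i - 1) := by
      have h1 : (MulAction.stabilizer K x).index = C.ncard := MulAction.index_stabilizer K x
      have h2 : MulAction.stabilizer K x = Tx.subgroupOf K := by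
        ext u; exact Iff.rfl
      rw [h2] at h1
      have h4 := Subgroup.relIndex_mul_index hKx
      rw [Subgroup.relIndex, h1, hKi, hidx] at h4
      have e : 3 ^ i = 3 ^ (i - 1) * 3 := by rw [← pow_succ, Nat.sub_add_cancel hi1]
      rw [e] at h4
      exact Nat.eq_of_mul_eq_mul_right (by norm_num) h4
    have hC9 : 9 ≤ C.ncard := by
      rw [hCcard]
      exact le_trans (by norm_num : 9 ≤ 3 ^ 2) (Nat.pow_le_pow_right (by norm_num) (by omega))
    have heq : ∀ {a b}, a ∈ f b → f a = f b := fun {a b} h => MulAction.orbit_eq_iff.2 h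
    have htf : ∀ t ∈ T, ∀ a b, f a = f b → f (t a) = f (t b) := by
      intro t ht a b hab
      have : a ∈ f b := hab ▸ MulAction.mem_orbit_self a
      obtain ⟨u, hu⟩ := this
      refine heq ⟨⟨⟨t, ht⟩ * (u : T) * ⟨t, ht⟩⁻¹, hKn.conj_mem _ u.2 _⟩, ?_⟩
      show t (((u : T) : Perm (Fin n)) (t⁻¹ (t b))) = t a
      rw [show t⁻¹ (t b) = b by rw [← Perm.mul_apply, inv_mul_cancel, Perm.one_apply]]
      exact congrArg t hu
    have hCu : C ≠ Set.univ := fun e => by
      rw [e, Set.ncard_univ, Nat.card_fin, hni] at hCcard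
      have := Nat.pow_right_injective (by norm_num : 2 ≤ 3) hCcard
      omega
    have hgoodcls : ∀ u, Good M (f u) := by
      intro u a ha b hb c hc hab hac hbc
      refine habove (relStab f) (fun t ht a b => ⟨fun h => ?_, htf t ht a b⟩) (fun hle => ?_) _
        (tc_mem_alt hab hbc) ?_
      · have := htf t⁻¹ (inv_mem ht) _ _ h
        rwa [← Perm.mul_apply, inv_mul_cancel, Perm.one_apply, ← Perm.mul_apply, inv_mul_cancel, Perm.one_apply] at this
      · obtain ⟨v, hv⟩ := (Set.ne_univ_iff_exists_notMem _).1 hCu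
        obtain ⟨p, hp, hpx⟩ := Set.exists_ne_of_one_lt_ncard (by omega : 1 < C.ncard) x
        have hxp : f x = f p := (heq hp).symm
        have hpv : p ≠ v := fun e => hv (e ▸ hp)
        have hxv : x ≠ v := fun e => hv (e ▸ MulAction.mem_orbit_self x)
        have := (hle (tc_mem_alt hpx.symm hpv) x p).2 hxp
        rw [tc_fst hpx.symm hxv, tc_snd hxv hpv, ← hxp] at this
        exact hv (show v ∈ f x from this ▸ MulAction.mem_orbit_self v)
      · have e : ∀ z, f (tc a b c z) = f z := fun z => by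
          by_cases h1 : z = a
          · subst h1; rw [tc_fst hab hac]; exact (heq hb).trans (heq ha).symm
          by_cases h2 : z = b
          · subst h2; rw [tc_snd hac hbc]; exact (heq hc).trans (heq hb).symm
          by_cases h3 : z = c
          · subst h3; rw [tc_thd]; exact (heq ha).trans (heq hc).symm
          rw [tc_other h1 h2 h3]
        intro z z'
        rw [e, e]
    have hclscard : ∀ u, 2 < (f u).ncard := by
      intro u
      obtain ⟨t, htT, htu⟩ := mem_orbit_iff'.1 (hmem u)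
      have hsub : (fun z => t z) '' C ⊆ f u := by
        rintro _ ⟨z, hz, rfl⟩
        have := htf t htT z x (heq hz)
        rw [htu] at this
        exact this ▸ MulAction.mem_orbit_self _
      have := Set.ncard_le_ncard hsub (Set.toFinite _)
      rw [Set.ncard_image_of_injective _ t.injective] at this
      omega
    have hjoin : ∀ v, Good M (C ∪ f v) := by
      intro v
      by_cases hv : v ∈ C
      · rw [show f v = C from heq hv, Set.union_self]; exact hgoodcls x
      obtain ⟨x', hx', hxv⟩ := Set.exists_mem_notMem_of_ncard_lt_ncard (s := orb w v) (t := C)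
        (lt_of_le_of_lt (le_trans (Set.ncard_insert_le _ _) (Nat.succ_le_succ
            (le_trans (Set.ncard_insert_le _ _) (by rw [Set.ncard_singleton]))))
            (by omega : 3 < C.ncard)) (Set.toFinite _)
      refine overlap hfix h3 (hcent w hw1 hwT) (hgoodcls x) (hgoodcls v) hC9 (hclscard v) hx'
        (MulAction.mem_orbit_self v) hv ?_
      intro hvo
      refine hxv ?_
      rcases hvo with rfl | rfl | rfl
      · exact Or.inl rfl
      · exact Or.inr (Or.inr (h3 x').symm)
      · exact Or.inr (Or.inl (h3 x').symm)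
    suffices h : ∀ W : Finset (Fin n), Good M (C ∪ (W : Set (Fin n))) by
      exact hnotgood _ (h Finset.univ) (by simp)
    intro W
    induction W using Finset.induction with
    | empty => simpa using hgoodcls x
    | @insert v W hvW ih =>
      have h2 : 2 < (C ∪ (W : Set (Fin n))).ncard :=
        lt_of_lt_of_le (by omega) (Set.ncard_le_ncard Set.subset_union_left (Set.toFinite _))
      have h2' : 2 < (C ∪ f v).ncard :=
        lt_of_lt_of_le (by omega) (Set.ncard_le_ncard Set.subset_union_left (Set.toFinite _))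
      refine (ih.union (hjoin v) h2 h2' ⟨x, Or.inl (MulAction.mem_orbit_self x),
        Or.inl (MulAction.mem_orbit_self x)⟩).mono ?_
      intro z hz
      rcases hz with hz | hz
      · exact Or.inl (Or.inl hz)
      rcases Finset.mem_insert.1 hz with rfl | hz
      · exact Or.inr (Or.inr (MulAction.mem_orbit_self z))
      · exact Or.inl (Or.inr hz)
  -- at least two orbits
  obtain ⟨y, hy⟩ := (Set.ne_univ_iff_exists_notMem _).1 huniv
  set O' := MulAction.orbit T y with hO'
  have hdisj : ∀ z, z ∈ O → z ∉ O' := by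
    intro z hz hz'
    apply hy
    have e1 : MulAction.orbit T z = O := MulAction.orbit_eq_iff.2 hz
    have e2 : MulAction.orbit T z = O' := MulAction.orbit_eq_iff.2 hz'
    rw [← e1, e2]; exact MulAction.mem_orbit_self y
  by_cases huniv2 : O ∪ O' = Set.univ
  swap
  · exfalso
    have g1 := hset O'ᶜ (fun t ht a => not_congr (orbit_closed ht)) ⟨x, hdisj x hxO⟩
      (fun e => (Set.compl_univ_iff.1 e ▸ (Set.notMem_empty y)) (MulAction.mem_orbit_self y))
    have g2 := hset (O ∪ O') (fun t ht a => or_congr (orbit_closed ht) (orbit_closed ht))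
      ⟨x, Or.inl hxO⟩ huniv2
    have s1 : 2 < (O'ᶜ).ncard := lt_of_lt_of_le hO3 (Set.ncard_le_ncard hdisj (Set.toFinite _))
    have s2 : 2 < (O ∪ O').ncard :=
      lt_of_lt_of_le hO3 (Set.ncard_le_ncard Set.subset_union_left (Set.toFinite _))
    refine hnotgood _ (g1.union g2 s1 s2 ⟨x, hdisj x hxO, Or.inl hxO⟩) ?_
    ext z
    by_cases hz : z ∈ O' <;> simp [hz]
  obtain ⟨j, hj⟩ := hpow y
  have hsum : n = 3 ^ i + 3 ^ j := by
    rw [← hi, ← hj, ← hO, ← hO',
      ← Set.ncard_union_eq (Set.disjoint_left.2 hdisj) (Set.toFinite _) (Set.toFinite _), huniv2,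
      Set.ncard_univ, Nat.card_fin]
  rcases Nat.eq_zero_or_pos j with rfl | hj1
  · refine Or.inr (Or.inr ⟨i, ?_, by simpa using hsum⟩)
    by_contra hc
    have : i = 1 := by omega
    subst this
    simp at hsum; omega
  by_cases h6 : i = 1 ∧ j = 1
  · obtain ⟨rfl, rfl⟩ := h6; left; simpa using hsum
  exfalso
  obtain ⟨z1, h1T, h1out, h1in⟩ := exists_cube_root hT hO1
  obtain ⟨z2, h2T, h2out, h2in⟩ := exists_cube_root hT (x := y) (by
    rw [hj]; exact Nat.one_lt_pow (by omega) (by norm_num))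
  set w := z1 * z2 with hw
  have hwT : ∀ t ∈ T, w * t = t * w := fun t ht => by
    rw [hw, mul_assoc, h2T t ht, ← mul_assoc, h1T t ht, mul_assoc]
  have hwO : ∀ a ∈ O, w a = z1 a := fun a ha => by rw [hw, Perm.mul_apply, h2out a (hdisj a ha)]
  have hwO' : ∀ a ∈ O', w a = z2 a := fun a ha => by
    rw [hw, Perm.mul_apply, h1out (z2 a) (fun h => hdisj _ h (h2in a ha).2.2)]
  have hcase : ∀ a, a ∈ O ∨ a ∈ O' := fun a => by
    have := Set.mem_univ a; rw [← huniv2] at this; exact this
  have hfix : ∀ a, w a ≠ a := fun a => by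
    rcases hcase a with h | h
    · rw [hwO a h]; exact (h1in a h).1
    · rw [hwO' a h]; exact (h2in a h).1
  have h3 : ∀ a, w (w (w a)) = a := fun a => by
    rcases hcase a with h | h
    · rw [hwO a h, hwO _ (h1in a h).2.2, hwO _ (h1in _ (h1in a h).2.2).2.2]; exact (h1in a h).2.1
    · rw [hwO' a h, hwO' _ (h2in a h).2.2, hwO' _ (h2in _ (h2in a h).2.2).2.2]
      exact (h2in a h).2.1
  have hw1 : w ≠ 1 := fun e => hfix x (by rw [e]; rfl)
  have hclO : ∀ a ∈ O, ∀ b ∈ orb w a, b ∈ O := by
    intro a ha b hb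
    rcases hb with rfl | rfl | rfl
    · exact ha
    · rw [hwO a ha]; exact (h1in a ha).2.2
    · rw [hwO a ha, hwO _ (h1in a ha).2.2]; exact (h1in _ (h1in a ha).2.2).2.2
  have hclO' : ∀ a ∈ O', ∀ b ∈ orb w a, b ∈ O' := by
    intro a ha b hb
    rcases hb with rfl | rfl | rfl
    · exact ha
    · rw [hwO' a ha]; exact (h2in a ha).2.2
    · rw [hwO' a ha, hwO' _ (h2in a ha).2.2]; exact (h2in _ (h2in a ha).2.2).2.2
  have hyO' : y ∈ O' := MulAction.mem_orbit_self y
  have gO := hset O (fun t ht a => orbit_closed ht) ⟨x, hxO⟩ huniv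
  have gO' := hset O' (fun t ht a => orbit_closed ht) ⟨y, hyO'⟩
    (fun e => hdisj x hxO (e ▸ Set.mem_univ x))
  have hbig : ∀ k, 2 ≤ k → 9 ≤ 3 ^ k := fun k hk =>
    le_trans (by norm_num) (Nat.pow_le_pow_right (by norm_num : 0 < 3) hk)
  by_cases hi2 : 2 ≤ i
  · refine hnotgood _ (overlap hfix h3 (hcent w hw1 hwT) gO gO' (by rw [hO, hi]; exact hbig i hi2)
      (by rw [hO', hj]; have := Nat.pow_le_pow_right (show 0 < 3 by norm_num) hj1; omega)
      hxO hyO' hy (fun h => hy (hclO x hxO y h))) huniv2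
  · refine hnotgood _ (overlap hfix h3 (hcent w hw1 hwT) gO' gO
      (by rw [hO', hj]; exact hbig j (by omega)) hO3 hyO' hxO (hdisj x hxO)
      (fun h => hdisj x hxO (hclO' y hyO' x h))) (by rw [Set.union_comm]; exact huniv2)

end Cfsg.Lib.Local.ThreeMinimalAlt
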