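import Cfsg.Agent.Lib.Local.OffenderPair
import Cfsg.Agent.Lib.FusionSys.StronglyEmb
import Cfsg.Prelude.Def_Amalgam

/-!
# Offenders in a group with a strongly `p`-embedded subgroup: pairs

`X` is a proper subgroup of `H` such that `g⁻¹ a g ∈ X` forces `g ∈ X` for nontrivial `p`-elements `a` of
`X`, and `A ≤ X` is a strict minimal offender on the faithful module `V`. For `g ∈ H \ X` the fixed spaces
of `A` and `A^g` span `V` and meet in index `|A|`.
-/

set_option autoImplicit false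
set_option linter.style.haveILetI false

namespace Cfsg.Lib.Local.TrapPair

open Subgroup
open scoped commutatorElement
open OffenderPair (fx)

variable {G : Type*} [Group G] {p : ℕ}

local notation:max "cj" g:max K:max => Subgroup.map (MulEquiv.toMonoidHom (MulAut.conj g)) K

/-- The hypotheses. -/
structure Trap (p : ℕ) (V H X A : Subgroup G) : Prop where
  hV : Cfsg.IsElementaryAbelian p V
  hHV : H ≤ normalizer (V : Set G)
  hfaith : H ⊓ centralizer (V : Set G) = ⊥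
  hXH : X ≤ H
  hne : ¬ H ≤ X
  trap : ∀ g ∈ H, g ∉ X → ∀ a ∈ X, (∃ k : ℕ, a ^ p ^ k = 1) → g⁻¹ * a * g ∈ X → a = 1
  hgen : Cfsg.pElementClosure p H = H
  hAX : A ≤ X
  hA : Cfsg.IsElementaryAbelian p A
  hA0 : A ≠ ⊥
  hbound : Nat.card ↥V ≤ Nat.card ↥A * Nat.card ↥(fx V A)
  hstrict : ∀ A₀ : Subgroup G, A₀ ≤ A → A₀ ≠ ⊥ → A₀ ≠ A →
    Nat.card ↥A₀ * Nat.card ↥(fx V A₀) < Nat.card ↥A * Nat.card ↥(fx V A)

variable {V H X A : Subgroup G}

theorem mem_cj {g x : G} {K : Subgroup G} : x ∈ cj g K ↔ g⁻¹ * x * g ∈ K := by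
  rw [Subgroup.mem_map_equiv, MulAut.conj_symm_apply]

theorem cj_le {g : G} (hg : g ∈ H) {K : Subgroup G} (hK : K ≤ H) : cj g K ≤ H := by
  rintro _ ⟨k, hk, rfl⟩
  exact mul_mem (mul_mem hg (hK hk)) (inv_mem hg)

theorem cj_cj (a b : G) (K : Subgroup G) : cj a (cj b K) = cj (a * b) K := by
  ext x
  rw [mem_cj, mem_cj, mem_cj]
  simp [mul_assoc]

theorem cj_one (K : Subgroup G) : cj (1 : G) K = K := by
  ext x
  rw [mem_cj]
  simp

theorem cj_eq_of_mem {x : G} {K : Subgroup G} (hx : x ∈ K) : cj x K = K := by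
  ext y
  rw [mem_cj]
  refine ⟨fun h => ?_, fun h => mul_mem (mul_mem (inv_mem hx) h) hx⟩
  have := mul_mem (mul_mem hx h) (inv_mem hx)
  simpa [mul_assoc] using this

namespace Trap

theorem hAH (h : Trap p V H X A) : A ≤ H := h.hAX.trans h.hXH

theorem cj_V (h : Trap p V H X A) {g : G} (hg : g ∈ H) : cj g V = V :=
  Core.map_conj_eq_of_mem_normalizer (h.hHV hg)

theorem conj_mem_V (h : Trap p V H X A) {g v : G} (hg : g ∈ H) (hv : v ∈ V) : g * v * g⁻¹ ∈ V :=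
  (mem_normalizer_iff.1 (h.hHV hg) v).1 hv

theorem fx_cj (h : Trap p V H X A) {g : G} (hg : g ∈ H) (K : Subgroup G) :
    fx V (cj g K) = cj g (fx V K) := by
  have hV' : ∀ v, v ∈ V ↔ g⁻¹ * v * g ∈ V := fun v => by
    rw [← mem_cj, h.cj_V hg]
  ext v
  rw [mem_cj]
  constructor
  · intro hv
    refine mem_inf.2 ⟨(hV' v).1 hv.1, mem_centralizer_iff.2 fun a ha => ?_⟩
    have := mem_centralizer_iff.1 hv.2 (g * a * g⁻¹) ⟨a, ha, rfl⟩
    calc a * (g⁻¹ * v * g) = g⁻¹ * (g * a * g⁻¹ * v) * g := by group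
      _ = g⁻¹ * v * g * a := by rw [this]; group
  · intro hv
    refine mem_inf.2 ⟨(hV' v).2 hv.1, mem_centralizer_iff.2 ?_⟩
    rintro _ ⟨a, ha, rfl⟩
    have := mem_centralizer_iff.1 hv.2 a ha
    show g * a * g⁻¹ * v = v * (g * a * g⁻¹)
    calc g * a * g⁻¹ * v = g * (a * (g⁻¹ * v * g)) * g⁻¹ := by group
      _ = v * (g * a * g⁻¹) := by rw [this]; group

theorem card_cj (g : G) (K : Subgroup G) : Nat.card ↥(cj g K) = Nat.card ↥K :=
  Subgroup.card_map_of_injective (MulAut.conj g).injective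

theorem card_fx_cj (h : Trap p V H X A) {g : G} (hg : g ∈ H) (K : Subgroup G) :
    Nat.card ↥(fx V (cj g K)) = Nat.card ↥(fx V K) := by
  rw [h.fx_cj hg, card_cj]

theorem p_power_eq_one (h : Trap p V H X A) {a : G} (ha : a ∈ A) : ∃ k : ℕ, a ^ p ^ k = 1 :=
  ⟨1, by rw [pow_one]; exact h.hA.2 a ha⟩

/-- `A^g` is outside `X` for `g` outside `X`. -/
theorem conj_not_le (h : Trap p V H X A) {g : G} (hg : g ∈ H) (hgX : g ∉ X) : ¬ cj g A ≤ X := by
  intro hle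
  refine h.hA0 (le_bot_iff.1 fun a ha => mem_bot.2 ?_)
  have ha' : g * a * g⁻¹ ∈ X := hle ⟨a, ha, rfl⟩
  have h1 := h.trap g hg hgX _ ha' ⟨1, by rw [pow_one, conj_pow, h.hA.2 a ha]; group⟩
    (by simpa [mul_assoc] using h.hAX ha)
  exact conj_eq_one_iff.1 h1

theorem normalizer_le (h : Trap p V H X A) : H ⊓ normalizer (A : Set G) ≤ X := by
  intro g hg
  by_contra hgX
  exact h.conj_not_le hg.1 hgX ((Core.map_conj_eq_of_mem_normalizer hg.2).le.trans h.hAX)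

/-- Conjugating the data. -/
theorem conj (h : Trap p V H X A) {g : G} (hg : g ∈ H) : Trap p V H (cj g X) (cj g A) := by
  refine ⟨h.hV, h.hHV, h.hfaith, cj_le hg h.hXH, ?_, ?_, h.hgen, Subgroup.map_mono h.hAX, ?_, ?_, ?_, ?_⟩
  · intro hle
    refine h.hne fun y hy => ?_
    have := mem_cj.1 (hle (mul_mem (mul_mem hg hy) (inv_mem hg)))
    simpa [mul_assoc] using this
  · intro y hy hyX a ha hk hay
    rw [mem_cj] at hyX ha hay
    have hy' : g⁻¹ * y * g ∈ H := mul_mem (mul_mem (inv_mem hg) hy) hg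
    obtain ⟨k, hk⟩ := hk
    have h1 := h.trap _ hy' hyX _ ha ⟨k, by
      rw [show g⁻¹ * a * g = g⁻¹ * a * g⁻¹⁻¹ by group, conj_pow, hk]; group⟩ (by
      rwa [show (g⁻¹ * y * g)⁻¹ * (g⁻¹ * a * g) * (g⁻¹ * y * g) = g⁻¹ * (y⁻¹ * a * y) * g by group])
    calc a = g * (g⁻¹ * a * g) * g⁻¹ := by group
      _ = 1 := by rw [h1]; group
  · haveI := h.hA.1
    refine ⟨⟨⟨?_⟩⟩, ?_⟩
    · rintro ⟨_, a, ha, rfl⟩ ⟨_, b, hb, rfl⟩
      apply Subtype.ext
      show MulAut.conj g a * MulAut.conj g b = MulAut.conj g b * MulAut.conj g a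
      rw [← map_mul, ← map_mul, show a * b = b * a from
        congrArg Subtype.val (mul_comm' (⟨a, ha⟩ : ↥A) ⟨b, hb⟩)]
    · rintro _ ⟨a, ha, rfl⟩
      rw [← map_pow, h.hA.2 a ha, map_one]
  · intro h0
    exact h.hA0 ((Subgroup.map_eq_bot_iff_of_injective _ (MulAut.conj g).injective).1 h0)
  · rw [h.card_fx_cj hg, card_cj]
    exact h.hbound
  · intro A₀ hle h0 hne
    have hA₀ : A₀ = cj g (cj g⁻¹ A₀) := by rw [cj_cj, mul_inv_cancel, cj_one]
    rw [hA₀, h.card_fx_cj hg, h.card_fx_cj hg, card_cj, card_cj g A]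
    refine h.hstrict _ ?_ ?_ ?_
    · refine (Subgroup.map_mono hle).trans_eq ?_
      rw [cj_cj, inv_mul_cancel, cj_one]
    · intro h1
      exact h0 (by rw [hA₀, h1, Subgroup.map_bot])
    · intro h1
      exact hne (by rw [hA₀, h1])

variable [Finite G] [Fact p.Prime]

theorem quadratic (h : Trap p V H X A) {v a : G} (hv : v ∈ V) (ha : a ∈ A) : ⁅v, a⁆ ∈ fx V A :=
  OffenderPair.quadratic_of h.hV (h.hAH.trans h.hHV)
    (le_bot_iff.1 ((inf_le_inf_right _ h.hAH).trans h.hfaith.le)) h.hA h.hA0 h.hbound h.hstrict hv ha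

/-- A `p`-subgroup meeting `X` lies in `X`. -/
theorem pgroup_le (h : Trap p V H X A) {P : Subgroup G} (hP : IsPGroup p ↥P) (hPH : P ≤ H)
    (hne : P ⊓ X ≠ ⊥) : P ≤ X := by
  by_contra hle
  have hlt := Cfsg.Lib.FusionSys.lt_inf_normalizer_self hP
    (lt_of_le_of_ne (inf_le_left : P ⊓ X ≤ P) fun e => hle (e.ge.trans inf_le_right))
  obtain ⟨a, ha, ha1⟩ : ∃ a ∈ P ⊓ X, a ≠ 1 := by
    by_contra hall
    push Not at hall
    exact hne (le_bot_iff.1 fun x hx => mem_bot.2 (hall x hx))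
  obtain ⟨n, hn, hn'⟩ := SetLike.exists_of_lt hlt
  have hnX : n ∉ X := fun e => hn' (mem_inf.2 ⟨hn.1, e⟩)
  obtain ⟨k, hk⟩ := hP ⟨a, ha.1⟩
  refine ha1 (h.trap n (hPH hn.1) hnX a ha.2 ⟨k, congrArg Subtype.val hk⟩ ?_)
  have := (mem_normalizer_iff.1 (inv_mem hn.2) a).1 ha
  simpa using this.2

/-- No `p`-subgroup contains `A` and meets the complement of `X`. -/
theorem pgroup_over_A (h : Trap p V H X A) {P : Subgroup G} (hP : IsPGroup p ↥P) (hPH : P ≤ H)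
    (hAP : A ≤ P) : P ≤ X := by
  refine h.pgroup_le hP hPH fun e => h.hA0 (le_bot_iff.1 ?_)
  rw [← e]
  exact le_inf hAP h.hAX

/-- A subgroup stabilizing the chain `1 ≤ C ≤ V` is a `p`-group. -/
theorem isPGroup_of_stab (h : Trap p V H X A) {L C : Subgroup G} (hLH : L ≤ H)
    (hfix : L ≤ centralizer (C : Set G)) (hbr : ∀ l ∈ L, ∀ v ∈ V, ⁅v, l⁆ ∈ C) (hCV : C ≤ V) :
    IsPGroup p ↥L := by
  intro g
  refine ⟨1, Subtype.ext ?_⟩
  rw [pow_one]
  show ((g ^ p : ↥L) : G) = 1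
  rw [SubmonoidClass.coe_pow, ← mem_bot, ← h.hfaith]
  refine mem_inf.2 ⟨pow_mem (hLH g.2) p, mem_centralizer_iff.2 fun v hv => ?_⟩
  set z := ⁅v, (g : G)⁆⁻¹ with hz
  have hzC : z ∈ C := inv_mem (hbr g g.2 v hv)
  have hgz : (g : G) * z * (g : G)⁻¹ = z := by
    rw [← mem_centralizer_iff.1 (hfix g.2) z hzC, mul_inv_cancel_right]
  have hgv : (g : G) * v * (g : G)⁻¹ = z * v := by rw [hz, commutatorElement_def]; group
  have hpow : ∀ k : ℕ, (g : G) ^ k * v * ((g : G) ^ k)⁻¹ = z ^ k * v := by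
    intro k
    induction k with
    | zero => simp
    | succ k ih =>
      rw [pow_succ' (g : G) k, _root_.mul_inv_rev,
        show (g : G) * (g : G) ^ k * v * (((g : G) ^ k)⁻¹ * (g : G)⁻¹) =
          (g : G) * ((g : G) ^ k * v * ((g : G) ^ k)⁻¹) * (g : G)⁻¹ by group, ih,
        show (g : G) * (z ^ k * v) * (g : G)⁻¹ = ((g : G) * z * (g : G)⁻¹) ^ k * ((g : G) * v * (g : G)⁻¹) by
          rw [conj_pow]; group,
        hgz, hgv, pow_succ, mul_assoc]
  have := hpow p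
  rw [h.hV.2 z (hCV hzC), one_mul] at this
  exact (mul_inv_eq_iff_eq_mul.1 this).symm

theorem bracket_mul_of (h : Trap p V H X A) {C : Subgroup G} {l m : G} {v : G}
    (hv : ⁅v, m⁆ ∈ C) (hl : l ∈ centralizer (C : Set G)) : ⁅v, l * m⁆ = ⁅v, l⁆ * ⁅v, m⁆ := by
  rw [show ⁅v, l * m⁆ = ⁅v, l⁆ * (l * ⁅v, m⁆ * l⁻¹) by simp only [commutatorElement_def]; group,
    ← mem_centralizer_iff.1 hl _ hv, mul_inv_cancel_right]

/-- A group generated by two subgroups stabilizing the chain stabilizes it. -/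
theorem stab_sup (h : Trap p V H X A) {B₁ B₂ C : Subgroup G}
    (h1 : B₁ ≤ centralizer (C : Set G)) (h2 : B₂ ≤ centralizer (C : Set G))
    (k1 : ∀ l ∈ B₁, ∀ v ∈ V, ⁅v, l⁆ ∈ C) (k2 : ∀ l ∈ B₂, ∀ v ∈ V, ⁅v, l⁆ ∈ C) :
    B₁ ⊔ B₂ ≤ centralizer (C : Set G) ∧ ∀ l ∈ B₁ ⊔ B₂, ∀ v ∈ V, ⁅v, l⁆ ∈ C := by
  let S : Subgroup G :=
    { carrier := {l | l ∈ centralizer (C : Set G) ∧ ∀ v ∈ V, ⁅v, l⁆ ∈ C}
      one_mem' := ⟨one_mem _, fun v _ => by rw [commutatorElement_one_right]; exact one_mem C⟩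
      mul_mem' := fun {l m} hl hm => ⟨mul_mem hl.1 hm.1, fun v hv => by
        rw [h.bracket_mul_of (hm.2 v hv) hl.1]
        exact mul_mem (hl.2 v hv) (hm.2 v hv)⟩
      inv_mem' := fun {l} hl => ⟨inv_mem hl.1, fun v hv => by
        have h0 := hl.2 v hv
        have e : ⁅v, l⁻¹⁆ = l⁻¹ * ⁅v, l⁆⁻¹ * l := by simp only [commutatorElement_def]; group
        rw [e, mul_assoc, mem_centralizer_iff.1 hl.1 _ (inv_mem h0), inv_mul_cancel_left]
        exact inv_mem h0⟩ }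
  have : B₁ ⊔ B₂ ≤ S := sup_le (fun l hl => ⟨h1 hl, k1 l hl⟩) (fun l hl => ⟨h2 hl, k2 l hl⟩)
  exact ⟨fun l hl => (this hl).1, fun l hl => (this hl).2⟩

/-- The pair inside `⟨A, A^g⟩`. -/
theorem exists_pair (h : Trap p V H X A) {g : G} (hg : g ∈ H) (hgX : g ∉ X) :
    ∃ L, OffenderPair.Data p V L A (L ⊓ X) A ⊥ ∧ L ≤ A ⊔ cj g A := by
  classical
  have hex : ∃ n : ℕ, ∃ g' ∈ H, g' ∉ X ∧ A ⊔ cj g' A ≤ A ⊔ cj g A ∧ Nat.card ↥(A ⊔ cj g' A : Subgroup G) = n :=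
    ⟨_, g, hg, hgX, le_rfl, rfl⟩
  obtain ⟨g', hg', hg'X, hle, hcard⟩ := Nat.find_spec hex
  set L := A ⊔ cj g' A with hL
  have hLH : L ≤ H := sup_le h.hAH (cj_le hg' h.hAH)
  have hnotle : ¬ L ≤ X := fun e => h.conj_not_le hg' hg'X (le_sup_right.trans e)
  have hgenL : ∀ x ∈ L, x ∉ L ⊓ X → A ⊔ cj x A = L := by
    intro x hx hxX
    have hxX' : x ∉ X := fun e => hxX (mem_inf.2 ⟨hx, e⟩)
    have hsub : A ⊔ cj x A ≤ L := by
      refine sup_le le_sup_left ?_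
      rintro _ ⟨a, ha, rfl⟩
      exact mul_mem (mul_mem hx (mem_sup_left ha)) (inv_mem hx)
    refine Subgroup.eq_of_le_of_card_ge hsub ?_
    rw [hcard]
    exact Nat.find_min' hex ⟨x, hLH hx, hxX', hsub.trans hle, rfl⟩
  refine ⟨L, ⟨h.hV, hLH.trans h.hHV, le_bot_iff.1 ((inf_le_inf_right _ hLH).trans h.hfaith.le),
    lt_of_le_of_ne inf_le_left (fun e => hnotle (e.ge.trans inf_le_right)), le_inf le_sup_left h.hAX, le_rfl,
    h.hA, h.hbound, h.hstrict, ?_, hgenL, bot_le, ?_, ?_⟩, hle⟩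
  · by_contra hno
    push Not at hno
    have hCL : L ≤ centralizer ((fx V A : Subgroup G) : Set G) := by
      refine le_centralizer_iff.1 fun v hv => ?_
      exact (hno v hv (mem_centralizer_iff.2 fun r hr => by
        rw [Subgroup.coe_bot, Set.mem_singleton_iff] at hr; rw [hr, one_mul, mul_one])).2
    have hAC : A ≤ centralizer ((fx V A : Subgroup G) : Set G) := le_sup_left.trans hCL
    have hC' : fx V (cj g' A) = fx V A := by
      refine (Subgroup.eq_of_le_of_card_ge ?_ (h.card_fx_cj hg' A).le).symm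
      exact le_inf inf_le_left (le_centralizer_iff.1 (le_sup_right.trans hCL))
    obtain ⟨s1, s2⟩ := h.stab_sup (B₁ := A) (B₂ := cj g' A) hAC (le_sup_right.trans hCL)
      (fun l hl v hv => h.quadratic hv hl)
      (fun l hl v hv => hC' ▸ (h.conj hg').quadratic hv hl)
    exact hnotle (h.pgroup_over_A (h.isPGroup_of_stab hLH s1 s2 inf_le_left) hLH le_sup_left)
  · refine le_normalizer_iff.2 fun y _ r hr => ?_
    rw [mem_bot] at hr ⊢
    rw [hr]; group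
  · intro a ha hall
    obtain ⟨y, hy, hyM⟩ := SetLike.exists_of_lt
      (lt_of_le_of_ne (inf_le_left : L ⊓ X ≤ L) fun e => hnotle (e.ge.trans inf_le_right))
    exact mem_bot.2 (h.trap y (hLH hy) (fun e => hyM (mem_inf.2 ⟨hy, e⟩)) a (h.hAX ha) (h.p_power_eq_one ha)
      (hall y hy hyM).2)

theorem exists_outside (h : Trap p V H X A) : ∃ g ∈ H, g ∉ X := SetLike.not_le_iff_exists.1 h.hne

theorem card_V (h : Trap p V H X A) : Nat.card ↥V = Nat.card ↥A * Nat.card ↥(fx V A) := by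
  obtain ⟨g, hg, hgX⟩ := h.exists_outside
  obtain ⟨L, hL, -⟩ := h.exists_pair hg hgX
  exact hL.cards.2

/-- The intersection of two fixed spaces is fixed by the pair subgroup. -/
theorem inter_le (h : Trap p V H X A) {g : G} {L : Subgroup G} (hL : L ≤ A ⊔ cj g A) :
    fx V A ⊓ fx V (cj g A) ≤ fx V L := by
  refine le_inf (inf_le_left.trans inf_le_left) (le_centralizer_iff.1 (hL.trans (sup_le ?_ ?_)))
  · exact le_centralizer_iff.1 (inf_le_left.trans inf_le_right)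
  · exact le_centralizer_iff.1 (inf_le_right.trans inf_le_right)

theorem meet (h : Trap p V H X A) {g : G} (hg : g ∈ H) (hgX : g ∉ X) :
    Nat.card ↥(fx V A ⊓ fx V (cj g A) : Subgroup G) * Nat.card ↥A = Nat.card ↥(fx V A) := by
  obtain ⟨L, hL, hLle⟩ := h.exists_pair hg hgX
  obtain ⟨e1, e2⟩ := hL.cards
  have h1 := Timmesfeld.card_mul_card_le (fx V A) (fx V (cj g A))
  rw [h.card_fx_cj hg] at h1
  refine le_antisymm ?_ ?_
  · rw [e1, mul_comm]
    exact Nat.mul_le_mul_left _ (card_le_of_le (h.inter_le hLle))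
  · refine Nat.le_of_mul_le_mul_left ?_ (Nat.card_pos (α := ↥(fx V A)))
    calc Nat.card ↥(fx V A) * Nat.card ↥(fx V A)
        ≤ Nat.card ↥(fx V A ⊓ fx V (cj g A) : Subgroup G) * Nat.card ↥V :=
          h1.trans (Nat.mul_le_mul_left _ (card_le_of_le (sup_le inf_le_left inf_le_left)))
      _ = _ := by rw [h.card_V]; ring

/-- The commutators `[V, a]` meet the other fixed spaces trivially. -/
theorem bracket_free (h : Trap p V H X A) {g : G} (hg : g ∈ H) (hgX : g ∉ X) {v a : G} (hv : v ∈ V)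
    (ha : a ∈ A) (ha1 : a ≠ 1) (hva : ⁅v, a⁆ ∈ fx V (cj g A)) : v ∈ fx V A := by
  obtain ⟨L, hL, hLle⟩ := h.exists_pair hg hgX
  obtain ⟨x, hx, hxM⟩ := hL.exists_not_mem
  obtain ⟨c, hc, d, hd, rfl⟩ := hL.exists_decomp hx hxM hv
  rw [hL.bracket_left hc hd.1 ha] at hva
  have hz := h.inter_le hLle (mem_inf.2 ⟨h.quadratic hd.1 ha, hva⟩)
  exact mul_mem hc (hL.Z_le ((hL.bracket_eq hx hxM hd ha hz).resolve_right ha1))

/-- Every nontrivial element of `A` has fixed space `C_V(A)`. -/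
theorem fixed_eq (h : Trap p V H X A) {v a : G} (hv : v ∈ V) (ha : a ∈ A) (ha1 : a ≠ 1)
    (hva : a * v = v * a) : v ∈ fx V A := by
  obtain ⟨g, hg, hgX⟩ := h.exists_outside
  refine h.bracket_free hg hgX hv ha ha1 ?_
  rw [commutatorElement_eq_one_iff_mul_comm.2 hva.symm]
  exact one_mem _

/-- Restriction to a subgroup generated by its `p`-elements. -/
theorem restrict (h : Trap p V H X A) {H₁ : Subgroup G} (h1 : H₁ ≤ H) (hA1 : A ≤ H₁) (hne : ¬ H₁ ≤ X)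
    (hgen : Cfsg.pElementClosure p H₁ = H₁) : Trap p V H₁ (H₁ ⊓ X) A :=
  ⟨h.hV, h1.trans h.hHV, le_bot_iff.1 ((inf_le_inf_right _ h1).trans h.hfaith.le), inf_le_left,
    fun e => hne (e.trans inf_le_right),
    fun g hg hgX a ha hk hga => h.trap g (h1 hg) (fun e => hgX (mem_inf.2 ⟨hg, e⟩)) a ha.2 hk hga.2,
    hgen, le_inf hA1 h.hAX, h.hA, h.hA0, h.hbound, h.hstrict⟩

end Trap

end Cfsg.Lib.Local.TrapPair
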